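import Mathlib.RingTheory.IsTensorProduct
import Mathlib.RingTheory.Flat.FaithfullyFlat.Algebra
import Mathlib.RingTheory.TensorProduct.Pi
import Mathlib.LinearAlgebra.TensorProduct.Pi

/-!
Commutative algebra for modules on an affine etale site: joint injectivity and descent of elements along flat
covering families, base change through pushouts, flat base change of an equalizer.
-/

set_option autoImplicit false

universe w

open TensorProduct

namespace Groth.Agent.EtQC

variable {A : Type w} [CommRing A]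

/-- A family of flat algebras hitting every maximal ideal. -/
def JointlyFF {ι : Type*} (B : ι → Type w) [∀ i, CommRing (B i)] [∀ i, Algebra A (B i)] : Prop :=
  ∀ m : Ideal A, m.IsMaximal → ∃ (i : ι) (q : Ideal (B i)), q.IsPrime ∧ m ≤ q.comap (algebraMap A (B i))

theorem eq_zero_of_one_tmul {ι : Type*} (B : ι → Type w) [∀ i, CommRing (B i)] [∀ i, Algebra A (B i)]
    [∀ i, Module.Flat A (B i)] (hB : JointlyFF (A := A) B) {C : Type*} [AddCommGroup C] [Module A C] (c : C)
    (h : ∀ i, (1 : B i) ⊗ₜ[A] c = 0) : c = 0 := by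
  by_contra hc
  have hI : LinearMap.ker (LinearMap.toSpanSingleton A C c) ≠ ⊤ := fun e => hc (by
    have : (1 : A) ∈ LinearMap.ker (LinearMap.toSpanSingleton A C c) := by rw [e]; trivial
    simpa using this)
  set I := LinearMap.ker (LinearMap.toSpanSingleton A C c) with hIdef
  obtain ⟨m, hm, hIm⟩ := Ideal.exists_le_maximal I hI
  obtain ⟨i, q, hq, hmq⟩ := hB m hm
  let f : (A ⧸ I) →ₗ[A] C := Submodule.liftQ I (LinearMap.toSpanSingleton A C c) le_rfl
  have hf : Function.Injective f :=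
    LinearMap.ker_eq_bot.mp (Submodule.ker_liftQ_eq_bot _ _ _ le_rfl)
  have h1 : (1 : B i) ⊗ₜ[A] (Ideal.Quotient.mk I 1) = 0 := by
    refine Module.Flat.lTensor_preserves_injective_linearMap (M := B i) f hf ?_
    rw [map_zero]
    refine Eq.trans ?_ (h i)
    show (1 : B i) ⊗ₜ[A] (f (Ideal.Quotient.mk I 1)) = _
    congr 1
    show (LinearMap.toSpanSingleton A C c) 1 = c
    simp
  let g : (A ⧸ I) →ₗ[A] (B i ⧸ q) := Submodule.liftQ I
    ((Ideal.Quotient.mkₐ A q).toLinearMap ∘ₗ Algebra.linearMap A (B i)) (fun a ha => by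
      simp only [LinearMap.mem_ker, LinearMap.comp_apply, AlgHom.toLinearMap_apply, Ideal.Quotient.mkₐ_eq_mk,
        Algebra.linearMap_apply, Ideal.Quotient.eq_zero_iff_mem]
      exact hmq (hIm ha))
  let φ : B i ⊗[A] (A ⧸ I) →ₗ[A] (B i ⧸ q) := TensorProduct.lift
    ((LinearMap.mul A (B i ⧸ q)).compl₁₂ (Ideal.Quotient.mkₐ A q).toLinearMap g)
  have h2 : φ ((1 : B i) ⊗ₜ[A] (Ideal.Quotient.mk I 1)) = 1 := by
    show (Ideal.Quotient.mk q 1) * Ideal.Quotient.mk q (algebraMap A (B i) 1) = 1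
    simp
  rw [h1, map_zero] at h2
  have : q = ⊤ := Ideal.eq_top_iff_one q |>.mpr (Ideal.Quotient.eq_zero_iff_mem.mp (by rw [map_one]; exact h2.symm))
  exact hq.ne_top this

/-- Elements of a family of base changes agreeing on double base changes come from the base. -/
theorem exists_of_compat {ι : Type*} [Fintype ι] [DecidableEq ι] (B : ι → Type w) [∀ i, CommRing (B i)]
    [∀ i, Algebra A (B i)] [∀ i, Module.Flat A (B i)] (hB : JointlyFF (A := A) B)
    {C : Type w} [AddCommGroup C] [Module A C]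
    {P : ι → Type w} [∀ i, AddCommGroup (P i)] [∀ i, Module A (P i)] [∀ i, Module (B i) (P i)]
    (d : ∀ i, C →ₗ[A] P i) (hgen : ∀ i, Submodule.span (B i) (Set.range (d i)) = ⊤)
    {Q : ι → ι → Type w} [∀ i j, AddCommGroup (Q i j)]
    (r₁ : ∀ i j, P i →+ Q i j) (r₂ : ∀ i j, P j →+ Q i j)
    (Φ : ∀ i j, B i ⊗[A] P j →+ Q i j) (hΦ : ∀ i j, Function.Injective (Φ i j))
    (hΦ₁ : ∀ i j (b : B i) (c : C), Φ i j (b ⊗ₜ d j c) = r₁ i j (b • d i c))
    (hΦ₂ : ∀ i j (p : P j), Φ i j ((1 : B i) ⊗ₜ p) = r₂ i j p)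
    (x : ∀ i, P i) (hx : ∀ i j, r₁ i j (x i) = r₂ i j (x j)) :
    ∃ c, ∀ i, d i c = x i := by
  let D : C →ₗ[A] (∀ i, P i) := LinearMap.pi d
  suffices h : (LinearMap.range D).mkQ x = 0 by
    obtain ⟨c, hc⟩ := (Submodule.Quotient.mk_eq_zero _).mp h
    exact ⟨c, fun i => congrFun hc i⟩
  refine eq_zero_of_one_tmul (A := A) B hB (C := (∀ i, P i) ⧸ LinearMap.range D) _ fun i => ?_
  have hxi : x i ∈ Submodule.span (B i) (Set.range (d i)) := by rw [hgen]; trivial
  obtain ⟨e, he⟩ := Finsupp.mem_span_range_iff_exists_finsupp.mp hxi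
  have key : (1 : B i) ⊗ₜ[A] x = ∑ c ∈ e.support, e c ⊗ₜ[A] D c := by
    apply (TensorProduct.piRight A A (B i) P).injective
    funext j
    rw [map_sum, Finset.sum_apply]
    simp only [TensorProduct.piRight_apply, TensorProduct.piRightHom_tmul]
    apply hΦ i j
    rw [hΦ₂, map_sum, ← hx i j, ← he, Finsupp.sum, map_sum]
    exact Finset.sum_congr rfl fun c _ => (hΦ₁ i j _ c).symm
  have h2 : LinearMap.lTensor (R := A) (B i) (LinearMap.range D).mkQ ((1 : B i) ⊗ₜ[A] x) = 0 := by
    rw [key, map_sum]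
    refine Finset.sum_eq_zero fun c _ => ?_
    rw [LinearMap.lTensor_tmul, Submodule.mkQ_apply,
      (Submodule.Quotient.mk_eq_zero _).mpr (LinearMap.mem_range_self D c), tmul_zero]
  exact h2

/-- Base change of a base change along a pushout square: `B ⊗[A] M ≅ M'`. -/
theorem bijective_lift_of_pushout {B A' B' : Type w} [CommRing B] [CommRing A'] [CommRing B'] [Algebra A B]
    [Algebra A A'] [Algebra A B'] [Algebra B B'] [Algebra A' B'] [IsScalarTower A B B'] [IsScalarTower A A' B']
    [Algebra.IsPushout A B A' B']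
    {M M' : Type w} [AddCommGroup M] [AddCommGroup M'] [Module A M] [Module A' M] [IsScalarTower A A' M]
    [Module A' M'] [Module B' M'] [IsScalarTower A' B' M'] (χ : M →ₗ[A'] M') (hχ : IsBaseChange B' χ)
    (Φ : B ⊗[A] M →+ M') (hΦ : ∀ (b : B) (m : M), Φ (b ⊗ₜ m) = algebraMap B B' b • χ m) :
    Function.Bijective Φ := by
  let e := (Algebra.IsPushout.cancelBaseChange A B A' B' M).symm
  have he : ∀ z, Φ z = hχ.equiv (e z) := by
    intro z
    induction z using TensorProduct.induction_on with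
    | zero => simp
    | tmul b m =>
      rw [hΦ]
      simp only [e, Algebra.IsPushout.cancelBaseChange_symm_tmul, IsBaseChange.equiv_tmul]
    | add a b ha hb => rw [map_add, map_add, map_add, ha, hb]
  have : (Φ : B ⊗[A] M → M') = hχ.equiv ∘ e := funext he
  rw [this]
  exact hχ.equiv.bijective.comp e.bijective

/-- Flat base change of an exact sequence `C → P → Q` with injective first map, compared with a second one. -/
theorem bijective_of_flat_exact {B : Type w} [CommRing B] [Algebra A B] [Module.Flat A B]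
    {C P Q : Type w} [AddCommGroup C] [AddCommGroup P] [AddCommGroup Q] [Module A C] [Module A P] [Module A Q]
    (d : C →ₗ[A] P) (e : P →ₗ[A] Q) (hd : Function.Injective d) (hde : Function.Exact d e)
    {C' P' Q' : Type w} [AddCommGroup C'] [AddCommGroup P'] [AddCommGroup Q']
    (d' : C' →+ P') (e' : P' →+ Q') (hd' : Function.Injective d') (hde' : ∀ c, e' (d' c) = 0)
    (θ₀ : B ⊗[A] C →+ C') (θ₁ : B ⊗[A] P →+ P') (θ₂ : B ⊗[A] Q →+ Q')
    (h₁ : Function.Bijective θ₁) (h₂ : Function.Injective θ₂)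
    (hc₀ : ∀ b c, d' (θ₀ (b ⊗ₜ c)) = θ₁ (b ⊗ₜ d c))
    (hc₁ : ∀ b p, e' (θ₁ (b ⊗ₜ p)) = θ₂ (b ⊗ₜ e p)) :
    Function.Bijective θ₀ := by
  have k₀ : ∀ z, d' (θ₀ z) = θ₁ (d.lTensor B z) := fun z => by
    induction z using TensorProduct.induction_on with
    | zero => simp
    | tmul b c => exact hc₀ b c
    | add a b ha hb => simp only [map_add, ha, hb]
  have k₁ : ∀ z, e' (θ₁ z) = θ₂ (e.lTensor B z) := fun z => by
    induction z using TensorProduct.induction_on with
    | zero => simp
    | tmul b c => exact hc₁ b c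
    | add a b ha hb => simp only [map_add, ha, hb]
  refine ⟨(injective_iff_map_eq_zero θ₀).mpr fun z hz => ?_, fun c => ?_⟩
  · apply Module.Flat.lTensor_preserves_injective_linearMap (M := B) d hd
    rw [map_zero]
    exact h₁.1 (by rw [← k₀, hz, map_zero, map_zero])
  · obtain ⟨y, hy⟩ := h₁.2 (d' c)
    have : e.lTensor B y = 0 := h₂ (by rw [← k₁, hy, hde', map_zero])
    obtain ⟨z, hz⟩ := (Module.Flat.lTensor_exact B hde y).mp this
    exact ⟨z, hd' (by rw [k₀, hz, hy])⟩

end Groth.Agent.EtQC
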