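import Groth.Agent.EtQC.WeakAssApps
import Groth.Agent.SchImg.CartierSub

/-!
Inverse images of effective Cartier divisors avoiding the weakly associated points.
-/

set_option autoImplicit false
set_option linter.style.haveILetI false
set_option backward.isDefEq.respectTransparency false

universe u

noncomputable section

open CategoryTheory CategoryTheory.Limits AlgebraicGeometry Opposite AlgSp
open Groth.Agent.AlgSpLib Groth.Agent.BlowUpLib Groth.Agent.SchImg

namespace Groth.Agent.EtQC

variable {S : Scheme.{u}}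

theorem mem_nonZeroDivisors_of_avoid {X : Sp S} (E : EtOver X) [IsAffine E.obj.left.left]
    (a : Γ(E.obj.left.left, ⊤))
    (h : ∀ u, IsWeakAssOn (unitModEt X) E u → u ∈ E.obj.left.left.basicOpen a) :
    a ∈ nonZeroDivisors Γ(E.obj.left.left, ⊤) := by
  rw [mem_nonZeroDivisors_iff_right]
  intro x hx
  by_contra hne
  have hs : (show sectModEt (unitModEt X) E from (ULift.up x : R E)) ≠ 0 := fun h0 => hne (congrArg ULift.down h0)
  obtain ⟨u, hu, hann⟩ := exists_isWeakAssOn_of_ne_zero hs
  have h0 : (ULift.up a : R E) ∈ ptIdeal E u := hann _ (by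
    show (ULift.up (a * x) : R E) = 0
    rw [mul_comm, hx]
    rfl)
  exact (mem_primeAtPt_iff' u a).1 ((mem_ptIdeal E u _).1 h0) (h u hu)
where
  mem_primeAtPt_iff' {U : Scheme.{u}} (v : U) (b : Γ(U, ⊤)) : b ∈ primeAtPt U v ↔ v ∉ U.basicOpen b := by
    rw [Scheme.mem_basicOpen _ _ _ (show v ∈ (⊤ : U.Opens) from trivial)]
    exact Iff.rfl

theorem isEffCartierSub_of_avoid {X Y D P : Sp S} (hX : IsAlgSpace X) (hY : IsAlgSpace Y) {f : X ⟶ Y}
    {i : D ⟶ Y} (hD : IsEffCartierSub i)
    (h : ∀ x ∈ WeakAssEt (unitModEt X), Points.map f x ∉ Set.range (Points.map i))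
    {fst : P ⟶ D} {snd : P ⟶ X} (hP : IsPullback fst snd i f) : IsEffCartierSub snd := by
  obtain ⟨hi, V, φ, I, fstV, hφ, hφs, sqV, hI⟩ := hD
  obtain ⟨U, a, α, ha, has, hα⟩ := exists_chart_lift hX hY f hφ hφs
  obtain ⟨j, sqj⟩ := exists_comap_square α I
  have big := sqj.paste_horiz sqV
  rw [← hα] at big
  refine ⟨repWith_baseChange hP hi, U, a, I.comap α.left,
    hP.lift ((yon S).map j ≫ fstV) ((yon S).map (Over.homMk (I.comap α.left).subschemeι rfl :
      Over.mk ((I.comap α.left).subschemeι ≫ U.hom) ⟶ U) ≫ a) (by rw [big.w, Category.assoc]),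
    ha, has, IsPullback.of_right (by rw [hP.lift_fst]; exact big) (hP.lift_snd _ _ _) hP, fun u => ?_⟩
  obtain ⟨W, huW, g, hg, he⟩ := hI (α.left u)
  obtain ⟨U₀, hU₀, huU₀, hle⟩ := exists_isAffineOpen_mem_and_subset (X := U.left) (x := u)
    (U := α.left ⁻¹ᵁ W.1) huW
  let U' : U.left.affineOpens := ⟨U₀, hU₀⟩
  refine ⟨U', huU₀, (α.left.appLE W.1 U₀ hle).hom g, ?_, ?_⟩
  · let E : EtOver X := openObj (EtOver.mk a ha) U₀
    haveI : IsAffine E.obj.left.left := hU₀
    let e := U₀.topIso
    have key : e.inv.hom ((α.left.appLE W.1 U₀ hle).hom g) ∈ nonZeroDivisors Γ(E.obj.left.left, ⊤) := by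
      refine mem_nonZeroDivisors_of_avoid E _ fun w hw => ?_
      by_contra hnb
      refine h _ ⟨E, inferInstance, w, rfl, hw⟩ ?_
      have hz : α.left w.1 ∈ (I.support : Set V.left) := by
        refine ((I.coe_support_inter W).ge ⟨?_, hle w.2⟩).1
        rw [he, Scheme.zeroLocus_span, Scheme.zeroLocus_singleton]
        intro hb
        refine hnb ?_
        show w ∈ (U₀.toScheme).basicOpen (e.inv.hom ((α.left.appLE W.1 U₀ hle).hom g))
        have hb' : w.1 ∈ U.left.basicOpen ((α.left.appLE W.1 U₀ hle).hom g) := by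
          rw [Scheme.basicOpen_appLE]
          exact ⟨w.2, hb⟩
        rw [← Scheme.Opens.ι_image_basicOpen_topIso_inv] at hb'
        obtain ⟨w', hw', hww⟩ := hb'
        rwa [U₀.ι.injective hww] at hw'
      rw [Points.map_ofPt]
      show Points.ofPt (((yon S).map (openHom (EtOver.mk a ha) U₀).hom.left ≫ a) ≫ f) w ∈ _
      rw [Category.assoc, hα, ← Category.assoc, ← Functor.map_comp, Groth.Agent.AlgSpLib.ofPt_comp]
      exact ((isPullIdeal_of_std sqV).mem_range_iff _).2 hz
    have hinj : Function.Injective e.inv.hom := e.symm.commRingCatIsoToRingEquiv.injective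
    rw [mem_nonZeroDivisors_iff_right]
    intro x hx
    refine hinj (Eq.trans ?_ (map_zero _).symm)
    exact mem_nonZeroDivisors_iff_right.mp key (e.inv.hom x)
      ((map_mul e.inv.hom _ _).symm.trans ((congrArg e.inv.hom hx).trans (map_zero _)))
  · rw [FpqcDescent.ideal_comap_appLE I α.left W U' hle, he, Ideal.map_span, Set.image_singleton]

end Groth.Agent.EtQC
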