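import Groth.Agent.EtQC.FiniteType
import Groth.Agent.AlgSpLib.NoethPts
import Mathlib.RingTheory.Ideal.MinimalPrime.Colon

/-!
Finiteness of the associated points of a coherent module in a quasi-compact open set.
-/

set_option autoImplicit false
set_option linter.style.haveILetI false
set_option backward.isDefEq.respectTransparency false

universe u

noncomputable section

open CategoryTheory CategoryTheory.Limits AlgebraicGeometry Opposite AlgSp

namespace Groth.Agent.EtQC

theorem weakAss_subset_associatedPrimes {A N : Type (u + 1)} [CommRing A] [IsNoetherianRing A] [AddCommGroup N]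
    [Module A N] : FlatCA.weakAss A N ⊆ associatedPrimes A N := by
  rintro p ⟨z, hz⟩
  haveI := hz.1.1
  have hc : (⊥ : Submodule A N).colon {z} = (Submodule.span A {z}).annihilator := by
    ext b
    rw [Submodule.mem_colon_singleton, Submodule.mem_bot, Submodule.mem_annihilator_span_singleton]
  exact isAssociatedPrime_iff.mpr ⟨inferInstance,
    Submodule.exists_eq_colon_of_mem_minimalPrimes (N := (⊥ : Submodule A N)) (x := z) (I := p) (by rw [hc]; exact hz)⟩

variable {S : Scheme.{u}} {X : Sp S}

theorem finite_weakAssEt_inter (hX : IsAlgSpace X) (hn : IsLocNoethSp X) (M : ModEt X) [M.IsQuasicoherent]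
    [M.IsFiniteType] (W : Set (Points X)) (hWc : IsCompact W) : (WeakAssEt M ∩ W).Finite := by
  have hch := fun x : Points X => exists_affine_chart_at hX x
  choose E hE v hv using hch
  have ho : ∀ x, IsOpen (Set.range (Points.ofPt (E x).obj.hom)) := fun x =>
    (Groth.Agent.AlgSpLib.isOpenMap_ofPt
      (Groth.Agent.AlgSpLib.repWith_universallyOpen_of_etale (E x).property)).isOpen_range
  obtain ⟨t, ht⟩ := hWc.elim_finite_subcover _ ho (fun x _ => Set.mem_iUnion.mpr ⟨x, v x, hv x⟩)
  refine (Set.Finite.biUnion (s := ↑t) t.finite_toSet (t := fun x =>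
    Points.ofPt (E x).obj.hom '' {u | @IsWeakAssOn S X M (E x) (hE x) u}) fun x _ => Set.Finite.image _ ?_).subset ?_
  · have := hE x
    haveI : IsLocallyNoetherian (E x).obj.left.left :=
      Groth.Agent.AlgSpLib.isLocallyNoetherian_chart hX hn (E x).property
    haveI : IsNoetherianRing Γ((E x).obj.left.left, ⊤) :=
      IsLocallyNoetherian.component_noetherian ⟨⊤, isAffineOpen_top _⟩
    haveI : IsNoetherianRing (R (E x)) :=
      isNoetherianRing_of_ringEquiv Γ((E x).obj.left.left, ⊤) ULift.ringEquiv.symm
    haveI : Module.Finite (R (E x)) (sectModEt M (E x)) := finite_sections_of_isFiniteType (E x)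
    refine Set.Finite.of_finite_image (f := ptIdeal (E x))
      ((associatedPrimes.finite (R (E x)) (sectModEt M (E x))).subset ?_) ?_
    · rintro _ ⟨u, hu, rfl⟩
      exact weakAss_subset_associatedPrimes ((isWeakAssOn_iff (E x) u).mp hu)
    · intro a _ b _ hab
      have e := Ideal.comap_injective_of_surjective _ (downHom_surjective (E x)) hab
      exact (E x).obj.left.left.isoSpec.hom.homeomorph.injective (PrimeSpectrum.ext e)
  · rintro y ⟨hy, hyW⟩
    obtain ⟨x, hx, u, rfl⟩ := Set.mem_iUnion₂.mp (ht hyW)
    have := hE x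
    exact Set.mem_iUnion₂.mpr ⟨x, hx, u, (mem_weakAssEt_iff_at (E x) u).mp hy, rfl⟩

end Groth.Agent.EtQC
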