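import Groth.Agent.EtQC.Ext
import Groth.Agent.EtQC.WeakAssFinite
import Groth.Agent.AlgSpLib.QCompact

/-!
Coherent modules on a locally Noetherian algebraic space, through their sections on affine objects.
-/

set_option autoImplicit false
set_option linter.style.haveILetI false
set_option backward.isDefEq.respectTransparency false

universe u

noncomputable section

open CategoryTheory CategoryTheory.Limits AlgebraicGeometry Opposite AlgSp TensorProduct

namespace Groth.Agent.EtQC

variable {S : Scheme.{u}} {X : Sp S} (hX : IsAlgSpace X) (hn : IsLocNoethSp X)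

include hX hn in
theorem isNoetherianRing_R (E : EtOver X) [IsAffine E.obj.left.left] : IsNoetherianRing (R E) := by
  haveI : IsLocallyNoetherian E.obj.left.left :=
    Groth.Agent.AlgSpLib.isLocallyNoetherian_chart hX hn E.property
  haveI : IsNoetherianRing Γ(E.obj.left.left, ⊤) :=
    IsLocallyNoetherian.component_noetherian ⟨⊤, isAffineOpen_top _⟩
  exact isNoetherianRing_of_ringEquiv Γ(E.obj.left.left, ⊤) ULift.ringEquiv.symm

include hX hn in
theorem isNoetherian_sections (M : ModEt X) [M.IsQuasicoherent] [M.IsFiniteType] (E : EtOver X)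
    [IsAffine E.obj.left.left] : IsNoetherian (R E) (sectModEt M E) := by
  haveI := isNoetherianRing_R hX hn E
  haveI := finite_sections_of_isFiniteType (M := M) E
  exact isNoetherian_of_isNoetherianRing_of_finite (R E) _

include hX hn in
theorem isFinitePresentation_of_finite (M : ModEt X) [M.IsQuasicoherent]
    (hf : ∀ (E : EtOver X) [IsAffine E.obj.left.left], Module.Finite (R E) (sectModEt M E)) :
    M.IsFinitePresentation :=
  isFinitePresentation_of_isBaseChange (fun g => isBaseChange_res g) fun E _ => by
    haveI := isNoetherianRing_R hX hn E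
    haveI := hf E
    exact Module.finitePresentation_of_finite (R E) _

include hX hn in
theorem isFinitePresentation_of_ft (M : ModEt X) [M.IsQuasicoherent] [M.IsFiniteType] : M.IsFinitePresentation :=
  isFinitePresentation_of_finite hX hn M fun E _ => finite_sections_of_isFiniteType E

include hX hn in
theorem isFinitePresentation_of_mono {M N : ModEt X} (ι : N ⟶ M) [Mono ι] [N.IsQuasicoherent] [M.IsQuasicoherent]
    [M.IsFiniteType] : N.IsFinitePresentation :=
  isFinitePresentation_of_finite hX hn N fun E _ => by
    haveI := isNoetherian_sections hX hn M E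
    exact Module.Finite.of_injective (appM ι E) (app_injective_of_mono ι E)

theorem appM_surjective_of_epi {M Q : ModEt X} (π : M ⟶ Q) [Epi π] [M.IsQuasicoherent] [Q.IsQuasicoherent]
    (E : EtOver X) [IsAffine E.obj.left.left] : Function.Surjective (appM π E) := by
  let T : ShortComplex (ModEt X) := ShortComplex.mk (kernel.ι π) π (kernel.condition π)
  have hT : T.ShortExact := ShortComplex.ShortExact.mk' (ShortComplex.exact_of_f_is_kernel _ (kernelIsKernel π))
    inferInstance inferInstance
  haveI : T.X₁.IsQuasicoherent := isQuasicoherent_kernel π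
  exact appM_g_surjective hT E

include hX hn in
theorem isFinitePresentation_of_epi {M Q : ModEt X} (π : M ⟶ Q) [Epi π] [Q.IsQuasicoherent] [M.IsQuasicoherent]
    [M.IsFiniteType] : Q.IsFinitePresentation :=
  isFinitePresentation_of_finite hX hn Q fun E _ => by
    haveI := finite_sections_of_isFiniteType (M := M) E
    exact Module.Finite.of_surjective (appM π E) (appM_surjective_of_epi π E)

include hX hn in
theorem isFinitePresentation_of_shortExact {T : ShortComplex (ModEt X)} (hT : T.ShortExact)
    [T.X₁.IsFinitePresentation] [T.X₃.IsFinitePresentation] : T.X₂.IsFinitePresentation := by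
  haveI := isQuasicoherent_X₂ hT
  refine isFinitePresentation_of_finite hX hn T.X₂ fun E _ => ?_
  haveI := finite_sections_of_isFiniteType (M := T.X₁) E
  haveI := finite_sections_of_isFiniteType (M := T.X₃) E
  exact Module.Finite.of_exact (exact_appM hT E) (appM_g_surjective hT E)

/-- equal images on an affine covering give an isomorphism -/
theorem isIso_of_appM_surjective {A B : ModEt X} (φ : A ⟶ B) [Mono φ] [A.IsQuasicoherent] [B.IsQuasicoherent]
    {ι : Type*} (E : ι → EtOver X) [∀ i, IsAffine (E i).obj.left.left]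
    (hE : ∀ x : Points X, ∃ i u, Points.ofPt (E i).obj.hom u = x)
    (h : ∀ i, Function.Surjective (appM φ (E i))) : IsIso φ := by
  haveI hsur : ∀ (V : EtOver X) [IsAffine V.obj.left.left], Function.Surjective (appM φ V) := by
    intro V _ m
    rw [← LinearMap.mem_range, show LinearMap.range (appM φ V) =
      Submodule.span (R V) (Set.range (appM φ V)) from (Submodule.span_eq _).symm]
    refine mem_span_of_locally _ m fun x => ?_
    obtain ⟨i, u, hu⟩ := hE (Points.ofPt V.obj.hom x)
    have hc := exists_common V (E i) x u hu.symm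
    obtain ⟨W, hW, g₁, g₂, w, hw, -⟩ := hc
    refine ⟨W, g₁, hW, ⟨w, hw⟩, ?_⟩
    have hm : resM B g₁ m ∈ LinearMap.range (appM φ W) := by
      induction (resM B g₁ m) using (isBaseChange_res (M := B) g₂).inductionOn with
      | zero => exact Submodule.zero_mem _
      | tmul y =>
        obtain ⟨a, rfl⟩ := h i y
        exact ⟨resM A g₂ a, (resM_appM φ g₂ a).symm⟩
      | smul b y hy => exact Submodule.smul_mem _ (b : R W) hy
      | add a b ha hb => exact Submodule.add_mem _ ha hb
    obtain ⟨a, ha⟩ := hm
    rw [← ha]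
    clear ha
    induction a using (isBaseChange_res (M := A) g₁).inductionOn with
    | zero => rw [map_zero]; exact Submodule.zero_mem _
    | tmul y => exact Submodule.subset_span ⟨appM φ V y, ⟨y, rfl⟩, resM_appM φ g₁ y⟩
    | smul b y hy => rw [map_smul]; exact Submodule.smul_mem _ (b : R W) hy
    | add a b ha hb => rw [map_add]; exact Submodule.add_mem _ ha hb
  haveI : Epi φ := by
    haveI : Sheaf.IsLocallySurjective ((SheafOfModules.toSheaf _).map φ) := by
      refine ⟨fun {W} m => ?_⟩
      refine Groth.Agent.AlgSpLib.StalkPoint.mem_etTop_of_jointly_surjective _ fun x => ?_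
      have hn := exists_affine_nhd W x
      obtain ⟨V, hV, h', hx⟩ := hn
      exact ⟨V, h', hsur V (resM B h' m), hx⟩
    haveI : Epi ((SheafOfModules.toSheaf _).map φ) := (Sheaf.isLocallySurjective_iff_epi' _ _).mp inferInstance
    exact (SheafOfModules.toSheaf _).epi_of_epi_map ‹_›
  exact isIso_of_mono_of_epi φ

include hX hn in
theorem chain_stabilizes (hqc : IsQuasiCompactSp X) (M : ModEt X) [M.IsQuasicoherent] [M.IsFiniteType]
    (N : ℕ →o Subobject M) (hq : ∀ n, (Subobject.underlying.obj (N n)).IsQuasicoherent) :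
    ∃ n, ∀ m, n ≤ m → N m = N n := by
  classical
  haveI := Groth.Agent.AlgSpLib.compactSpace_of_isQuasiCompactSp hqc
  have hch := fun x : Points X => exists_affine_chart_at hX x
  choose E hE v hv using hch
  have ho : ∀ x, IsOpen (Set.range (Points.ofPt (E x).obj.hom)) := fun x =>
    (Groth.Agent.AlgSpLib.isOpenMap_ofPt
      (Groth.Agent.AlgSpLib.repWith_universallyOpen_of_etale (E x).property)).isOpen_range
  obtain ⟨t, ht⟩ := isCompact_univ.elim_finite_subcover _ ho (fun x _ => Set.mem_iUnion.mpr ⟨x, v x, hv x⟩)
  have hst : ∀ x, ∃ n, ∀ m, n ≤ m → LinearMap.range (appM (N n).arrow (E x)) =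
      LinearMap.range (appM (N m).arrow (E x)) := fun x => by
    have := hE x
    haveI := isNoetherian_sections hX hn M (E x)
    refine monotone_stabilizes_iff_noetherian.mpr this ⟨fun n => LinearMap.range (appM (N n).arrow (E x)), ?_⟩
    intro a b hab
    rintro _ ⟨y, rfl⟩
    refine ⟨appM (Subobject.ofLE _ _ (N.monotone hab)) (E x) y, ?_⟩
    exact congrArg (fun q : (Subobject.underlying.obj (N a)) ⟶ M => q.val.app (op (E x)) y)
      (Subobject.ofLE_arrow (N.monotone hab))
  choose n hn' using hst
  refine ⟨t.sup n, fun m hm => ?_⟩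
  let φ := Subobject.ofLE (N (t.sup n)) (N m) (N.monotone hm)
  haveI := hq m
  haveI := hq (t.sup n)
  haveI : ∀ i : t, IsAffine (E i.1).obj.left.left := fun i => hE i.1
  haveI : IsIso φ := isIso_of_appM_surjective φ (fun i : t => E i.1) (fun x => by
    obtain ⟨i, hi, u, hu⟩ := Set.mem_iUnion₂.mp (ht (Set.mem_univ x))
    exact ⟨⟨i, hi⟩, u, hu⟩) fun i a => by
    have h1 := hn' i.1 _ (Finset.le_sup (f := n) i.2)
    have h2 := hn' i.1 _ ((Finset.le_sup (f := n) i.2).trans hm)
    have hmem : appM (N m).arrow (E i.1) a ∈ LinearMap.range (appM (N (t.sup n)).arrow (E i.1)) := by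
      rw [← h1, h2]; exact ⟨a, rfl⟩
    obtain ⟨b, hb⟩ := hmem
    refine ⟨b, app_injective_of_mono (N m).arrow (E i.1) ?_⟩
    refine Eq.trans ?_ hb
    exact congrArg (fun q : (Subobject.underlying.obj (N (t.sup n))) ⟶ M => q.val.app (op (E i.1)) b)
      (Subobject.ofLE_arrow (N.monotone hm))
  exact (Subobject.eq_of_comm (asIso φ) (Subobject.ofLE_arrow _)).symm

theorem two_out_of_three {T : ShortComplex (ModEt X)} (hT : T.ShortExact) :
    (T.X₁.IsQuasicoherent → T.X₂.IsQuasicoherent → T.X₃.IsQuasicoherent) ∧
    (T.X₁.IsQuasicoherent → T.X₃.IsQuasicoherent → T.X₂.IsQuasicoherent) ∧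
    (T.X₂.IsQuasicoherent → T.X₃.IsQuasicoherent → T.X₁.IsQuasicoherent) := by
  have := hT.mono_f
  have := hT.epi_g
  refine ⟨fun h1 h2 => ?_, fun h1 h3 => isQuasicoherent_X₂ hT, fun h2 h3 => ?_⟩
  · exact (SheafOfModules.isQuasicoherent (OEtRing X)).prop_of_iso
      (IsColimit.coconePointUniqueUpToIso (cokernelIsCokernel T.f) hT.exact.gIsCokernel) (isQuasicoherent_cokernel T.f)
  · exact (SheafOfModules.isQuasicoherent (OEtRing X)).prop_of_iso
      (IsLimit.conePointUniqueUpToIso (kernelIsKernel T.g) hT.exact.fIsKernel) (isQuasicoherent_kernel T.g)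

end Groth.Agent.EtQC
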