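import Groth.Agent.EtQC.CohColim
import Groth.Agent.EtQC.Coherent

/-!
Quasi-coherent modules seen on one affine chart: isomorphisms, exactness, finite presentation.
-/

set_option autoImplicit false
set_option linter.style.haveILetI false
set_option backward.isDefEq.respectTransparency false

universe u

noncomputable section

open CategoryTheory CategoryTheory.Limits AlgebraicGeometry Opposite AlgSp TensorProduct

namespace Groth.Agent.EtQC

variable {S : Scheme.{u}} {X : Sp S} {E₀ : EtOver X} [IsAffine E₀.obj.left.left]

theorem isIso_of_bijective_chart (hX : IsAlgSpace X) (hs : RepWith @Surjective E₀.obj.hom) {A B : ModEt X}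
    (φ : A ⟶ B) [A.IsQuasicoherent] [B.IsQuasicoherent] (h : Function.Bijective (appM φ E₀)) : IsIso φ := by
  have hV : ∀ (V : EtOver X) [IsAffine V.obj.left.left] (b : V ⟶ E₀), Function.Injective (appM φ V) := fun V _ b => by
    let eA := (isBaseChange_res (M := A) b).equiv
    let eB := (isBaseChange_res (M := B) b).equiv
    have hsq : ∀ z, appM φ V (eA z) = eB (LinearMap.lTensor (Rg b) (appM φ E₀) z) := fun z => by
      induction z using TensorProduct.induction_on with
      | zero =>
        exact ((congrArg (appM φ V) (map_zero eA)).trans (map_zero _)).trans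
          ((congrArg eB (map_zero _)).trans (map_zero eB)).symm
      | tmul r m =>
        rw [LinearMap.lTensor_tmul, IsBaseChange.equiv_tmul, IsBaseChange.equiv_tmul]
        refine (map_smul (appM φ V) (show R V from r) (resM A b m)).trans ?_
        exact congrArg (fun x : sectModEt B V => (show R V from r) • x) (resM_appM φ b m).symm
      | add z z' hz hz' =>
        refine ((congrArg (appM φ V) (map_add eA z z')).trans (map_add _ _ _)).trans ?_
        exact (congrArg₂ (· + ·) hz hz').trans ((congrArg eB (map_add _ z z')).trans (map_add eB _ _)).symm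
    haveI : Module.Flat (R E₀) (Rg b) := flat_res b
    intro s t hst
    obtain ⟨z, rfl⟩ := eA.surjective s
    obtain ⟨z', rfl⟩ := eA.surjective t
    rw [hsq, hsq] at hst
    exact congrArg eA (Module.Flat.lTensor_preserves_injective_linearMap _ h.1 (eB.injective hst))
  haveI : Mono φ := mono_of_appM_injective φ fun E _ s t hst => by
    choose W hW a b hx using fun x => exists_common_chart hX hs E x
    refine eq_of_cover a (fun x => ⟨x, hx x⟩) fun x => ?_
    have := hW x
    refine hV (W x) (b x) ?_
    rw [← resM_appM, ← resM_appM]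
    exact congrArg (resM B (a x)) hst
  exact isIso_of_appM_surjective φ (fun _ : PUnit.{1} => E₀) (fun x => by
    obtain ⟨u, hu⟩ := Groth.Agent.AlgSpLib.ofPt_surjective hs x
    exact ⟨⟨⟩, u, hu⟩) fun _ => h.2

omit [IsAffine E₀.obj.left.left] in
theorem exact_cokernel_appM {A B : ModEt X} (ψ : A ⟶ B) [A.IsQuasicoherent] [B.IsQuasicoherent]
    (E : EtOver X) [IsAffine E.obj.left.left] :
    LinearMap.ker (appM (cokernel.π ψ) E) = LinearMap.range (appM ψ E) := by
  haveI := isQuasicoherent_cokernel ψ
  haveI : (kernel (cokernel.π ψ)).IsQuasicoherent := isQuasicoherent_kernel _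
  let k : A ⟶ kernel (cokernel.π ψ) := Abelian.factorThruImage ψ
  haveI : Epi k := inferInstanceAs (Epi (Abelian.factorThruImage ψ))
  refine le_antisymm (fun y hy => ?_) ?_
  · obtain ⟨w, hw⟩ := GenSite.exists_kernel_lift (V := E) (cokernel.π ψ) y hy
    obtain ⟨a, rfl⟩ := appM_surjective_of_epi k E w
    exact ⟨a, (congrArg (fun q : A ⟶ B => appM q E a) (Abelian.image.fac ψ)).symm.trans hw⟩
  · rintro _ ⟨a, rfl⟩
    exact congrArg (fun q : A ⟶ cokernel ψ => appM q E a) (cokernel.condition ψ)

theorem isFinitePresentation_of_chart (hX : IsAlgSpace X) (hs : RepWith @Surjective E₀.obj.hom) (M : ModEt X)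
    [M.IsQuasicoherent] [Module.FinitePresentation (R E₀) (sectModEt M E₀)] : M.IsFinitePresentation := by
  classical
  let I := {V : EtOver X // ∃ (_ : IsAffine V.obj.left.left), Nonempty (V ⟶ E₀)}
  have hex : ∀ V : I, ∃ (σ : (M.over V.1).Presentation), σ.IsFinite := by
    rintro ⟨V, hV, ⟨b⟩⟩
    haveI : Module.FinitePresentation (Rg b) (Rg b ⊗[R E₀] sectModEt M E₀) := inferInstance
    have hfp : Module.FinitePresentation (R V) (sectModEt M V) :=
      (Module.FinitePresentation.of_equiv (isBaseChange_res (M := M) b).equiv :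
        Module.FinitePresentation (Rg b) (Mg M b))
    obtain ⟨t, ht, hk⟩ := hfp.out
    obtain ⟨r, hr⟩ := hk
    refine ⟨@presentationOfAffine S X M V hV (fun {W} hW g => isBaseChange_res (M := M) g) (↥t) (↥r) Subtype.val
      (by rw [Subtype.range_coe]; exact ht) Subtype.val (by rw [Subtype.range_coe]; exact hr), ?_⟩
    exact { isFiniteType_generators := ⟨inferInstanceAs (Finite ↥t)⟩
            isFiniteType_relations := ⟨inferInstanceAs (Finite ↥r)⟩ }
  choose σ hσ using hex
  let q : M.QuasicoherentData :=
    { I := I
      X := fun V => V.1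
      coversTop := fun W => Groth.Agent.AlgSpLib.StalkPoint.mem_etTop_of_jointly_surjective _ fun x => by
        obtain ⟨V, hV, a, b, hx⟩ := exists_common_chart hX hs W x
        exact ⟨V, a, ⟨⟨V, hV, ⟨b⟩⟩, ⟨𝟙 V⟩⟩, hx⟩
      presentation := σ }
  have hq : q.IsFinitePresentation := { isFinite_presentation := fun i => hσ i }
  constructor
  exact ⟨q, hq⟩

end Groth.Agent.EtQC
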