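import Groth.Agent.EtQC.ClosedPull
import Groth.Agent.InfLift.Scheme
import Groth.Agent.InfLift.Square
import Mathlib.CategoryTheory.Adjunction.FullyFaithful

/-!
Direct image of arbitrary modules along a closed immersion is fully faithful.
-/

set_option autoImplicit false
set_option linter.style.haveILetI false
set_option backward.isDefEq.respectTransparency false

universe u

noncomputable section

open CategoryTheory CategoryTheory.Limits AlgebraicGeometry Opposite AlgSp

namespace Groth.Agent.EtQC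

variable {S : Scheme.{u}} {X Z : Sp S} {i : Z ⟶ X}

/-- etale schemes over a closed subscheme of an affine scheme lift locally -/
theorem exists_etale_lift_closed {Z₀ E₀ U₀ : Scheme.{u}} [IsAffine E₀] (ι : Z₀ ⟶ E₀) [IsClosedImmersion ι]
    (e : U₀ ⟶ Z₀) [Etale e] (x : U₀) :
    ∃ (E₁ : Scheme.{u}) (_ : IsAffine E₁) (p : E₁ ⟶ E₀) (_ : Etale p) (P : Scheme.{u}) (a : P ⟶ E₁) (b : P ⟶ Z₀),
      IsPullback a b p ι ∧ ∃ w : P ⟶ U₀, w ≫ e = b ∧ x ∈ Set.range w := by
  obtain ⟨I, φ, hφ⟩ := IsClosedImmersion.Spec_iff.1 (inferInstance : IsClosedImmersion (ι ≫ E₀.isoSpec.hom))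
  haveI : Etale (e ≫ φ.hom) := inferInstance
  obtain ⟨C, _, _, hC, w, hw, hx⟩ := InfLift.exists_etale_ext I (e ≫ φ.hom) x
  haveI : Etale (Spec.map (CommRingCat.ofHom (algebraMap (Γ(E₀, ⊤)) C))) :=
    (HasRingHomProperty.Spec_iff (P := @Etale)).2 (RingHom.etale_algebraMap.2 hC)
  refine ⟨Spec (CommRingCat.of C), inferInstance, Spec.map (CommRingCat.ofHom (algebraMap (Γ(E₀, ⊤)) C)) ≫ E₀.isoSpec.inv,
    inferInstance, _, InfLift.specQuot _,
    Spec.map (CommRingCat.ofHom (Ideal.quotientMap (I.map (algebraMap (Γ(E₀, ⊤)) C)) (algebraMap (Γ(E₀, ⊤)) C)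
      Ideal.le_comap_map)) ≫ φ.inv, ?_, w, ?_, hx⟩
  · refine (InfLift.isPullback_specQuot (C := C) I).of_iso (Iso.refl _) (Iso.refl _) φ.symm E₀.isoSpec.symm
      (by simp) (by simp) (by simp) ?_
    show InfLift.specQuot I ≫ E₀.isoSpec.inv = φ.inv ≫ ι
    rw [Iso.comp_inv_eq, Category.assoc, hφ, Iso.inv_hom_id_assoc]
  · rw [← hw, Category.assoc, Category.assoc, Iso.hom_inv_id, Category.comp_id]

variable (hi : RepWith @IsClosedImmersion i)

/-- the projection of a base change is a closed immersion -/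
theorem isClosedImmersion_bcπ (E : EtOver X) : IsClosedImmersion (hi.1.snd E.obj.hom).left :=
  hi.2 _ _ _ (hi.1.isPullback E.obj.hom)

include hi in
/-- base changes of affine objects cover every object -/
theorem exists_bc_cover (hX : IsAlgSpace X) (W : EtOver Z) (x : W.obj.left.left) :
    ∃ (E : EtOver X) (_ : IsAffine E.obj.left.left) (a : (EtOver.bc hi.1).obj E ⟶ W),
      x ∈ Set.range a.hom.left.left := by
  obtain ⟨E, hE, V, hV, a, c, v, rfl⟩ := exists_pull_chart hX hi.1 W x
  haveI := hE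
  haveI := isClosedImmersion_bcπ hi E
  haveI : Etale c.hom.left.left := EtOver.etale_left c
  obtain ⟨E₁, hE₁, p, hp, P, α, β, sq, w, hw, hv⟩ :=
    exists_etale_lift_closed (hi.1.snd E.obj.hom).left c.hom.left.left v
  let pO : Over.mk (p ≫ E.obj.left.hom) ⟶ E.obj.left := Over.homMk p rfl
  let F : EtOver X := EtOver.mk ((yon S).map pO ≫ E.obj.hom)
    (Groth.Agent.AlgSpLib.repWith_comp ((Groth.Agent.AlgSpLib.repWith_yon_iff pO).2 hp) E.property)
  let g : F ⟶ E := EtOver.homMk pO rfl
  have sq' := EtOver.isPullback_bcMap_left hi.1 g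
  let θ := sq'.flip.isoIsPullback _ _ sq
  have hθ : θ.hom ≫ β = (EtOver.bcMap hi.1 g).hom.left.left := sq'.flip.isoIsPullback_hom_snd _ _ sq
  have hwc : (θ.hom ≫ w) ≫ c.hom.left.left = (EtOver.bcMap hi.1 g).hom.left.left := by
    rw [Category.assoc, hw, hθ]
  let wO : ((EtOver.bc hi.1).obj F).obj.left ⟶ V.obj.left := Over.homMk (θ.hom ≫ w) (by
    rw [← Over.w c.hom.left, ← Category.assoc, hwc]
    exact Over.w (EtOver.bcMap hi.1 g).hom.left)
  let wE : (EtOver.bc hi.1).obj F ⟶ V := EtOver.homMk wO (by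
    rw [← EtOver.w c, ← Functor.map_comp_assoc,
      show wO ≫ c.hom.left = (EtOver.bcMap hi.1 g).hom.left from Over.OverMorphism.ext hwc]
    exact EtOver.w (EtOver.bcMap hi.1 g))
  obtain ⟨t, ht⟩ := hv
  refine ⟨F, hE₁, wE ≫ a, θ.inv t, ?_⟩
  show a.hom.left.left ((θ.hom ≫ w) (θ.inv t)) = a.hom.left.left v
  rw [← Scheme.Hom.comp_apply θ.inv, Iso.inv_hom_id_assoc, ht]

include hi in
/-- morphisms between base changes are locally base changes -/
theorem exists_bc_factor (hX : IsAlgSpace X) {E'' E : EtOver X}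
    (b : (EtOver.bc hi.1).obj E'' ⟶ (EtOver.bc hi.1).obj E) (x : ((EtOver.bc hi.1).obj E'').obj.left.left) :
    ∃ (E₃ : EtOver X) (_ : IsAffine E₃.obj.left.left) (e : E₃ ⟶ E'') (e' : E₃ ⟶ E),
      x ∈ Set.range ((EtOver.bc hi.1).map e).hom.left.left ∧
        (EtOver.bc hi.1).map e ≫ b = (EtOver.bc hi.1).map e' := by
  obtain ⟨R, t, s, sq⟩ := Groth.Agent.AlgSpLib.exists_pullback hX.diag E''.obj.hom E.obj.hom
  have ht : RepWith @Etale ((yon S).map t) := Groth.Agent.AlgSpLib.repWith_baseChange sq.flip E.property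
  let P : EtOver X := EtOver.mk ((yon S).map t ≫ E''.obj.hom) (Groth.Agent.AlgSpLib.repWith_comp ht E''.property)
  let pr : P ⟶ E'' := EtOver.homMk t rfl
  let pr' : P ⟶ E := EtOver.homMk s sq.w.symm
  let Bc := (EtOver.bc hi.1)
  have hw : (yon S).map (hi.1.snd E''.obj.hom) ≫ E''.obj.hom =
      (yon S).map (b.hom.left ≫ hi.1.snd E.obj.hom) ≫ E.obj.hom := by
    rw [← hi.1.w, Functor.map_comp, Category.assoc, ← hi.1.w, ← Category.assoc]
    exact congrArg (· ≫ i) (EtOver.w b).symm
  obtain ⟨m, hm⟩ := Groth.Agent.AlgSpLib.exists_map_eq (sq.lift _ _ hw)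
  have hmt : m ≫ t = hi.1.snd E''.obj.hom := (yon S).map_injective (by rw [Functor.map_comp, hm, sq.lift_fst])
  have hms : m ≫ s = b.hom.left ≫ hi.1.snd E.obj.hom :=
    (yon S).map_injective (by rw [Functor.map_comp, hm, sq.lift_snd])
  have hσw : hi.1.fst E''.obj.hom ≫ i = (yon S).map m ≫ P.obj.hom := by
    rw [hi.1.w, ← hmt, Functor.map_comp, Category.assoc]
    rfl
  let σ : Bc.obj E'' ⟶ Bc.obj P :=
    EtOver.homMk (hi.1.lift (hi.1.fst E''.obj.hom) m hσw) (hi.1.lift_fst _ _ _)
  have hσpr : σ ≫ Bc.map pr = 𝟙 _ := EtOver.hom_ext _ _ (hi.1.hom_ext (by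
      rw [show (σ ≫ Bc.map pr).hom.left = σ.hom.left ≫ (EtOver.bcMap hi.1 pr).hom.left from rfl, Functor.map_comp,
        Category.assoc, EtOver.map_bcMap_fst]
      exact (hi.1.lift_fst _ _ _).trans ((Category.id_comp _).symm.trans
        (congrArg (· ≫ hi.1.fst E''.obj.hom) ((yon S).map_id _).symm)))
    (by
      rw [show (σ ≫ Bc.map pr).hom.left = σ.hom.left ≫ (EtOver.bcMap hi.1 pr).hom.left from rfl,
        Category.assoc, EtOver.bcMap_snd, ← Category.assoc]
      exact (congrArg (· ≫ pr.hom.left) (hi.1.lift_snd _ _ _)).trans (hmt.trans (Category.id_comp _).symm)))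
  have hσb : σ ≫ Bc.map pr' = b := EtOver.hom_ext _ _ (hi.1.hom_ext (by
      rw [show (σ ≫ Bc.map pr').hom.left = σ.hom.left ≫ (EtOver.bcMap hi.1 pr').hom.left from rfl, Functor.map_comp,
        Category.assoc, EtOver.map_bcMap_fst]
      exact (hi.1.lift_fst _ _ _).trans (EtOver.w b).symm)
    (by
      rw [show (σ ≫ Bc.map pr').hom.left = σ.hom.left ≫ (EtOver.bcMap hi.1 pr').hom.left from rfl,
        Category.assoc, EtOver.bcMap_snd, ← Category.assoc]
      exact (congrArg (· ≫ pr'.hom.left) (hi.1.lift_snd _ _ _)).trans hms))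
  haveI : Etale σ.hom.left.left := EtOver.etale_left σ
  have hσpr' : σ.hom.left.left ≫ (Bc.map pr).hom.left.left = 𝟙 _ := congrArg (fun q => q.hom.left.left) hσpr
  haveI : Mono σ.hom.left.left := (SplitMono.mk (Bc.map pr).hom.left.left hσpr').mono
  haveI : IsOpenImmersion σ.hom.left.left := IsOpenImmersion.of_flat_of_mono _
  haveI := isClosedImmersion_bcπ hi P
  let π := (hi.1.snd P.obj.hom).left
  obtain ⟨O, hO, hOW⟩ := π.isEmbedding.isInducing.isOpen_iff.1 σ.hom.left.left.isOpenEmbedding.isOpen_range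
  obtain ⟨A, hA, hxA, hAO⟩ := exists_isAffineOpen_mem_and_subset (U := (⟨O, hO⟩ : P.obj.left.left.Opens))
    (x := π (σ.hom.left.left x)) (show σ.hom.left.left x ∈ π ⁻¹' O by rw [hOW]; exact ⟨x, rfl⟩)
  let j : openObj P A ⟶ P := openHom P A
  have sqj := EtOver.isPullback_bcMap_left hi.1 j
  have hran : Set.range (Bc.map j).hom.left.left ⊆ Set.range σ.hom.left.left := by
    rintro _ ⟨z, rfl⟩
    rw [← hOW]
    refine (congrArg (fun r : _ ⟶ P.obj.left.left => r z ∈ O) sqj.w).mpr ?_
    exact hAO ((hi.1.snd (openObj P A).obj.hom).left z).2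
  let q₀ := IsOpenImmersion.lift σ.hom.left.left (Bc.map j).hom.left.left hran
  have hq₀ : q₀ ≫ σ.hom.left.left = (Bc.map j).hom.left.left := IsOpenImmersion.lift_fac _ _ _
  have hq : (Bc.map j ≫ Bc.map pr) ≫ σ = Bc.map j := by
    refine EtOver.hom_ext _ _ (Over.OverMorphism.ext ?_)
    show ((Bc.map j).hom.left.left ≫ (Bc.map pr).hom.left.left) ≫ σ.hom.left.left = (Bc.map j).hom.left.left
    rw [← hq₀, Category.assoc q₀, hσpr', Category.comp_id]
  refine ⟨openObj P A, hA, j ≫ pr, j ≫ pr', ?_, ?_⟩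
  · obtain ⟨z, hz, -⟩ := Scheme.Pullback.exists_preimage_pullback (f := π) (g := j.hom.left.left)
      (σ.hom.left.left x) (⟨π (σ.hom.left.left x), hxA⟩ : ↥A) rfl
    refine ⟨sqj.isoPullback.inv z, ?_⟩
    rw [Functor.map_comp]
    show (Bc.map pr).hom.left.left ((EtOver.bcMap hi.1 j).hom.left.left (sqj.isoPullback.inv z)) = x
    rw [← Scheme.Hom.comp_apply sqj.isoPullback.inv, sqj.isoPullback_inv_fst]
    exact (congrArg (Bc.map pr).hom.left.left hz).trans
      (congrArg (fun r : (Bc.obj E'').obj.left.left ⟶ (Bc.obj E'').obj.left.left => r x) hσpr')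
  · rw [Functor.map_comp, Functor.map_comp]
    refine (congrArg (fun r => (Bc.map j ≫ Bc.map pr) ≫ r) hσb.symm).trans ?_
    rw [← Category.assoc _ σ, hq]

variable {G G' : ModEt Z}

/-- sections of a direct image -/
abbrev pushSect (hi : Representable i) (G : ModEt Z) (E : EtOver X) : Type (u + 1) :=
  sectModEt ((pushModEt hi).obj G) E

variable (hX : IsAlgSpace X) (α : (pushModEt hi.1).obj G ⟶ (pushModEt hi.1).obj G')

include hX in
theorem res_alpha {E E' : EtOver X} (b : (EtOver.bc hi.1).obj E' ⟶ (EtOver.bc hi.1).obj E)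
    (y : pushSect hi.1 G E) :
    resM G' b (appM α E y) = appM α E' (resM G b y) := by
  choose E₃ hE₃ e e' hx he using exists_bc_factor hi hX b
  refine eq_of_cover (M := G') (fun x => (EtOver.bc hi.1).map (e x)) (fun x => ⟨x, hx x⟩) fun x => ?_
  rw [← resM_comp, he]
  refine (resM_appM α (e' x) y).trans (Eq.trans ?_ (resM_appM α (e x) _).symm)
  refine congrArg (appM α (E₃ x)) ?_
  show resM G ((EtOver.bc hi.1).map (e' x)) y = resM G ((EtOver.bc hi.1).map (e x)) (resM G b y)
  rw [← resM_comp, he]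

/-- the characterisation of the morphism with direct image `α` -/
def IsPre {W : EtOver Z} (y : sectModEt G W) (t : sectModEt G' W) : Prop :=
  ∀ (E : EtOver X) (_ : IsAffine E.obj.left.left) (a : (EtOver.bc hi.1).obj E ⟶ W),
    resM G' a t = appM α E (resM G a y)

include hX in
theorem isPre_unique {W : EtOver Z} {y : sectModEt G W} {t t' : sectModEt G' W} (h : IsPre hi α y t)
    (h' : IsPre hi α y t') : t = t' := by
  choose E hE a hx using exists_bc_cover hi hX W
  exact eq_of_cover a (fun x => ⟨x, hx x⟩) fun x => (h _ (hE x) (a x)).trans (h' _ (hE x) (a x)).symm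

include hX in
theorem exists_isPre {W : EtOver Z} (y : sectModEt G W) : ∃ t, IsPre hi α y t := by
  choose E hE a hx using exists_bc_cover hi hX W
  let v : ∀ x, sectModEt G' ((EtOver.bc hi.1).obj (E x)) := fun x => appM α (E x) (resM G (a x) y)
  have key : ∀ (V : EtOver Z) (x : W.obj.left.left) (p : V ⟶ (EtOver.bc hi.1).obj (E x))
      (F : EtOver X) (q : (EtOver.bc hi.1).obj F ⟶ V),
      resM G' q (resM G' p (v x)) = appM α F (resM G (q ≫ p ≫ a x) y) := fun V x p F q => by
    refine (resM_comp p q (v x)).symm.trans ((res_alpha hi hX α (q ≫ p) (resM G (a x) y)).trans ?_)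
    exact congrArg (appM α F) ((resM_comp (a x) (q ≫ p) y).symm.trans (by rw [Category.assoc]))
  obtain ⟨t, ht⟩ := exists_glue (M := G') a (fun x => ⟨x, hx x⟩) v fun x x' => by
    choose F hF q hq using exists_bc_cover hi hX (pb (a x) (a x'))
    refine eq_of_cover q (fun z => ⟨z, hq z⟩) fun z => ?_
    rw [key, key, pb_condition]
  refine ⟨t, fun F hF c => ?_⟩
  refine eq_of_cover (M := G') (fun x => pbFst c (a x)) ?_ fun x => ?_
  · intro z
    obtain ⟨w, hw⟩ := hx (c.hom.left.left z)
    obtain ⟨P, hP, -⟩ := Scheme.Pullback.exists_preimage_pullback (f := c.hom.left.left)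
      (g := (a (c.hom.left.left z)).hom.left.left) z w hw.symm
    exact ⟨c.hom.left.left z, P, hP⟩
  choose F' hF' q hq using exists_bc_cover hi hX (pb c (a x))
  refine eq_of_cover q (fun z => ⟨z, hq z⟩) fun z => ?_
  rw [← resM_comp c (pbFst c (a x)), pb_condition, resM_comp, ht, key, ← resM_comp (pbFst c (a x)) (q z),
    res_alpha hi hX α, ← resM_comp c, Category.assoc, pb_condition]

variable [(SheafOfModules.pushforward.{u + 1} (bcRingHom hi.1)).IsRightAdjoint]

include hX in
theorem exists_preimage : ∃ ψ : G ⟶ G', (pushModEt hi.1).map ψ = α := by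
  choose f hf using fun (W : EtOver Z) (y : sectModEt G W) => exists_isPre hi hX α y
  have hadd : ∀ (W : EtOver Z) (y y' : sectModEt G W), f W (y + y') = f W y + f W y' := fun W y y' =>
    isPre_unique hi hX α (hf W _) fun E hE a => by
      rw [map_add, map_add, hf W y E hE a, hf W y' E hE a]
      exact (map_add (appM α E) _ _).symm
  have hsmul : ∀ (W : EtOver Z) (r : R W) (y : sectModEt G W), f W (r • y) = r • f W y := fun W r y =>
    isPre_unique hi hX α (hf W _) fun E hE a => by
      haveI := hE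
      obtain ⟨r', hr'⟩ := surjective_bcR hi E (res a r)
      rw [resM_smul, resM_smul, hf W y E hE a, ← hr']
      exact (map_smul (appM α E) r' (show pushSect hi.1 G E from resM G a y)).symm
  have hnat : ∀ {W W' : EtOver Z} (g : W' ⟶ W) (y : sectModEt G W), f W' (resM G g y) = resM G' g (f W y) :=
    fun {W W'} g y => isPre_unique hi hX α (hf _ _) fun E hE a => by
      rw [← resM_comp, ← resM_comp, hf _ y E hE (a ≫ g)]
  let ψ : G ⟶ G' := ⟨PresheafOfModules.homMk
    { app := fun W => AddCommGrpCat.ofHom (AddMonoidHom.mk' (fun y => (show sectModEt G' W.unop from f W.unop y))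
        (fun y y' => hadd W.unop y y'))
      naturality := fun {W W'} g => AddCommGrpCat.ext fun y => hnat g.unop y }
    (fun W r y => hsmul W.unop r y)⟩
  refine ⟨ψ, SheafOfModules.hom_ext (PresheafOfModules.hom_ext fun E => ModuleCat.hom_ext (LinearMap.ext fun y => ?_))⟩
  show f ((EtOver.bc hi.1).obj E.unop) y = appM α E.unop y
  refine isPre_unique hi hX α (hf _ _) fun F hF a => ?_
  exact res_alpha hi hX α a y

include hi hX in
theorem push_faithful {ψ ψ' : G ⟶ G'} (h : (pushModEt hi.1).map ψ = (pushModEt hi.1).map ψ') : ψ = ψ' := by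
  refine SheafOfModules.hom_ext (PresheafOfModules.hom_ext fun W => ModuleCat.hom_ext (LinearMap.ext fun y => ?_))
  show appM ψ W.unop y = appM ψ' W.unop y
  choose E hE a hx using exists_bc_cover hi hX W.unop
  refine eq_of_cover a (fun x => ⟨x, hx x⟩) fun x => ?_
  rw [resM_appM, resM_appM]
  exact congrArg (fun q : (pushModEt hi.1).obj G ⟶ (pushModEt hi.1).obj G' => appM q (E x) (resM G (a x) y)) h

include hi hX in
theorem isIso_counit_closed_all (G : ModEt Z) :
    IsIso ((pullPushAdjModEt hi.1).counit.app G) := by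
  haveI : (pushModEt hi.1).Full := ⟨fun α => exists_preimage hi hX α⟩
  haveI : (pushModEt hi.1).Faithful := ⟨fun h => push_faithful hi hX h⟩
  infer_instance

end Groth.Agent.EtQC
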