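import Groth.Agent.EtQC.CohSub
import Groth.Agent.EtQC.Coherent
import Groth.Agent.EtQC.WeakAssFinite
import Mathlib.CategoryTheory.Filtered.Final

/-!
A quasi-coherent module on a Noetherian algebraic space is the union of its coherent submodules.
-/

set_option autoImplicit false
set_option linter.style.haveILetI false
set_option backward.isDefEq.respectTransparency false

universe u

noncomputable section

open CategoryTheory CategoryTheory.Limits AlgebraicGeometry Opposite AlgSp TensorProduct

namespace Groth.Agent.EtQC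

variable {S : Scheme.{u}} {X : Sp S}

theorem mono_of_appM_injective {A B : ModEt X} (φ : A ⟶ B)
    (h : ∀ (V : EtOver X) [IsAffine V.obj.left.left], Function.Injective (appM φ V)) : Mono φ := by
  have hall : ∀ W : EtOver X, Function.Injective (φ.val.app (op W)).hom := fun W s t hst => by
    refine eq_of_affine (M := A) fun V _ g => h V ?_
    show appM φ V (resM A g s) = appM φ V (resM A g t)
    rw [← resM_appM, ← resM_appM]
    exact congrArg (resM B g) hst
  haveI : Mono φ.val := PresheafOfModules.mono_of_injective fun U => hall U.unop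
  exact (SheafOfModules.forget _).mono_of_mono_map ‹_›

/-- sections of a colimit of quasi-coherent modules over an affine object come from the diagram -/
theorem exists_colimit_section {J : Type (u + 1)} [SmallCategory J] [IsFiltered J] (D : J ⥤ ModEt X)
    [∀ j, (D.obj j).IsQuasicoherent] (E : EtOver X) [IsAffine E.obj.left.left] (c : sectModEt (colimit D) E) :
    ∃ j a, appM (colimit.ι D j) E a = c := by
  let adj := PresheafOfModules.sheafificationAdjunction (R := OEtRing X) (𝟙 (OEtRing X).obj)
  let L := PresheafOfModules.sheafification (R := OEtRing X) (𝟙 (OEtRing X).obj)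
  let F := D ⋙ toPre X
  haveI : IsIso adj.counit := inferInstance
  haveI := adj.leftAdjoint_preservesColimits
  let e : D ≅ F ⋙ L := Functor.isoWhiskerLeft D (asIso adj.counit).symm
  let i : colimit D ≅ L.obj (colimit F) :=
    HasColimit.isoOfNatIso e ≪≫ (preservesColimitIso L F).symm
  let χ : colimit F ⟶ (toPre X).obj (colimit D) := adj.unit.app (colimit F) ≫ (toPre X).map i.inv
  have hχ : ∀ j, colimit.ι F j ≫ χ = (toPre X).map (colimit.ι D j) := fun j => by
    have h1 : colimit.ι D j ≫ i.hom = e.hom.app j ≫ L.map (colimit.ι F j) := by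
      simp [i]
    have h2 : L.map (colimit.ι F j) ≫ i.inv = inv (e.hom.app j) ≫ colimit.ι D j := by
      rw [IsIso.eq_inv_comp, ← Category.assoc, ← h1, Category.assoc, Iso.hom_inv_id, Category.comp_id]
    simp only [χ]
    refine (Category.assoc _ _ _).symm.trans ?_
    refine (congrArg (· ≫ (toPre X).map i.inv) (adj.unit.naturality (colimit.ι F j))).trans ?_
    refine (Category.assoc _ _ _).trans ?_
    refine (congrArg (adj.unit.app (F.obj j) ≫ ·) (((toPre X).map_comp _ _).symm.trans
      (congrArg (toPre X).map h2))).trans ?_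
    have h3 : inv (e.hom.app j) = adj.counit.app (D.obj j) := IsIso.inv_eq_of_hom_inv_id (by simp [e])
    rw [h3, Functor.map_comp]
    refine (Category.assoc _ _ _).symm.trans ?_
    exact (congrArg (· ≫ (toPre X).map (colimit.ι D j)) (adj.right_triangle_components (D.obj j))).trans
      (Category.id_comp _)
  have hP : IsBC (colimit F) := isBC_of_isColimit F (colimit.isColimit F)
    (fun j => by
      exact fun {E V} [IsAffine E.obj.left.left] [IsAffine V.obj.left.left] g => isBaseChange_res (M := D.obj j) g)
    (fun E => inferInstance)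
  let η : colimit F ⟶ (L.obj (colimit F)).val := adj.unit.app (colimit F)
  haveI : Presheaf.IsLocallyInjective (etTop X) ((PresheafOfModules.toPresheaf _).map η) := by
    have h : (PresheafOfModules.toPresheaf _).map η = _ :=
      PresheafOfModules.toPresheaf_map_sheafificationAdjunction_unit_app (R := OEtRing X) (𝟙 (OEtRing X).obj) (colimit F)
    rw [h]
    exact (((etTop X).W_iff_isLocallyBijective _).mp ((etTop X).W_toSheafify _)).1
  haveI : Presheaf.IsLocallySurjective (etTop X) ((PresheafOfModules.toPresheaf _).map η) := by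
    have h : (PresheafOfModules.toPresheaf _).map η = _ :=
      PresheafOfModules.toPresheaf_map_sheafificationAdjunction_unit_app (R := OEtRing X) (𝟙 (OEtRing X).obj) (colimit F)
    rw [h]
    exact (((etTop X).W_iff_isLocallyBijective _).mp ((etTop X).W_toSheafify _)).2
  obtain ⟨p, hp⟩ := (appPs_bijective η hP E).2 (appM i.hom E c)
  have hχp : appPs (M := colimit D) χ E p = c := by
    show appM i.inv E (appPs η E p) = c
    rw [hp]
    exact congrArg (fun q : colimit D ⟶ colimit D => q.val.app (op E) c) i.hom_inv_id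
  obtain ⟨j, a, ha⟩ := Concrete.isColimit_exists_rep _
    (isColimitOfPreserves (PresheafOfModules.evaluation (OEtRing X).obj (op E)) (colimit.isColimit F)) p
  refine ⟨j, a, ?_⟩
  rw [← hχp, ← ha]
  exact (congrArg (fun q : F.obj j ⟶ (toPre X).obj (colimit D) => q.app (op E) a) (hχ j)).symm

theorem exists_common_chart (hX : IsAlgSpace X) {E₀ : EtOver X} (hs : RepWith @Surjective E₀.obj.hom)
    (E : EtOver X) (x : E.obj.left.left) :
    ∃ (W : EtOver X) (_ : IsAffine W.obj.left.left) (a : W ⟶ E) (_ : W ⟶ E₀),
      x ∈ Set.range a.hom.left.left := by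
  obtain ⟨v, hv⟩ := Groth.Agent.AlgSpLib.ofPt_surjective hs (Points.ofPt E.obj.hom x)
  obtain ⟨W, hW, g₁, g₂, w, hw, -⟩ := exists_common E E₀ x v hv.symm
  exact ⟨W, hW, g₁, g₂, w, hw⟩

section

variable [QuasiSeparatedSpace ↥S] (hX : IsAlgSpace X) (hqs : IsQuasiSeparatedSp X) (hn : IsLocNoethSp X)
  (M : ModEt X) [M.IsQuasicoherent] {E₀ : EtOver X} [IsAffine E₀.obj.left.left]
  (hs : RepWith @Surjective E₀.obj.hom)

include hn hs in
theorem isFinitePresentation_chartFam (t : Finset (sectModEt M E₀)) :
    (chartFam (M := M) (Submodule.span (R E₀) (t : Set (sectModEt M E₀))) hX hqs).toMod.IsFinitePresentation := by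
  let N := Submodule.span (R E₀) (t : Set (sectModEt M E₀))
  let σ := chartFam (M := M) N hX hqs
  haveI := σ.isQuasicoherent_toMod
  haveI := isNoetherianRing_R hX hn E₀
  haveI : Module.Finite (R E₀) N := Module.Finite.span_of_finite (R E₀) t.finite_toSet
  haveI : Module.Finite (R E₀) (sectModEt σ.toMod E₀) := by
    have hmem : ∀ a : sectModEt σ.toMod E₀, appM σ.ι E₀ a ∈ N := fun a => by
      have : appM σ.ι E₀ a ∈ σ.sub E₀ inferInstance := (σ.range_ι E₀ inferInstance).le ⟨a, rfl⟩
      exact chartSub_le N _ this
    exact Module.Finite.of_injective ((appM σ.ι E₀).codRestrict N hmem)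
      fun a b h => σ.ι_injective E₀ (show appM σ.ι E₀ a = appM σ.ι E₀ b from (congrArg Subtype.val h :))
  refine isFinitePresentation_of_finite hX hn σ.toMod fun E _ => finite_sections fun x => ?_
  obtain ⟨W, hW, a, b, hx⟩ := exists_common_chart hX hs E x
  refine ⟨W, a, hW, hx, ?_⟩
  exact (Module.Finite.equiv (isBaseChange_res (M := σ.toMod) b).equiv : Module.Finite (Rg b) (Mg σ.toMod b))

/-- the submodules of finitely generated sections on the chart -/
def chartDiagram : Finset (sectModEt M E₀) ⥤ ModEt X where
  obj t := (chartFam (M := M) (Submodule.span (R E₀) (t : Set (sectModEt M E₀))) hX hqs).toMod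
  map {t t'} h := SubFam.lift _ (SubFam.ι _) fun E hE a => by
    have h1 := ((chartFam (M := M) (Submodule.span (R E₀) (t : Set (sectModEt M E₀))) hX hqs).range_ι E hE).le ⟨a, rfl⟩
    intro W hW p q
    exact Submodule.span_mono (Set.image_mono (Submodule.span_mono (Finset.coe_subset.mpr h.le))) (h1 W hW p q)
  map_id t := (cancel_mono (SubFam.ι _)).mp ((SubFam.lift_ι _ _ _).trans (Category.id_comp _).symm)
  map_comp f g := (cancel_mono (SubFam.ι _)).mp (by
    rw [Category.assoc, SubFam.lift_ι, SubFam.lift_ι, SubFam.lift_ι])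

/-- the inclusions -/
def chartCocone : Cocone (chartDiagram hX hqs M (E₀ := E₀)) where
  pt := M
  ι :=
    { app := fun t => SubFam.ι _
      naturality := fun t t' h => by
        simp [chartDiagram, SubFam.lift_ι] }

theorem isFiltered_finset : IsFiltered (Finset (sectModEt M E₀)) := by
  classical
  exact isFiltered_of_semilatticeSup_nonempty _

include hX hqs in
theorem injective_colim_presheaf (E : EtOver X) [IsAffine E.obj.left.left] :
    ∀ t (a : sectModEt ((chartDiagram hX hqs M (E₀ := E₀)).obj t) E),
      appM ((chartCocone hX hqs M (E₀ := E₀)).ι.app t) E a = 0 → a = 0 := fun t a h =>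
  SubFam.ι_injective _ E (h.trans (map_zero _).symm)

include hs in
theorem nonempty_isColimit_chartCocone [CompactSpace (Points X)] :
    Nonempty (IsColimit (chartCocone hX hqs M (E₀ := E₀))) := by
  classical
  haveI := isFiltered_finset M (E₀ := E₀)
  let D := chartDiagram hX hqs M (E₀ := E₀)
  haveI : ∀ t, (D.obj t).IsQuasicoherent := fun t => SubFam.isQuasicoherent_toMod _
  haveI := isQuasicoherent_colimit D (fun t => inferInstance)
  let φ : colimit D ⟶ M := colimit.desc D (chartCocone hX hqs M (E₀ := E₀))
  have happ : ∀ t E (a : sectModEt (D.obj t) E),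
      appM φ E (appM (colimit.ι D t) E a) = appM ((chartCocone hX hqs M (E₀ := E₀)).ι.app t) E a := fun t E a =>
    congrArg (fun q : D.obj t ⟶ M => q.val.app (op E) a) (colimit.ι_desc (chartCocone hX hqs M (E₀ := E₀)) t)
  have hsurj : ∀ (E : EtOver X) [IsAffine E.obj.left.left] (c : sectModEt (colimit D) E),
      ∃ t a, appM (colimit.ι D t) E a = c := fun E _ c => exists_colimit_section D E c
  haveI : Mono φ := mono_of_appM_injective φ fun E _ => (injective_iff_map_eq_zero (appM φ E)).mpr fun c hc => by
    obtain ⟨t, a, rfl⟩ := hsurj E c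
    rw [happ] at hc
    rw [injective_colim_presheaf hX hqs M E t a hc, map_zero]
  haveI : IsIso φ := isIso_of_appM_surjective φ (fun _ : PUnit.{1} => E₀) (fun x => by
      obtain ⟨u, hu⟩ := Groth.Agent.AlgSpLib.ofPt_surjective hs x
      exact ⟨⟨⟩, u, hu⟩) fun _ m => by
    obtain ⟨t, ht⟩ := exists_fg_mem_chartSub hX hqs (E₀ := E₀) E₀ m
    obtain ⟨a, ha⟩ := ((chartFam (M := M) (Submodule.span (R E₀) (t : Set (sectModEt M E₀))) hX hqs).range_ι E₀
      inferInstance).ge ht
    exact ⟨appM (colimit.ι D t) E₀ a, (happ t E₀ a).trans ha⟩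
  exact ⟨IsColimit.ofIsoColimit (colimit.isColimit D)
    (Cocone.ext (asIso φ) fun t => colimit.ι_desc (chartCocone hX hqs M (E₀ := E₀)) t)⟩

end

end Groth.Agent.EtQC
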