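import Groth.Agent.EtQC.WeakAssPush
import Groth.Agent.AlgSpLib.NoethPts
import Mathlib.RingTheory.QuasiFinite.Basic
import Mathlib.RingTheory.Ideal.MinimalPrime.Colon

/-!
Weakly associated points of push forwards along finite morphisms, and along affine morphisms from locally noetherian
spaces: equality with the image.
-/

set_option autoImplicit false
set_option linter.style.haveILetI false
set_option backward.isDefEq.respectTransparency false

universe u

noncomputable section

open CategoryTheory CategoryTheory.Limits AlgebraicGeometry Opposite AlgSp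
open Groth.Agent.WeakAssAlg

namespace Groth.Agent.EtQC

theorem under_mem_weakAss_of_finite {A B : Type (u + 1)} [CommRing A] [CommRing B] [Algebra A B] [Module.Finite A B]
    {N : Type (u + 1)} [AddCommGroup N] [Module A N] [Module B N] [IsScalarTower A B N] {p : Ideal A} [p.IsPrime]
    (t : Ideal B) [t.IsPrime] (ht : t.under A = p)
    (h : t ∈ FlatCA.weakAss B N) : p ∈ FlatCA.weakAss A N := by
  classical
  obtain ⟨z, hz⟩ := h
  haveI : t.LiesOver p := ⟨ht.symm⟩
  have hfin : ((p.primesOver B) \ {t}).Finite :=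
    (Algebra.QuasiFinite.finite_primesOver p).subset Set.diff_subset
  obtain ⟨g, hgt, hg⟩ : ∃ g ∈ t, ∀ Q ∈ p.primesOver B, Q ≠ t → g ∉ Q := by
    by_contra! hno
    have hsub : (t : Set B) ⊆ ⋃ Q ∈ ((hfin.toFinset : Finset (Ideal B)) : Set (Ideal B)), (Q : Set B) := fun x hx => by
      obtain ⟨Q, hQ, hne, hxQ⟩ := hno x hx
      exact Set.mem_biUnion (by simpa using ⟨hQ, hne⟩) hxQ
    obtain ⟨Q, hQ, htQ⟩ := (Ideal.subset_union_prime t t (fun i hi _ _ => by
      have := hfin.mem_toFinset.1 hi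
      exact this.1.1)).1 hsub
    obtain ⟨⟨hQp, hQo⟩, hne⟩ := hfin.mem_toFinset.1 hQ
    haveI := hQp
    exact hne (Algebra.QuasiFinite.eq_of_le_of_under_eq (R := A) t Q htQ (ht.trans hQo.over)).symm
  obtain ⟨hle, hmin⟩ := Groth.Agent.WeakAssAlg.mem_minimalPrimes_iff.1 hz
  obtain ⟨e, he, n, hn⟩ := hmin g hgt
  rw [Submodule.mem_annihilator_span_singleton] at hn
  let w : N := e • z
  have hgw : g ^ n • w = 0 := by rw [show g ^ n • w = g ^ n • e • z from rfl, ← mul_smul, mul_comm, hn]
  have honly : ∀ P : Ideal B, P.IsPrime → (∀ b : B, b • w = 0 → b ∈ P) → P.under A ≤ p → P = t := by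
    intro P hP hPw hPp
    obtain ⟨Q, hPQ, hQp, hQo⟩ := Ideal.exists_ideal_over_prime_of_isIntegral p P hPp
    have hQt : Q = t := by
      by_contra hne
      exact hg Q ⟨hQp, ⟨hQo.symm⟩⟩ hne (hPQ (hP.mem_of_pow_mem n (hPw _ hgw)))
    have hPt : P ≤ t := hQt ▸ hPQ
    refine le_antisymm hPt (hz.2 ⟨hP, fun b hb => hPw b ?_⟩ hPt)
    rw [Submodule.mem_annihilator_span_singleton] at hb
    rw [show b • w = b • e • z from rfl, smul_comm, hb, smul_zero]
  have hK : ∀ r : A, r • w = 0 → r ∈ p := fun r hr => by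
    rw [← algebraMap_smul B, show (algebraMap A B r) • w = algebraMap A B r • e • z from rfl, ← mul_smul,
      ← Submodule.mem_annihilator_span_singleton] at hr
    rw [← ht]
    exact ((‹t.IsPrime›).mem_or_mem (hle hr)).resolve_right he
  have hp : ∀ a ∈ p, ∃ s ∉ p, ∃ k : ℕ, (s * a ^ k) • w = 0 := by
    intro a ha
    by_contra! hno
    let T : Submonoid B := (p.primeCompl ⊔ Submonoid.powers a).map (algebraMap A B)
    have hdis : Disjoint ((Submodule.span B {w}).annihilator : Set B) T := by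
      rw [Set.disjoint_left]
      rintro x hx ⟨y, hy, rfl⟩
      obtain ⟨s, hs, _, ⟨k, rfl⟩, rfl⟩ := Submonoid.mem_sup.1 hy
      rw [SetLike.mem_coe, Submodule.mem_annihilator_span_singleton, algebraMap_smul] at hx
      exact hno s hs k hx
    obtain ⟨P, hP, hIP, hPT⟩ := Ideal.exists_le_prime_disjoint _ T hdis
    have hmem : ∀ y ∈ p.primeCompl ⊔ Submonoid.powers a, algebraMap A B y ∉ P := fun y hy hyP =>
      Set.disjoint_left.1 hPT hyP ⟨y, hy, rfl⟩
    have hPt := honly P hP (fun b hb => hIP ((Submodule.mem_annihilator_span_singleton w b).2 hb))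
      (fun y hy => by
        by_contra hyp
        exact hmem y (Submonoid.mem_sup_left hyp) hy)
    refine hmem a (Submonoid.mem_sup_right (Submonoid.mem_powers a)) ?_
    rw [hPt]
    have : a ∈ t.under A := by rw [ht]; exact ha
    exact this
  exact mem_weakAss_iff.2 ⟨inferInstance, w, hK, hp⟩

theorem comap_mem_weakAss_of_isNoetherianRing {A B : Type (u + 1)} [CommRing A] [CommRing B] [Algebra A B]
    [IsNoetherianRing B] {N : Type (u + 1)} [AddCommGroup N] [Module A N] [Module B N] [IsScalarTower A B N]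
    (t : Ideal B) [t.IsPrime] (h : t ∈ FlatCA.weakAss B N) : t.comap (algebraMap A B) ∈ FlatCA.weakAss A N := by
  obtain ⟨z, hz⟩ := h
  have hc : ∀ x : N, (⊥ : Submodule B N).colon {x} = (Submodule.span B {x}).annihilator := fun x => by
    ext b
    rw [Submodule.mem_colon_singleton, Submodule.mem_bot, Submodule.mem_annihilator_span_singleton]
  obtain ⟨w, hw⟩ := Submodule.exists_eq_colon_of_mem_minimalPrimes (N := (⊥ : Submodule B N)) (x := z)
    (I := t) (by rw [hc]; exact hz)
  have hw' : ∀ b : B, b ∈ t ↔ b • w = 0 := fun b => by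
    rw [hw, Submodule.mem_colon_singleton, Submodule.mem_bot]
  refine mem_weakAss_iff.2 ⟨inferInstance, w, fun r hr => (hw' _).2 (by rw [algebraMap_smul, hr]),
    fun x hx => ⟨1, fun h1 => (inferInstance : t.IsPrime).ne_top ((Ideal.eq_top_iff_one _).2 ?_), 1, ?_⟩⟩
  · simpa using h1
  · rw [one_mul, pow_one, ← algebraMap_smul B, (hw' _).1 hx]

section

variable {S : Scheme.{u}} {X Y : Sp S} {f : X ⟶ Y} (hf : Representable f)

theorem isWeakAssOn_push (M : ModEt X) [M.IsQuasicoherent] (E : EtOver Y) [IsAffine E.obj.left.left]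
    [IsAffine ((EtOver.bc hf).obj E).obj.left.left] (w : ((EtOver.bc hf).obj E).obj.left.left)
    (hkey : letI : Algebra (R E) (R ((EtOver.bc hf).obj E)) := (pushRes hf E).toAlgebra
      ∀ {N : Type (u + 1)} [AddCommGroup N] [Module (R E) N] [Module (R ((EtOver.bc hf).obj E)) N]
        [IsScalarTower (R E) (R ((EtOver.bc hf).obj E)) N],
        ptIdeal _ w ∈ FlatCA.weakAss (R ((EtOver.bc hf).obj E)) N →
          (ptIdeal _ w).comap (pushRes hf E) ∈ FlatCA.weakAss (R E) N)
    (h : IsWeakAssOn M ((EtOver.bc hf).obj E) w) :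
    IsWeakAssOn ((pushModEt hf).obj M) E ((hf.snd E.obj.hom).left w) := by
  rw [isWeakAssOn_iff]
  letI : Algebra (R E) (R ((EtOver.bc hf).obj E)) := (pushRes hf E).toAlgebra
  letI : Module (R ((EtOver.bc hf).obj E)) (sectModEt ((pushModEt hf).obj M) E) :=
    inferInstanceAs (Module (R ((EtOver.bc hf).obj E)) (sectModEt M ((EtOver.bc hf).obj E)))
  haveI : IsScalarTower (R E) (R ((EtOver.bc hf).obj E)) (sectModEt ((pushModEt hf).obj M) E) :=
    IsScalarTower.of_algebraMap_smul fun a m => rfl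
  have e : (ptIdeal _ w).comap (pushRes hf E) = ptIdeal E ((hf.snd E.obj.hom).left w) := by
    rw [ptIdeal, ptIdeal, ← primeAtPt_comap, Ideal.comap_comap, Ideal.comap_comap]
    rfl
  rw [← e]
  exact hkey ((isWeakAssOn_iff _ w).mp h)

theorem mem_push_of (hY : IsAlgSpace Y) (haff : IsAffineMor f) (M : ModEt X) [M.IsQuasicoherent]
    (hkey : ∀ (E : EtOver Y) [IsAffine E.obj.left.left] [IsAffine ((EtOver.bc hf).obj E).obj.left.left]
      (w : ((EtOver.bc hf).obj E).obj.left.left),
      IsWeakAssOn M ((EtOver.bc hf).obj E) w → IsWeakAssOn ((pushModEt hf).obj M) E ((hf.snd E.obj.hom).left w)) :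
    WeakAssEt ((pushModEt hf).obj M) = Points.map f '' WeakAssEt M := by
  refine Set.Subset.antisymm (weakAssEt_push_subset hf haff M) ?_
  rintro y ⟨x, ⟨E₁, hE₁, u₁, rfl, h⟩, rfl⟩
  obtain ⟨E, hE, v, hv⟩ := exists_affine_chart_at hY (Points.map f (Points.ofPt E₁.obj.hom u₁))
  haveI := isAffine_bc hf haff E
  have hpts : ∃ w : ((EtOver.bc hf).obj E).obj.left.left,
      Points.ofPt ((EtOver.bc hf).obj E).obj.hom w = Points.ofPt E₁.obj.hom u₁ ∧ (hf.snd E.obj.hom).left w = v := by
    rw [Points.map_ofPt] at hv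
    obtain ⟨K, α, β, k, e, hα, hβ⟩ := Groth.Agent.AlgSpLib.exists_of_ofPt_eq hv
    have e' : ((yon S).map β ≫ E₁.obj.hom) ≫ f = (yon S).map α ≫ E.obj.hom := by rw [Category.assoc, e]
    refine ⟨(hf.lift _ α e').left k, ?_, ?_⟩
    · refine (Groth.Agent.AlgSpLib.ofPt_comp (hf.lift _ α e') _ k).symm.trans ?_
      refine (congrArg (fun q => Points.ofPt q k) (hf.lift_fst _ α e')).trans ?_
      exact (Groth.Agent.AlgSpLib.ofPt_comp β E₁.obj.hom k).trans (congrArg (Points.ofPt E₁.obj.hom) hβ)
    · exact (congrArg (fun φ => φ.left k) (hf.lift_snd _ α e')).trans hα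
  obtain ⟨w, hw₁, hw₂⟩ := hpts
  refine ⟨E, hE, v, hv, ?_⟩
  rw [← hw₂]
  exact hkey E w ((isWeakAssOn_iff_of_eq hw₁).mpr h)

end

end Groth.Agent.EtQC

namespace Groth.Agent.EtQC

variable {S : Scheme.{u}} {X Y : Sp S} {f : X ⟶ Y} (hf : Representable f)

theorem isAffineMor_of_isFiniteMor (hfin : IsFiniteMor f) : IsAffineMor f := fun Z hZ g => by
  obtain ⟨W, i, fst, sq, hW, -⟩ := hfin hZ g
  exact ⟨W, i, fst, sq, hW⟩

theorem isFinite_bcπ (hfin : IsFiniteMor f) (E : EtOver Y) [IsAffine E.obj.left.left] :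
    IsFinite (hf.snd E.obj.hom).left := by
  obtain ⟨W, i, fst, sq, hW, hi⟩ := hfin (Z := E.obj.left) ‹_› E.obj.hom
  let e := (hf.isPullback E.obj.hom).isoIsPullback _ _ sq
  obtain ⟨e', he'⟩ := (yon S).map_surjective e.hom
  haveI : IsIso ((yon S).map e') := by rw [he']; infer_instance
  haveI : IsIso e' := isIso_of_fully_faithful (yon S) e'
  have h : e' ≫ i = hf.snd E.obj.hom := (yon S).map_injective (by
    rw [Functor.map_comp, he']
    exact IsPullback.isoIsPullback_hom_snd _ _ _ _)
  rw [← h, Over.comp_left]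
  haveI : IsIso e'.left := inferInstanceAs (IsIso ((Over.forget S).map e'))
  infer_instance

theorem weakAssEt_push_finite (hY : IsAlgSpace Y) (hfin : IsFiniteMor f) (M : ModEt X) [M.IsQuasicoherent] :
    WeakAssEt ((pushModEt hf).obj M) = Points.map f '' WeakAssEt M := by
  refine mem_push_of hf hY (isAffineMor_of_isFiniteMor hfin) M fun E _ _ w h => ?_
  refine isWeakAssOn_push hf M E w ?_ h
  intro N _ _ _ _ hN
  letI : Algebra (R E) (R ((EtOver.bc hf).obj E)) := (pushRes hf E).toAlgebra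
  haveI : Module.Finite (R E) (R ((EtOver.bc hf).obj E)) := by
    haveI := isFinite_bcπ hf hfin E
    haveI : IsAffine (hf.pullback E.obj.hom).left := ‹IsAffine ((EtOver.bc hf).obj E).obj.left.left›
    have h : (hf.snd E.obj.hom).left.appTop.hom.Finite :=
      HasAffineProperty.iff_of_isAffine (P := @IsFinite) |>.mp inferInstance |>.2
    letI : Algebra Γ(E.obj.left.left, ⊤) Γ((hf.pullback E.obj.hom).left, ⊤) :=
      (hf.snd E.obj.hom).left.appTop.hom.toAlgebra
    obtain ⟨s, hs⟩ := (h : Module.Finite Γ(E.obj.left.left, ⊤) Γ((hf.pullback E.obj.hom).left, ⊤)).fg_top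
    classical
    refine ⟨⟨s.image ULift.up, eq_top_iff.mpr fun b _ => ?_⟩⟩
    have hb : b.down ∈ Submodule.span Γ(E.obj.left.left, ⊤) (s : Set Γ((hf.pullback E.obj.hom).left, ⊤)) := by
      rw [hs]; trivial
    suffices ∀ c ∈ Submodule.span Γ(E.obj.left.left, ⊤) (s : Set Γ((hf.pullback E.obj.hom).left, ⊤)),
        (ULift.up c : R ((EtOver.bc hf).obj E)) ∈ Submodule.span (R E)
          ((s.image ULift.up : Finset (R ((EtOver.bc hf).obj E))) : Set (R ((EtOver.bc hf).obj E))) from this _ hb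
    intro c hc
    induction hc using Submodule.span_induction with
    | mem x hx => exact Submodule.subset_span (Finset.mem_coe.mpr (Finset.mem_image_of_mem _ hx))
    | zero => exact Submodule.zero_mem _
    | add x y _ _ hx hy => exact Submodule.add_mem _ hx hy
    | smul a x _ hx => exact Submodule.smul_mem _ (ULift.up a : R E) hx
  exact under_mem_weakAss_of_finite _ rfl hN

theorem weakAssEt_push_noetherian (hX : IsAlgSpace X) (hY : IsAlgSpace Y) (haff : IsAffineMor f)
    (hn : IsLocNoethSp X) (M : ModEt X) [M.IsQuasicoherent] :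
    WeakAssEt ((pushModEt hf).obj M) = Points.map f '' WeakAssEt M := by
  refine mem_push_of hf hY haff M fun E _ _ w h => ?_
  refine isWeakAssOn_push hf M E w ?_ h
  intro N _ _ _ _ hN
  letI : Algebra (R E) (R ((EtOver.bc hf).obj E)) := (pushRes hf E).toAlgebra
  haveI : IsLocallyNoetherian ((EtOver.bc hf).obj E).obj.left.left :=
    Groth.Agent.AlgSpLib.isLocallyNoetherian_chart hX hn ((EtOver.bc hf).obj E).property
  haveI : IsNoetherianRing Γ(((EtOver.bc hf).obj E).obj.left.left, ⊤) :=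
    IsLocallyNoetherian.component_noetherian ⟨⊤, isAffineOpen_top _⟩
  haveI : IsNoetherianRing (R ((EtOver.bc hf).obj E)) :=
    isNoetherianRing_of_ringEquiv Γ(((EtOver.bc hf).obj E).obj.left.left, ⊤) ULift.ringEquiv.symm
  exact comap_mem_weakAss_of_isNoetherianRing _ hN

end Groth.Agent.EtQC
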