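import Groth.Agent.EtQC.Coherent
import Groth.Agent.EtQC.WeakAssPushEq

/-!
Push forwards along affine and finite morphisms of quasi-coherent modules on small etale sites.
-/

set_option autoImplicit false
set_option linter.style.haveILetI false
set_option backward.isDefEq.respectTransparency false

universe u

noncomputable section

open CategoryTheory CategoryTheory.Limits AlgebraicGeometry Opposite AlgSp TensorProduct

namespace Groth.Agent.EtQC

variable {S : Scheme.{u}} {X Y : Sp S} {f : X ⟶ Y} (hf : Representable f)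

theorem isPullback_bc {E V : EtOver Y} (g : V ⟶ E) :
    IsPullback ((EtOver.bc hf).map g).hom.left.left (hf.snd V.obj.hom).left (hf.snd E.obj.hom).left g.hom.left.left := by
  have hbig : IsPullback ((yon S).map ((EtOver.bc hf).map g).hom.left ≫ hf.fst E.obj.hom)
      ((yon S).map (hf.snd V.obj.hom)) f ((yon S).map g.hom.left ≫ E.obj.hom) := by
    rw [EtOver.w g, EtOver.bc_map, EtOver.map_bcMap_fst]
    exact hf.isPullback V.obj.hom
  have hsq : IsPullback ((yon S).map ((EtOver.bc hf).map g).hom.left) ((yon S).map (hf.snd V.obj.hom))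
      ((yon S).map (hf.snd E.obj.hom)) ((yon S).map g.hom.left) :=
    IsPullback.of_right hbig (by
      rw [← Functor.map_comp, ← Functor.map_comp]
      exact congrArg (yon S).map (EtOver.bcMap_snd hf g))
      (hf.isPullback E.obj.hom)
  exact (hsq.of_map (yon S) (EtOver.bcMap_snd hf g)).map (Over.forget S)

theorem isQuasicoherent_push_affine (haff : IsAffineMor f) (M : ModEt X) [M.IsQuasicoherent] :
    ((pushModEt hf).obj M).IsQuasicoherent := by
  refine isQuasicoherent_of_isBaseChange fun {E V} _ _ g => ?_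
  let N := (pushModEt hf).obj M
  let E' := (EtOver.bc hf).obj E
  let V' := (EtOver.bc hf).obj V
  let g' : V' ⟶ E' := (EtOver.bc hf).map g
  haveI : IsAffine E'.obj.left.left := isAffine_bc hf haff E
  haveI : IsAffine V'.obj.left.left := isAffine_bc hf haff V
  letI : Algebra (R E) (R E') := (pushRes hf E).toAlgebra
  letI : Algebra (Rg g) (Rg g') := (pushRes hf V).toAlgebra
  letI : Algebra (R E) (Rg g') := ((algebraMap (R E') (Rg g')).comp (algebraMap (R E) (R E'))).toAlgebra
  haveI : IsScalarTower (R E) (R E') (Rg g') := IsScalarTower.of_algebraMap_eq' rfl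
  have hcomm : ∀ a, res g' (pushRes hf E a) = pushRes hf V (res g a) := fun a => by
    have h := congrArg (fun k => k.appTop.hom a.down) (isPullback_bc hf g).w
    simp only [Scheme.Hom.comp_appTop, CommRingCat.hom_comp, RingHom.comp_apply] at h
    exact congrArg ULift.up h
  haveI : IsScalarTower (R E) (Rg g) (Rg g') := IsScalarTower.of_algebraMap_eq fun a => hcomm a
  haveI : Algebra.IsPushout (R E) (Rg g) (R E') (Rg g') := by
    haveI : IsAffine (hf.pullback E.obj.hom).left := ‹IsAffine E'.obj.left.left›
    have hp := isPushout_appTop_of_isPullback (isPullback_bc hf g).flip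
    exact isPushout_of_ringEquiv _ _ _ _ hp ULift.ringEquiv.symm ULift.ringEquiv.symm ULift.ringEquiv.symm
      ULift.ringEquiv.symm (fun a => rfl) (fun a => rfl) (fun a => rfl) (fun a => rfl)
  letI : Module (R E) (sectModEt M E') := Module.compHom _ (algebraMap (R E) (R E'))
  haveI : IsScalarTower (R E) (R E') (sectModEt M E') := IsScalarTower.of_algebraMap_smul fun _ _ => rfl
  let Φ : Rg g ⊗[R E] sectModEt M E' →+ sectModEt M V' :=
    (LinearMap.liftBaseChange (Rg g) (resL N g)).toAddMonoidHom
  have hΦ : ∀ (b : Rg g) (m : sectModEt M E'),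
      Φ (b ⊗ₜ m) = (show Mg M g' from algebraMap (Rg g) (Rg g') b • resL M g' m) := fun b m =>
    LinearMap.liftBaseChange_tmul (Rg g) (resL N g) b m
  have hb : Function.Bijective Φ := bijective_lift_of_pushout (resL M g') (isBaseChange_res (M := M) g') Φ hΦ
  exact IsBaseChange.of_equiv (LinearEquiv.ofBijective (LinearMap.liftBaseChange (Rg g) (resL N g)) hb) fun m => by
    show LinearMap.liftBaseChange (Rg g) (resL N g) ((1 : Rg g) ⊗ₜ m) = _
    rw [LinearMap.liftBaseChange_tmul, one_smul]

theorem finite_pushRes (hfin : IsFiniteMor f) (E : EtOver Y) [IsAffine E.obj.left.left] :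
    letI : Algebra (R E) (R ((EtOver.bc hf).obj E)) := (pushRes hf E).toAlgebra
    Module.Finite (R E) (R ((EtOver.bc hf).obj E)) := by
  haveI := isFinite_bcπ hf hfin E
  haveI : IsAffine (hf.pullback E.obj.hom).left := isAffine_bc hf (isAffineMor_of_isFiniteMor hfin) E
  have h : (hf.snd E.obj.hom).left.appTop.hom.Finite :=
    HasAffineProperty.iff_of_isAffine (P := @IsFinite) |>.mp inferInstance |>.2
  have e : RingHom.Finite ((((ULift.ringEquiv.{u, u + 1} : ULift.{u + 1} Γ((hf.pullback E.obj.hom).left, ⊤) ≃+* _).symm.toRingHom).comp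
      (hf.snd E.obj.hom).left.appTop.hom).comp
      (ULift.ringEquiv.{u, u + 1} : ULift.{u + 1} Γ(E.obj.left.left, ⊤) ≃+* _).toRingHom) :=
    RingHom.Finite.comp (RingHom.Finite.comp
    (RingHom.Finite.of_surjective (ULift.ringEquiv.{u, u + 1} : ULift.{u + 1} Γ((hf.pullback E.obj.hom).left, ⊤) ≃+* _).symm.toRingHom
      (RingEquiv.surjective _)) h)
    (RingHom.Finite.of_surjective (ULift.ringEquiv.{u, u + 1} : ULift.{u + 1} Γ(E.obj.left.left, ⊤) ≃+* _).toRingHom
      (RingEquiv.surjective _))
  exact e

theorem isFinitePresentation_push (hY : IsAlgSpace Y) (hn : IsLocNoethSp Y) (hfin : IsFiniteMor f) (M : ModEt X)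
    [M.IsFinitePresentation] : ((pushModEt hf).obj M).IsFinitePresentation := by
  haveI := isQuasicoherent_push_affine hf (isAffineMor_of_isFiniteMor hfin) M
  refine isFinitePresentation_of_finite hY hn _ fun E _ => ?_
  haveI := isAffine_bc hf (isAffineMor_of_isFiniteMor hfin) E
  letI : Algebra (R E) (R ((EtOver.bc hf).obj E)) := (pushRes hf E).toAlgebra
  haveI := finite_pushRes hf hfin E
  haveI := finite_sections_of_isFiniteType (M := M) ((EtOver.bc hf).obj E)
  letI : Module (R ((EtOver.bc hf).obj E)) (sectModEt ((pushModEt hf).obj M) E) :=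
    inferInstanceAs (Module (R ((EtOver.bc hf).obj E)) (sectModEt M ((EtOver.bc hf).obj E)))
  haveI : IsScalarTower (R E) (R ((EtOver.bc hf).obj E)) (sectModEt ((pushModEt hf).obj M) E) :=
    IsScalarTower.of_algebraMap_smul fun a m => rfl
  haveI : Module.Finite (R ((EtOver.bc hf).obj E)) (sectModEt ((pushModEt hf).obj M) E) :=
    ‹Module.Finite (R ((EtOver.bc hf).obj E)) (sectModEt M ((EtOver.bc hf).obj E))›
  exact Module.Finite.trans (R ((EtOver.bc hf).obj E)) _

end Groth.Agent.EtQC
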