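import Groth.Agent.EtQC.PullQC
import Groth.Agent.EtQC.PushAff
import Groth.Agent.EtQC.CohColim
import Groth.Agent.AlgSpLib.FpqcProps
import Groth.Prelude.Def_AlgSpModX

/-!
Modules killed by the ideal of a closed subspace are direct images.
-/

set_option autoImplicit false
set_option linter.style.haveILetI false
set_option backward.isDefEq.respectTransparency false

universe u

noncomputable section

open CategoryTheory CategoryTheory.Limits AlgebraicGeometry Opposite AlgSp TensorProduct

namespace Groth.Agent.EtQC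

variable {S : Scheme.{u}} {Z X : Sp S} {i : Z ⟶ X}

theorem isAffineMor_of_closed (hi : RepWith @IsClosedImmersion i) : IsAffineMor i :=
  (Groth.Agent.AlgSpLib.isAffineMor_iff_repWith i).2 ⟨hi.1, fun _ _ g fst snd sq => by
    have : IsClosedImmersion snd.left := hi.2 g fst snd sq
    show _root_.AlgebraicGeometry.IsAffineHom snd.left
    infer_instance⟩

theorem isFiniteMor_of_closed (hi : RepWith @IsClosedImmersion i) : IsFiniteMor i :=
  (Groth.Agent.AlgSpLib.isFiniteMor_iff_repWith i).2 ⟨hi.1, fun _ _ g fst snd sq => by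
    have : IsClosedImmersion snd.left := hi.2 g fst snd sq
    show IsFinite snd.left
    infer_instance⟩

theorem bcR_eq_zero (hi : Representable i) {E : EtOver X} (hE : IsAffine E.obj.left.left)
    {a : Γ(E.obj.left.left, ⊤)} (ha : a ∈ (idealOfRep hi).ideal E hE) : bcR hi E (ULift.up a) = 0 :=
  congrArg ULift.up ((mem_idealOfRep_iff hi E hE a).1 ha)

theorem annihilated_push {I : IdealEt X} (hi : RepWith @IsClosedImmersion i) (hZ : IsCutOutBy I i) (G : ModEt Z)
    (E : EtOver X) (hE : IsAffine E.obj.left.left) (s : sectModEt ((pushModEt hi.1).obj G) E) :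
    I.ideal E hE ≤ annSect s := by
  intro a ha
  obtain ⟨hi', rfl⟩ := hZ
  refine (mem_annSect_iff s a).2 ?_
  show bcR hi.1 E (ULift.up a) • (show sectModEt G ((EtOver.bc hi.1).obj E) from s) = 0
  rw [bcR_eq_zero hi.1 hE ha, zero_smul]

variable (hi : RepWith @IsClosedImmersion i) [(SheafOfModules.pushforward.{u + 1} (bcRingHom hi.1)).IsRightAdjoint]

theorem surjective_bcR (E : EtOver X) [IsAffine E.obj.left.left] : Function.Surjective (bcR hi.1 E) := by
  haveI : IsClosedImmersion (hi.1.snd E.obj.hom).left := hi.2 _ _ _ (hi.1.isPullback E.obj.hom)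
  intro b
  obtain ⟨a, ha⟩ := (IsClosedImmersion.isAffine_surjective_of_isAffine (hi.1.snd E.obj.hom).left).2 b.down
  exact ⟨ULift.up a, congrArg ULift.up ha⟩

theorem bijective_unit (F : ModEt X) [F.IsQuasicoherent] (E : EtOver X) [hE : IsAffine E.obj.left.left]
    (h : ∀ s : sectModEt F E, (idealOfRep hi.1).ideal E hE ≤ annSect s) :
    Function.Bijective (appM ((pullPushAdjModEt hi.1).unit.app F) E) := by
  haveI : IsAffine ((EtOver.bc hi.1).obj E).obj.left.left := isAffine_bc hi.1 (isAffineMor_of_closed hi) E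
  let c : (EtOver.bc hi.1).obj E ⟶ (EtOver.bc hi.1).obj E := 𝟙 _
  let b := isBaseChange_pull hi.1 F c
  have hres : ∀ n, resC hi.1 F c n = (appM ((pullPushAdjModEt hi.1).unit.app F) E n) := fun n => resM_id _ _
  have hsur : Function.Surjective (algebraMap (R E) (Rc hi.1 c)) := fun r => by
    obtain ⟨a, ha⟩ := surjective_bcR hi E (show R ((EtOver.bc hi.1).obj E) from r)
    exact ⟨a, (res_id ((EtOver.bc hi.1).obj E) _).trans ha⟩
  have hmap : Function.Bijective (fun n : sectModEt F E => (1 : Rc hi.1 c) ⊗ₜ[R E] n) := by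
    have hker : ∀ a : R E, algebraMap (R E) (Rc hi.1 c) a = 0 → ∀ n : sectModEt F E, a • n = 0 := fun a ha n => by
      have h0 : bcR hi.1 E a = 0 := (res_id ((EtOver.bc hi.1).obj E) _).symm.trans ha
      exact (mem_annSect_iff n a.down).1 (h n ((mem_idealOfRep_iff hi.1 E hE a.down).2 (congrArg ULift.down h0)))
    choose g hg using hsur
    have hg' : ∀ a : R E, ∀ n : sectModEt F E, g (algebraMap (R E) (Rc hi.1 c) a) • n = a • n := fun a n => by
      rw [← sub_eq_zero, ← sub_smul]
      exact hker _ (by rw [map_sub, hg, sub_self]) n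
    let L : Rc hi.1 c ⊗[R E] sectModEt F E →ₗ[R E] sectModEt F E := TensorProduct.lift
      (LinearMap.mk₂ (R E) (fun r n => g r • n)
        (fun r r' n => by
          rw [← hg' (g r + g r') n |>.trans (add_smul _ _ n)]
          rw [map_add, hg, hg])
        (fun a r n => by
          rw [smul_smul, ← hg' (a * g r) n, map_mul, hg, Algebra.smul_def])
        (fun r n n' => smul_add _ _ _) (fun a r n => smul_comm _ _ _))
    refine ⟨fun n n' e => ?_, fun z => ?_⟩
    · have := congrArg L e
      simp only [L, TensorProduct.lift.tmul, LinearMap.mk₂_apply] at this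
      rw [← map_one (algebraMap (R E) (Rc hi.1 c)), hg', hg', one_smul, one_smul] at this
      exact this
    · induction z using TensorProduct.induction_on with
      | zero => exact ⟨0, TensorProduct.tmul_zero _ _⟩
      | tmul r n =>
        refine ⟨g r • n, ?_⟩
        show (1 : Rc hi.1 c) ⊗ₜ[R E] (g r • n) = r ⊗ₜ[R E] n
        rw [← TensorProduct.smul_tmul, Algebra.smul_def, mul_one, hg]
      | add z z' hz hz' =>
        obtain ⟨n, rfl⟩ := hz
        obtain ⟨n', rfl⟩ := hz'
        exact ⟨n + n', TensorProduct.tmul_add _ _ _⟩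
  have hb := b.equiv.bijective.comp hmap
  have heq : ∀ n, b.equiv ((1 : Rc hi.1 c) ⊗ₜ[R E] n) = resC hi.1 F c n := fun n => by
    rw [IsBaseChange.equiv_tmul, one_smul]
  exact ⟨fun n n' e => hb.1 (((heq n).trans (hres n)).trans (e.trans ((heq n').trans (hres n')).symm)),
    fun y => (hb.2 y).imp fun n hn => ((heq n).trans (hres n)).symm.trans hn⟩

theorem exists_push_iso (hX : IsAlgSpace X) (F : ModEt X) [F.IsQuasicoherent]
    (h : ∀ (E : EtOver X) (hE : IsAffine E.obj.left.left) (s : sectModEt F E),
      (idealOfRep hi.1).ideal E hE ≤ annSect s) :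
    Nonempty ((pushModEt hi.1).obj ((pullModEt hi.1).obj F) ≅ F) := by
  haveI : ((pullModEt hi.1).obj F).IsQuasicoherent := isQuasicoherent_pull hi.1 F hX
  haveI : ((pushModEt hi.1).obj ((pullModEt hi.1).obj F)).IsQuasicoherent :=
    isQuasicoherent_push_affine hi.1 (isAffineMor_of_closed hi) _
  let η : F ⟶ (pushModEt hi.1).obj ((pullModEt hi.1).obj F) := (pullPushAdjModEt hi.1).unit.app F
  haveI : Mono η := mono_of_appM_injective η fun E hE => (bijective_unit hi F E (h E hE)).1
  haveI : ∀ E : {E : EtOver X // IsAffine E.obj.left.left}, IsAffine E.1.obj.left.left := fun E => E.2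
  haveI : IsIso η := isIso_of_appM_surjective η
    (fun E : {E : EtOver X // IsAffine E.obj.left.left} => E.1) (fun x => by
      obtain ⟨E, hE, u, hu⟩ := exists_affine_chart_at hX x
      exact ⟨⟨E, hE⟩, u, hu⟩) fun E => (@bijective_unit S Z X i hi _ F _ E.1 E.2 (h E.1 E.2)).2
  exact ⟨(asIso η).symm⟩

theorem isFinitePresentation_pullClosed (hX : IsAlgSpace X) (hn : IsLocNoethSp X) (F : ModEt X)
    [F.IsFinitePresentation] : ((pullModEt hi.1).obj F).IsFinitePresentation :=
  isFinitePresentation_pull hi.1 F hX fun E _ => by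
    haveI := isNoetherianRing_R hX hn E
    haveI := finite_sections_of_isFiniteType (M := F) E
    exact Module.finitePresentation_of_finite _ _

end Groth.Agent.EtQC
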