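import Groth.Agent.EtQC.Sub
import Groth.Prelude.Def_AlgSpModX

/-!
Sections annihilated by a quasi-coherent ideal of finite type.
-/

set_option autoImplicit false
set_option linter.style.haveILetI false
set_option backward.isDefEq.respectTransparency false

universe u

noncomputable section

open CategoryTheory CategoryTheory.Limits AlgebraicGeometry Opposite AlgSp TensorProduct

namespace Groth.Agent.EtQC

variable {S : Scheme.{u}} {X : Sp S}

/-- a global function as an element of the ring of an object -/
abbrev upR (E : EtOver X) (a : Γ(E.obj.left.left, ⊤)) : R E := ULift.up a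

theorem res_upR {E V : EtOver X} (g : V ⟶ E) (a : Γ(E.obj.left.left, ⊤)) :
    res g (upR E a) = upR V (g.hom.left.left.appTop.hom a) := rfl

/-- the sections killed by an ideal of functions -/
def killed (F : ModEt X) (E : EtOver X) (I : Ideal Γ(E.obj.left.left, ⊤)) : Submodule (R E) (sectModEt F E) where
  carrier := {s | ∀ a ∈ I, upR E a • s = 0}
  add_mem' ha hb a h := by rw [smul_add, ha a h, hb a h, add_zero]
  zero_mem' a h := smul_zero _
  smul_mem' r s hs a h := by rw [smul_comm, hs a h, smul_zero]

theorem resM_mem_killed {F : ModEt X} {E V : EtOver X} (g : V ⟶ E) (I : Ideal Γ(E.obj.left.left, ⊤))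
    {s : sectModEt F E} (hs : s ∈ killed F E I) {J : Ideal Γ(V.obj.left.left, ⊤)}
    (hJ : J ≤ I.map g.hom.left.left.appTop.hom) : resM F g s ∈ killed F V J := by
  intro b hb
  have hb' := hJ hb
  rw [Ideal.map] at hb'
  clear hb
  induction hb' using Submodule.span_induction with
  | mem x hx =>
    obtain ⟨a, ha, rfl⟩ := hx
    rw [← res_upR g a, ← resM_smul, hs a ha, map_zero]
  | zero => exact zero_smul (R V) _
  | add x y _ _ hx hy =>
    show (upR V x + upR V y) • resM F g s = 0
    rw [add_smul, hx, hy, add_zero]
  | smul r x _ hx =>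
    show (upR V r * upR V x) • resM F g s = 0
    rw [mul_smul, hx, smul_zero]

theorem killed_le_span {F : ModEt X} [F.IsQuasicoherent] {E V : EtOver X} [IsAffine E.obj.left.left]
    [IsAffine V.obj.left.left] (g : V ⟶ E) (I : Ideal Γ(E.obj.left.left, ⊤)) (hI : I.FG)
    {J : Ideal Γ(V.obj.left.left, ⊤)} (hJ : I.map g.hom.left.left.appTop.hom ≤ J) :
    killed F V J ≤ Submodule.span (R V) (resM F g '' (killed F E I : Set (sectModEt F E))) := by
  classical
  obtain ⟨t, rfl⟩ := hI
  intro y hy
  refine Submodule.span_mono (Set.image_mono ?_) (mem_span_of_annihilated g (t.image (upR E)) y ?_)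
  · intro s hs a ha
    induction ha using Submodule.span_induction with
    | mem x hx => exact hs _ (Finset.mem_image_of_mem _ hx)
    | zero => exact zero_smul (R E) _
    | add x z _ _ hx hz =>
      show (upR E x + upR E z) • s = 0
      rw [add_smul, hx, hz, add_zero]
    | smul r x _ hx =>
      show (upR E r * upR E x) • s = 0
      rw [mul_smul, hx, smul_zero]
  · intro b hb
    obtain ⟨a, ha, rfl⟩ := Finset.mem_image.mp hb
    exact hy _ (hJ (Ideal.mem_map_of_mem _ (Ideal.subset_span ha)))

/-- the subsheaf of sections killed by an ideal sheaf -/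
def killedFam (I : IdealEt X) (hI : I.IsQCoh)
    (hft : ∀ (E : EtOver X) (hE : IsAffine E.obj.left.left), (I.ideal E hE).FG)
    (F : ModEt X) [F.IsQuasicoherent] : SubFam F where
  sub E hE := killed F E (I.ideal E hE)
  res_mem g hE hV _ hs := resM_mem_killed g _ hs (hI g hE hV)
  le_span g hE hV := killed_le_span g _ (hft _ hE) (I.map_le g hE hV)

end Groth.Agent.EtQC
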