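import Groth.Agent.EtQC.MaxSub
import Groth.Agent.EtQC.Killed
import Groth.Agent.EtQC.ClosedPull
import Groth.Agent.EtQC.ChartIso
import Mathlib.CategoryTheory.Adjunction.Basic

/-!
The counit for a closed immersion on quasi-coherent modules, and the sections killed by its ideal.
-/

set_option autoImplicit false
set_option linter.style.haveILetI false
set_option backward.isDefEq.respectTransparency false

universe u

noncomputable section

open CategoryTheory CategoryTheory.Limits AlgebraicGeometry Opposite AlgSp TensorProduct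

namespace Groth.Agent.EtQC

variable {S : Scheme.{u}} {X Z : Sp S} {i : Z ⟶ X}

theorem bijective_appM_of_base {A B : ModEt X} (φ : A ⟶ B) [A.IsQuasicoherent] [B.IsQuasicoherent]
    {E V : EtOver X} [IsAffine E.obj.left.left] [IsAffine V.obj.left.left] (g : V ⟶ E)
    (h : Function.Bijective (appM φ E)) : Function.Bijective (appM φ V) := by
  let eA := (isBaseChange_res (M := A) g).equiv
  let eB := (isBaseChange_res (M := B) g).equiv
  let e : sectModEt A E ≃ₗ[R E] sectModEt B E := LinearEquiv.ofBijective (appM φ E) h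
  have hsq : ∀ z, appM φ V (eA z) = eB (LinearEquiv.lTensor (Rg g) e z) := fun z => by
    induction z using TensorProduct.induction_on with
    | zero =>
      exact ((congrArg (appM φ V) (map_zero eA)).trans (map_zero _)).trans
        ((congrArg eB (map_zero _)).trans (map_zero eB)).symm
    | tmul r m =>
      rw [LinearEquiv.lTensor_tmul, IsBaseChange.equiv_tmul, IsBaseChange.equiv_tmul]
      refine (map_smul (appM φ V) (show R V from r) (resM A g m)).trans ?_
      exact congrArg (fun x : sectModEt B V => (show R V from r) • x) (resM_appM φ g m).symm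
    | add z z' hz hz' =>
      refine ((congrArg (appM φ V) (map_add eA z z')).trans (map_add _ _ _)).trans ?_
      exact (congrArg₂ (· + ·) hz hz').trans ((congrArg eB (map_add _ z z')).trans (map_add eB _ _)).symm
  refine ⟨fun s t hst => ?_, fun y => ?_⟩
  · obtain ⟨z, rfl⟩ := eA.surjective s
    obtain ⟨z', rfl⟩ := eA.surjective t
    rw [hsq, hsq] at hst
    exact congrArg eA ((LinearEquiv.lTensor (Rg g) e).injective (eB.injective hst))
  · obtain ⟨z, rfl⟩ := eB.surjective y
    obtain ⟨w, rfl⟩ := (LinearEquiv.lTensor (Rg g) e).surjective z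
    exact ⟨eA w, hsq w⟩

theorem isIso_of_bijective_local (hX : IsAlgSpace X) {A B : ModEt X} (φ : A ⟶ B) [A.IsQuasicoherent]
    [B.IsQuasicoherent]
    (h : ∀ (W : EtOver X) (x : W.obj.left.left), ∃ (V : EtOver X) (_ : IsAffine V.obj.left.left) (a : V ⟶ W),
      x ∈ Set.range a.hom.left.left ∧ Function.Bijective (appM φ V)) : IsIso φ := by
  haveI : Mono φ := mono_of_appM_injective φ fun W _ s t hst => by
    choose V hV a hx hb using h W
    refine eq_of_cover a (fun x => ⟨x, hx x⟩) fun x => (hb x).1 ?_
    rw [← resM_appM, ← resM_appM]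
    exact congrArg (resM B (a x)) hst
  haveI : ∀ V : {V : EtOver X // IsAffine V.obj.left.left ∧ Function.Bijective (appM φ V)},
      IsAffine V.1.obj.left.left := fun V => V.2.1
  exact isIso_of_appM_surjective φ
    (fun V : {V : EtOver X // IsAffine V.obj.left.left ∧ Function.Bijective (appM φ V)} => V.1) (fun x => by
      obtain ⟨E, hE, u, hu⟩ := exists_affine_chart_at hX x
      obtain ⟨V, hV, a, ⟨v, hv⟩, hb⟩ := h E u
      refine ⟨⟨V, hV, hb⟩, v, ?_⟩
      rw [← hu, ← hv, ← EtOver.w a, Groth.Agent.AlgSpLib.ofPt_comp]) fun V => V.2.2.2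

theorem isCutOutBy_idealOfRep (hi : RepWith @IsClosedImmersion i) : IsCutOutBy (idealOfRep hi.1) i := ⟨hi, rfl⟩

variable (hi : RepWith @IsClosedImmersion i) [(SheafOfModules.pushforward.{u + 1} (bcRingHom hi.1)).IsRightAdjoint]

theorem isIso_counit_closed (hX : IsAlgSpace X) (hZ : IsAlgSpace Z) (G : ModEt Z) [G.IsQuasicoherent] :
    IsIso ((pullPushAdjModEt hi.1).counit.app G) := by
  let adj := pullPushAdjModEt hi.1
  haveI : ((pushModEt hi.1).obj G).IsQuasicoherent := isQuasicoherent_push_affine hi.1 (isAffineMor_of_closed hi) G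
  haveI : ((pullModEt hi.1).obj ((pushModEt hi.1).obj G)).IsQuasicoherent :=
    isQuasicoherent_pull hi.1 ((pushModEt hi.1).obj G) hX
  haveI : ((pushModEt hi.1 ⋙ pullModEt hi.1).obj G).IsQuasicoherent :=
    ‹((pullModEt hi.1).obj ((pushModEt hi.1).obj G)).IsQuasicoherent›
  haveI : ((𝟭 (ModEt Z)).obj G).IsQuasicoherent := ‹G.IsQuasicoherent›
  refine isIso_of_bijective_local hZ (adj.counit.app G) fun W x => ?_
  obtain ⟨E, hE, V, hV, a, c, hx⟩ := exists_pull_chart hX hi.1 W x
  haveI := hE
  haveI := hV
  haveI : IsAffine ((EtOver.bc hi.1).obj E).obj.left.left := isAffine_bc hi.1 (isAffineMor_of_closed hi) E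
  refine ⟨V, hV, a, hx, bijective_appM_of_base (adj.counit.app G) c ?_⟩
  have hu := bijective_unit hi ((pushModEt hi.1).obj G) E
    (fun s => annihilated_push hi (isCutOutBy_idealOfRep hi) G E hE s)
  have ht : ∀ s, appM (adj.counit.app G) ((EtOver.bc hi.1).obj E)
      (appM (adj.unit.app ((pushModEt hi.1).obj G)) E s) = s :=
    fun s => congrArg (fun q : (pushModEt hi.1).obj G ⟶ (pushModEt hi.1).obj G => appM q E s)
      (adj.right_triangle_components G)
  refine ⟨fun s t hst => ?_, fun y => ⟨_, ht y⟩⟩
  obtain ⟨s', rfl⟩ := hu.2 s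
  obtain ⟨t', rfl⟩ := hu.2 t
  exact congrArg _ ((ht s').symm.trans (hst.trans (ht t')))

/-- families of sections killed by the ideal of a closed immersion -/
def killedFams (hi : Representable i) (F : ModEt X) : Set (SubFam F) :=
  {σ | ∀ (E : EtOver X) (hE : IsAffine E.obj.left.left),
    σ.sub E hE ≤ killed F E ((idealOfRep hi).ideal E hE)}

theorem sSup_killedFams_le (hi : Representable i) (F : ModEt X) (E : EtOver X) (hE : IsAffine E.obj.left.left) :
    (sSupFam (killedFams hi F)).sub E hE ≤ killed F E ((idealOfRep hi).ideal E hE) :=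
  iSup_le fun σ => σ.2 E hE

theorem annihilated_sSup_killedFams (hi : Representable i) (F : ModEt X) [F.IsQuasicoherent] (E : EtOver X)
    (hE : IsAffine E.obj.left.left) (s : sectModEt (sSupFam (killedFams hi F)).toMod E) :
    (idealOfRep hi).ideal E hE ≤ annSect s := by
  intro a ha
  refine (mem_annSect_iff s a).2 ((sSupFam (killedFams hi F)).ι_injective E ?_)
  rw [map_zero]
  refine (map_smul (appM (sSupFam (killedFams hi F)).ι E) (upR E a) s).trans ?_
  refine sSup_killedFams_le hi F E hE ?_ a ha
  rw [← SetLike.mem_coe, ← (sSupFam (killedFams hi F)).range_ι E hE]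
  exact ⟨s, rfl⟩

theorem imFam_mem_killedFams {F : ModEt X} {G : ModEt Z} [((pushModEt hi.1).obj G).IsQuasicoherent]
    (φ : (pushModEt hi.1).obj G ⟶ F) : imFam φ ∈ killedFams hi.1 F := fun E hE => by
  rintro _ ⟨s, rfl⟩ a ha
  have h := (mem_annSect_iff s a).1 (annihilated_push hi (isCutOutBy_idealOfRep hi) G E hE s ha)
  exact ((map_smul (appM φ E) (upR E a) s).symm.trans (congrArg (appM φ E) h)).trans (map_zero _)

theorem push_map_bijective (hX : IsAlgSpace X) (hZ : IsAlgSpace Z) (G H : ModEt Z) [G.IsQuasicoherent] :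
    Function.Bijective (fun ψ : G ⟶ H => (pushModEt hi.1).map ψ) := by
  let adj := pullPushAdjModEt hi.1
  haveI : IsIso (adj.counit.app G) := isIso_counit_closed hi hX hZ G
  refine ⟨fun ψ ψ' h => ?_, fun θ => ⟨inv (adj.counit.app G) ≫ (adj.homEquiv _ _).symm θ, ?_⟩⟩
  · have h' := congrArg (fun q => (pullModEt hi.1).map q ≫ adj.counit.app H) h
    simp only at h'
    erw [adj.counit_naturality, adj.counit_naturality] at h'
    exact (cancel_epi (adj.counit.app G)).mp h'
  · have he : (pushModEt hi.1).map (inv (adj.counit.app G)) = adj.unit.app ((pushModEt hi.1).obj G) := by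
      rw [Functor.map_inv]
      exact IsIso.inv_eq_of_inv_hom_id (adj.right_triangle_components G)
    show (pushModEt hi.1).map (inv (adj.counit.app G) ≫ (adj.homEquiv _ _).symm θ) = θ
    rw [Functor.map_comp, he]
    exact (adj.homEquiv_unit _ _ _).symm.trans ((adj.homEquiv _ _).apply_symm_apply θ)

end Groth.Agent.EtQC
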