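import Groth.Agent.EtQC.PreQC

/-!
Kernels and colimits of quasi-coherent modules on the small etale site are quasi-coherent.
-/

set_option autoImplicit false
set_option linter.style.haveILetI false
set_option backward.isDefEq.respectTransparency false

universe u v w

noncomputable section

open CategoryTheory CategoryTheory.Limits AlgebraicGeometry Opposite AlgSp TensorProduct

namespace Groth.Agent.EtQC

variable {S : Scheme.{u}} {X : Sp S}

theorem app_kernel_ι_injective {M N : ModEt X} (φ : M ⟶ N) (E : EtOver X) :
    Function.Injective ((kernel.ι φ).val.app (op E)) := by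
  haveI : Mono ((SheafOfModules.evaluation (OEtRing X) (op E)).map (kernel.ι φ)) := inferInstance
  exact (ModuleCat.mono_iff_injective ((SheafOfModules.evaluation (OEtRing X) (op E)).map (kernel.ι φ))).mp this

theorem app_injective_of_mono {M N : ModEt X} (φ : M ⟶ N) [Mono φ] (E : EtOver X) :
    Function.Injective (φ.val.app (op E)) := by
  haveI : Mono ((SheafOfModules.evaluation (OEtRing X) (op E)).map φ) := inferInstance
  exact (ModuleCat.mono_iff_injective ((SheafOfModules.evaluation (OEtRing X) (op E)).map φ)).mp this

/-- a map of modules on sections over an object -/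
abbrev appM {M N : ModEt X} (φ : M ⟶ N) (E : EtOver X) : sectModEt M E →ₗ[R E] sectModEt N E :=
  appPs φ.val E

theorem resM_appM {M N : ModEt X} (φ : M ⟶ N) {E V : EtOver X} (g : V ⟶ E) (m : sectModEt M E) :
    resM N g (appM φ E m) = appM φ V (resM M g m) :=
  (PresheafOfModules.naturality_apply φ.val g.op m).symm

theorem isQuasicoherent_kernel {M N : ModEt X} (φ : M ⟶ N) [M.IsQuasicoherent] [N.IsQuasicoherent] :
    (kernel φ).IsQuasicoherent := by
  refine isQuasicoherent_of_isBaseChange fun {E V} _ _ g => ?_
  haveI : Module.Flat (R E) (Rg g) := flat_res g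
  let θ := LinearMap.liftBaseChange (Rg g) (resL (kernel φ) g)
  let eM := (isBaseChange_res (M := M) g).equiv
  let eN := (isBaseChange_res (M := N) g).equiv
  have hex : Function.Exact (appM (kernel.ι φ) E) (appM φ E) := fun m => by
    constructor
    · intro hm
      obtain ⟨k, hk⟩ := GenSite.exists_kernel_lift φ m hm
      exact ⟨k, hk⟩
    · rintro ⟨k, rfl⟩
      exact congrArg (fun q : kernel φ ⟶ N => q.val.app (op E) k) (kernel.condition φ)
  have hb : Function.Bijective θ :=
    bijective_of_flat_exact (appM (kernel.ι φ) E) (appM φ E) (app_kernel_ι_injective φ E) hex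
      (appM (kernel.ι φ) V).toAddMonoidHom (appM φ V).toAddMonoidHom (app_kernel_ι_injective φ V)
      (fun k => congrArg (fun q : kernel φ ⟶ N => q.val.app (op V) k) (kernel.condition φ))
      θ.toAddMonoidHom eM.toLinearMap.toAddMonoidHom eN.toLinearMap.toAddMonoidHom eM.bijective eN.injective
      (fun b c => by
        show appM (kernel.ι φ) V (θ (b ⊗ₜ c)) = eM (b ⊗ₜ appM (kernel.ι φ) E c)
        rw [LinearMap.liftBaseChange_tmul, IsBaseChange.equiv_tmul]
        refine (map_smul (appM (kernel.ι φ) V) (show R V from b) _).trans ?_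
        exact congrArg ((show R V from b) • ·) (resM_appM (kernel.ι φ) g c).symm)
      (fun b p => by
        show appM φ V (eM (b ⊗ₜ p)) = eN (b ⊗ₜ appM φ E p)
        rw [IsBaseChange.equiv_tmul, IsBaseChange.equiv_tmul]
        refine (map_smul (appM φ V) (show R V from b) _).trans ?_
        exact congrArg ((show R V from b) • ·) (resM_appM φ g p).symm)
  exact IsBaseChange.of_equiv (LinearEquiv.ofBijective θ hb) fun m => by
    show θ ((1 : Rg g) ⊗ₜ m) = _
    rw [LinearMap.liftBaseChange_tmul, one_smul]

/-- a map of presheaves on sections -/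
def appPP {P P' : PresheafOfModules.{u + 1} (OEtRing X).obj} (τ : P ⟶ P') (E : EtOver X) : Ps P E →ₗ[R E] Ps P' E where
  toFun m := τ.app (op E) m
  map_add' := map_add (τ.app (op E)).hom
  map_smul' := map_smul (τ.app (op E)).hom

section Colimit

variable {J : Type v} [Category.{w} J] (F : J ⥤ PresheafOfModules.{u + 1} (OEtRing X).obj)

theorem isBC_of_isColimit {c : Cocone F} (hc : IsColimit c) (hF : ∀ j, IsBC (F.obj j))
    (hev : ∀ E : EtOver X, PreservesColimit F (PresheafOfModules.evaluation (OEtRing X).obj (op E))) :
    IsBC c.pt := by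
  intro E V _ _ g
  refine IsBaseChange.of_lift_unique _ fun Q _ mA mB _ q => ?_
  letI : AddCommGroup Q := Module.addCommMonoidToAddCommGroup (R E)
  letI mV : Module ((OEtRing X).obj.obj (op V)) Q := mB
  have := hev E
  have := hev V
  let hE := isColimitOfPreserves (PresheafOfModules.evaluation (OEtRing X).obj (op E)) hc
  let hV := isColimitOfPreserves (PresheafOfModules.evaluation (OEtRing X).obj (op V)) hc
  let ιE : ∀ j, Ps (F.obj j) E →ₗ[R E] Ps c.pt E := fun j => appPP (c.ι.app j) E
  let lj : ∀ j, Pg (F.obj j) g →ₗ[Rg g] Q := fun j => (hF j g).lift (q.comp (ιE j))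
  have hlj : ∀ j n, lj j (resP (F.obj j) g n) = q (ιE j n) := fun j n => (hF j g).lift_eq _ n
  let sV : Cocone (F ⋙ PresheafOfModules.evaluation (OEtRing X).obj (op V)) :=
    { pt := ModuleCat.of ((OEtRing X).obj.obj (op V)) Q
      ι :=
        { app := fun j => ModuleCat.ofHom (Y := Q) (lj j)
          naturality := fun i j f => by
            apply ModuleCat.hom_ext
            refine (hF i g).algHom_ext _ _ fun n => ?_
            show lj j ((F.map f).app (op V) (resP (F.obj i) g n)) = lj i (resP (F.obj i) g n)
            refine (congrArg (lj j) (PresheafOfModules.naturality_apply (F.map f) g.op n)).trans ?_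
            refine (hlj j _).trans (Eq.trans ?_ (hlj i n).symm)
            exact congrArg q (congrArg (fun k : F.obj i ⟶ c.pt => k.app (op E) n) (c.w f)) } }
  let G : Pg c.pt g →ₗ[Rg g] Q := (hV.desc sV).hom
  have hG : ∀ j n, G ((c.ι.app j).app (op V) n) = lj j n := fun j n =>
    congrArg (fun k => k.hom n) (hV.fac sV j)
  letI mE : Module ((OEtRing X).obj.obj (op E)) Q := mA
  let φE : Ps c.pt E →ₗ[R E] Q := (G.restrictScalars (R E)).comp (resPL c.pt g)
  let aE : (PresheafOfModules.evaluation (OEtRing X).obj (op E)).obj c.pt ⟶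
      ModuleCat.of ((OEtRing X).obj.obj (op E)) Q :=
    ModuleCat.ofHom { toFun := φE, map_add' := map_add φE, map_smul' := map_smul φE }
  let bE : (PresheafOfModules.evaluation (OEtRing X).obj (op E)).obj c.pt ⟶
      ModuleCat.of ((OEtRing X).obj.obj (op E)) Q :=
    ModuleCat.ofHom { toFun := q, map_add' := map_add q, map_smul' := map_smul q }
  refine ⟨G, ?_, fun G' hG' => ?_⟩
  · have h : aE = bE := by
      refine hE.hom_ext fun j => ModuleCat.hom_ext (LinearMap.ext fun n => ?_)
      refine (congrArg G (PresheafOfModules.naturality_apply (c.ι.app j) g.op n).symm).trans ?_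
      exact (hG j _).trans (hlj j n)
    exact LinearMap.ext fun m => congrArg (fun k => k.hom m) h
  · let aV : (PresheafOfModules.evaluation (OEtRing X).obj (op V)).obj c.pt ⟶
        ModuleCat.of ((OEtRing X).obj.obj (op V)) Q :=
      ModuleCat.ofHom { toFun := G', map_add' := map_add G', map_smul' := map_smul G' }
    have h : aV = hV.desc sV := by
      refine hV.hom_ext fun j => ModuleCat.hom_ext (LinearMap.ext fun n => ?_)
      refine Eq.trans ?_ (hG j n).symm
      let cj : Pg (F.obj j) g →ₗ[Rg g] Pg c.pt g := appPP (c.ι.app j) V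
      show G' (cj n) = lj j n
      refine LinearMap.congr_fun ((hF j g).algHom_ext (G'.comp cj) (lj j) fun n => ?_) n
      refine Eq.trans ?_ (hlj j n).symm
      refine (congrArg G' (PresheafOfModules.naturality_apply (c.ι.app j) g.op n)).trans ?_
      exact LinearMap.congr_fun hG' ((c.ι.app j).app (op E) n)
    exact LinearMap.ext fun m => congrArg (fun k => k.hom m) h

end Colimit

/-- the presheaf underlying a module -/
abbrev toPre (X : Sp S) : ModEt X ⥤ PresheafOfModules.{u + 1} (OEtRing X).obj :=
  SheafOfModules.forget (OEtRing X) ⋙ PresheafOfModules.restrictScalars (𝟙 (OEtRing X).obj)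

theorem isBC_toPre (M : ModEt X) [M.IsQuasicoherent] : IsBC ((toPre X).obj M) := fun {E V} [IsAffine E.obj.left.left] [IsAffine V.obj.left.left] g =>
  isBaseChange_res (M := M) g

theorem isQuasicoherent_colimit {J : Type v} [Category.{w} J] [HasColimitsOfShape J AddCommGrpCat.{u + 1}]
    (D : J ⥤ ModEt X) [HasColimit D] (hD : ∀ j, (D.obj j).IsQuasicoherent) : (colimit D).IsQuasicoherent := by
  let adj := PresheafOfModules.sheafificationAdjunction (R := OEtRing X) (𝟙 (OEtRing X).obj)
  let L := PresheafOfModules.sheafification (R := OEtRing X) (𝟙 (OEtRing X).obj)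
  let F := D ⋙ toPre X
  haveI : IsIso adj.counit := inferInstance
  haveI := adj.leftAdjoint_preservesColimits
  let e : D ≅ F ⋙ L := Functor.isoWhiskerLeft D (asIso adj.counit).symm
  let i : colimit D ≅ L.obj (colimit F) :=
    HasColimit.isoOfNatIso e ≪≫ (preservesColimitIso L F).symm
  have hP : IsBC (colimit F) := isBC_of_isColimit F (colimit.isColimit F)
    (fun j => by
      have := hD j
      exact fun {E V} [IsAffine E.obj.left.left] [IsAffine V.obj.left.left] g => isBaseChange_res (M := D.obj j) g) (fun E => inferInstance)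
  let ψ : colimit F ⟶ (L.obj (colimit F)).val := adj.unit.app (colimit F)
  haveI : Presheaf.IsLocallyInjective (etTop X) ((PresheafOfModules.toPresheaf _).map ψ) := by
    have h : (PresheafOfModules.toPresheaf _).map ψ = _ :=
      PresheafOfModules.toPresheaf_map_sheafificationAdjunction_unit_app (R := OEtRing X) (𝟙 (OEtRing X).obj) (colimit F)
    rw [h]
    exact (((etTop X).W_iff_isLocallyBijective _).mp ((etTop X).W_toSheafify _)).1
  haveI : Presheaf.IsLocallySurjective (etTop X) ((PresheafOfModules.toPresheaf _).map ψ) := by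
    have h : (PresheafOfModules.toPresheaf _).map ψ = _ :=
      PresheafOfModules.toPresheaf_map_sheafificationAdjunction_unit_app (R := OEtRing X) (𝟙 (OEtRing X).obj) (colimit F)
    rw [h]
    exact (((etTop X).W_iff_isLocallyBijective _).mp ((etTop X).W_toSheafify _)).2
  exact (SheafOfModules.isQuasicoherent (OEtRing X)).prop_of_iso i.symm (isQuasicoherent_of_locBij ψ hP)

theorem isQuasicoherent_cokernel {M N : ModEt X} (φ : M ⟶ N) [hM : M.IsQuasicoherent] [hN : N.IsQuasicoherent] :
    (cokernel φ).IsQuasicoherent :=
  isQuasicoherent_colimit (parallelPair φ 0) fun j => match j with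
    | WalkingParallelPair.zero => hM
    | WalkingParallelPair.one => hN

end Groth.Agent.EtQC
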