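import Groth.Agent.EtQC.CohColim
import Groth.Agent.AlgSpLib.QCompact

/-!
The coherent submodules of a quasi-coherent module on a Noetherian algebraic space: the functor from finite sets of
sections on an affine chart to coherent submodules is final.
-/

set_option autoImplicit false
set_option linter.style.haveILetI false
set_option backward.isDefEq.respectTransparency false

universe u

noncomputable section

open CategoryTheory CategoryTheory.Limits AlgebraicGeometry Opposite AlgSp TensorProduct

namespace Groth.Agent.EtQC

variable {S : Scheme.{u}} {X : Sp S} [QuasiSeparatedSpace ↥S] (hX : IsAlgSpace X) (hqs : IsQuasiSeparatedSp X)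
  (hn : IsLocNoethSp X) (M : ModEt X) [M.IsQuasicoherent] {E₀ : EtOver X} [IsAffine E₀.obj.left.left]
  (hs : RepWith @Surjective E₀.obj.hom)

/-- coherent submodules -/
abbrev CohSubobj : Type _ :=
  ObjectProperty.FullSubcategory (fun N : MonoOver M => SheafOfModules.IsFinitePresentation N.obj.left)

instance subsingleton_cohSubobj_hom (a b : CohSubobj M) : Subsingleton (a ⟶ b) :=
  ⟨fun f g => InducedCategory.hom_ext (Subsingleton.elim f.hom g.hom)⟩

/-- the coherent submodule generated by finitely many sections on the chart -/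
def chartFunctor : Finset (sectModEt M E₀) ⥤ CohSubobj M where
  obj t := ⟨MonoOver.mk (chartFam (M := M) (Submodule.span (R E₀) (t : Set (sectModEt M E₀))) hX hqs).ι,
    isFinitePresentation_chartFam hX hqs hn M hs t⟩
  map {t t'} h := ObjectProperty.homMk (MonoOver.homMk ((chartDiagram hX hqs M (E₀ := E₀)).map h)
    (((chartCocone hX hqs M (E₀ := E₀)).ι.naturality h).trans (Category.comp_id _)))
  map_id t := (subsingleton_cohSubobj_hom M _ _).elim _ _
  map_comp f g := (subsingleton_cohSubobj_hom M _ _).elim _ _

theorem exists_le_chartFunctor (N : CohSubobj M) :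
    ∃ t, Nonempty (N ⟶ (chartFunctor hX hqs hn M hs).obj t) := by
  classical
  haveI : N.obj.obj.left.IsFinitePresentation := N.property
  have hfin : Module.Finite (R E₀) (sectModEt N.obj.obj.left E₀) := finite_sections_of_isFiniteType E₀
  obtain ⟨g, hg⟩ := hfin.fg_top
  refine ⟨g.image (appM N.obj.obj.hom E₀), ⟨ObjectProperty.homMk (MonoOver.homMk
    (SubFam.lift _ N.obj.obj.hom fun E hE a => ?_) (SubFam.lift_ι _ _ _))⟩⟩
  intro W hW p q
  show resM M p (appM N.obj.obj.hom E a) ∈ _
  rw [resM_appM]
  have H : ∀ y : sectModEt N.obj.obj.left W, appM N.obj.obj.hom W y ∈ Submodule.span (R W)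
      (resM M q '' (↑(Submodule.span (R E₀) ((g.image (appM N.obj.obj.hom E₀) :) : Set (sectModEt M E₀)))
        : Set (sectModEt M E₀))) := fun y => by
    induction y using (isBaseChange_res (M := N.obj.obj.left) q).inductionOn with
    | zero => exact (map_zero (appM N.obj.obj.hom W)).symm ▸ Submodule.zero_mem _
    | tmul x =>
      refine Submodule.subset_span ⟨appM N.obj.obj.hom E₀ x, ?_, resM_appM N.obj.obj.hom q x⟩
      rw [SetLike.mem_coe, Finset.coe_image, Submodule.span_image, hg]
      exact Submodule.mem_map_of_mem Submodule.mem_top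
    | smul r y hy =>
      exact (LinearMap.map_smul (appM N.obj.obj.hom W) (r : R W) y).symm ▸ Submodule.smul_mem _ (r : R W) hy
    | add y y' hy hy' =>
      exact (map_add (appM N.obj.obj.hom W) y y').symm ▸ Submodule.add_mem _ hy hy'
  exact H _

theorem final_chartFunctor : (chartFunctor hX hqs hn M hs).Final := by
  haveI := isFiltered_finset M (E₀ := E₀)
  exact Functor.final_of_exists_of_isFiltered _ (exists_le_chartFunctor hX hqs hn M hs)
    fun {_ c} _ _ => ⟨c, 𝟙 c, Subsingleton.elim _ _⟩

include hX hqs hn hs in
theorem isFiltered_cohSubobj : IsFiltered (CohSubobj M) := by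
  classical
  haveI : IsFilteredOrEmpty (CohSubobj M) :=
    { cocone_objs := fun a b => by
        obtain ⟨t, ⟨f⟩⟩ := exists_le_chartFunctor hX hqs hn M hs a
        obtain ⟨t', ⟨f'⟩⟩ := exists_le_chartFunctor hX hqs hn M hs b
        exact ⟨_, f ≫ (chartFunctor hX hqs hn M hs).map (homOfLE (show t ≤ t ∪ t' from Finset.subset_union_left)),
          f' ≫ (chartFunctor hX hqs hn M hs).map (homOfLE (show t' ≤ t ∪ t' from Finset.subset_union_right)), trivial⟩
      cocone_maps := fun a b f g => ⟨b, 𝟙 b, Subsingleton.elim _ _⟩ }
  exact { nonempty := ⟨(chartFunctor hX hqs hn M hs).obj ∅⟩ }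

include hX hqs hn hs in
theorem nonempty_isColimit_cohSubobj [CompactSpace (Points X)] :
    Nonempty (IsColimit ((Over.forgetCocone M).whisker
      (ObjectProperty.ι (fun N : MonoOver M => SheafOfModules.IsFinitePresentation N.obj.left) ⋙
        MonoOver.forget M))) := by
  haveI := final_chartFunctor hX hqs hn M hs
  obtain ⟨h⟩ := nonempty_isColimit_chartCocone hX hqs M hs
  refine ⟨Functor.Final.isColimitWhiskerEquiv (chartFunctor hX hqs hn M hs) _ ?_⟩
  exact IsColimit.ofIsoColimit h (Cocone.ext (Iso.refl M) fun t => Category.comp_id _)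

end Groth.Agent.EtQC
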