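import Groth.Agent.EtQC.PullBC

/-!
The inverse image along a representable morphism preserves quasi-coherence and finite presentation.
-/

set_option autoImplicit false
set_option linter.style.haveILetI false
set_option backward.isDefEq.respectTransparency false

universe u

noncomputable section

open CategoryTheory CategoryTheory.Limits AlgebraicGeometry Opposite AlgSp TensorProduct

namespace Groth.Agent.EtQC

variable {S : Scheme.{u}} {X Y : Sp S} {f : X ⟶ Y}

/-- objects over the base change of affine objects -/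
theorem exists_pull_chart (hY : IsAlgSpace Y) (hf : Representable f) (W : EtOver X) (x : W.obj.left.left) :
    ∃ (E : EtOver Y) (_ : IsAffine E.obj.left.left) (V : EtOver X) (_ : IsAffine V.obj.left.left) (a : V ⟶ W)
      (_ : V ⟶ (EtOver.bc hf).obj E), x ∈ Set.range a.hom.left.left := by
  obtain ⟨E, hE, u, hu⟩ := exists_affine_chart_at hY (Points.ofPt (W.obj.hom ≫ f) x)
  obtain ⟨P, snd, fst, sq⟩ := E.property.1 (W.obj.hom ≫ f)
  have hsnd : Etale snd.left := E.property.2 (W.obj.hom ≫ f) fst snd sq
  obtain ⟨fst', hfst'⟩ := (yon S).map_surjective fst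
  subst hfst'
  obtain ⟨w, -, hw₂⟩ := (Groth.Agent.AlgSpLib.ofPt_eq_iff sq u x).1 hu
  let W₀ : EtOver X := EtOver.mk ((yon S).map snd ≫ W.obj.hom)
    (Groth.Agent.AlgSpLib.repWith_comp ((Groth.Agent.AlgSpLib.repWith_yon_iff _).2 hsnd) W.property)
  let a₁ : W₀ ⟶ W := EtOver.homMk (E := W₀) (E' := W) snd rfl
  let a₂ : W₀ ⟶ (EtOver.bc hf).obj E := EtOver.homMk (E := W₀) (E' := (EtOver.bc hf).obj E)
    (hf.lift ((yon S).map snd ≫ W.obj.hom) fst' (by
      rw [Category.assoc]
      exact sq.w.symm)) (hf.lift_fst _ _ _)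
  obtain ⟨V, hV, e, w', hw'⟩ := exists_affine_nhd W₀ w
  exact ⟨E, hE, V, hV, e ≫ a₁, e ≫ a₂, w', (congrArg (fun z => snd.left z) hw').trans hw₂⟩

variable (hf : Representable f) [(SheafOfModules.pushforward.{u + 1} (bcRingHom hf)).IsRightAdjoint]
  (G : ModEt Y) [G.IsQuasicoherent] {V : EtOver X} {E : EtOver Y} [IsAffine E.obj.left.left]
  [IsAffine V.obj.left.left] (c : V ⟶ (EtOver.bc hf).obj E)

include c in
theorem isBaseChange_of_chart {V' : EtOver X} [IsAffine V'.obj.left.left] (g : V' ⟶ V) :
    IsBaseChange (Rg g) (resL ((pullModEt hf).obj G) g) := by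
  let P := (pullModEt hf).obj G
  letI : Algebra (R E) (R V) := instAlgRc hf c
  letI : Algebra (R E) (Rg g) := inferInstanceAs (Algebra (R E) (Rc hf (g ≫ c)))
  letI : Module (R E) (sectModEt P V) := instModMc hf c P
  letI : Module (R E) (Mg P g) := instModMc hf (g ≫ c) P
  haveI : IsScalarTower (R E) (R V) (Rg g) := IsScalarTower.of_algebraMap_eq fun a =>
    res_comp c g (bcR hf E a)
  haveI : IsScalarTower (R E) (R V) (sectModEt P V) := IsScalarTower.of_algebraMap_smul fun _ _ => rfl
  haveI : IsScalarTower (R E) (Rg g) (Mg P g) := IsScalarTower.of_algebraMap_smul fun _ _ => rfl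
  haveI : IsScalarTower (R E) (R V) (Mg P g) := IsScalarTower.of_algebraMap_smul fun a m => by
    show res g (res c (bcR hf E a)) • (show sectModEt P V' from m) =
      res (g ≫ c) (bcR hf E a) • (show sectModEt P V' from m)
    rw [res_comp c g]
  let f₁ : sectModEt G E →ₗ[R E] sectModEt P V := resC hf G c
  have h1 : IsBaseChange (R V) f₁ := isBaseChange_pull hf G c
  refine IsBaseChange.of_comp (T := Rg g) h1 ?_
  have h2 : IsBaseChange (Rg g) (show sectModEt G E →ₗ[R E] Mg P g from resC hf G (g ≫ c)) :=
    isBaseChange_pull hf G (g ≫ c)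
  convert h2 using 1
  exact LinearMap.ext fun n => (resM_comp c g _).symm

theorem isQuasicoherent_pull (hY : IsAlgSpace Y) : ((pullModEt hf).obj G).IsQuasicoherent := by
  refine isQuasicoherent_of_local fun W x => ?_
  obtain ⟨E, hE, V, hV, a, c, hx⟩ := exists_pull_chart hY hf W x
  exact ⟨V, hV, a, hx, fun {V'} _ g => isBaseChange_of_chart hf G c g⟩

include c in
theorem finitePresentation_sections [Module.FinitePresentation (R E) (sectModEt G E)] :
    Module.FinitePresentation (R V) (sectModEt ((pullModEt hf).obj G) V) := by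
  haveI : Module.FinitePresentation (Rc hf c) (Rc hf c ⊗[R E] sectModEt G E) := inferInstance
  exact (Module.FinitePresentation.of_equiv (isBaseChange_pull hf G c).equiv :
    Module.FinitePresentation (Rc hf c) (Mc hf c ((pullModEt hf).obj G)))

theorem isFinitePresentation_pull (hY : IsAlgSpace Y)
    (hfp : ∀ (E : EtOver Y) [IsAffine E.obj.left.left], Module.FinitePresentation (R E) (sectModEt G E)) :
    ((pullModEt hf).obj G).IsFinitePresentation := by
  classical
  haveI := isQuasicoherent_pull hf G hY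
  let M := (pullModEt hf).obj G
  let I := {V : EtOver X // ∃ (_ : IsAffine V.obj.left.left) (E : EtOver Y) (_ : IsAffine E.obj.left.left),
    Nonempty (V ⟶ (EtOver.bc hf).obj E)}
  have hex : ∀ V : I, ∃ (σ : (M.over V.1).Presentation), σ.IsFinite := by
    rintro ⟨V, hV, E, hE, ⟨c⟩⟩
    haveI := hfp E
    obtain ⟨t, ht, hk⟩ := (finitePresentation_sections hf G c).out
    obtain ⟨r, hr⟩ := hk
    refine ⟨@presentationOfAffine S X M V hV (fun {W} hW g => isBaseChange_res (M := M) g) (↥t) (↥r) Subtype.val
      (by rw [Subtype.range_coe]; exact ht) Subtype.val (by rw [Subtype.range_coe]; exact hr), ?_⟩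
    exact { isFiniteType_generators := ⟨inferInstanceAs (Finite ↥t)⟩
            isFiniteType_relations := ⟨inferInstanceAs (Finite ↥r)⟩ }
  choose σ hσ using hex
  let q : M.QuasicoherentData :=
    { I := I
      X := fun V => V.1
      coversTop := fun W => Groth.Agent.AlgSpLib.StalkPoint.mem_etTop_of_jointly_surjective _ fun x => by
        obtain ⟨E, hE, V, hV, a, c, hx⟩ := exists_pull_chart hY hf W x
        exact ⟨V, a, ⟨⟨V, hV, E, hE, ⟨c⟩⟩, ⟨𝟙 V⟩⟩, hx⟩
      presentation := σ }
  have hq : q.IsFinitePresentation := { isFinite_presentation := fun i => hσ i }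
  constructor
  exact ⟨q, hq⟩

end Groth.Agent.EtQC
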