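import Groth.Agent.EtQC.ChartIso
import Groth.Agent.EtQC.PullQC
import Groth.Agent.EtQC.PushAff

/-!
Modules on a space affine over a Noetherian one: the diagram of finitely presented modules.
-/

set_option autoImplicit false
set_option linter.style.haveILetI false
set_option backward.isDefEq.respectTransparency false

universe u

noncomputable section

open CategoryTheory CategoryTheory.Limits AlgebraicGeometry Opposite AlgSp TensorProduct

namespace Groth.Agent.EtQC

variable {S : Scheme.{u}} {X Y : Sp S}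

theorem chartSub_map {A B : ModEt Y} [A.IsQuasicoherent] [B.IsQuasicoherent] (φ : A ⟶ B) {E₀ : EtOver Y}
    [IsAffine E₀.obj.left.left] {N : Submodule (R E₀) (sectModEt A E₀)} {N' : Submodule (R E₀) (sectModEt B E₀)}
    (h : N.map (appM φ E₀) ≤ N') {E : EtOver Y} {m : sectModEt A E} (hm : m ∈ chartSub A N E) :
    appM φ E m ∈ chartSub B N' E := by
  intro W hW a b
  rw [resM_appM]
  have h1 := Submodule.mem_map_of_mem (f := appM φ W) (hm W hW a b)
  rw [Submodule.map_span] at h1
  refine Submodule.span_mono ?_ h1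
  rintro _ ⟨_, ⟨x, hx, rfl⟩, rfl⟩
  exact ⟨appM φ E₀ x, h (Submodule.mem_map_of_mem hx), resM_appM φ b x⟩

variable [QuasiSeparatedSpace ↥S] {f : X ⟶ Y} (hf : Representable f)
  [(SheafOfModules.pushforward.{u + 1} (bcRingHom hf)).IsRightAdjoint]
  (hY : IsAlgSpace Y) (hqs : IsQuasiSeparatedSp Y) (haff : IsAffineMor f) (E₀ : EtOver Y)
  [IsAffine E₀.obj.left.left] (M : ModEt X) [M.IsQuasicoherent] [((pushModEt hf).obj M).IsQuasicoherent]

/-- finitely many sections of the direct image -/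
abbrev Idx₀ : Type (u + 1) := Finset (sectModEt ((pushModEt hf).obj M) E₀)

/-- inverse images of the submodules generated by finitely many sections -/
def pullFam : Idx₀ hf E₀ M ⥤ ModEt X :=
  chartDiagram hY hqs ((pushModEt hf).obj M) (E₀ := E₀) ⋙ pullModEt hf

/-- the map to the module -/
def pullFamHom (t : Idx₀ hf E₀ M) : (pullFam hf hY hqs E₀ M).obj t ⟶ M :=
  ((pullPushAdjModEt hf).homEquiv _ M).symm ((chartCocone hY hqs ((pushModEt hf).obj M) (E₀ := E₀)).ι.app t)

@[reassoc]
theorem pullFam_map_hom {t t' : Idx₀ hf E₀ M} (h : t ⟶ t') :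
    (pullFam hf hY hqs E₀ M).map h ≫ pullFamHom hf hY hqs E₀ M t' = pullFamHom hf hY hqs E₀ M t := by
  refine ((pullPushAdjModEt hf).homEquiv_naturality_left_symm _ _).symm.trans ?_
  exact congrArg ((pullPushAdjModEt hf).homEquiv _ M).symm
    (((chartCocone hY hqs ((pushModEt hf).obj M) (E₀ := E₀)).ι.naturality h).trans (Category.comp_id _))

/-- the relations -/
abbrev relMod (t : Idx₀ hf E₀ M) : ModEt X := kernel (pullFamHom hf hY hqs E₀ M t)

/-- the map of relations -/
def relMap {t t' : Idx₀ hf E₀ M} (h : t ⟶ t') : relMod hf hY hqs E₀ M t ⟶ relMod hf hY hqs E₀ M t' :=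
  kernel.lift _ (kernel.ι _ ≫ (pullFam hf hY hqs E₀ M).map h) (by
    rw [Category.assoc, pullFam_map_hom, kernel.condition])

@[reassoc]
theorem relMap_ι {t t' : Idx₀ hf E₀ M} (h : t ⟶ t') :
    relMap hf hY hqs E₀ M h ≫ kernel.ι _ = kernel.ι _ ≫ (pullFam hf hY hqs E₀ M).map h := kernel.lift_ι _ _ _

theorem relMap_id (t : Idx₀ hf E₀ M) : relMap hf hY hqs E₀ M (𝟙 t) = 𝟙 _ := by
  rw [← cancel_mono (kernel.ι _), relMap_ι, CategoryTheory.Functor.map_id, Category.comp_id, Category.id_comp]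

theorem relMap_comp {t t' t'' : Idx₀ hf E₀ M} (h : t ⟶ t') (h' : t' ⟶ t'') :
    relMap hf hY hqs E₀ M (h ≫ h') = relMap hf hY hqs E₀ M h ≫ relMap hf hY hqs E₀ M h' := by
  rw [← cancel_mono (kernel.ι _), Category.assoc, relMap_ι, relMap_ι, relMap_ι_assoc, Functor.map_comp]

/-- finitely many generators and finitely many relations -/
structure Idx : Type (u + 1) where
  /-- generators -/
  gens : Idx₀ hf E₀ M
  /-- relations -/
  rels : Finset (sectModEt ((pushModEt hf).obj (relMod hf hY hqs E₀ M gens)) E₀)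

/-- relations are carried along -/
def Idx.Le (j j' : Idx hf hY hqs E₀ M) : Prop :=
  ∃ h : j.gens ≤ j'.gens, ∀ x ∈ j.rels, appM ((pushModEt hf).map (relMap hf hY hqs E₀ M (homOfLE h))) E₀ x ∈ j'.rels

instance : Preorder (Idx hf hY hqs E₀ M) where
  le := Idx.Le hf hY hqs E₀ M
  le_refl j := ⟨le_rfl, fun x hx => by
    rw [show homOfLE (le_refl j.gens) = 𝟙 _ from rfl, relMap_id, CategoryTheory.Functor.map_id]
    exact hx⟩
  le_trans j j' j'' := fun ⟨h, hx⟩ ⟨h', hx'⟩ => ⟨h.trans h', fun x hm => by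
    rw [show homOfLE (h.trans h') = homOfLE h ≫ homOfLE h' from rfl, relMap_comp, Functor.map_comp]
    exact hx' _ (hx x hm)⟩

theorem Idx.le_def (j j' : Idx hf hY hqs E₀ M) : j ≤ j' ↔ Idx.Le hf hY hqs E₀ M j j' := Iff.rfl

theorem isFiltered_idx : IsFiltered (Idx hf hY hqs E₀ M) := by
  classical
  haveI : Nonempty (Idx hf hY hqs E₀ M) := ⟨⟨∅, ∅⟩⟩
  haveI : IsDirected (Idx hf hY hqs E₀ M) (· ≤ ·) := ⟨fun a b => by
    let t := a.gens ∪ b.gens
    have ha : a.gens ≤ t := Finset.subset_union_left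
    have hb : b.gens ≤ t := Finset.subset_union_right
    refine ⟨⟨t, a.rels.image (appM ((pushModEt hf).map (relMap hf hY hqs E₀ M (homOfLE ha))) E₀) ∪
      b.rels.image (appM ((pushModEt hf).map (relMap hf hY hqs E₀ M (homOfLE hb))) E₀)⟩,
      ⟨ha, fun x hx => Finset.mem_union_left _ (Finset.mem_image_of_mem _ hx)⟩,
      ⟨hb, fun x hx => Finset.mem_union_right _ (Finset.mem_image_of_mem _ hx)⟩⟩⟩
  infer_instance

variable [∀ t : Idx₀ hf E₀ M, ((pushModEt hf).obj (relMod hf hY hqs E₀ M t)).IsQuasicoherent]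

/-- the submodule generated by the relations -/
abbrev relFam (j : Idx hf hY hqs E₀ M) : SubFam ((pushModEt hf).obj (relMod hf hY hqs E₀ M j.gens)) :=
  chartFam (M := (pushModEt hf).obj (relMod hf hY hqs E₀ M j.gens))
    (Submodule.span (R E₀) (j.rels : Set (sectModEt ((pushModEt hf).obj (relMod hf hY hqs E₀ M j.gens)) E₀))) hY hqs

/-- the relations in the inverse image -/
def relHom' (j : Idx hf hY hqs E₀ M) :
    (pullModEt hf).obj (relFam hf hY hqs E₀ M j).toMod ⟶ (pullFam hf hY hqs E₀ M).obj j.gens :=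
  ((pullPushAdjModEt hf).homEquiv _ _).symm (relFam hf hY hqs E₀ M j).ι ≫ kernel.ι _

@[reassoc]
theorem relHom'_hom (j : Idx hf hY hqs E₀ M) :
    relHom' hf hY hqs E₀ M j ≫ pullFamHom hf hY hqs E₀ M j.gens = 0 := by
  rw [relHom', Category.assoc, kernel.condition, comp_zero]

theorem exists_relHom'_map {j j' : Idx hf hY hqs E₀ M} (h : j ≤ j') :
    ∃ q, relHom' hf hY hqs E₀ M j ≫ (pullFam hf hY hqs E₀ M).map (homOfLE h.1) = q ≫ relHom' hf hY hqs E₀ M j' := by
  obtain ⟨h₀, hx⟩ := h
  let σ' := relFam hf hY hqs E₀ M j'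
  let k := (pushModEt hf).map (relMap hf hY hqs E₀ M (homOfLE h₀))
  let L := σ'.lift ((relFam hf hY hqs E₀ M j).ι ≫ k) fun E hE a => by
    refine chartSub_map k ?_ (((relFam hf hY hqs E₀ M j).range_ι E hE).le ⟨a, rfl⟩)
    rw [Submodule.map_span]
    exact Submodule.span_le.2 (by
      rintro _ ⟨x, hm, rfl⟩
      exact Submodule.subset_span (hx x hm))
  refine ⟨(pullModEt hf).map L, ?_⟩
  rw [relHom', relHom', Category.assoc, ← relMap_ι, ← Category.assoc, ← Category.assoc]
  refine congrArg (· ≫ kernel.ι _) ?_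
  rw [← Adjunction.homEquiv_naturality_right_symm, ← Adjunction.homEquiv_naturality_left_symm]
  exact congrArg ((pullPushAdjModEt hf).homEquiv _ _).symm (SubFam.lift_ι _ _ _).symm

/-- the diagram -/
def presDiagram : Idx hf hY hqs E₀ M ⥤ ModEt X where
  obj j := cokernel (relHom' hf hY hqs E₀ M j)
  map {j j'} g := cokernel.desc _ ((pullFam hf hY hqs E₀ M).map (homOfLE g.le.1) ≫ cokernel.π _) (by
    obtain ⟨q, hq⟩ := exists_relHom'_map hf hY hqs E₀ M g.le
    rw [← Category.assoc, hq, Category.assoc, cokernel.condition, comp_zero])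
  map_id j := by
    rw [← cancel_epi (cokernel.π _), cokernel.π_desc, Category.comp_id]
    exact (congrArg (· ≫ cokernel.π _) ((pullFam hf hY hqs E₀ M).map_id j.gens)).trans (Category.id_comp _)
  map_comp {a b c} g g' := by
    rw [← cancel_epi (cokernel.π _), cokernel.π_desc, cokernel.π_desc_assoc, Category.assoc, cokernel.π_desc,
      ← Category.assoc, ← Functor.map_comp]
    rfl

/-- the cocone -/
def presCocone : Cocone (presDiagram hf hY hqs E₀ M) where
  pt := M
  ι :=
    { app := fun j => cokernel.desc _ (pullFamHom hf hY hqs E₀ M j.gens) (relHom'_hom hf hY hqs E₀ M j)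
      naturality := fun j j' g => by
        show (presDiagram hf hY hqs E₀ M).map g ≫ cokernel.desc _ _ _ = cokernel.desc _ _ _ ≫ 𝟙 M
        rw [Category.comp_id, ← cancel_epi (cokernel.π _)]
        show cokernel.π _ ≫ cokernel.desc _ _ _ ≫ cokernel.desc _ _ _ = cokernel.π _ ≫ cokernel.desc _ _ _
        rw [cokernel.π_desc_assoc, Category.assoc, cokernel.π_desc, cokernel.π_desc]
        exact pullFam_map_hom hf hY hqs E₀ M _ }

end Groth.Agent.EtQC
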