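import Groth.Agent.EtQC.ChartIso

/-!
Filtered colimits of quasi-coherent modules recognised on one covering affine chart.
-/

set_option autoImplicit false
set_option linter.style.haveILetI false
set_option backward.isDefEq.respectTransparency false

universe u

noncomputable section

open CategoryTheory CategoryTheory.Limits AlgebraicGeometry Opposite AlgSp TensorProduct

namespace Groth.Agent.EtQC

variable {S : Scheme.{u}} {X : Sp S}

theorem isColimit_of_chart (hX : IsAlgSpace X) {E : EtOver X} [IsAffine E.obj.left.left]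
    (hs : RepWith @Surjective E.obj.hom) {J : Type (u + 1)} [SmallCategory J] [IsFiltered J] {D : J ⥤ ModEt X}
    [∀ j, (D.obj j).IsQuasicoherent] (c : Cocone D) [c.pt.IsQuasicoherent]
    (hsurj : ∀ m : sectModEt c.pt E, ∃ j a, appM (c.ι.app j) E a = m)
    (hinj : ∀ j (a : sectModEt (D.obj j) E), appM (c.ι.app j) E a = 0 →
      ∃ (j' : J) (g : j ⟶ j'), appM (D.map g) E a = 0) :
    Nonempty (IsColimit c) := by
  haveI := isQuasicoherent_colimit D (fun j => inferInstance)
  let φ : colimit D ⟶ c.pt := colimit.desc D c
  have happ : ∀ j (a : sectModEt (D.obj j) E), appM φ E (appM (colimit.ι D j) E a) = appM (c.ι.app j) E a :=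
    fun j a => congrArg (fun q : D.obj j ⟶ c.pt => appM q E a) (colimit.ι_desc c j)
  have hb : Function.Bijective (appM φ E) := by
    refine ⟨(injective_iff_map_eq_zero (appM φ E)).mpr fun z hz => ?_, fun m => ?_⟩
    · obtain ⟨j, a, rfl⟩ := exists_colimit_section D E z
      rw [happ] at hz
      obtain ⟨j', g, hg⟩ := hinj j a hz
      rw [← colimit.w D g]
      show appM (colimit.ι D j') E (appM (D.map g) E a) = 0
      rw [hg, map_zero]
    · obtain ⟨j, a, rfl⟩ := hsurj m
      exact ⟨_, happ j a⟩
  haveI : IsIso φ := isIso_of_bijective_chart hX hs φ hb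
  exact ⟨IsColimit.ofIsoColimit (colimit.isColimit D) (Cocone.ext (asIso φ) fun j => colimit.ι_desc c j)⟩

end Groth.Agent.EtQC
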