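import Groth.Agent.EtQC.CohPull
import Groth.Agent.EtQC.ColimCrit

/-!
A quasi-coherent module on a space affine over a Noetherian one is a filtered colimit of finitely presented ones.
-/

set_option autoImplicit false
set_option linter.style.haveILetI false
set_option backward.isDefEq.respectTransparency false

universe u

noncomputable section

open CategoryTheory CategoryTheory.Limits AlgebraicGeometry Opposite AlgSp TensorProduct

namespace Groth.Agent.EtQC

variable {S : Scheme.{u}} {X Y : Sp S}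

theorem appM_symm_unit {f : X ⟶ Y} (hf : Representable f)
    [(SheafOfModules.pushforward.{u + 1} (bcRingHom hf)).IsRightAdjoint] {G : ModEt Y} {M : ModEt X}
    (g : G ⟶ (pushModEt hf).obj M) (W : EtOver Y) (s : sectModEt G W) :
    appM (((pullPushAdjModEt hf).homEquiv G M).symm g) ((EtOver.bc hf).obj W)
      (appM ((pullPushAdjModEt hf).unit.app G) W s) = appM g W s := by
  have h := pull_homEquiv hf (((pullPushAdjModEt hf).homEquiv G M).symm g) W s
  rw [Equiv.apply_symm_apply] at h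
  exact h.symm

theorem surjective_bc {f : X ⟶ Y} (hf : Representable f) (E₀ : EtOver Y) (hs : RepWith @Surjective E₀.obj.hom) :
    RepWith @Surjective ((EtOver.bc hf).obj E₀).obj.hom :=
  (Groth.Agent.AlgSpLib.repWith_baseChange (hf.isPullback E₀.obj.hom).flip hs :
    RepWith @Surjective (hf.fst E₀.obj.hom))

variable [QuasiSeparatedSpace ↥S] {f : X ⟶ Y} (hf : Representable f)
  [(SheafOfModules.pushforward.{u + 1} (bcRingHom hf)).IsRightAdjoint]
  (hX : IsAlgSpace X) (hY : IsAlgSpace Y) (hqs : IsQuasiSeparatedSp Y) (hn : IsLocNoethSp Y) (E₀ : EtOver Y)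
  [IsAffine E₀.obj.left.left] [IsAffine ((EtOver.bc hf).obj E₀).obj.left.left]
  (hs : RepWith @Surjective E₀.obj.hom) (M : ModEt X) [M.IsQuasicoherent]
  [((pushModEt hf).obj M).IsQuasicoherent]
  [∀ t : Idx₀ hf E₀ M, ((pushModEt hf).obj (relMod hf hY hqs E₀ M t)).IsQuasicoherent]

include hn hs in
omit [IsAffine ((EtOver.bc hf).obj E₀).obj.left.left] in
theorem isFinitePresentation_sections_sub {A : ModEt Y} [A.IsQuasicoherent] (t : Finset (sectModEt A E₀)) :
    Module.FinitePresentation (R E₀)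
      (sectModEt (chartFam (M := A) (Submodule.span (R E₀) (t : Set (sectModEt A E₀))) hY hqs).toMod E₀) := by
  haveI := isFinitePresentation_chartFam hY hqs hn A hs t
  haveI := isNoetherianRing_R hY hn E₀
  haveI := finite_sections_of_isFiniteType
    (M := (chartFam (M := A) (Submodule.span (R E₀) (t : Set (sectModEt A E₀))) hY hqs).toMod) E₀
  exact Module.finitePresentation_of_finite _ _

omit [IsAffine ((EtOver.bc hf).obj E₀).obj.left.left] [∀ t : Idx₀ hf E₀ M, ((pushModEt hf).obj (relMod hf hY hqs E₀ M t)).IsQuasicoherent] in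
theorem isQuasicoherent_pullFam (t : Idx₀ hf E₀ M) : ((pullFam hf hY hqs E₀ M).obj t).IsQuasicoherent := by
  haveI := (pushFamQC hY hqs E₀ ((pushModEt hf).obj M) t)
  exact isQuasicoherent_pull hf _ hY
where
  pushFamQC {Y : Sp S} (hY : IsAlgSpace Y) (hqs : IsQuasiSeparatedSp Y) (E₀ : EtOver Y) [IsAffine E₀.obj.left.left]
      (A : ModEt Y) [A.IsQuasicoherent] (t : Finset (sectModEt A E₀)) :
      ((chartDiagram hY hqs A (E₀ := E₀)).obj t).IsQuasicoherent :=
    SubFam.isQuasicoherent_toMod _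

include hn hs in
theorem finitePresentation_presDiagram (j : Idx hf hY hqs E₀ M) :
    Module.FinitePresentation (R ((EtOver.bc hf).obj E₀))
      (sectModEt ((presDiagram hf hY hqs E₀ M).obj j) ((EtOver.bc hf).obj E₀)) := by
  let E' := (EtOver.bc hf).obj E₀
  haveI := isQuasicoherent_pullFam hf hY hqs E₀ M j.gens
  haveI : (relFam hf hY hqs E₀ M j).toMod.IsQuasicoherent := SubFam.isQuasicoherent_toMod _
  haveI : ((pullModEt hf).obj (relFam hf hY hqs E₀ M j).toMod).IsQuasicoherent := isQuasicoherent_pull hf _ hY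
  haveI : (cokernel (relHom' hf hY hqs E₀ M j)).IsQuasicoherent := isQuasicoherent_cokernel _
  haveI : ((chartDiagram hY hqs ((pushModEt hf).obj M) (E₀ := E₀)).obj j.gens).IsQuasicoherent :=
    SubFam.isQuasicoherent_toMod _
  haveI h1 : Module.FinitePresentation (R E₀)
      (sectModEt ((chartDiagram hY hqs ((pushModEt hf).obj M) (E₀ := E₀)).obj j.gens) E₀) :=
    isFinitePresentation_sections_sub hY hqs hn E₀ hs j.gens
  haveI : Module.FinitePresentation (R E') (sectModEt ((pullFam hf hY hqs E₀ M).obj j.gens) E') :=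
    finitePresentation_sections hf ((chartDiagram hY hqs ((pushModEt hf).obj M) (E₀ := E₀)).obj j.gens) (𝟙 E')
  haveI h2 : Module.FinitePresentation (R E₀) (sectModEt (relFam hf hY hqs E₀ M j).toMod E₀) :=
    isFinitePresentation_sections_sub hY hqs hn E₀ hs j.rels
  haveI : Module.FinitePresentation (R E') (sectModEt ((pullModEt hf).obj (relFam hf hY hqs E₀ M j).toMod) E') :=
    finitePresentation_sections hf (relFam hf hY hqs E₀ M j).toMod (𝟙 E')
  refine Module.finitePresentation_of_surjective (appM (cokernel.π (relHom' hf hY hqs E₀ M j)) E')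
    (appM_surjective_of_epi _ E') ?_
  rw [exact_cokernel_appM, LinearMap.range_eq_map]
  exact Module.Finite.fg_top.map _

include hX hn hs in
theorem isFinitePresentation_presDiagram (j : Idx hf hY hqs E₀ M) :
    ((presDiagram hf hY hqs E₀ M).obj j).IsFinitePresentation := by
  haveI := isQuasicoherent_pullFam hf hY hqs E₀ M j.gens
  haveI : (relFam hf hY hqs E₀ M j).toMod.IsQuasicoherent := SubFam.isQuasicoherent_toMod _
  haveI : ((pullModEt hf).obj (relFam hf hY hqs E₀ M j).toMod).IsQuasicoherent := isQuasicoherent_pull hf _ hY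
  haveI : ((presDiagram hf hY hqs E₀ M).obj j).IsQuasicoherent := isQuasicoherent_cokernel _
  haveI := finitePresentation_presDiagram hf hY hqs hn E₀ hs M j
  exact isFinitePresentation_of_chart (E₀ := (EtOver.bc hf).obj E₀) hX (surjective_bc hf E₀ hs) _

omit [IsAffine ((EtOver.bc hf).obj E₀).obj.left.left] in
theorem isQuasicoherent_presDiagram (j : Idx hf hY hqs E₀ M) :
    ((presDiagram hf hY hqs E₀ M).obj j).IsQuasicoherent := by
  haveI := isQuasicoherent_pullFam hf hY hqs E₀ M j.gens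
  haveI : (relFam hf hY hqs E₀ M j).toMod.IsQuasicoherent := SubFam.isQuasicoherent_toMod _
  haveI : ((pullModEt hf).obj (relFam hf hY hqs E₀ M j).toMod).IsQuasicoherent := isQuasicoherent_pull hf _ hY
  exact isQuasicoherent_cokernel _

/-- the projection to an object of the diagram -/
def presπ (j : Idx hf hY hqs E₀ M) : (pullFam hf hY hqs E₀ M).obj j.gens ⟶ (presDiagram hf hY hqs E₀ M).obj j :=
  cokernel.π (relHom' hf hY hqs E₀ M j)

theorem presπ_surjective (j : Idx hf hY hqs E₀ M) :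
    Function.Surjective (appM (presπ hf hY hqs E₀ M j) ((EtOver.bc hf).obj E₀)) := by
  haveI := isQuasicoherent_pullFam hf hY hqs E₀ M j.gens
  haveI : (cokernel (relHom' hf hY hqs E₀ M j)).IsQuasicoherent := isQuasicoherent_presDiagram hf hY hqs E₀ M j
  exact appM_surjective_of_epi (cokernel.π (relHom' hf hY hqs E₀ M j)) _

omit [IsAffine ((EtOver.bc hf).obj E₀).obj.left.left] in
theorem presCocone_π (j : Idx hf hY hqs E₀ M) :
    presπ hf hY hqs E₀ M j ≫ (presCocone hf hY hqs E₀ M).ι.app j = pullFamHom hf hY hqs E₀ M j.gens := by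
  show cokernel.π _ ≫ cokernel.desc _ _ _ = _
  rw [cokernel.π_desc]

omit [IsAffine ((EtOver.bc hf).obj E₀).obj.left.left] in
theorem presπ_map {j : Idx hf hY hqs E₀ M} (rels' : Finset (sectModEt ((pushModEt hf).obj (relMod hf hY hqs E₀ M j.gens)) E₀))
    (g : j ⟶ (⟨j.gens, rels'⟩ : Idx hf hY hqs E₀ M)) :
    presπ hf hY hqs E₀ M j ≫ (presDiagram hf hY hqs E₀ M).map g =
      presπ hf hY hqs E₀ M ⟨j.gens, rels'⟩ := by
  show cokernel.π _ ≫ cokernel.desc _ _ _ = cokernel.π _
  rw [cokernel.π_desc]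
  exact (congrArg (· ≫ cokernel.π _) ((pullFam hf hY hqs E₀ M).map_id j.gens)).trans (Category.id_comp _)

omit [IsAffine ((EtOver.bc hf).obj E₀).obj.left.left] in
theorem pres_surj (m : sectModEt M ((EtOver.bc hf).obj E₀)) :
    ∃ (j : Idx hf hY hqs E₀ M) (y : sectModEt ((pullFam hf hY hqs E₀ M).obj j.gens) ((EtOver.bc hf).obj E₀)),
      appM (pullFamHom hf hY hqs E₀ M j.gens) ((EtOver.bc hf).obj E₀) y = m := by
  obtain ⟨t, ht⟩ := exists_fg_mem_chartSub hY hqs (M := (pushModEt hf).obj M) (E₀ := E₀) E₀ m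
  obtain ⟨a, ha⟩ := ((chartFam (M := (pushModEt hf).obj M)
    (Submodule.span (R E₀) (t : Set (sectModEt ((pushModEt hf).obj M) E₀))) hY hqs).range_ι E₀ inferInstance).ge ht
  exact ⟨⟨t, ∅⟩, appM ((pullPushAdjModEt hf).unit.app _) E₀ a, (appM_symm_unit hf _ E₀ a).trans ha⟩

omit [IsAffine ((EtOver.bc hf).obj E₀).obj.left.left] in
theorem pres_kill (j : Idx hf hY hqs E₀ M)
    (y : sectModEt ((pullFam hf hY hqs E₀ M).obj j.gens) ((EtOver.bc hf).obj E₀))
    (hy : appM (pullFamHom hf hY hqs E₀ M j.gens) ((EtOver.bc hf).obj E₀) y = 0) :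
    ∃ rels', (j ≤ (⟨j.gens, rels'⟩ : Idx hf hY hqs E₀ M)) ∧
      appM (presπ hf hY hqs E₀ M ⟨j.gens, rels'⟩) ((EtOver.bc hf).obj E₀) y = 0 := by
  classical
  obtain ⟨k, hk⟩ := GenSite.exists_kernel_lift (V := (EtOver.bc hf).obj E₀) (pullFamHom hf hY hqs E₀ M j.gens) y hy
  obtain ⟨s, hs'⟩ := exists_fg_mem_chartSub hY hqs (M := (pushModEt hf).obj (relMod hf hY hqs E₀ M j.gens))
    (E₀ := E₀) E₀ k
  let j' : Idx hf hY hqs E₀ M := ⟨j.gens, j.rels ∪ s⟩
  refine ⟨j.rels ∪ s, ⟨le_rfl, fun x hx => by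
    rw [show homOfLE (le_refl j.gens) = 𝟙 _ from rfl, relMap_id, CategoryTheory.Functor.map_id]
    exact Finset.mem_union_left _ hx⟩, ?_⟩
  have hk' : k ∈ chartSub ((pushModEt hf).obj (relMod hf hY hqs E₀ M j.gens))
      (Submodule.span (R E₀) (j'.rels : Set (sectModEt ((pushModEt hf).obj (relMod hf hY hqs E₀ M j.gens)) E₀))) E₀ :=
    fun W hW p q => Submodule.span_mono (Set.image_mono (Submodule.span_mono
      (Finset.coe_subset.mpr Finset.subset_union_right))) (hs' W hW p q)
  obtain ⟨g, hg⟩ := ((relFam hf hY hqs E₀ M j').range_ι E₀ inferInstance).ge hk'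
  have h1 : appM (relHom' hf hY hqs E₀ M j') ((EtOver.bc hf).obj E₀)
      (appM ((pullPushAdjModEt hf).unit.app (relFam hf hY hqs E₀ M j').toMod) E₀ g) = y :=
    Eq.trans (congrArg (appM (kernel.ι (pullFamHom hf hY hqs E₀ M j.gens)) ((EtOver.bc hf).obj E₀))
      ((appM_symm_unit hf (relFam hf hY hqs E₀ M j').ι E₀ g).trans hg)) hk
  rw [← h1]
  exact congrArg (fun q : (pullModEt hf).obj (relFam hf hY hqs E₀ M j').toMod ⟶ cokernel (relHom' hf hY hqs E₀ M j') =>
    appM q ((EtOver.bc hf).obj E₀) _) (cokernel.condition _)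

include hX hs in
theorem nonempty_isColimit_presCocone : Nonempty (IsColimit (presCocone hf hY hqs E₀ M)) := by
  haveI := isFiltered_idx hf hY hqs E₀ M
  haveI : ∀ j, ((presDiagram hf hY hqs E₀ M).obj j).IsQuasicoherent := isQuasicoherent_presDiagram hf hY hqs E₀ M
  haveI : (presCocone hf hY hqs E₀ M).pt.IsQuasicoherent := ‹M.IsQuasicoherent›
  refine isColimit_of_chart hX (surjective_bc hf E₀ hs) (presCocone hf hY hqs E₀ M) (fun m => ?_) fun j a ha => ?_
  · obtain ⟨j, y, hy⟩ := pres_surj hf hY hqs E₀ M m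
    refine ⟨j, appM (presπ hf hY hqs E₀ M j) _ y, ?_⟩
    rw [← appM_comp', presCocone_π]
    exact hy
  · obtain ⟨y, rfl⟩ := presπ_surjective hf hY hqs E₀ M j a
    rw [← appM_comp', presCocone_π] at ha
    obtain ⟨rels', hle, h⟩ := pres_kill hf hY hqs E₀ M j y ha
    refine ⟨⟨j.gens, rels'⟩, homOfLE hle, ?_⟩
    rw [← appM_comp', presπ_map]
    exact h

end Groth.Agent.EtQC
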