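import Groth.Agent.EtQC.Site
import Groth.Agent.AlgSpLib.SepAffine
import Groth.Agent.AlgSpLib.QCompact

/-!
Finite affine coverings of the product of two affine objects of the small etale site of a quasi-separated space.
-/

set_option autoImplicit false
set_option linter.style.haveILetI false
set_option backward.isDefEq.respectTransparency false

universe u

noncomputable section

open CategoryTheory CategoryTheory.Limits AlgebraicGeometry Opposite AlgSp

namespace Groth.Agent.EtQC

variable {S : Scheme.{u}} {X : Sp S}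

/-- affine pieces of the product of two objects, dominating locally every pair of maps -/
structure ProdCover (E E₀ : EtOver X) where
  /-- the number of pieces -/
  n : ℕ
  /-- the pieces -/
  W : Fin n → EtOver X
  isAffine : ∀ k, IsAffine (W k).obj.left.left
  /-- first projection -/
  a : ∀ k, W k ⟶ E
  /-- second projection -/
  b : ∀ k, W k ⟶ E₀
  factor : ∀ {V : EtOver X} (α : V ⟶ E) (β : V ⟶ E₀) (x : V.obj.left.left),
    ∃ (V' : EtOver X) (h : V' ⟶ V) (k : Fin n) (c : V' ⟶ W k),
      IsAffine V'.obj.left.left ∧ x ∈ Set.range h.hom.left.left ∧ c ≫ a k = h ≫ α ∧ c ≫ b k = h ≫ β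

theorem nonempty_prodCover [QuasiSeparatedSpace ↥S] (hX : IsAlgSpace X) (hqs : IsQuasiSeparatedSp X)
    (E E₀ : EtOver X) [IsAffine E.obj.left.left] [IsAffine E₀.obj.left.left] : Nonempty (ProdCover E E₀) := by
  obtain ⟨P, p, q, sq⟩ := Groth.Agent.AlgSpLib.exists_pullback hX.diag E.obj.hom E₀.obj.hom
  have hp : RepWith @Etale ((yon S).map p) := Groth.Agent.AlgSpLib.repWith_baseChange sq.flip E₀.property
  let P' : EtOver X := EtOver.mk ((yon S).map p ≫ E.obj.hom) (Groth.Agent.AlgSpLib.repWith_comp hp E.property)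
  let pa : P' ⟶ E := EtOver.homMk p rfl
  let pb' : P' ⟶ E₀ := EtOver.homMk (E := P') q sq.w.symm
  haveI : CompactSpace ↥P'.obj.left.left := Groth.Agent.AlgSpLib.compact_pullback_of_isQuasiSeparatedSp hqs sq
  have hch := fun x : P'.obj.left.left => exists_affine_nhd P' x
  choose V hV h hx using hch
  have ho : ∀ x, IsOpen (Set.range (h x).hom.left.left) := fun x => by
    have : Etale (h x).hom.left.left := EtOver.etale_left (h x)
    exact (h x).hom.left.left.isOpenMap.isOpen_range
  obtain ⟨t, ht⟩ := isCompact_univ.elim_finite_subcover _ ho (fun x _ => Set.mem_iUnion.mpr ⟨x, hx x⟩)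
  obtain ⟨n, ⟨e⟩⟩ := Finite.exists_equiv_fin t
  refine ⟨⟨n, fun k => V (e.symm k).1, fun k => hV _, fun k => h _ ≫ pa, fun k => h _ ≫ pb',
    fun {V₀} α β x => ?_⟩⟩
  obtain ⟨c₀, hc₀⟩ := (yon S).map_surjective (sq.lift ((yon S).map α.hom.left) ((yon S).map β.hom.left)
    ((EtOver.w α).trans (EtOver.w β).symm))
  have hp₁ : c₀ ≫ p = α.hom.left := (yon S).map_injective (by rw [Functor.map_comp, hc₀, sq.lift_fst])
  have hp₂ : c₀ ≫ q = β.hom.left := (yon S).map_injective (by rw [Functor.map_comp, hc₀, sq.lift_snd])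
  let c : V₀ ⟶ P' := EtOver.homMk c₀ (by
    show (yon S).map c₀ ≫ (yon S).map p ≫ E.obj.hom = V₀.obj.hom
    rw [← Functor.map_comp_assoc, hp₁]
    exact EtOver.w α)
  obtain ⟨y, hy, hxy⟩ := Set.mem_iUnion₂.mp (ht (Set.mem_univ (c.hom.left.left x)))
  let k := e ⟨y, hy⟩
  have hk : c.hom.left.left x ∈ Set.range (h (e.symm k).1).hom.left.left := by
    have he := e.symm_apply_apply ⟨y, hy⟩
    exact (congrArg (fun j : t => Set.range (h j.1).hom.left.left) he).symm ▸ hxy
  obtain ⟨z, hz⟩ := hk
  obtain ⟨w, hw, -⟩ := exists_pb_point c (h (e.symm k).1) x z hz.symm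
  obtain ⟨V', hV', j, v, hv⟩ := exists_affine_nhd (pb c (h (e.symm k).1)) w
  refine ⟨V', j ≫ pbFst c (h (e.symm k).1), k, j ≫ pbSnd c (h (e.symm k).1), hV', ⟨v, ?_⟩, ?_, ?_⟩
  · show (pbFst c (h (e.symm k).1)).hom.left.left (j.hom.left.left v) = x
    rw [hv]
    exact hw
  · rw [Category.assoc, Category.assoc, ← Category.assoc (pbSnd _ _), ← pb_condition, Category.assoc]
    congr 2
    exact EtOver.hom_ext _ _ hp₁
  · rw [Category.assoc, Category.assoc, ← Category.assoc (pbSnd _ _), ← pb_condition, Category.assoc]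
    congr 2
    exact EtOver.hom_ext _ _ hp₂

end Groth.Agent.EtQC
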