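import Groth.Agent.EtQC.Sub
import Groth.Agent.EtQC.ProdCover

/-!
The quasi-coherent submodule determined by a submodule of sections on an affine chart.
-/

set_option autoImplicit false
set_option linter.style.haveILetI false
set_option backward.isDefEq.respectTransparency false

universe u

noncomputable section

open CategoryTheory CategoryTheory.Limits AlgebraicGeometry Opposite AlgSp TensorProduct

namespace Groth.Agent.EtQC

variable {S : Scheme.{u}} {X : Sp S}

namespace SubFam

variable {F : ModEt X} [F.IsQuasicoherent] (σ : SubFam F)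

/-- a morphism with values in the submodule factors through it -/
def lift {A : ModEt X} (φ : A ⟶ F)
    (h : ∀ (E : EtOver X) (hE : IsAffine E.obj.left.left) (a : sectModEt A E), appM φ E a ∈ σ.sub E hE) :
    A ⟶ σ.toMod :=
  ⟨PresheafOfModules.homMk
    { app := fun E => AddCommGrpCat.ofHom
        { toFun := fun a => (show ↥(σ.objSub E.unop) from ⟨appM φ E.unop a, fun V hV g => by
            rw [resM_appM]; exact h V hV _⟩)
          map_zero' := Subtype.ext (p := fun s => s ∈ σ.objSub E.unop) (map_zero (appM φ E.unop))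
          map_add' := fun a b => Subtype.ext (p := fun s => s ∈ σ.objSub E.unop) (map_add (appM φ E.unop) a b) }
      naturality := fun {E E'} g => AddCommGrpCat.ext fun a =>
        Subtype.ext (p := fun s => s ∈ σ.objSub E'.unop) (resM_appM φ g.unop a).symm }
    (fun E r a => Subtype.ext (p := fun s => s ∈ σ.objSub E.unop) (map_smul (appM φ E.unop) r a))⟩

theorem lift_ι {A : ModEt X} (φ : A ⟶ F)
    (h : ∀ (E : EtOver X) (hE : IsAffine E.obj.left.left) (a : sectModEt A E), appM φ E a ∈ σ.sub E hE) :
    σ.lift φ h ≫ σ.ι = φ :=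
  SheafOfModules.hom_ext (PresheafOfModules.hom_ext fun _ => ModuleCat.hom_ext (LinearMap.ext fun _ => rfl))

end SubFam

variable (M : ModEt X) [M.IsQuasicoherent] {E₀ : EtOver X} [IsAffine E₀.obj.left.left]
  (N : Submodule (R E₀) (sectModEt M E₀))

/-- sections locally generated, through every pair of maps, by the given ones -/
def chartSub (E : EtOver X) : Submodule (R E) (sectModEt M E) where
  carrier := {m | ∀ (W : EtOver X) (_ : IsAffine W.obj.left.left) (a : W ⟶ E) (b : W ⟶ E₀),
    resM M a m ∈ Submodule.span (R W) (resM M b '' (N : Set (sectModEt M E₀)))}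
  add_mem' hm hm' W hW a b := by rw [map_add]; exact Submodule.add_mem _ (hm W hW a b) (hm' W hW a b)
  zero_mem' W hW a b := by rw [map_zero]; exact Submodule.zero_mem _
  smul_mem' r m hm W hW a b := by rw [resM_smul]; exact Submodule.smul_mem _ _ (hm W hW a b)

variable {M}

theorem span_res_mono {E W : EtOver X} (h : W ⟶ E) (T : Set (sectModEt M E)) {m : sectModEt M E}
    (hm : m ∈ Submodule.span (R E) T) : resM M h m ∈ Submodule.span (R W) (resM M h '' T) := by
  induction hm using Submodule.span_induction with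
  | mem x hx => exact Submodule.subset_span ⟨x, hx, rfl⟩
  | zero => rw [map_zero]; exact Submodule.zero_mem _
  | add x y _ _ hx hy => rw [map_add]; exact Submodule.add_mem _ hx hy
  | smul r x _ hx => rw [resM_smul]; exact Submodule.smul_mem _ _ hx

theorem mem_chartSub_of_cover {E : EtOver X} (C : ProdCover E E₀) (m : sectModEt M E)
    (h : ∀ k, resM M (C.a k) m ∈ Submodule.span (R (C.W k)) (resM M (C.b k) '' (N : Set (sectModEt M E₀)))) :
    m ∈ chartSub M N E := by
  intro W hW α β
  refine mem_span_of_locally _ _ fun x => ?_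
  obtain ⟨V, j, k, c, hV, hx, hca, hcb⟩ := C.factor α β x
  refine ⟨V, j, hV, hx, ?_⟩
  have h1 := span_res_mono c _ (h k)
  rw [← resM_comp, hca, resM_comp] at h1
  refine Submodule.span_mono ?_ h1
  rintro _ ⟨_, ⟨y, hy, rfl⟩, rfl⟩
  exact ⟨resM M β y, ⟨y, hy, rfl⟩, by rw [← resM_comp, ← resM_comp, hcb]⟩

/-- a submodule, over the ring of an object relative to a base -/
def asMg {E W : EtOver X} (a : W ⟶ E) (Q : Submodule (R W) (sectModEt M W)) : Submodule (Rg a) (Mg M a) where
  carrier := {m | (show sectModEt M W from m) ∈ Q}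
  add_mem' h h' := Q.add_mem h h'
  zero_mem' := Q.zero_mem
  smul_mem' r _ h := Q.smul_mem (show R W from r) h

/-- sections in the span after base change vanish modulo the span -/
theorem lTensor_mkQ_eq_zero {E V W : EtOver X} [IsAffine E.obj.left.left] [IsAffine V.obj.left.left]
    [IsAffine W.obj.left.left] (g : V ⟶ E) (a : W ⟶ E) (Q : Submodule (R W) (sectModEt M W))
    (z : Rg g ⊗[R E] sectModEt M E)
    (h : resM M (pbFst g a) ((isBaseChange_res (M := M) g).equiv z) ∈
      Submodule.span (R (pb g a)) (resM M (pbSnd g a) '' (Q : Set (sectModEt M W)))) :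
    (((asMg a Q).mkQ.restrictScalars (R E)).comp (resL M a)).lTensor (Rg g) z = 0 := by
  let k : pb g a ⟶ E := pbSnd g a ≫ a
  have w : pbFst g a ≫ g = k := pb_condition g a
  letI : Algebra (Rg g) (Rg k) := (resR (pbFst g a) w).toRingHom.toAlgebra
  letI : Algebra (Rg a) (Rg k) := (resR (pbSnd g a) rfl).toRingHom.toAlgebra
  haveI : IsScalarTower (R E) (Rg g) (Rg k) :=
    IsScalarTower.of_algebraMap_eq' (resR (pbFst g a) w).comp_algebraMap.symm
  haveI : IsScalarTower (R E) (Rg a) (Rg k) :=
    IsScalarTower.of_algebraMap_eq' (resR (pbSnd g a) rfl).comp_algebraMap.symm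
  haveI : Algebra.IsPushout (R E) (Rg g) (Rg a) (Rg k) :=
    @isPushout_pb _ _ _ _ _ g a _ _ _
      (show Algebra (R E) (R V) from (res g).toAlgebra)
      (show Algebra (R E) (R W) from (res a).toAlgebra)
      (show Algebra (R V) (R (pb g a)) from (res (pbFst g a)).toAlgebra)
      (show Algebra (R W) (R (pb g a)) from (res (pbSnd g a)).toAlgebra)
      (show Algebra (R E) (R (pb g a)) from (res k).toAlgebra)
      (inferInstanceAs (IsScalarTower (R E) (Rg g) (Rg k)))
      (inferInstanceAs (IsScalarTower (R E) (Rg a) (Rg k)))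
      (fun x => rfl) (fun x => rfl) (fun x => rfl) (fun x => rfl)
  letI : Module (Rg a) (Mg M k) := Module.compHom _ (algebraMap (Rg a) (Rg k))
  haveI : IsScalarTower (Rg a) (Rg k) (Mg M k) := IsScalarTower.of_algebraMap_smul fun _ _ => rfl
  let χ : Mg M a →ₗ[Rg a] Mg M k :=
    { toFun := fun m => resM M (pbSnd g a) m
      map_add' := map_add (resM M (pbSnd g a))
      map_smul' := fun r m => resM_smul (pbSnd g a) r m }
  have hχ : IsBaseChange (Rg k) χ := isBaseChange_res (M := M) (pbSnd g a)
  let χQ : (Mg M a ⧸ asMg a Q) →ₗ[Rg a] Rg k ⊗[Rg a] (Mg M a ⧸ asMg a Q) := TensorProduct.mk (Rg a) (Rg k) (Mg M a ⧸ asMg a Q) 1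
  let l : Rg g →+ (Mg M a ⧸ asMg a Q) →+ Rg k ⊗[Rg a] (Mg M a ⧸ asMg a Q) :=
    AddMonoidHom.mk' (fun b => AddMonoidHom.mk' (fun q => algebraMap (Rg g) (Rg k) b • χQ q)
      (fun x y => by rw [map_add, smul_add]))
      (fun x y => AddMonoidHom.ext fun q => by
        show algebraMap (Rg g) (Rg k) (x + y) • χQ q = _
        rw [map_add, add_smul]
        rfl)
  let ΦQ : Rg g ⊗[R E] (Mg M a ⧸ asMg a Q) →+ Rg k ⊗[Rg a] (Mg M a ⧸ asMg a Q) :=
    TensorProduct.liftAddHom l (fun r b q => by
      show algebraMap (Rg g) (Rg k) (r • b) • χQ q = algebraMap (Rg g) (Rg k) b • χQ (r • q)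
      rw [Algebra.smul_def, map_mul, mul_comm, mul_smul, ← IsScalarTower.algebraMap_apply,
        ← algebraMap_smul (Rg a) r q, map_smul, IsScalarTower.algebraMap_apply (R E) (Rg a) (Rg k),
        algebraMap_smul (Rg k) (algebraMap (R E) (Rg a) r) (χQ q)])
  have hinj : Function.Injective ΦQ :=
    (bijective_lift_of_pushout χQ (TensorProduct.isBaseChange (Rg a) (Mg M a ⧸ asMg a Q) (Rg k)) ΦQ fun b q => rfl).1
  let ρ : Mg M k →ₗ[Rg k] Rg k ⊗[Rg a] (Mg M a ⧸ asMg a Q) :=
    ((asMg a Q).mkQ.baseChange (Rg k)).comp hχ.equiv.symm.toLinearMap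
  have hρ : ∀ m : Mg M a, ρ (χ m) = χQ ((asMg a Q).mkQ m) := fun m => by
    show (asMg a Q).mkQ.baseChange (Rg k) (hχ.equiv.symm (χ m)) = _
    rw [IsBaseChange.equiv_symm_apply, LinearMap.baseChange_tmul]
    rfl
  have key : ∀ z : Rg g ⊗[R E] sectModEt M E,
      ρ (show Mg M k from resM M (pbFst g a) ((isBaseChange_res (M := M) g).equiv z)) =
      ΦQ ((((asMg a Q).mkQ.restrictScalars (R E)).comp (resL M a)).lTensor (Rg g) z) := fun z => by
    induction z using TensorProduct.induction_on with
    | zero =>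
      simp only [map_zero]
    | tmul b m =>
      rw [LinearMap.lTensor_tmul, IsBaseChange.equiv_tmul]
      show _ = algebraMap (Rg g) (Rg k) b • χQ ((asMg a Q).mkQ (resM M a m))
      rw [← hρ]
      refine Eq.trans ?_ (map_smul ρ _ _)
      refine congrArg ρ ?_
      refine (resM_smul (pbFst g a) b (resM M g m)).trans ?_
      show res (pbFst g a) b • resM M (pbFst g a) (resM M g m) = res (pbFst g a) b • resM M (pbSnd g a) (resM M a m)
      rw [← resM_comp, ← resM_comp, pb_condition]
    | add x y hx hy =>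
      simp only [map_add]
      rw [← hx, ← hy]
      first
      | done
      | exact map_add ρ _ _
  apply hinj
  rw [← key, map_zero]
  have hsp : ∀ y : Mg M k, y ∈ Submodule.span (Rg k) (χ '' ((asMg a Q : Submodule (Rg a) (Mg M a)) : Set (Mg M a))) → ρ y = 0 := fun y hy => by
    induction hy using Submodule.span_induction with
    | mem x hx =>
      obtain ⟨m, hm, rfl⟩ := hx
      rw [hρ, Submodule.mkQ_apply, (Submodule.Quotient.mk_eq_zero (asMg a Q)).mpr hm, map_zero]
    | zero => exact map_zero ρ
    | add x y _ _ hx hy => rw [map_add, hx, hy, add_zero]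
    | smul r x _ hx => rw [map_smul, hx, smul_zero]
  exact hsp _ h

/-- the pieces of the base change of a covering of a product -/
theorem chartSub_le_span {E V : EtOver X} [IsAffine E.obj.left.left] [IsAffine V.obj.left.left]
    (C : ProdCover E E₀) (g : V ⟶ E) :
    chartSub M N V ≤ Submodule.span (R V) (resM M g '' (chartSub M N E : Set (sectModEt M E))) := by
  classical
  intro y hy
  haveI : Module.Flat (R E) (Rg g) := flat_res g
  let Q : ∀ k, Submodule (Rg (C.a k)) (Mg M (C.a k)) := fun k =>
    asMg (C.a k) (Submodule.span (R (C.W k)) (resM M (C.b k) '' (N : Set (sectModEt M E₀))))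
  let L : sectModEt M E →ₗ[R E] (∀ k, Mg M (C.a k) ⧸ Q k) :=
    LinearMap.pi fun k => ((Q k).mkQ.restrictScalars (R E)).comp (resL M (C.a k))
  let eF := (isBaseChange_res (M := M) g).equiv
  let z := eF.symm y
  have hL : ∀ z k, TensorProduct.piRight (R E) (R E) (Rg g) (fun k => Mg M (C.a k) ⧸ Q k) (L.lTensor (Rg g) z) k =
      (((Q k).mkQ.restrictScalars (R E)).comp (resL M (C.a k))).lTensor (Rg g) z := fun z k => by
    induction z using TensorProduct.induction_on with
    | zero => simp
    | tmul b n =>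
      rw [LinearMap.lTensor_tmul, TensorProduct.piRight_apply, TensorProduct.piRightHom_tmul, LinearMap.lTensor_tmul]
      rfl
    | add c d hc hd => simp only [map_add, Pi.add_apply, hc, hd]
  have hz : L.lTensor (Rg g) z = 0 := by
    apply (TensorProduct.piRight (R E) (R E) (Rg g) (fun k => Mg M (C.a k) ⧸ Q k)).injective
    rw [map_zero]
    funext k
    rw [hL]
    have := C.isAffine k
    refine lTensor_mkQ_eq_zero g (C.a k) _ z ?_
    rw [LinearEquiv.apply_symm_apply]
    have h1 := hy (pb g (C.a k)) inferInstance (pbFst g (C.a k)) (pbSnd g (C.a k) ≫ C.b k)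
    refine Submodule.span_mono ?_ h1
    rintro _ ⟨m, hm, rfl⟩
    exact ⟨resM M (C.b k) m, Submodule.subset_span ⟨m, hm, rfl⟩, (resM_comp (C.b k) (pbSnd g (C.a k)) m).symm⟩
  obtain ⟨u, hu⟩ := (Module.Flat.lTensor_exact (Rg g) (LinearMap.exact_subtype_ker_map L) z).mp hz
  have hyu : y = eF ((LinearMap.ker L).subtype.lTensor (Rg g) u) := by rw [hu, LinearEquiv.apply_symm_apply]
  rw [hyu]
  clear hu hyu
  induction u using TensorProduct.induction_on with
  | zero => rw [map_zero, map_zero]; exact Submodule.zero_mem _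
  | tmul b n =>
    rw [LinearMap.lTensor_tmul, IsBaseChange.equiv_tmul]
    exact Submodule.smul_mem _ (show R V from b) (Submodule.subset_span ⟨n.1,
      mem_chartSub_of_cover N C n.1 fun k => ((Submodule.Quotient.mk_eq_zero (Q k)).mp (congrFun n.2 k) : _), rfl⟩)
  | add a b ha hb => rw [map_add, map_add]; exact Submodule.add_mem _ ha hb

variable [QuasiSeparatedSpace ↥S] (hX : IsAlgSpace X) (hqs : IsQuasiSeparatedSp X)

/-- the subsheaf of a submodule of sections on a chart -/
def chartFam : SubFam M where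
  sub E _ := chartSub M N E
  res_mem g _ _ m hm W hW a b := by rw [← resM_comp]; exact hm W hW _ b
  le_span {E V} g hE hV := by
    obtain ⟨C⟩ := @nonempty_prodCover S X _ hX hqs E E₀ hE _
    exact @chartSub_le_span S X M _ E₀ _ N E V hE hV C g

theorem chartSub_le (m : sectModEt M E₀) (h : m ∈ chartSub M N E₀) : m ∈ N := by
  have h1 := h E₀ ‹_› (𝟙 _) (𝟙 _)
  rw [resM_id] at h1
  have e : resM M (𝟙 E₀) '' (N : Set (sectModEt M E₀)) = (N : Set (sectModEt M E₀)) :=
    (Set.image_congr fun x _ => resM_id E₀ x).trans (Set.image_id _)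
  rwa [e, Submodule.span_eq] at h1

include hX hqs in
/-- every section lies in the submodule determined by a finitely generated one -/
theorem exists_fg_mem_chartSub (E : EtOver X) [IsAffine E.obj.left.left] (m : sectModEt M E) :
    ∃ t : Finset (sectModEt M E₀), m ∈ chartSub M (Submodule.span (R E₀) (t : Set (sectModEt M E₀))) E := by
  classical
  obtain ⟨C⟩ := nonempty_prodCover hX hqs E E₀
  have hk : ∀ k, ∀ y : sectModEt M (C.W k), ∃ t : Finset (sectModEt M E₀),
      y ∈ Submodule.span (R (C.W k)) (resM M (C.b k) '' (t : Set (sectModEt M E₀))) := fun k y => by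
    have := C.isAffine k
    induction y using (isBaseChange_res (M := M) (C.b k)).inductionOn with
    | zero => exact ⟨∅, Submodule.zero_mem _⟩
    | tmul x => exact ⟨{x}, Submodule.subset_span ⟨x, by simp, rfl⟩⟩
    | smul r y hy =>
      obtain ⟨t, ht⟩ := hy
      exact ⟨t, Submodule.smul_mem _ (r : R (C.W k)) ht⟩
    | add y y' hy hy' =>
      obtain ⟨t, ht⟩ := hy
      obtain ⟨t', ht'⟩ := hy'
      exact ⟨t ∪ t', Submodule.add_mem _
        (Submodule.span_mono (Set.image_mono (Finset.coe_subset.mpr Finset.subset_union_left)) ht)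
        (Submodule.span_mono (Set.image_mono (Finset.coe_subset.mpr Finset.subset_union_right)) ht')⟩
  choose t ht using fun k => hk k (resM M (C.a k) m)
  refine ⟨Finset.univ.biUnion t, mem_chartSub_of_cover _ C m fun k => ?_⟩
  exact Submodule.span_mono (Set.image_mono ((Finset.coe_subset.mpr
    (Finset.subset_biUnion_of_mem t (Finset.mem_univ k))).trans Submodule.subset_span)) (ht k)

end Groth.Agent.EtQC
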