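import Groth.Agent.EtQC.CohColim

/-!
Sections of a filtered colimit of modules on the small etale site over affine objects.
-/

set_option autoImplicit false
set_option linter.style.haveILetI false
set_option backward.isDefEq.respectTransparency false

universe u

noncomputable section

open CategoryTheory CategoryTheory.Limits AlgebraicGeometry Opposite AlgSp

namespace Groth.Agent.EtQC

variable {S : Scheme.{u}} {X : Sp S} {J : Type (u + 1)} [SmallCategory J] [IsFiltered J] {D : J ⥤ ModEt X}
  {c : Cocone D} (hc : IsColimit c)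

include hc in
omit [IsFiltered J] in
theorem exists_colim_pre :
    ∃ χ : colimit (D ⋙ toPre X) ⟶ (toPre X).obj c.pt,
      Presheaf.IsLocallyInjective (etTop X) ((PresheafOfModules.toPresheaf _).map χ) ∧
      Presheaf.IsLocallySurjective (etTop X) ((PresheafOfModules.toPresheaf _).map χ) ∧
      ∀ j, colimit.ι (D ⋙ toPre X) j ≫ χ = (toPre X).map (c.ι.app j) := by
  let adj := PresheafOfModules.sheafificationAdjunction (R := OEtRing X) (𝟙 (OEtRing X).obj)
  let L := PresheafOfModules.sheafification (R := OEtRing X) (𝟙 (OEtRing X).obj)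
  let F := D ⋙ toPre X
  haveI : IsIso adj.counit := inferInstance
  haveI := adj.leftAdjoint_preservesColimits
  let e : D ≅ F ⋙ L := Functor.isoWhiskerLeft D (asIso adj.counit).symm
  let i : c.pt ≅ L.obj (colimit F) :=
    hc.coconePointUniqueUpToIso (colimit.isColimit D) ≪≫ HasColimit.isoOfNatIso e ≪≫ (preservesColimitIso L F).symm
  let η : colimit F ⟶ (toPre X).obj (L.obj (colimit F)) := adj.unit.app (colimit F)
  let χ : colimit F ⟶ (toPre X).obj c.pt := η ≫ (toPre X).map i.inv
  haveI hη₁ : Presheaf.IsLocallyInjective (etTop X) ((PresheafOfModules.toPresheaf _).map η) := by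
    have h : (PresheafOfModules.toPresheaf _).map η = _ :=
      PresheafOfModules.toPresheaf_map_sheafificationAdjunction_unit_app (R := OEtRing X) (𝟙 (OEtRing X).obj) (colimit F)
    rw [h]
    exact (((etTop X).W_iff_isLocallyBijective _).mp ((etTop X).W_toSheafify _)).1
  haveI hη₂ : Presheaf.IsLocallySurjective (etTop X) ((PresheafOfModules.toPresheaf _).map η) := by
    have h : (PresheafOfModules.toPresheaf _).map η = _ :=
      PresheafOfModules.toPresheaf_map_sheafificationAdjunction_unit_app (R := OEtRing X) (𝟙 (OEtRing X).obj) (colimit F)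
    rw [h]
    exact (((etTop X).W_iff_isLocallyBijective _).mp ((etTop X).W_toSheafify _)).2
  haveI : IsIso ((PresheafOfModules.toPresheaf (OEtRing X).obj).map ((toPre X).map i.inv)) := inferInstance
  refine ⟨χ, ?_, ?_, fun j => ?_⟩
  · show Presheaf.IsLocallyInjective (etTop X) ((PresheafOfModules.toPresheaf _).map (η ≫ (toPre X).map i.inv))
    rw [Functor.map_comp]
    infer_instance
  · show Presheaf.IsLocallySurjective (etTop X) ((PresheafOfModules.toPresheaf _).map (η ≫ (toPre X).map i.inv))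
    rw [Functor.map_comp]
    infer_instance
  · have h1 : c.ι.app j ≫ i.hom = e.hom.app j ≫ L.map (colimit.ι F j) := by
      simp [i]
    have h2 : L.map (colimit.ι F j) ≫ i.inv = inv (e.hom.app j) ≫ c.ι.app j := by
      rw [IsIso.eq_inv_comp, ← Category.assoc, ← h1, Category.assoc, Iso.hom_inv_id, Category.comp_id]
    simp only [χ]
    refine (Category.assoc _ _ _).symm.trans ?_
    refine (congrArg (· ≫ (toPre X).map i.inv) (adj.unit.naturality (colimit.ι F j))).trans ?_
    refine (Category.assoc _ _ _).trans ?_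
    refine (congrArg (adj.unit.app (F.obj j) ≫ ·) (((toPre X).map_comp _ _).symm.trans
      (congrArg (toPre X).map h2))).trans ?_
    have h3 : inv (e.hom.app j) = adj.counit.app (D.obj j) := IsIso.inv_eq_of_hom_inv_id (by simp [e])
    rw [h3, Functor.map_comp]
    refine (Category.assoc _ _ _).symm.trans ?_
    exact (congrArg (· ≫ (toPre X).map (c.ι.app j)) (adj.right_triangle_components (D.obj j))).trans
      (Category.id_comp _)

include hc in
theorem loc_surj_colim_sect {E : EtOver X} (s : sectModEt c.pt E) (x : E.obj.left.left) :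
    ∃ (V : EtOver X) (g : V ⟶ E), IsAffine V.obj.left.left ∧ x ∈ Set.range g.hom.left.left ∧
      ∃ j a, appM (c.ι.app j) V a = resM c.pt g s := by
  obtain ⟨χ, -, hs, hχ⟩ := exists_colim_pre hc
  obtain ⟨V, g, hV, hx, a, ha⟩ := exists_affine_of_mem (Presheaf.imageSieve_mem (etTop X)
    ((PresheafOfModules.toPresheaf _).map χ) (U := op E) s) x
  obtain ⟨j, b, hb⟩ := Concrete.isColimit_exists_rep _
    (isColimitOfPreserves (PresheafOfModules.evaluation (OEtRing X).obj (op V)) (colimit.isColimit (D ⋙ toPre X))) a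
  refine ⟨V, g, hV, hx, j, b, ?_⟩
  refine Eq.trans ?_ ha
  rw [← hb]
  exact (congrArg (fun q : (D ⋙ toPre X).obj j ⟶ (toPre X).obj c.pt => q.app (op V) b) (hχ j)).symm

include hc in
theorem loc_inj_colim_sect {E : EtOver X} {j : J} (t : sectModEt (D.obj j) E) (h : appM (c.ι.app j) E t = 0)
    (x : E.obj.left.left) :
    ∃ (V : EtOver X) (g : V ⟶ E), IsAffine V.obj.left.left ∧ x ∈ Set.range g.hom.left.left ∧
      ∃ (k : J) (f : j ⟶ k), appM (D.map f) V (resM (D.obj j) g t) = 0 := by
  obtain ⟨χ, hi, -, hχ⟩ := exists_colim_pre hc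
  let F := D ⋙ toPre X
  let a : (colimit F).obj (op E) := (colimit.ι F j).app (op E) t
  have ha : χ.app (op E) a = 0 :=
    ((congrArg (fun q : (D ⋙ toPre X).obj j ⟶ (toPre X).obj c.pt => q.app (op E) t) (hχ j)).trans h :)
  obtain ⟨V, g, hV, hx, hg⟩ := exists_affine_of_mem (Presheaf.equalizerSieve_mem (etTop X)
    ((PresheafOfModules.toPresheaf _).map χ) (X := op E) a 0 (ha.trans (map_zero _).symm)) x
  refine ⟨V, g, hV, hx, ?_⟩
  have hev := isColimitOfPreserves (PresheafOfModules.evaluation (OEtRing X).obj (op V)) (colimit.isColimit F)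
  have heq : (colimit.ι F j).app (op V) (resM (D.obj j) g t) = (colimit.ι F j).app (op V) (0 : sectModEt (D.obj j) V) := by
    refine (PresheafOfModules.naturality_apply (colimit.ι F j) g.op t).trans ?_
    exact (hg.trans (map_zero _)).trans (map_zero ((colimit.ι F j).app (op V)).hom).symm
  obtain ⟨k, f, f', hff⟩ := Concrete.isColimit_exists_of_rep_eq _ hev (resM (D.obj j) g t)
    (0 : sectModEt (D.obj j) V) heq
  exact ⟨k, f, hff.trans (map_zero _)⟩

theorem appM_map_comp (D : J ⥤ ModEt X) {i j k : J} (f : i ⟶ j) (g : j ⟶ k) {E : EtOver X}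
    (t : sectModEt (D.obj i) E) : appM (D.map (f ≫ g)) E t = appM (D.map g) E (appM (D.map f) E t) := by
  rw [D.map_comp]
  rfl

theorem appM_ι_map (c : Cocone D) {i j : J} (f : i ⟶ j) {E : EtOver X} (t : sectModEt (D.obj i) E) :
    appM (c.ι.app j) E (appM (D.map f) E t) = appM (c.ι.app i) E t := by
  rw [← c.w f]
  rfl

/-- one stage for finitely many arrows out of one object -/
theorem exists_coequalize_fin {j : J} {n : ℕ} (k : Fin n → J) (f : ∀ i, j ⟶ k i) :
    ∃ (m : J) (h : j ⟶ m), ∀ i, ∃ b : k i ⟶ m, f i ≫ b = h := by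
  induction n with
  | zero => exact ⟨j, 𝟙 j, fun i => i.elim0⟩
  | succ n ih =>
    obtain ⟨m, h, hm⟩ := ih (fun i => k i.castSucc) (fun i => f i.castSucc)
    obtain ⟨m', a, b, hab⟩ := IsFiltered.span (f (Fin.last n)) h
    refine ⟨m', h ≫ b, fun i => ?_⟩
    induction i using Fin.lastCases with
    | last => exact ⟨a, hab⟩
    | cast i =>
      obtain ⟨b', hb'⟩ := hm i
      exact ⟨b' ≫ b, by rw [← Category.assoc, hb']⟩

include hc in
theorem inj_colim_affine {E : EtOver X} [IsAffine E.obj.left.left] {j : J} (t : sectModEt (D.obj j) E)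
    (h : appM (c.ι.app j) E t = 0) : ∃ (k : J) (f : j ⟶ k), appM (D.map f) E t = 0 := by
  obtain ⟨n, V, g, hV, hcov, hP⟩ := exists_finite_cover (W := E)
    (fun V g => ∃ (k : J) (f : j ⟶ k), appM (D.map f) V (resM (D.obj j) g t) = 0)
    (fun x => loc_inj_colim_sect hc t h x)
  choose k f hf using hP
  obtain ⟨m, e, he⟩ := exists_coequalize_fin k f
  refine ⟨m, e, eq_of_cover g hcov fun i => ?_⟩
  obtain ⟨b, hb⟩ := he i
  rw [map_zero, resM_appM, ← hb, appM_map_comp, hf i, map_zero]

include hc in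
theorem inj_colim_fin {ι : Type*} [Finite ι] {E : ι → EtOver X} [∀ i, IsAffine (E i).obj.left.left] {j : J}
    (t : ∀ i, sectModEt (D.obj j) (E i)) (h : ∀ i, appM (c.ι.app j) (E i) (t i) = 0) :
    ∃ (k : J) (f : j ⟶ k), ∀ i, appM (D.map f) (E i) (t i) = 0 := by
  obtain ⟨n, ⟨e⟩⟩ := Finite.exists_equiv_fin ι
  choose k f hf using fun i : Fin n => inj_colim_affine hc (t (e.symm i)) (h (e.symm i))
  obtain ⟨m, a, ha⟩ := exists_coequalize_fin k f
  refine ⟨m, a, fun i => ?_⟩
  obtain ⟨i, rfl⟩ := e.symm.surjective i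
  obtain ⟨b, hb⟩ := ha i
  rw [← hb, appM_map_comp, hf i, map_zero]

include hc in
theorem surj_colim_affine {E : EtOver X} [IsAffine E.obj.left.left] (s : sectModEt c.pt E) :
    ∃ (k : J) (a : sectModEt (D.obj k) E), appM (c.ι.app k) E a = s := by
  classical
  obtain ⟨n, V, g, hV, hcov, hP⟩ := exists_finite_cover (W := E)
    (fun V g => ∃ j a, appM (c.ι.app j) V a = resM c.pt g s) (fun x => loc_surj_colim_sect hc s x)
  choose j a ha using hP
  obtain ⟨k, hk⟩ := IsFiltered.sup_objs_exists (Finset.univ.image j)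
  have f : ∀ i, j i ⟶ k := fun i => (hk (Finset.mem_image_of_mem j (Finset.mem_univ i))).some
  let b : ∀ i, sectModEt (D.obj k) (V i) := fun i => appM (D.map (f i)) (V i) (a i)
  have hb : ∀ i, appM (c.ι.app k) (V i) (b i) = resM c.pt (g i) s := fun i => (appM_ι_map c (f i) (a i)).trans (ha i)
  haveI : ∀ p : Fin n × Fin n, IsAffine (pb (g p.1) (g p.2)).obj.left.left := fun p => by
    have := hV p.1
    have := hV p.2
    infer_instance
  obtain ⟨m, e, he⟩ := inj_colim_fin hc
    (t := fun p : Fin n × Fin n => resM (D.obj k) (pbFst (g p.1) (g p.2)) (b p.1) - resM (D.obj k) (pbSnd (g p.1) (g p.2)) (b p.2))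
    (fun p => by
      rw [map_sub, ← resM_appM, ← resM_appM, hb, hb, sub_eq_zero]
      refine ((resM_comp (M := c.pt) (g p.1) (pbFst (g p.1) (g p.2)) s).symm.trans ?_).trans
        (resM_comp (M := c.pt) (g p.2) (pbSnd (g p.1) (g p.2)) s)
      rw [pb_condition])
  obtain ⟨t, ht⟩ := exists_glue g hcov (fun i => appM (D.map e) (V i) (b i)) (fun i i' => by
    rw [resM_appM (D.map e) _ (b i), resM_appM (D.map e) _ (b i'), ← sub_eq_zero, ← map_sub]
    exact he (i, i'))
  refine ⟨m, t, eq_of_cover g hcov fun i => ?_⟩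
  rw [resM_appM, ht, appM_ι_map, hb]
  rfl

end Groth.Agent.EtQC
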