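import Mathlib.Algebra.Category.ModuleCat.Presheaf.Pullback
import Mathlib.Algebra.Category.ModuleCat.Sheaf.PullbackContinuous
import Mathlib.CategoryTheory.Category.ULift
import Groth.Prelude.Def_AlgSpOX2

/-!
The inverse image of modules along a representable morphism exists.
-/

set_option autoImplicit false
set_option backward.isDefEq.respectTransparency false

universe v u

noncomputable section

open CategoryTheory CategoryTheory.Limits Opposite

namespace Groth.Agent.EtQC

section Presheaf

variable {C D : Type (u + 1)} [Category.{u} C] [Category.{u} D] {F : C ⥤ D}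
  {R : Dᵒᵖ ⥤ RingCat.{u + 1}} {S : Cᵒᵖ ⥤ RingCat.{u + 1}}

/-- presheaves of modules do not see the lifting of the morphisms -/
def liftHomEquiv (S : Cᵒᵖ ⥤ RingCat.{u + 1}) :
    PresheafOfModules.{u + 1} S ≌ PresheafOfModules.{u + 1} ((ULiftHom.down : ULiftHom.{u + 1} C ⥤ C).op ⋙ S) where
  functor := PresheafOfModules.pushforward₀ ULiftHom.down S
  inverse := PresheafOfModules.pushforward₀ ULiftHom.up ((ULiftHom.down : ULiftHom.{u + 1} C ⥤ C).op ⋙ S)
  unitIso := Iso.refl _
  counitIso := Iso.refl _

theorem isRightAdjoint_pushforward (φ : S ⟶ F.op ⋙ R) : (PresheafOfModules.pushforward.{u + 1} φ).IsRightAdjoint := by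
  let F' : ULiftHom.{u + 1} C ⥤ ULiftHom.{u + 1} D := ULiftHom.down ⋙ F ⋙ ULiftHom.up
  let φ' : (ULiftHom.down : ULiftHom.{u + 1} C ⥤ C).op ⋙ S ⟶
      F'.op ⋙ ((ULiftHom.down : ULiftHom.{u + 1} D ⥤ D).op ⋙ R) :=
    Functor.whiskerLeft _ φ
  let T := (liftHomEquiv R).functor ⋙ PresheafOfModules.pushforward.{u + 1} φ' ⋙ (liftHomEquiv S).inverse
  let e : T ≅ PresheafOfModules.pushforward.{u + 1} φ := NatIso.ofComponents (fun M => Iso.refl _)
  have : T.IsRightAdjoint := inferInstance
  exact Functor.isRightAdjoint_of_iso e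

end Presheaf

open AlgebraicGeometry AlgSp

variable {S : Scheme.{u}} {X Y : Sp S} {f : X ⟶ Y}

theorem isRightAdjoint_pushModEt (hf : Representable f) :
    (SheafOfModules.pushforward.{u + 1} (bcRingHom hf)).IsRightAdjoint := by
  haveI := isRightAdjoint_pushforward (F := EtOver.bc hf) (bcRingHom hf).hom
  infer_instance

end Groth.Agent.EtQC
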