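import Groth.Agent.EtQC.ProjChart
import Groth.Agent.EtQC.PullExist
import Groth.Agent.QC.Sections
import Mathlib.Topology.Sheaves.SheafCondition.UniqueGluing
import Mathlib.RingTheory.Localization.BaseChange

/-!
Zariski companions of quasi-coherent modules with small sections.
-/

set_option autoImplicit false
set_option linter.style.haveILetI false
set_option backward.isDefEq.respectTransparency false

universe u

noncomputable section

open CategoryTheory CategoryTheory.Limits AlgebraicGeometry Opposite AlgSp TensorProduct TopologicalSpace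

namespace Groth.Agent.EtQC

variable {S : Scheme.{u}} {X : Sp S} {V : Over S} (q : (yon S).obj V ⟶ X) (hq : RepWith @Etale q)

/-- the functions on an open, on the site -/
def sigma (W : V.left.Opens) : Γ(V.left, W) ≃+* R (openOfChart q hq W) :=
  W.topIso.commRingCatIsoToRingEquiv.symm.trans ULift.ringEquiv.symm

/-- inclusion of opens on the site -/
def chartLE {W W' : V.left.Opens} (h : W' ≤ W) : openOfChart q hq W' ⟶ openOfChart q hq W :=
  (EtOver.postcomp q (isEtaleMor_of_repWith q hq)).map ((EtOver.ofScheme V).map (etaleOfLE h))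

theorem chartLE_left {W W' : V.left.Opens} (h : W' ≤ W) :
    (chartLE q hq h).hom.left.left = V.left.homOfLE h := rfl

theorem hom_ext_openChart {E : EtOver X} {W : V.left.Opens} {a b : E ⟶ openOfChart q hq W}
    (h : a.hom.left.left ≫ W.ι = b.hom.left.left ≫ W.ι) : a = b :=
  EtOver.hom_ext _ _ (Over.OverMorphism.ext ((cancel_mono W.ι).1 h))

theorem chartLE_refl (W : V.left.Opens) : chartLE q hq (le_refl W) = 𝟙 _ :=
  hom_ext_openChart q hq ((V.left.homOfLE_ι (le_refl W)).trans (Category.id_comp W.ι).symm)

theorem chartLE_comp {W W' W'' : V.left.Opens} (h : W' ≤ W) (h' : W'' ≤ W') :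
    chartLE q hq h' ≫ chartLE q hq h = chartLE q hq (h'.trans h) :=
  hom_ext_openChart q hq (by
    show (V.left.homOfLE h' ≫ V.left.homOfLE h) ≫ W.ι = V.left.homOfLE (h'.trans h) ≫ W.ι
    rw [Category.assoc, V.left.homOfLE_ι, V.left.homOfLE_ι, V.left.homOfLE_ι])

theorem sigma_res {W W' : V.left.Opens} (h : W' ≤ W) (a : Γ(V.left, W)) :
    res (chartLE q hq h) (sigma q hq W a) = sigma q hq W' (V.left.presheaf.map (homOfLE h).op a) := by
  have e : W.topIso.inv ≫ (V.left.homOfLE h).appTop = V.left.presheaf.map (homOfLE h).op ≫ W'.topIso.inv := by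
    simp only [Scheme.Opens.topIso_inv, Scheme.homOfLE_appTop, ← Functor.map_comp]
    rfl
  exact congrArg ULift.up (congrArg (fun k : Γ(V.left, W) ⟶ Γ(W', ⊤) => k.hom a) e)

theorem range_chartLE {W W' : V.left.Opens} (h : W' ≤ W) (x : (openOfChart q hq W).obj.left.left)
    (hx : W.ι x ∈ W') : x ∈ Set.range (chartLE q hq h).hom.left.left := by
  refine ⟨⟨W.ι x, hx⟩, W.ι.isOpenEmbedding.injective ?_⟩
  show ((V.left.homOfLE h) ≫ W.ι) _ = _
  rw [V.left.homOfLE_ι]
  rfl

variable (G : ModEt X)

/-- sections over an open of the chart, as a module over its functions -/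
def SecW (W : V.left.Opens) : Type (u + 1) := sectModEt G (openOfChart q hq W)

instance (W : V.left.Opens) : AddCommGroup (SecW q hq G W) :=
  inferInstanceAs (AddCommGroup (sectModEt G (openOfChart q hq W)))

instance instModuleSecW (W : V.left.Opens) : Module Γ(V.left, W) (SecW q hq G W) :=
  Module.compHom (sectModEt G (openOfChart q hq W)) (sigma q hq W : Γ(V.left, W) →+* R (openOfChart q hq W))

theorem smul_secW {W : V.left.Opens} (a : Γ(V.left, W)) (m : SecW q hq G W) :
    a • m = (show SecW q hq G W from sigma q hq W a • (show sectModEt G (openOfChart q hq W) from m)) := rfl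

/-- restriction -/
def resW {W W' : V.left.Opens} (h : W' ≤ W) : SecW q hq G W →+ SecW q hq G W' := resM G (chartLE q hq h)

theorem resW_smul {W W' : V.left.Opens} (h : W' ≤ W) (a : Γ(V.left, W)) (m : SecW q hq G W) :
    resW q hq G h (a • m) = V.left.presheaf.map (homOfLE h).op a • resW q hq G h m := by
  refine (resM_smul (chartLE q hq h) _ _).trans ?_
  exact congrArg (fun r : R (openOfChart q hq W') => r • (show sectModEt G (openOfChart q hq W') from resW q hq G h m))
    (sigma_res q hq h a)

theorem resW_refl {W : V.left.Opens} (m : SecW q hq G W) : resW q hq G (le_refl W) m = m :=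
  (congrArg (fun k => resM G k m) (chartLE_refl q hq W)).trans (resM_id _ _)

theorem resW_comp {W W' W'' : V.left.Opens} (h : W' ≤ W) (h' : W'' ≤ W') (m : SecW q hq G W) :
    resW q hq G (h'.trans h) m = resW q hq G h' (resW q hq G h m) :=
  (congrArg (fun k => resM G k m) (chartLE_comp q hq h h').symm).trans (resM_comp _ _ _)

theorem eq_of_openCover {W : V.left.Opens} {ι : Type*} (U : ι → V.left.Opens) (hle : ∀ i, U i ≤ W)
    (hcov : ∀ x ∈ W, ∃ i, x ∈ U i) {s t : SecW q hq G W}
    (h : ∀ i, resW q hq G (hle i) s = resW q hq G (hle i) t) : s = t :=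
  eq_of_cover (M := G) (fun i => chartLE q hq (hle i))
    (fun x => by
      obtain ⟨i, hi⟩ := hcov (W.ι x) (show ↥W from x).2
      exact ⟨i, range_chartLE q hq (hle i) x hi⟩) h

theorem small_secW (hsmall : ∀ E : EtOver X, IsAffine E.obj.left.left → Small.{u} (sectModEt G E))
    (W : V.left.Opens) : Small.{u} (SecW q hq G W) := by
  let I := { A : V.left.Opens // IsAffineOpen A ∧ A ≤ W }
  haveI : ∀ A : I, Small.{u} (SecW q hq G A.1) := fun A => hsmall _ (isAffine_openOfChart q hq A.2.1)
  refine small_of_injective (f := fun s => fun A : I => resW q hq G A.2.2 s) fun s t e => ?_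
  refine eq_of_openCover q hq G (fun A : I => A.1) (fun A => A.2.2) (fun x hx => ?_) fun A => congrFun e A
  obtain ⟨A, hA, hxA, hAW⟩ := exists_isAffineOpen_mem_and_subset hx
  exact ⟨⟨A, hA, hAW⟩, hxA⟩

variable [hs : ∀ W : V.left.Opens, Small.{u} (SecW q hq G W)]

/-- the presheaf of small sections -/
def smallPre : (V.left.Opens)ᵒᵖ ⥤ AddCommGrpCat.{u} where
  obj W := AddCommGrpCat.of (Shrink.{u} (SecW q hq G W.unop))
  map {W W'} f := AddCommGrpCat.ofHom (((Shrink.addEquiv (α := SecW q hq G W'.unop)).symm.toAddMonoidHom.comp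
    (resW q hq G f.unop.le)).comp (Shrink.addEquiv (α := SecW q hq G W.unop)).toAddMonoidHom)
  map_id W := AddCommGrpCat.ext fun x => by
    show (Shrink.addEquiv (α := SecW q hq G W.unop)).symm (resW q hq G _ (Shrink.addEquiv x)) = x
    rw [resW_refl, AddEquiv.symm_apply_apply]
  map_comp {W W' W''} f g := AddCommGrpCat.ext fun x => by
    show (Shrink.addEquiv (α := SecW q hq G W''.unop)).symm (resW q hq G _ (Shrink.addEquiv x)) =
      (Shrink.addEquiv (α := SecW q hq G W''.unop)).symm (resW q hq G g.unop.le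
        (Shrink.addEquiv ((Shrink.addEquiv (α := SecW q hq G W'.unop)).symm (resW q hq G f.unop.le (Shrink.addEquiv x)))))
    rw [AddEquiv.apply_symm_apply, resW_comp]

instance instModuleSmall (W : (V.left.Opens)ᵒᵖ) : Module (V.left.ringCatSheaf.obj.obj W) ((smallPre q hq G).obj W) :=
  inferInstanceAs (Module Γ(V.left, W.unop) (Shrink.{u} (SecW q hq G W.unop)))

theorem addEquiv_smul_small {W : V.left.Opens} (a : Γ(V.left, W)) (x : Shrink.{u} (SecW q hq G W)) :
    Shrink.addEquiv (a • x) = a • Shrink.addEquiv x := map_smul (Shrink.linearEquiv Γ(V.left, W) (SecW q hq G W)) a x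

/-- the Zariski companion -/
def compPre : PresheafOfModules.{u} V.left.ringCatSheaf.obj :=
  PresheafOfModules.ofPresheaf (smallPre q hq G) fun {W W'} f a x => by
    apply (Shrink.addEquiv (α := SecW q hq G W'.unop)).injective
    show Shrink.addEquiv ((Shrink.addEquiv (α := SecW q hq G W'.unop)).symm (resW q hq G f.unop.le
        (Shrink.addEquiv ((show Γ(V.left, W.unop) from a) • (show Shrink.{u} (SecW q hq G W.unop) from x))))) =
      Shrink.addEquiv ((show Γ(V.left, W'.unop) from V.left.presheaf.map f a) •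
        (Shrink.addEquiv (α := SecW q hq G W'.unop)).symm (resW q hq G f.unop.le (Shrink.addEquiv x)))
    rw [AddEquiv.apply_symm_apply, addEquiv_smul_small, addEquiv_smul_small, resW_smul, AddEquiv.apply_symm_apply]
    rfl

theorem isSheaf_smallPre : TopCat.Presheaf.IsSheaf (X := V.left.toPresheafedSpace.carrier) (smallPre q hq G) := by
  refine (TopCat.Presheaf.isSheaf_iff_isSheafUniqueGluing _).2 fun {ι} (U : ι → V.left.Opens) sf hsf => ?_
  let W : V.left.Opens := iSup U
  have hle : ∀ i, U i ≤ W := fun i => le_iSup U i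
  have hcov : ∀ x ∈ W, ∃ i, x ∈ U i := fun x hx => Opens.mem_iSup.1 hx
  let v : ∀ i, SecW q hq G (U i) := fun i => Shrink.addEquiv (show Shrink.{u} (SecW q hq G (U i)) from sf i)
  have hv : ∀ i j, resW q hq G (inf_le_left : U i ⊓ U j ≤ U i) (v i) =
      resW q hq G (inf_le_right : U i ⊓ U j ≤ U j) (v j) := fun i j =>
    (Shrink.addEquiv (α := SecW q hq G (U i ⊓ U j))).symm.injective (hsf i j)
  obtain ⟨t, ht⟩ := exists_glue (M := G) (fun i => chartLE q hq (hle i))
    (fun x => by
      obtain ⟨i, hi⟩ := hcov (W.ι x) (show ↥W from x).2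
      exact ⟨i, range_chartLE q hq (hle i) x hi⟩) v fun i j => by
    let P := pb (chartLE q hq (hle i)) (chartLE q hq (hle j))
    let a := pbFst (chartLE q hq (hle i)) (chartLE q hq (hle j))
    let b := pbSnd (chartLE q hq (hle i)) (chartLE q hq (hle j))
    have hw : a.hom.left.left ≫ (U i).ι = b.hom.left.left ≫ (U j).ι := by
      have h := congrArg (fun k => k.hom.left.left ≫ W.ι) (pb_condition (chartLE q hq (hle i)) (chartLE q hq (hle j)))
      have e : ∀ k, V.left.homOfLE (hle k) ≫ W.ι = (U k).ι := fun k => V.left.homOfLE_ι (hle k)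
      rw [← e i, ← e j, ← Category.assoc, ← Category.assoc]
      exact h
    have hr : Set.range (a.hom.left.left ≫ (U i).ι) ⊆ Set.range (U i ⊓ U j).ι := by
      rintro _ ⟨z, rfl⟩
      rw [Scheme.Opens.range_ι]
      refine ⟨(a.hom.left.left z).2, ?_⟩
      rw [hw]
      exact (b.hom.left.left z).2
    let l := IsOpenImmersion.lift (U i ⊓ U j).ι (a.hom.left.left ≫ (U i).ι) hr
    have hl : l ≫ V.left.homOfLE (inf_le_left : U i ⊓ U j ≤ U i) = a.hom.left.left := by
      rw [← cancel_mono (U i).ι, Category.assoc, V.left.homOfLE_ι, IsOpenImmersion.lift_fac]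
    let lO : P.obj.left ⟶ (openOfChart q hq (U i ⊓ U j)).obj.left := Over.homMk l (by
      show l ≫ (U i ⊓ U j).ι ≫ V.hom = P.obj.left.hom
      rw [IsOpenImmersion.lift_fac_assoc, Category.assoc]
      exact Over.w a.hom.left)
    let m : P ⟶ openOfChart q hq (U i ⊓ U j) := EtOver.homMk lO (by
      rw [← EtOver.w a, ← EtOver.w (chartLE q hq (inf_le_left : U i ⊓ U j ≤ U i)), ← Functor.map_comp_assoc,
        show lO ≫ (chartLE q hq (inf_le_left : U i ⊓ U j ≤ U i)).hom.left = a.hom.left from
          Over.OverMorphism.ext hl])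
    have ha : m ≫ chartLE q hq inf_le_left = a := hom_ext_openChart q hq (congrArg (· ≫ (U i).ι) hl)
    have hb : m ≫ chartLE q hq inf_le_right = b := hom_ext_openChart q hq (by
      show (l ≫ V.left.homOfLE (inf_le_right : U i ⊓ U j ≤ U j)) ≫ (U j).ι = b.hom.left.left ≫ (U j).ι
      rw [Category.assoc, V.left.homOfLE_ι, IsOpenImmersion.lift_fac, hw])
    show resM G a (v i) = resM G b (v j)
    rw [← ha, ← hb, resM_comp, resM_comp]
    exact congrArg (resM G m) (hv i j)
  refine ⟨(Shrink.addEquiv (α := SecW q hq G W)).symm t, fun i => ?_, fun t' ht' => ?_⟩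
  · show (Shrink.addEquiv (α := SecW q hq G (U i))).symm (resW q hq G _ (Shrink.addEquiv
      ((Shrink.addEquiv (α := SecW q hq G W)).symm t))) = sf i
    rw [AddEquiv.apply_symm_apply]
    exact (congrArg (Shrink.addEquiv (α := SecW q hq G (U i))).symm (ht i)).trans (AddEquiv.symm_apply_apply _ _)
  · apply (Shrink.addEquiv (α := SecW q hq G W)).injective
    refine eq_of_openCover q hq G U hle hcov fun i => ?_
    rw [AddEquiv.apply_symm_apply]
    refine ((Shrink.addEquiv (α := SecW q hq G (U i))).symm.injective ?_).trans (ht i).symm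
    exact (ht' i).trans (AddEquiv.symm_apply_apply _ _).symm

/-- the companion as a sheaf of modules -/
def compMod : V.left.Modules := ⟨compPre q hq G, isSheaf_smallPre q hq G⟩

theorem isLocalization_sigma {W : V.left.Opens} (hW : IsAffineOpen W) (f : Γ(V.left, W)) :
    IsLocalization.Away (sigma q hq W f) (Rg (chartLE q hq (V.left.basicOpen_le f))) := by
  letI := hW.isLocalization_basicOpen f
  have hres : ∀ a : Γ(V.left, W),
      algebraMap (R (openOfChart q hq W)) (Rg (chartLE q hq (V.left.basicOpen_le f))) (sigma q hq W a) =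
        sigma q hq (V.left.basicOpen f) (algebraMap Γ(V.left, W) Γ(V.left, V.left.basicOpen f) a) :=
    fun a => sigma_res q hq _ a
  refine IsLocalization.Away.mk _ ?_ (fun s => ?_) fun a b h => ?_
  · rw [hres]
    exact (IsLocalization.Away.algebraMap_isUnit f).map (sigma q hq (V.left.basicOpen f)).toRingHom
  · obtain ⟨s, rfl⟩ := (sigma q hq (V.left.basicOpen f)).surjective s
    obtain ⟨n, a, ha⟩ := IsLocalization.Away.surj f s
    refine ⟨n, sigma q hq W a, ?_⟩
    rw [hres, hres]
    show (_ : R (openOfChart q hq (V.left.basicOpen f))) * _ ^ n = _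
    rw [← map_pow, ← map_mul, ha]
  · obtain ⟨a, rfl⟩ := (sigma q hq W).surjective a
    obtain ⟨b, rfl⟩ := (sigma q hq W).surjective b
    rw [hres, hres] at h
    obtain ⟨n, hn⟩ := IsLocalization.Away.exists_of_eq f ((sigma q hq (V.left.basicOpen f)).injective h)
    exact ⟨n, by rw [← map_pow, ← map_mul, ← map_mul, hn]⟩

theorem isQCoh_compMod [G.IsQuasicoherent] : Coh.IsQCoh (compMod q hq G) := by
  rw [Groth.Agent.QC.isQCoh_iff_isLoc]
  rintro ⟨W, hW⟩
  have key : ∀ f : Γ(V.left, W), IsLocalizedModule (Submonoid.powers (sigma q hq W f))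
      (resL G (chartLE q hq (V.left.basicOpen_le f))) := fun f => by
    haveI : IsAffine (openOfChart q hq W).obj.left.left := isAffine_openOfChart q hq hW
    haveI : IsAffine (openOfChart q hq (V.left.basicOpen f)).obj.left.left :=
      isAffine_openOfChart q hq (hW.basicOpen f)
    haveI := isLocalization_sigma q hq hW f
    exact (isLocalizedModule_iff_isBaseChange (Submonoid.powers (sigma q hq W f))
      (Rg (chartLE q hq (V.left.basicOpen_le f))) _).2 (isBaseChange_res (M := G) _)
  refine ⟨fun f t => ?_, fun f s hs => ?_⟩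
  · haveI := key f
    obtain ⟨⟨a, ⟨_, n, rfl⟩⟩, ha⟩ := IsLocalizedModule.surj (Submonoid.powers (sigma q hq W f))
      (resL G (chartLE q hq (V.left.basicOpen_le f)))
      (show Mg G (chartLE q hq (V.left.basicOpen_le f)) from
        Shrink.addEquiv (α := SecW q hq G (V.left.basicOpen f)) t)
    refine ⟨n, (Shrink.addEquiv (α := SecW q hq G W)).symm a,
      (Shrink.addEquiv (α := SecW q hq G (V.left.basicOpen f))).injective ?_⟩
    refine ((AddEquiv.apply_symm_apply _ _).trans (congrArg (resW q hq G _) (AddEquiv.apply_symm_apply _ _))).trans ?_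
    refine ha.symm.trans ?_
    refine Eq.trans ?_ (addEquiv_smul_small q hq G ((V.left.presheaf.map (homOfLE (V.left.basicOpen_le f)).op f) ^ n)
      (show Shrink.{u} (SecW q hq G (V.left.basicOpen f)) from t)).symm
    show algebraMap (R (openOfChart q hq W)) (Rg (chartLE q hq (V.left.basicOpen_le f))) (sigma q hq W f ^ n) •
        (show Mg G (chartLE q hq (V.left.basicOpen_le f)) from _) = _
    rw [map_pow]
    refine congrArg (· • (show sectModEt G (openOfChart q hq (V.left.basicOpen f)) from
      Shrink.addEquiv (α := SecW q hq G (V.left.basicOpen f)) t)) ?_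
    show (res (chartLE q hq _) (sigma q hq W f)) ^ n = sigma q hq (V.left.basicOpen f) (_ ^ n)
    rw [sigma_res, map_pow]
  · haveI := key f
    have h0 : resL G (chartLE q hq (V.left.basicOpen_le f)) (Shrink.addEquiv (α := SecW q hq G W) s) =
        resL G (chartLE q hq (V.left.basicOpen_le f)) 0 := by
      rw [map_zero]
      exact (AddEquiv.apply_symm_apply _ _).symm.trans
        ((congrArg (Shrink.addEquiv (α := SecW q hq G (V.left.basicOpen f))) hs).trans (map_zero _))
    obtain ⟨⟨_, n, rfl⟩, hn⟩ := IsLocalizedModule.exists_of_eq (S := Submonoid.powers (sigma q hq W f)) h0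
    refine ⟨n, (Shrink.addEquiv (α := SecW q hq G W)).injective ?_⟩
    refine ((addEquiv_smul_small q hq G (f ^ n) _).trans ?_).trans (map_zero _).symm
    show sigma q hq W (f ^ n) • (show sectModEt G (openOfChart q hq W) from Shrink.addEquiv (α := SecW q hq G W) s) = 0
    rw [map_pow]
    exact hn.trans (smul_zero _)

/-- the companion structure -/
def companion [(SheafOfModules.pushforward.{u + 1} (bcRingHom hq.1)).IsRightAdjoint] :
    ZarCompanion V.left (compMod q hq G) ((resSchModEt V).obj ((pullModEt hq.1).obj G)) :=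
  let i : (pullModEt hq.1).obj G ≅
      (SheafOfModules.pushforward.{u + 1} (postRingHom (isEtaleMor_of_repWith q hq))).obj G :=
    ((pullPushAdjModEt hq.1).leftAdjointUniq (restrPushAdj hq.1 (isEtaleMor_of_repWith q hq))).app G
  { iso := fun W =>
      ((AddMonoidHom.toAddEquiv (appM i.hom ((EtOver.ofScheme V).obj (etaleOfOpen V.left W))).toAddMonoidHom
        (appM i.inv ((EtOver.ofScheme V).obj (etaleOfOpen V.left W))).toAddMonoidHom
        (AddMonoidHom.ext fun x => congrArg (fun k : (pullModEt hq.1).obj G ⟶ _ =>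
          appM k ((EtOver.ofScheme V).obj (etaleOfOpen V.left W)) x) i.hom_inv_id)
        (AddMonoidHom.ext fun x => congrArg (fun k : (SheafOfModules.pushforward.{u + 1}
            (postRingHom (isEtaleMor_of_repWith q hq))).obj G ⟶ _ =>
          appM k ((EtOver.ofScheme V).obj (etaleOfOpen V.left W)) x) i.inv_hom_id)).trans
        (Shrink.addEquiv (α := SecW q hq G W)).symm).trans AddEquiv.ulift.symm
    map_smul := fun W a m => by
      refine congrArg ULift.up ?_
      apply (Shrink.addEquiv (α := SecW q hq G W)).injective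
      refine (AddEquiv.apply_symm_apply _ _).trans (Eq.trans ?_ (addEquiv_smul_small q hq G a _).symm)
      refine Eq.trans ?_ (congrArg (a • ·) (AddEquiv.apply_symm_apply (Shrink.addEquiv (α := SecW q hq G W)) _).symm)
      exact map_smul (appM i.hom ((EtOver.ofScheme V).obj (etaleOfOpen V.left W))) _ m
    map_res := fun {W W'} h m => by
      refine congrArg ULift.up ?_
      refine congrArg (Shrink.addEquiv (α := SecW q hq G W')).symm ?_
      refine Eq.trans ?_ (congrArg (resW q hq G h)
        (AddEquiv.apply_symm_apply (Shrink.addEquiv (α := SecW q hq G W)) _).symm)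
      exact (resM_appM i.hom ((EtOver.ofScheme V).map (etaleOfLE h)) m).symm }

end Groth.Agent.EtQC

namespace Groth.Agent.EtQC

variable {S : Scheme.{u}}

theorem projAt_pull {X Y : Sp S} (hY : IsAlgSpace Y) {f : X ⟶ Y} (hf : Representable f)
    [(SheafOfModules.pushforward.{u + 1} (bcRingHom hf)).IsRightAdjoint] (G : ModEt Y) [G.IsQuasicoherent]
    (h : ∀ (E : EtOver Y) [IsAffine E.obj.left.left], ProjAt G E) (E : EtOver X) [IsAffine E.obj.left.left] :
    ProjAt ((pullModEt hf).obj G) E := by
  haveI := isQuasicoherent_pull hf G hY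
  refine projAt_of_cover fun x => ?_
  obtain ⟨E₀, hE₀, V, hV, a, c, hx⟩ := exists_pull_chart hY hf E x
  haveI : Module.Projective (R E₀) (sectModEt G E₀) := h E₀
  have h' : Module.Projective (Rc hf c) (Mc hf c ((pullModEt hf).obj G)) :=
    Module.Projective.of_equiv' (isBaseChange_pull hf G c).equiv
  exact ⟨V, a, hV, hx, h'⟩

theorem projAt_of_companions {Y : Sp S} (G : ModEt Y) [G.IsQuasicoherent]
    (hsmall : ∀ E : EtOver Y, IsAffine E.obj.left.left → Small.{u} (sectModEt G E))
    (hproj : ∀ {V : Over S} (q : (yon S).obj V ⟶ Y) (hrepq : Representable q)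
      [(SheafOfModules.pushforward.{u + 1} (bcRingHom hrepq)).IsRightAdjoint]
      (H : V.left.Modules) [Coh.IsQCoh H]
      (_ : ZarCompanion V.left H ((resSchModEt V).obj ((pullModEt hrepq).obj G)))
      (W : V.left.Opens), RepWith @Etale q → IsAffineOpen W →
        Module.Projective (V.left.ringCatSheaf.obj.obj (op W)) (H.val.obj (op W)))
    (E : EtOver Y) [IsAffine E.obj.left.left] : ProjAt G E := by
  haveI := fun W => small_secW E.obj.hom E.property G hsmall W
  haveI := isRightAdjoint_pushModEt E.property.1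
  haveI := isQCoh_compMod E.obj.hom E.property G
  have h := (projective_iff_projAt E.obj.hom E.property.1 E.property G _ (companion E.obj.hom E.property G) ⊤).1
    (hproj E.obj.hom E.property.1 _ (companion E.obj.hom E.property G) ⊤ E.property (isAffineOpen_top _))
  haveI := isAffine_openOfChart E.obj.hom E.property (isAffineOpen_top E.obj.left.left)
  let mO : E.obj.left ⟶ (openOfChart E.obj.hom E.property ⊤).obj.left := Over.homMk E.obj.left.left.topIso.inv (by
    show _ ≫ (⊤ : E.obj.left.left.Opens).ι ≫ E.obj.left.hom = E.obj.left.hom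
    rw [Scheme.toIso_inv_ι_assoc])
  refine h.res (EtOver.homMk mO ?_)
  show (yon S).map mO ≫ ((yon S).map (EtOver.homOfEtale (etaleOfOpen E.obj.left.left ⊤)) ≫ 𝟙 _) ≫ E.obj.hom = _
  rw [Category.comp_id, ← Category.assoc, ← Functor.map_comp,
    show mO ≫ EtOver.homOfEtale (etaleOfOpen E.obj.left.left ⊤) = 𝟙 _ from
      Over.OverMorphism.ext (Scheme.toIso_inv_ι _), CategoryTheory.Functor.map_id, Category.id_comp]

end Groth.Agent.EtQC
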