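import Groth.Agent.EtQC.FiniteType

/-!
Recognising quasi-coherent and finitely presented modules from their sections on affine objects.
-/

set_option autoImplicit false
set_option linter.style.haveILetI false
set_option backward.isDefEq.respectTransparency false

universe u

noncomputable section

open CategoryTheory CategoryTheory.Limits AlgebraicGeometry Opposite AlgSp TensorProduct

namespace Groth.Agent.EtQC

variable {S : Scheme.{u}} {X : Sp S} {M : ModEt X} {E : EtOver X}

/-- an element at the final object of the slice, as a section of the slice -/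
def secTop (F : SheafOfModules.{u + 1} ((OEtRing X).over E)) (k : F.val.obj (op (Over.mk (𝟙 E)))) : F.sections :=
  ⟨fun V => F.val.map (Over.homMk V.unop.hom (Category.comp_id _) : V.unop ⟶ Over.mk (𝟙 E)).op k,
    fun {V V'} f =>
      ((PresheafOfModules.map_comp_apply F.val (Over.homMk V.unop.hom (Category.comp_id _) :
          V.unop ⟶ Over.mk (𝟙 E)).op f k).symm.trans
        (congrArg (fun q : V'.unop ⟶ Over.mk (𝟙 E) => F.val.map q.op k)
          (Over.OverMorphism.ext (Over.w f.unop) :
            f.unop ≫ (Over.homMk V.unop.hom (Category.comp_id _) : V.unop ⟶ Over.mk (𝟙 E)) =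
              Over.homMk V'.unop.hom (Category.comp_id _))))⟩

theorem secTop_val (F : SheafOfModules.{u + 1} ((OEtRing X).over E)) (k : F.val.obj (op (Over.mk (𝟙 E))))
    (V : Over E) :
    (secTop F k).val (op V) = F.val.map (Over.homMk V.hom (Category.comp_id _) : V ⟶ Over.mk (𝟙 E)).op k := rfl

theorem desc_bas {F : SheafOfModules.{u + 1} ((OEtRing X).over E)} {I : Type (u + 1)} (s : I → F.sections) (i : I)
    (V : Over E) : (F.freeHomEquiv.symm s).val.app (op V) (bas i V) = (s i).val (op V) := by
  have h := congrFun (F.freeHomEquiv.apply_symm_apply s) i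
  exact congrArg (fun q : F.sections => q.val (op V)) h

theorem epi_of_locally {U : EtOver X} {A B : SheafOfModules.{u + 1} ((OEtRing X).over U)} (p : A ⟶ B)
    (h : ∀ {W : EtOver X} (g : W ⟶ U) (m : B.val.obj (op (Over.mk g))) (x : W.obj.left.left),
      ∃ (V : EtOver X) (k : V ⟶ W), x ∈ Set.range k.hom.left.left ∧
        ∃ a : A.val.obj (op (Over.mk (k ≫ g))), p.val.app (op (Over.mk (k ≫ g))) a =
          B.val.map (Over.homMk k rfl : Over.mk (k ≫ g) ⟶ Over.mk g).op m) : Epi p := by
  haveI : Sheaf.IsLocallySurjective ((SheafOfModules.toSheaf _).map p) := by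
    refine ⟨fun {Z} m => ?_⟩
    rw [GrothendieckTopology.mem_over_iff]
    refine Groth.Agent.AlgSpLib.StalkPoint.mem_etTop_of_jointly_surjective _ fun x => ?_
    obtain ⟨V, k, hx, a, ha⟩ := h Z.hom m x
    refine ⟨V, k, ?_, hx⟩
    rw [Sieve.overEquiv_iff]
    exact ⟨a, ha⟩
  haveI : Epi ((SheafOfModules.toSheaf _).map p) := (Sheaf.isLocallySurjective_iff_epi' _ _).mp inferInstance
  exact (SheafOfModules.toSheaf _).epi_of_epi_map ‹_›

theorem lTensor_eq_zero_mem {A B : Type (u + 1)} [CommRing A] [CommRing B] [Algebra A B] [Module.Flat A B]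
    {I J : Type (u + 1)} [DecidableEq I] {N : Type (u + 1)} [AddCommGroup N] [Module A N] (L : (I →₀ A) →ₗ[A] N)
    (d : J → I →₀ A) (hd : Submodule.span A (Set.range d) = LinearMap.ker L) (c : I →₀ B)
    (hc : L.lTensor B ((TensorProduct.finsuppScalarRight A A B I).symm c) = 0) :
    c ∈ Submodule.span B (Set.range fun l => (d l).mapRange (algebraMap A B) (map_zero _)) := by
  have hex : Function.Exact (LinearMap.ker L).subtype L := LinearMap.exact_subtype_ker_map L
  obtain ⟨w, hw⟩ := (Module.Flat.lTensor_exact B (N := ↥(LinearMap.ker L)) (N' := I →₀ A) (N'' := N) hex _).mp hc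
  suffices key : ∀ w : B ⊗[A] LinearMap.ker L,
      TensorProduct.finsuppScalarRight A A B I ((LinearMap.ker L).subtype.lTensor B w) ∈
        Submodule.span B (Set.range fun l => (d l).mapRange (algebraMap A B) (map_zero _)) by
    have h := key w
    rw [hw, LinearEquiv.apply_symm_apply] at h
    exact h
  intro w
  induction w using TensorProduct.induction_on with
  | zero => rw [map_zero, map_zero]; exact Submodule.zero_mem _
  | add a b ha hb => rw [map_add, map_add]; exact Submodule.add_mem _ ha hb
  | tmul b n =>
    rw [LinearMap.lTensor_tmul, Submodule.subtype_apply]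
    have e : TensorProduct.finsuppScalarRight A A B I (b ⊗ₜ[A] (n : I →₀ A)) =
        b • (n : I →₀ A).mapRange (algebraMap A B) (map_zero _) := by
      ext i
      rw [TensorProduct.finsuppScalarRight_apply_tmul_apply, Finsupp.smul_apply, Finsupp.mapRange_apply,
        Algebra.smul_def, smul_eq_mul, mul_comm]
    rw [e]
    refine Submodule.smul_mem _ _ ?_
    have hn : (n : I →₀ A) ∈ Submodule.span A (Set.range d) := by rw [hd]; exact n.2
    generalize (n : I →₀ A) = z at hn ⊢
    induction hn using Submodule.span_induction with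
    | mem z hz => obtain ⟨l, rfl⟩ := hz; exact Submodule.subset_span ⟨l, rfl⟩
    | zero => rw [Finsupp.mapRange_zero]; exact Submodule.zero_mem _
    | add a c _ _ ha hc => rw [Finsupp.mapRange_add (map_add _)]; exact Submodule.add_mem _ ha hc
    | smul r z _ hz =>
      have e2 : (r • z).mapRange (algebraMap A B) (map_zero _) =
          algebraMap A B r • z.mapRange (algebraMap A B) (map_zero _) := by
        ext i
        simp [Finsupp.smul_apply, Algebra.smul_def]
      rw [e2]
      exact Submodule.smul_mem _ _ hz

section Pres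

variable [IsAffine E.obj.left.left]
  (hbc : ∀ {V : EtOver X} [IsAffine V.obj.left.left] (g : V ⟶ E), IsBaseChange (Rg g) (resL M g))
  {I J : Type (u + 1)} (s : I → sectModEt M E) (hs : Submodule.span (R E) (Set.range s) = ⊤)
  (d : J → I →₀ R E) (hd : Submodule.span (R E) (Set.range d) = LinearMap.ker (Finsupp.linearCombination (R E) s))

/-- the map from the free module of the slice given by sections -/
def genHom : Fr E I ⟶ M.over E :=
  (M.over E).freeHomEquiv.symm fun i => secTop (M.over E) (s i)

theorem secOf_genHom {W : EtOver X} (g : W ⟶ E) (i : I) : secOf (genHom s) g i = resM M g (s i) :=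
  desc_bas _ i (Over.mk g)

include hbc hs in
theorem span_res {V : EtOver X} [IsAffine V.obj.left.left] (g : V ⟶ E) :
    Submodule.span (R V) (Set.range (secOf (genHom s) g)) = ⊤ := by
  refine eq_top_iff.mpr fun m hm => ?_
  clear hm
  induction m using (hbc g).inductionOn with
  | zero => exact Submodule.zero_mem _
  | tmul y =>
    have hy : y ∈ Submodule.span (R E) (Set.range s) := by rw [hs]; trivial
    induction hy using Submodule.span_induction with
    | mem z hz => obtain ⟨i, rfl⟩ := hz; exact Submodule.subset_span ⟨i, secOf_genHom s g i⟩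
    | zero => exact (map_zero (resM M g)).symm ▸ Submodule.zero_mem _
    | add a b _ _ ha hb => exact (map_add (resM M g) a b).symm ▸ Submodule.add_mem _ ha hb
    | smul r z _ hz => exact (resM_smul g r z).symm ▸ Submodule.smul_mem _ _ hz
  | smul a y hy => exact Submodule.smul_mem _ (a : R V) hy
  | add a b ha hb => exact Submodule.add_mem _ ha hb

include hbc hs in
theorem epi_genHom : Epi (genHom s) := by
  refine epi_of_locally _ fun {W} g m x => ?_
  have hn := exists_affine_nhd W x
  obtain ⟨V, hV, k, hx⟩ := hn
  have hmem : (resM M k m) ∈ Submodule.span (R V) (Set.range (secOf (genHom s) (k ≫ g))) := by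
    rw [span_res hbc s hs]; trivial
  rw [Finsupp.mem_span_range_iff_exists_finsupp] at hmem
  obtain ⟨c, hc⟩ := hmem
  refine ⟨V, k, hx, combo (Over.mk (k ≫ g)) c, ?_⟩
  refine (app_combo (genHom s) (k ≫ g) c).trans ?_
  rw [Finsupp.linearCombination_apply]
  exact hc

include hbc hd in
theorem mem_span_rel {V : EtOver X} [IsAffine V.obj.left.left] (g : V ⟶ E) (c : I →₀ R V)
    (hc : Finsupp.linearCombination (R V) (secOf (genHom s) g) c = 0) :
    c ∈ Submodule.span (R V) (Set.range fun l => (d l).mapRange (res g) (map_zero _)) := by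
  classical
  haveI : Module.Flat (R E) (Rg g) := flat_res g
  let L := Finsupp.linearCombination (R E) s
  refine lTensor_eq_zero_mem (B := Rg g) L d hd c ?_
  apply (hbc g).equiv.injective
  rw [map_zero, lTensor_finsuppScalarRight_symm, map_finsuppSum]
  refine Eq.trans ?_ hc
  rw [Finsupp.linearCombination_apply]
  refine Finset.sum_congr rfl fun i _ => ?_
  show (hbc g).equiv (c i ⊗ₜ[R E] L (Finsupp.single i 1)) = (c i : R V) • secOf (genHom s) g i
  rw [IsBaseChange.equiv_tmul, Finsupp.linearCombination_single, one_smul, secOf_genHom]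
  rfl

include hd in
theorem exists_rel (l : J) :
    ∃ k : (kernel (genHom s)).val.obj (op (Over.mk (𝟙 E))),
      (kernel.ι (genHom s)).val.app (op (Over.mk (𝟙 E))) k = combo (Over.mk (𝟙 E)) (d l) := by
  refine GenSite.exists_kernel_lift (V := Over.mk (𝟙 E)) (genHom s) (combo (Over.mk (𝟙 E)) (d l)) ?_
  refine (app_combo (genHom s) (𝟙 E) (d l)).trans ?_
  have h0 : Finsupp.linearCombination (R E) s (d l) = 0 := by
    have : d l ∈ LinearMap.ker (Finsupp.linearCombination (R E) s) := hd ▸ Submodule.subset_span ⟨l, rfl⟩
    exact this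
  refine Eq.trans ?_ h0
  congr 2
  funext i
  rw [secOf_genHom, resM_id]

/-- the map onto the relations -/
def relHom : Fr E J ⟶ kernel (genHom s) :=
  (kernel (genHom s)).freeHomEquiv.symm fun l => secTop (kernel (genHom s)) (exists_rel s d hd l).choose

theorem relHom_bas {V : EtOver X} (g : V ⟶ E) (l : J) :
    (kernel.ι (genHom s)).val.app (op (Over.mk g)) ((relHom s d hd).val.app (op (Over.mk g)) (bas l (Over.mk g))) =
      combo (Over.mk g) ((d l).mapRange (res g) (map_zero _)) := by
  let f : Over.mk g ⟶ Over.mk (𝟙 E) := Over.homMk g (Category.comp_id _)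
  rw [relHom, desc_bas, secTop_val]
  refine (PresheafOfModules.naturality_apply (kernel.ι (genHom s)).val f.op _).trans ?_
  refine (congrArg ((Fr E I).val.map f.op) (exists_rel s d hd l).choose_spec).trans ?_
  exact map_combo f (d l)

include hbc in
theorem epi_relHom : Epi (relHom s d hd) := by
  refine epi_of_locally _ fun {W} g m x => ?_
  have hn := exists_affine_nhd W x
  obtain ⟨V, hV, k, hx⟩ := hn
  let m' := (kernel (genHom s)).val.map (Over.homMk k rfl : Over.mk (k ≫ g) ⟶ Over.mk g).op m
  let y := (kernel.ι (genHom s)).val.app (op (Over.mk (k ≫ g))) m'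
  have hy := free_sections_eq_span (k ≫ g) y
  obtain ⟨c, hc⟩ := hy
  have hy0 : (genHom s).val.app (op (Over.mk (k ≫ g))) y = 0 :=
    congrArg (fun q : kernel (genHom s) ⟶ M.over E => q.val.app (op (Over.mk (k ≫ g))) m')
      (kernel.condition (genHom s))
  rw [hc] at hy0
  have hy1 : Finsupp.linearCombination (R V) (secOf (genHom s) (k ≫ g)) c = 0 :=
    (app_combo (genHom s) (k ≫ g) c).symm.trans hy0
  have hmem := mem_span_rel hbc s d hd (k ≫ g) c hy1
  rw [Finsupp.mem_span_range_iff_exists_finsupp] at hmem
  obtain ⟨b, hb0⟩ := hmem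
  have hb : Finsupp.linearCombination (R V) (fun l => ((d l).mapRange (res (k ≫ g)) (map_zero _) : I →₀ R V)) b = c :=
    (Finsupp.linearCombination_apply _ _).trans hb0
  refine ⟨V, k, hx, combo (Over.mk (k ≫ g)) b, ?_⟩
  haveI : Mono ((SheafOfModules.evaluation ((OEtRing X).over E) (op (Over.mk (k ≫ g)))).map (kernel.ι (genHom s))) :=
    inferInstance
  apply (ModuleCat.mono_iff_injective
    ((SheafOfModules.evaluation ((OEtRing X).over E) (op (Over.mk (k ≫ g)))).map (kernel.ι (genHom s)))).mp this
  show (kernel.ι (genHom s)).val.app (op (Over.mk (k ≫ g)))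
    ((relHom s d hd).val.app (op (Over.mk (k ≫ g))) (combo (Over.mk (k ≫ g)) b)) = y
  rw [hc, ← hb]
  let q : Fr E J ⟶ Fr E I := relHom s d hd ≫ kernel.ι (genHom s)
  have e : ∀ b' : J →₀ R V, q.val.app (op (Over.mk (k ≫ g))) (combo (Over.mk (k ≫ g)) b') =
      combo (Over.mk (k ≫ g)) (Finsupp.linearCombination (R V) (fun l => ((d l).mapRange (res (k ≫ g)) (map_zero _) : I →₀ R V)) b') := by
    intro b'
    induction b' using Finsupp.induction_linear with
    | zero =>
      rw [map_zero (Finsupp.linearCombination (R V) _)]
      exact (congrArg (q.val.app _) (map_zero (combo (Over.mk (k ≫ g))))).trans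
        ((map_zero (q.val.app _).hom).trans (map_zero (combo (Over.mk (k ≫ g)))).symm)
    | add a a' ha ha' =>
      rw [map_add (Finsupp.linearCombination (R V) _)]
      refine (congrArg (q.val.app _) (map_add (combo (Over.mk (k ≫ g))) a a')).trans ?_
      refine ((map_add (q.val.app _).hom _ _).trans ?_).trans (map_add (combo (Over.mk (k ≫ g))) _ _).symm
      exact congrArg₂ (· + ·) ha ha'
    | single l a =>
      rw [Finsupp.linearCombination_single]
      refine (congrArg (q.val.app _) (combo_single (V := Over.mk (k ≫ g)) l a)).trans ?_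
      refine ((map_smul (q.val.app _).hom a (bas l (Over.mk (k ≫ g)))).trans ?_).trans
        (map_smul (combo (Over.mk (k ≫ g))) (show R (Over.mk (k ≫ g)).left from a) _).symm
      exact congrArg (fun x : (Fr E I).val.obj (op (Over.mk (k ≫ g))) => a • x) (relHom_bas s d hd (k ≫ g) l)
  exact e b

/-- the presentation of the slice over an affine object -/
def presentationOfAffine : (M.over E).Presentation where
  generators := { I := I, s := fun i => secTop (M.over E) (s i), epi := epi_genHom hbc s hs }
  relations := { I := J, s := fun l => secTop (kernel (genHom s)) (exists_rel s d hd l).choose,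
                 epi := epi_relHom hbc s d hd }

end Pres

theorem coversTop_affine :
    (etTop X).CoversTop (fun E : {E : EtOver X // IsAffine E.obj.left.left} => E.1) := fun W =>
  Groth.Agent.AlgSpLib.StalkPoint.mem_etTop_of_jointly_surjective _ fun x => by
    have hn := exists_affine_nhd W x
    obtain ⟨V, hV, h, hx⟩ := hn
    exact ⟨V, h, ⟨⟨V, hV⟩, ⟨𝟙 V⟩⟩, hx⟩

theorem isQuasicoherent_of_isBaseChange
    (h : ∀ {E V : EtOver X} [IsAffine E.obj.left.left] [IsAffine V.obj.left.left] (g : V ⟶ E),
      IsBaseChange (Rg g) (resL M g)) : M.IsQuasicoherent :=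
  let q : M.QuasicoherentData :=
    { I := {E : EtOver X // IsAffine E.obj.left.left}
      X := fun E => E.1
      coversTop := coversTop_affine
      presentation := fun E => @presentationOfAffine S X M E.1 E.2 (fun {V} hV g => @h E.1 V E.2 hV g)
        (sectModEt M E.1) (LinearMap.ker (Finsupp.linearCombination (R E.1) (id : sectModEt M E.1 → sectModEt M E.1)))
        id (by rw [Set.range_id, Submodule.span_univ]) Subtype.val
        (by rw [Subtype.range_coe, Submodule.span_eq]) }
  q.isQuasicoherent

theorem isFinitePresentation_of_isBaseChange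
    (h : ∀ {E V : EtOver X} [IsAffine E.obj.left.left] [IsAffine V.obj.left.left] (g : V ⟶ E),
      IsBaseChange (Rg g) (resL M g))
    (hfp : ∀ (E : EtOver X) [IsAffine E.obj.left.left], Module.FinitePresentation (R E) (sectModEt M E)) :
    M.IsFinitePresentation := by
  classical
  have hex : ∀ E : {E : EtOver X // IsAffine E.obj.left.left}, ∃ (σ : (M.over E.1).Presentation), σ.IsFinite := by
    rintro ⟨E, hE⟩
    obtain ⟨t, ht, hk⟩ := (hfp E).out
    obtain ⟨r, hr⟩ := hk
    refine ⟨@presentationOfAffine S X M E hE (fun {V} hV g => @h E V hE hV g) (↥t) (↥r) Subtype.val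
      (by rw [Subtype.range_coe]; exact ht) Subtype.val (by rw [Subtype.range_coe]; exact hr), ?_⟩
    exact { isFiniteType_generators := ⟨inferInstanceAs (Finite ↥t)⟩
            isFiniteType_relations := ⟨inferInstanceAs (Finite ↥r)⟩ }
  choose σ hσ using hex
  let q : M.QuasicoherentData :=
    { I := {E : EtOver X // IsAffine E.obj.left.left}
      X := fun E => E.1
      coversTop := coversTop_affine
      presentation := σ }
  have hq : q.IsFinitePresentation := { isFinite_presentation := fun i => hσ i }
  constructor
  exact ⟨q, hq⟩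

end Groth.Agent.EtQC
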