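import Groth.Agent.EtQC.Local

/-!
Quasi-coherent modules on the small etale site: between affine objects sections are obtained by base change.
-/

set_option autoImplicit false
set_option linter.style.haveILetI false
set_option backward.isDefEq.respectTransparency false

universe u

noncomputable section

open CategoryTheory CategoryTheory.Limits AlgebraicGeometry Opposite AlgSp TensorProduct

namespace Groth.Agent.EtQC

variable {S : Scheme.{u}} {X : Sp S} {M : ModEt X} {E : EtOver X}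

/-- restriction between sections, linearly over the functions of a base object -/
def resK {V V' : EtOver X} {g : V ⟶ E} {k : V' ⟶ E} (h : V' ⟶ V) (w : h ≫ g = k) : Mg M g →ₗ[R E] Mg M k where
  toFun m := resM M h m
  map_add' := map_add (resM M h)
  map_smul' a m := by
    subst w
    refine (resM_smul h (res g a) m).trans ?_
    exact congrArg (· • resM M h m) (res_comp g h a).symm

theorem resK_apply {V V' : EtOver X} {g : V ⟶ E} {k : V' ⟶ E} (h : V' ⟶ V) (w : h ≫ g = k) (m : Mg M g) :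
    resK h w m = resM M h m := rfl

/-- base change of sections along a fibre product -/
theorem exists_phi {E' V : EtOver X} [IsAffine E.obj.left.left] [IsAffine V.obj.left.left]
    [IsAffine E'.obj.left.left] (g : E' ⟶ E) (h : V ⟶ E)
    (hBC : IsBaseChange (Rg (pbSnd g h)) (resL M (pbSnd g h))) :
    ∃ Φ : Rg g ⊗[R E] Mg M h →+ sectModEt M (pb g h), Function.Bijective Φ ∧
      ∀ b m, Φ (b ⊗ₜ m) = res (pbFst g h) b • resM M (pbSnd g h) m := by
  let k : pb g h ⟶ E := pbSnd g h ≫ h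
  have w : pbFst g h ≫ g = k := pb_condition g h
  letI : Algebra (Rg g) (Rg k) := (resR (pbFst g h) w).toRingHom.toAlgebra
  letI : Algebra (Rg h) (Rg k) := (resR (pbSnd g h) rfl).toRingHom.toAlgebra
  letI : Module (Rg h) (Mg M k) := Module.compHom _ (algebraMap (Rg h) (Rg k))
  haveI : IsScalarTower (R E) (Rg g) (Rg k) :=
    IsScalarTower.of_algebraMap_eq' (resR (pbFst g h) w).comp_algebraMap.symm
  haveI : IsScalarTower (R E) (Rg h) (Rg k) :=
    IsScalarTower.of_algebraMap_eq' (resR (pbSnd g h) rfl).comp_algebraMap.symm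
  haveI : IsScalarTower (Rg h) (Rg k) (Mg M k) := IsScalarTower.of_algebraMap_smul fun _ _ => rfl
  haveI : IsScalarTower (R E) (Rg h) (Mg M k) := IsScalarTower.of_algebraMap_smul fun a m => by
    show algebraMap (Rg h) (Rg k) (algebraMap (R E) (Rg h) a) • m = algebraMap (R E) (Rg k) a • m
    rw [← IsScalarTower.algebraMap_apply]
  haveI : IsScalarTower (R E) (Rg g) (Rg k) := inferInstance
  haveI : Algebra.IsPushout (R E) (Rg g) (Rg h) (Rg k) :=
    @isPushout_pb _ _ _ _ _ g h _ _ _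
      (show Algebra (R E) (R E') from (res g).toAlgebra)
      (show Algebra (R E) (R V) from (res h).toAlgebra)
      (show Algebra (R E') (R (pb g h)) from (res (pbFst g h)).toAlgebra)
      (show Algebra (R V) (R (pb g h)) from (res (pbSnd g h)).toAlgebra)
      (show Algebra (R E) (R (pb g h)) from (res k).toAlgebra)
      (inferInstanceAs (IsScalarTower (R E) (Rg g) (Rg k)))
      (inferInstanceAs (IsScalarTower (R E) (Rg h) (Rg k)))
      (fun a => rfl) (fun a => rfl) (fun a => rfl) (fun a => rfl)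
  let χ : Mg M h →ₗ[Rg h] Mg M k :=
    { toFun := fun m => resM M (pbSnd g h) m
      map_add' := map_add (resM M (pbSnd g h))
      map_smul' := fun a m => resM_smul (pbSnd g h) a m }
  have hχ : IsBaseChange (Rg k) χ := hBC
  let Φ : Rg g ⊗[R E] Mg M h →ₗ[R E] Mg M k :=
    TensorProduct.lift ((LinearMap.lsmul (Rg k) (Mg M k)).restrictScalars₁₂ (R E) (R E)
      |>.compl₁₂ ((Algebra.linearMap (Rg g) (Rg k)).restrictScalars (R E)) (χ.restrictScalars (R E)))
  exact ⟨Φ.toAddMonoidHom, bijective_lift_of_pushout χ hχ Φ.toAddMonoidHom (fun b m => rfl), fun b m => rfl⟩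

theorem bijective_piMap {A B : Type (u + 1)} [CommRing A] [CommRing B] [Algebra A B] {ι : Type} [Fintype ι]
    {P : ι → Type (u + 1)} [∀ i, AddCommGroup (P i)] [∀ i, Module A (P i)]
    {P' : ι → Type (u + 1)} [∀ i, AddCommGroup (P' i)] (Φ : ∀ i, B ⊗[A] P i →+ P' i)
    (hΦ : ∀ i, Function.Bijective (Φ i)) :
    ∃ θ : B ⊗[A] (∀ i, P i) →+ (∀ i, P' i), Function.Bijective θ ∧
      ∀ b p i, θ (b ⊗ₜ p) i = Φ i (b ⊗ₜ p i) := by
  classical
  let e := TensorProduct.piRight A A B P
  refine ⟨(AddMonoidHom.pi fun i => (Φ i).comp (Pi.evalAddMonoidHom _ i)).comp e.toLinearMap.toAddMonoidHom,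
    ?_, fun b p i => ?_⟩
  · exact (Function.Bijective.piMap hΦ).comp e.bijective
  · show Φ i (e (b ⊗ₜ p) i) = _
    rw [TensorProduct.piRight_apply, TensorProduct.piRightHom_tmul]

theorem exists_presentation_cover [M.IsQuasicoherent] (E : EtOver X) (x : E.obj.left.left) :
    ∃ (V : EtOver X) (h : V ⟶ E), IsAffine V.obj.left.left ∧ x ∈ Set.range h.hom.left.left ∧
      ∃ (U : EtOver X) (_ : V ⟶ U), Nonempty (M.over U).Presentation := by
  obtain ⟨q⟩ := SheafOfModules.IsQuasicoherent.nonempty_quasicoherentData (M := M)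
  have hs := Groth.Agent.AlgSpLib.StalkPoint.surjective_of_mem_etTop (q.coversTop E) x
  obtain ⟨V₀, h₀, hh₀, y, hy⟩ := hs
  have hn := exists_affine_nhd V₀ y
  obtain ⟨V, hV, h, z, hz⟩ := hn
  obtain ⟨i, ⟨f⟩⟩ := hh₀
  refine ⟨V, h ≫ h₀, hV, ⟨z, ?_⟩, q.X i, h ≫ f, ⟨q.presentation i⟩⟩
  rw [← hy, ← hz]
  rfl

theorem bijective_liftBaseChange_res [M.IsQuasicoherent] {E' : EtOver X} [IsAffine E.obj.left.left]
    [IsAffine E'.obj.left.left] (g : E' ⟶ E) :
    Function.Bijective (LinearMap.liftBaseChange (Rg g) (resL M g)) := by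
  classical
  have hcov := exists_finite_cover (W := E)
    (fun V _ => ∃ (U : EtOver X) (_ : V ⟶ U), Nonempty (M.over U).Presentation)
    (exists_presentation_cover E)
  obtain ⟨n, W, h, hW, hc, hP⟩ := hcov
  choose U gU hP using hP
  have hW' : ∀ a, IsAffine (pb g (h a)).obj.left.left := fun a => by have := hW a; infer_instance
  have hW2 : ∀ p : Fin n × Fin n, IsAffine (pb (h p.1) (h p.2)).obj.left.left := fun p => by
    have := hW p.1; have := hW p.2; infer_instance
  let h2 : ∀ p : Fin n × Fin n, pb (h p.1) (h p.2) ⟶ E := fun p => pbFst (h p.1) (h p.2) ≫ h p.1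
  have hW2' : ∀ p, IsAffine (pb g (h2 p)).obj.left.left := fun p => by
    have := hW2 p; infer_instance
  have hΦ₁ := fun a => @exists_phi S X M E E' (W a) _ (hW a) _ g (h a)
    (@isBaseChange_of_presentation S X (U a) M (W a) (pb g (h a)) (hW a) (hW' a) (gU a) (hP a).some (pbSnd g (h a)))
  choose Φ₁ hb₁ hd₁ using hΦ₁
  have hΦ₂ := fun p : Fin n × Fin n => @exists_phi S X M E E' (pb (h p.1) (h p.2)) _ (hW2 p) _ g (h2 p)
    (@isBaseChange_of_presentation S X (U p.1) M (pb (h p.1) (h p.2)) (pb g (h2 p)) (hW2 p) (hW2' p)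
      (pbFst (h p.1) (h p.2) ≫ gU p.1) (hP p.1).some (pbSnd g (h2 p)))
  choose Φ₂ hb₂ hd₂ using hΦ₂
  obtain ⟨θ₁, hθ₁, hθ₁d⟩ := bijective_piMap Φ₁ hb₁
  obtain ⟨θ₂, hθ₂, hθ₂d⟩ := bijective_piMap Φ₂ hb₂
  have w2 : ∀ p : Fin n × Fin n, pbSnd (h p.1) (h p.2) ≫ h p.2 = h2 p := fun p => (pb_condition _ _).symm
  let d : sectModEt M E →ₗ[R E] (∀ a, Mg M (h a)) := LinearMap.pi fun a => resL M (h a)
  let e : (∀ a, Mg M (h a)) →ₗ[R E] (∀ p, Mg M (h2 p)) := LinearMap.pi fun p =>
    (resK (pbFst (h p.1) (h p.2)) rfl).comp (LinearMap.proj p.1) -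
      (resK (pbSnd (h p.1) (h p.2)) (w2 p)).comp (LinearMap.proj p.2)
  -- the same maps upstairs
  let lA : ∀ p, pb g (h2 p) ⟶ pb g (h p.1) := fun p =>
    pbLift g (h p.1) (pbFst g (h2 p)) (pbSnd g (h2 p) ≫ pbFst (h p.1) (h p.2))
      (by rw [Category.assoc]; exact pb_condition g (h2 p))
  let lB : ∀ p, pb g (h2 p) ⟶ pb g (h p.2) := fun p =>
    pbLift g (h p.2) (pbFst g (h2 p)) (pbSnd g (h2 p) ≫ pbSnd (h p.1) (h p.2))
      (by rw [Category.assoc, w2]; exact pb_condition g (h2 p))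
  let d' : sectModEt M E' →+ (∀ a, sectModEt M (pb g (h a))) :=
    AddMonoidHom.pi fun a => resM M (pbFst g (h a))
  let e' : (∀ a, sectModEt M (pb g (h a))) →+ (∀ p, sectModEt M (pb g (h2 p))) := AddMonoidHom.pi fun p =>
    (resM M (lA p)).comp (Pi.evalAddMonoidHom _ p.1) - (resM M (lB p)).comp (Pi.evalAddMonoidHom _ p.2)
  have : Module.Flat (R E) (Rg g) := flat_res g
  have hd : Function.Injective d := fun s t hst => eq_of_cover h hc fun a => congrFun hst a
  have hde : Function.Exact d e := fun y => by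
    constructor
    · intro hy
      have hg := exists_glue (M := M) h hc y fun a b => sub_eq_zero.mp (congrFun hy (a, b))
      obtain ⟨t, ht⟩ := hg
      exact ⟨t, funext ht⟩
    · rintro ⟨s, rfl⟩
      funext p
      refine sub_eq_zero.mpr ?_
      show resM M (pbFst (h p.1) (h p.2)) (resM M (h p.1) s) = resM M (pbSnd (h p.1) (h p.2)) (resM M (h p.2) s)
      rw [← resM_comp, ← resM_comp, pb_condition]
  have hc' : ∀ x : E'.obj.left.left, ∃ a, x ∈ Set.range (pbFst g (h a)).hom.left.left := fun x => by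
    obtain ⟨a, y, hy⟩ := hc (g.hom.left.left x)
    obtain ⟨z, hz, -⟩ := exists_pb_point g (h a) x y hy.symm
    exact ⟨a, z, hz⟩
  have hd' : Function.Injective d' := fun s t hst => eq_of_cover _ hc' fun a => congrFun hst a
  have hde' : ∀ c, e' (d' c) = 0 := fun c => by
    funext p
    refine sub_eq_zero.mpr ?_
    show resM M (lA p) (resM M (pbFst g (h p.1)) c) = resM M (lB p) (resM M (pbFst g (h p.2)) c)
    rw [← resM_comp, ← resM_comp]
    simp only [lA, lB, pbLift_fst]
  refine bijective_of_flat_exact d e hd hde d' e' hd' hde'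
    (LinearMap.liftBaseChange (Rg g) (resL M g)).toAddMonoidHom θ₁ θ₂ hθ₁ hθ₂.1 (fun b c => ?_) (fun b p => ?_)
  · funext a
    rw [hθ₁d, hd₁]
    show resM M (pbFst g (h a)) (LinearMap.liftBaseChange (Rg g) (resL M g) (b ⊗ₜ c)) = _
    rw [LinearMap.liftBaseChange_tmul]
    refine (resM_smul (pbFst g (h a)) b (resM M g c)).trans ?_
    show res (pbFst g (h a)) b • resM M (pbFst g (h a)) (resM M g c) =
      res (pbFst g (h a)) b • resM M (pbSnd g (h a)) (resM M (h a) c)
    rw [← resM_comp, ← resM_comp, pb_condition]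
  · funext q
    show resM M (lA q) (θ₁ (b ⊗ₜ p) q.1) - resM M (lB q) (θ₁ (b ⊗ₜ p) q.2) = θ₂ (b ⊗ₜ e p) q
    rw [hθ₁d, hθ₁d, hd₁, hd₁, hθ₂d, hd₂, resM_smul, resM_smul]
    show _ = _ • resM M (pbSnd g (h2 q)) (resM M (pbFst (h q.1) (h q.2)) (p q.1) -
      resM M (pbSnd (h q.1) (h q.2)) (p q.2))
    rw [map_sub, smul_sub, ← resM_comp, ← resM_comp, ← resM_comp, ← resM_comp, ← res_comp, ← res_comp]
    simp only [lA, lB, pbLift_fst, pbLift_snd]

theorem isBaseChange_res [M.IsQuasicoherent] {E' : EtOver X} [IsAffine E.obj.left.left]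
    [IsAffine E'.obj.left.left] (g : E' ⟶ E) : IsBaseChange (Rg g) (resL M g) :=
  IsBaseChange.of_equiv (LinearEquiv.ofBijective _ (bijective_liftBaseChange_res g)) fun m => by
    show LinearMap.liftBaseChange (Rg g) (resL M g) ((1 : Rg g) ⊗ₜ m) = _
    rw [LinearMap.liftBaseChange_tmul, one_smul]

end Groth.Agent.EtQC
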