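import Groth.Agent.EtQC.Crit
import Groth.Agent.EtQC.Main
import Groth.Agent.AlgSpLib.PostcompSite
import Groth.Prelude.Def_AlgSpOX2

/-!
Pullback of modules along a representable etale morphism is restriction along postcomposition.
-/

set_option autoImplicit false
set_option linter.style.haveILetI false
set_option backward.isDefEq.respectTransparency false

universe u

noncomputable section

open CategoryTheory CategoryTheory.Limits AlgebraicGeometry Opposite AlgSp TensorProduct

namespace Groth.Agent.EtQC

variable {S : Scheme.{u}} {X Y : Sp S} {f : X ⟶ Y} (hf : Representable f) (he : IsEtaleMor f)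

/-- postcomposition with an etale morphism is left adjoint to base change -/
def postBcAdj : EtOver.postcomp f he ⊣ EtOver.bc hf :=
  Adjunction.mkOfHomEquiv
    { homEquiv := fun E W =>
        { toFun := fun m => EtOver.homMk (hf.lift E.obj.hom m.hom.left (EtOver.w m).symm) (hf.lift_fst _ _ _)
          invFun := fun n => EtOver.homMk (n.hom.left ≫ hf.snd W.obj.hom) (by
            show (yon S).map (n.hom.left ≫ hf.snd W.obj.hom) ≫ W.obj.hom = E.obj.hom ≫ f
            rw [Functor.map_comp, Category.assoc, ← hf.w, ← Category.assoc]
            exact congrArg (· ≫ f) (EtOver.w n))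
          left_inv := fun m => EtOver.hom_ext _ _ (hf.lift_snd _ _ _)
          right_inv := fun n => EtOver.hom_ext _ _ (hf.hom_ext
            ((hf.lift_fst _ _ _).trans (EtOver.w n).symm) (hf.lift_snd _ _ _)) }
      homEquiv_naturality_left_symm := fun g n => EtOver.hom_ext _ _ (Category.assoc _ _ _)
      homEquiv_naturality_right := fun {E W W'} m k => EtOver.hom_ext _ _ (hf.hom_ext (by
          refine (hf.lift_fst _ _ _).trans ?_
          show E.obj.hom = (yon S).map (hf.lift E.obj.hom m.hom.left _ ≫ (EtOver.bcMap hf k).hom.left) ≫ _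
          rw [Functor.map_comp, Category.assoc, EtOver.map_bcMap_fst]
          exact (hf.lift_fst _ _ _).symm) (by
          refine (hf.lift_snd _ _ _).trans ?_
          show m.hom.left ≫ k.hom.left = (hf.lift E.obj.hom m.hom.left _ ≫ (EtOver.bcMap hf k).hom.left) ≫ _
          rw [Category.assoc, EtOver.bcMap_snd, hf.lift_snd_assoc])) }

theorem postBcAdj_counit (W : EtOver Y) : ((postBcAdj hf he).counit.app W).hom.left = hf.snd W.obj.hom :=
  Category.id_comp _

theorem postBcAdj_unit (E : EtOver X) :
    ((postBcAdj hf he).unit.app E).hom.left ≫ hf.snd (((EtOver.postcomp f he).obj E).obj.hom) = 𝟙 _ :=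
  hf.lift_snd _ _ _

instance : (EtOver.postcomp f he).IsContinuous (etTop X) (etTop Y) :=
  Groth.Agent.AlgSpLib.PostcompSite.isContinuous f he

/-- functions on an object over `X` are those of the same scheme over `Y` -/
def postRingHom : OEtRing X ⟶
    ((EtOver.postcomp f he).sheafPushforwardContinuous RingCat.{u + 1} (etTop X) (etTop Y)).obj (OEtRing Y) :=
  ObjectProperty.homMk
    { app := fun E => 𝟙 ((OEtRing X).obj.obj E)
      naturality := fun E E' g => rfl }

/-- restriction along postcomposition is left adjoint to push forward -/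
def restrPushAdj : SheafOfModules.pushforward.{u + 1} (postRingHom he) ⊣ pushModEt hf := by
  refine SheafOfModules.pushforwardPushforwardAdj (postBcAdj hf he) (postRingHom he) (bcRingHom hf) ?_ ?_
  · ext W a
    show (OEtRing Y).obj.map ((postBcAdj hf he).counit.app W.unop).op a = _
    refine Eq.trans ?_ (rfl : (bcRingHom hf).hom.app W a = _)
    exact congrArg (fun q : (hf.pullback W.unop.obj.hom) ⟶ W.unop.obj.left => (ULift.up (q.left.appTop.hom a.down) : R ((EtOver.bc hf).obj W.unop)))
      (postBcAdj_counit hf he W.unop)
  · ext E a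
    show (OEtRing X).obj.map ((postBcAdj hf he).unit.app E.unop).op ((bcRingHom hf).hom.app _ a) = a
    show ULift.up _ = ULift.up a.down
    congr 1
    show ((hf.snd _).left.appTop ≫ (((postBcAdj hf he).unit.app E.unop).hom.left.left).appTop).hom a.down = a.down
    rw [← Scheme.Hom.comp_appTop, ← Over.comp_left, postBcAdj_unit]
    rfl

theorem isQuasicoherent_pull_etale [(SheafOfModules.pushforward.{u + 1} (bcRingHom hf)).IsRightAdjoint]
    (he : IsEtaleMor f) (G : ModEt Y) [G.IsQuasicoherent] : ((pullModEt hf).obj G).IsQuasicoherent := by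
  let e := (restrPushAdj hf he).leftAdjointUniq (pullPushAdjModEt hf)
  refine (SheafOfModules.isQuasicoherent (OEtRing X)).prop_of_iso (e.app G) ?_
  refine isQuasicoherent_of_isBaseChange fun {E V} _ _ g => ?_
  haveI : IsAffine ((EtOver.postcomp f he).obj E).obj.left.left := ‹IsAffine E.obj.left.left›
  haveI : IsAffine ((EtOver.postcomp f he).obj V).obj.left.left := ‹IsAffine V.obj.left.left›
  exact isBaseChange_res (M := G) ((EtOver.postcomp f he).map g)

end Groth.Agent.EtQC
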