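import Groth.Agent.EtQC.EtPull

/-!
Pullback along representable etale morphisms: exactness, and descent of quasi-coherence.
-/

set_option autoImplicit false
set_option linter.style.haveILetI false
set_option backward.isDefEq.respectTransparency false

universe u

noncomputable section

open CategoryTheory CategoryTheory.Limits AlgebraicGeometry Opposite AlgSp TensorProduct

namespace Groth.Agent.EtQC

variable {S : Scheme.{u}} {X Y : Sp S} {f : X ⟶ Y} (hf : Representable f) (he : IsEtaleMor f)

theorem preservesFiniteLimits_restr :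
    PreservesFiniteLimits (SheafOfModules.pushforward.{u + 1} (postRingHom he)) := by
  let T := SheafOfModules.toSheaf.{u + 1} (OEtRing X) ⋙ sheafToPresheaf (etTop X) AddCommGrpCat.{u + 1}
  haveI : PreservesFiniteLimits (SheafOfModules.pushforward.{u + 1} (postRingHom he) ⋙ T) :=
    comp_preservesFiniteLimits (SheafOfModules.toSheaf.{u + 1} (OEtRing Y) ⋙ sheafToPresheaf (etTop Y) _)
      ((Functor.whiskeringLeft _ _ AddCommGrpCat.{u + 1}).obj (EtOver.postcomp f he).op)
  haveI : T.ReflectsIsomorphisms := inferInstance
  exact preservesFiniteLimits_of_reflects_of_preserves _ T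

theorem preservesFiniteLimits_pull_etale [(SheafOfModules.pushforward.{u + 1} (bcRingHom hf)).IsRightAdjoint]
    (he : IsEtaleMor f) : PreservesFiniteLimits (pullModEt hf) := by
  haveI := preservesFiniteLimits_restr he
  exact preservesFiniteLimits_of_natIso ((restrPushAdj hf he).leftAdjointUniq (pullPushAdjModEt hf))

/-- base change of sections, transported along an isomorphism of the source -/
theorem bijective_of_iso {M : ModEt Y} {E V V' : EtOver Y} (g : V ⟶ E) (g' : V' ⟶ E) (a : V ⟶ V') (b : V' ⟶ V)
    (hab : a ≫ b = 𝟙 _) (hba : b ≫ a = 𝟙 _) (w : a ≫ g' = g) (h : IsBaseChange (Rg g') (resL M g')) :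
    IsBaseChange (Rg g) (resL M g) := by
  let θ := LinearMap.liftBaseChange (Rg g) (resL M g)
  let θ' := LinearMap.liftBaseChange (Rg g') (resL M g')
  have hθ' : Function.Bijective θ' := h
  have wb : b ≫ g = g' := by rw [← w, ← Category.assoc, hba, Category.id_comp]
  have hia : Function.Bijective (tmap (sectModEt M E) (g := g') (k := g) a w) := by
    refine Function.bijective_iff_has_inverse.mpr ⟨tmap (sectModEt M E) (g := g) (k := g') b wb,
      fun z => ?_, fun z => ?_⟩ <;>
    induction z using TensorProduct.induction_on with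
    | zero => simp only [map_zero]
    | tmul c n =>
      rw [tmap_tmul, tmap_tmul]
      congr 1
      first
      | (show res b (res a c) = c; rw [← res_comp, hba, res_id])
      | (show res a (res b c) = c; rw [← res_comp, hab, res_id])
    | add x y hx hy => rw [map_add, map_add, hx, hy]
  have key : ∀ z, θ (tmap (sectModEt M E) (g := g') (k := g) a w z) = resM M a (θ' z) := fun z => by
    induction z using TensorProduct.induction_on with
    | zero => simp only [map_zero]
    | tmul c n =>
      rw [tmap_tmul, LinearMap.liftBaseChange_tmul, LinearMap.liftBaseChange_tmul]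
      subst w
      refine Eq.trans ?_ (resM_smul a c (resL M g' n)).symm
      exact congrArg (resR a rfl c • ·) (resM_comp g' a n)
    | add x y hx hy => simp only [map_add, hx, hy]
  have hra : Function.Bijective (resM M a) :=
    Function.bijective_iff_has_inverse.mpr ⟨resM M b,
      fun s => by rw [← resM_comp, hba, resM_id], fun s => by rw [← resM_comp, hab, resM_id]⟩
  have hcomp : Function.Bijective (θ ∘ tmap (sectModEt M E) (g := g') (k := g) a w) := by
    have e : θ ∘ tmap (sectModEt M E) (g := g') (k := g) a w = (resM M a) ∘ θ' := funext key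
    rw [e]
    exact hra.comp hθ'
  exact (Function.Bijective.of_comp_iff θ hia).mp hcomp

/-- quasi-coherence is local on the site -/
theorem isQuasicoherent_of_local {M : ModEt Y}
    (h : ∀ (W : EtOver Y) (x : W.obj.left.left), ∃ (E : EtOver Y) (_ : IsAffine E.obj.left.left) (a : E ⟶ W),
      x ∈ Set.range a.hom.left.left ∧
        ∀ {V : EtOver Y} [IsAffine V.obj.left.left] (g : V ⟶ E), IsBaseChange (Rg g) (resL M g)) :
    M.IsQuasicoherent :=
  let I := {E : EtOver Y // ∃ (_ : IsAffine E.obj.left.left),
    ∀ {V : EtOver Y} [IsAffine V.obj.left.left] (g : V ⟶ E), IsBaseChange (Rg g) (resL M g)}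
  let q : M.QuasicoherentData :=
    { I := I
      X := fun E => E.1
      coversTop := fun W => Groth.Agent.AlgSpLib.StalkPoint.mem_etTop_of_jointly_surjective _ fun x => by
        have hx := h W x
        obtain ⟨E, hE, a, hxa, hb⟩ := hx
        exact ⟨E, a, ⟨⟨E, hE, hb⟩, ⟨𝟙 E⟩⟩, hxa⟩
      presentation := fun E => @presentationOfAffine S Y M E.1 E.2.choose (fun {V} hV g => (E.2.choose_spec : ∀ {V : EtOver Y} [IsAffine V.obj.left.left] (g : V ⟶ E.1), IsBaseChange (Rg g) (resL M g)) g)
        (sectModEt M E.1) (LinearMap.ker (Finsupp.linearCombination (R E.1) (id : sectModEt M E.1 → sectModEt M E.1)))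
        id (by rw [Set.range_id, Submodule.span_univ]) Subtype.val
        (by rw [Subtype.range_coe, Submodule.span_eq]) }
  q.isQuasicoherent

theorem isQuasicoherent_of_pull_etale [(SheafOfModules.pushforward.{u + 1} (bcRingHom hf)).IsRightAdjoint]
    (he : IsEtaleMor f) (hs : RepWith @Surjective f) (F : ModEt Y)
    (hF : ((pullModEt hf).obj F).IsQuasicoherent) : F.IsQuasicoherent := by
  let e := (restrPushAdj hf he).leftAdjointUniq (pullPushAdjModEt hf)
  haveI hQ : ((SheafOfModules.pushforward.{u + 1} (postRingHom he)).obj F).IsQuasicoherent :=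
    (SheafOfModules.isQuasicoherent (OEtRing X)).prop_of_iso (e.app F).symm hF
  refine isQuasicoherent_of_local fun W x => ?_
  let W' := (EtOver.postcomp f he).obj ((EtOver.bc hf).obj W)
  let c : W' ⟶ W := (postBcAdj hf he).counit.app W
  have hsurj : Surjective (hf.snd W.obj.hom).left := hs.2 W.obj.hom _ _ (hf.isPullback W.obj.hom)
  obtain ⟨w, hw⟩ := hsurj.surj x
  have hn := exists_affine_nhd ((EtOver.bc hf).obj W) w
  obtain ⟨E, hE, h', z, hz⟩ := hn
  refine ⟨(EtOver.postcomp f he).obj E, hE, (EtOver.postcomp f he).map h' ≫ c, ⟨z, ?_⟩, fun {V} _ g => ?_⟩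
  · show c.hom.left.left (h'.hom.left.left z) = x
    rw [hz]
    exact (congrArg (fun q => q.left w) (postBcAdj_counit hf he W)).trans hw
  · let L := Groth.Agent.AlgSpLib.PostcompSite.lift f he g
    haveI : IsAffine L.obj.left.left := ‹IsAffine V.obj.left.left›
    refine bijective_of_iso g ((EtOver.postcomp f he).map (Groth.Agent.AlgSpLib.PostcompSite.liftHom f he g))
      (Groth.Agent.AlgSpLib.PostcompSite.liftIso f he g) (Groth.Agent.AlgSpLib.PostcompSite.liftInv f he g)
      (EtOver.hom_ext _ _ (Category.id_comp _)) (EtOver.hom_ext _ _ (Category.id_comp _))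
      (Groth.Agent.AlgSpLib.PostcompSite.liftIso_map f he g) ?_
    exact isBaseChange_res (M := (SheafOfModules.pushforward.{u + 1} (postRingHom he)).obj F)
      (Groth.Agent.AlgSpLib.PostcompSite.liftHom f he g)

end Groth.Agent.EtQC
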