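import Groth.Agent.EtQC.Closure

/-!
Short exact sequences of modules on the small etale site with quasi-coherent first term are exact on affine
objects; extensions of quasi-coherent modules are quasi-coherent.
-/

set_option autoImplicit false
set_option linter.style.haveILetI false
set_option backward.isDefEq.respectTransparency false

universe u

noncomputable section

open CategoryTheory CategoryTheory.Limits AlgebraicGeometry Opposite AlgSp TensorProduct

namespace Groth.Agent.EtQC

variable {S : Scheme.{u}} {X : Sp S}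

theorem GenSite.exact_app {C : Type*} [Category C] {J : GrothendieckTopology C} [HasSheafify J AddCommGrpCat.{u + 1}] [J.WEqualsLocallyBijective AddCommGrpCat.{u + 1}]
    {R : Sheaf J RingCat.{u + 1}}
    {M N P : SheafOfModules.{u + 1} R} (f : M ⟶ N) (g : N ⟶ P) (w : f ≫ g = 0)
    (hf : IsLimit (KernelFork.ofι f w)) (V : C) (m : N.val.obj (op V)) (hm : g.val.app (op V) m = 0) :
    ∃ k, f.val.app (op V) k = m := by
  let G := SheafOfModules.evaluation R (op V)
  have hS : (ShortComplex.mk (G.map f) (G.map g)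
      (by rw [← G.map_comp, w, Functor.map_zero])).Exact :=
    ShortComplex.exact_of_f_is_kernel _ (KernelFork.mapIsLimit _ hf G)
  exact (ShortComplex.moduleCat_exact_iff _).mp hS m hm

theorem exact_appM {T : ShortComplex (ModEt X)} (hT : T.ShortExact) (E : EtOver X) :
    Function.Exact (appM T.f E) (appM T.g E) := by
  have := hT.mono_f
  intro m
  constructor
  · intro hm
    exact GenSite.exact_app T.f T.g T.zero hT.exact.fIsKernel E m hm
  · rintro ⟨k, rfl⟩
    exact congrArg (fun q : T.X₁ ⟶ T.X₃ => q.val.app (op E) k) T.zero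

theorem appM_g_surjective {T : ShortComplex (ModEt X)} (hT : T.ShortExact) [T.X₁.IsQuasicoherent] (E : EtOver X)
    [IsAffine E.obj.left.left] : Function.Surjective (appM T.g E) := by
  classical
  have := hT.mono_f
  have := hT.epi_g
  intro m
  have hloc : ∀ x : E.obj.left.left, ∃ (V : EtOver X) (h : V ⟶ E), IsAffine V.obj.left.left ∧
      x ∈ Set.range h.hom.left.left ∧ ∃ s, appM T.g V s = resM T.X₃ h m := fun x => by
    have he := GenSite.epi_locally (V := E) T.g m
    obtain ⟨R', hR', hl⟩ := he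
    have hex := exists_affine_of_mem hR' x
    obtain ⟨V, h, hV, hx, hh⟩ := hex
    exact ⟨V, h, hV, hx, hl h hh⟩
  have hcov := exists_finite_cover (W := E) (fun V h => ∃ s, appM T.g V s = resM T.X₃ h m) hloc
  obtain ⟨n, W, h, hW, hc, hP⟩ := hcov
  choose s hs using hP
  let h2 : ∀ p : Fin n × Fin n, pb (h p.1) (h p.2) ⟶ E := fun p => pbFst (h p.1) (h p.2) ≫ h p.1
  have hW2 : ∀ p : Fin n × Fin n, IsAffine (pb (h p.1) (h p.2)).obj.left.left := fun p => by
    have := hW p.1; have := hW p.2; infer_instance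
  have hd : ∀ p : Fin n × Fin n, ∃ d, appM T.f _ d =
      resM T.X₂ (pbFst (h p.1) (h p.2)) (s p.1) - resM T.X₂ (pbSnd (h p.1) (h p.2)) (s p.2) := fun p => by
    refine (exact_appM hT _ _).mp ?_
    rw [map_sub, ← resM_appM, ← resM_appM, hs, hs, ← resM_comp, ← resM_comp, pb_condition, sub_self]
  choose d hd using hd
  have w2 : ∀ p : Fin n × Fin n, pbSnd (h p.1) (h p.2) ≫ h p.2 = h2 p := fun p => (pb_condition _ _).symm
  let δ : (∀ a, Mg T.X₁ (h a)) →ₗ[R E] (∀ p, Mg T.X₁ (h2 p)) := LinearMap.pi fun p =>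
    (resK (pbFst (h p.1) (h p.2)) rfl).comp (LinearMap.proj p.1) -
      (resK (pbSnd (h p.1) (h p.2)) (w2 p)).comp (LinearMap.proj p.2)
  haveI : ∀ c, Module.Flat (R E) (Rg (h c)) := fun c => by have := hW c; exact flat_res (h c)
  have hB : JointlyFF (A := R E) (fun i => Rg (h i)) := by
    letI : ∀ i, Algebra (R E) (R (W i)) := fun i => (res (h i)).toAlgebra
    exact jointlyFF_res h hc fun i a => rfl
  let d₀ : ∀ p, Mg T.X₁ (h2 p) := d
  suffices hkey : (LinearMap.range δ).mkQ d₀ = 0 by
    obtain ⟨e, he⟩ := (Submodule.Quotient.mk_eq_zero _).mp hkey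
    have hglue := exists_glue (M := T.X₂) h hc (fun a => s a - appM T.f (W a) (e a)) fun a b => by
      have h1 : resM T.X₁ (pbFst (h a) (h b)) (e a) - resM T.X₁ (pbSnd (h a) (h b)) (e b) = d (a, b) :=
        congrFun he (a, b)
      have h2' := hd (a, b)
      rw [← h1, map_sub, ← resM_appM, ← resM_appM] at h2'
      rw [map_sub, map_sub, sub_eq_sub_iff_sub_eq_sub]
      exact h2'.symm
    obtain ⟨t, ht⟩ := hglue
    refine ⟨t, eq_of_cover (M := T.X₃) h hc fun a => ?_⟩
    rw [resM_appM, ht, map_sub, (exact_appM hT _ _).mpr ⟨e a, rfl⟩, sub_zero, hs]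
  refine eq_zero_of_one_tmul (A := R E) (fun i => Rg (h i)) hB _ fun c => ?_
  have hW' : ∀ a, IsAffine (pb (h c) (h a)).obj.left.left := fun a => by
    have := hW a; have := hW c; infer_instance
  have hW2' : ∀ p, IsAffine (pb (h c) (h2 p)).obj.left.left := fun p => by
    have := hW2 p; have := hW c; infer_instance
  have hΦ₁ := fun a => @exists_phi S X T.X₁ E (W c) (W a) _ (hW a) (hW c) (h c) (h a)
    (@isBaseChange_res S X T.X₁ (W a) _ (pb (h c) (h a)) (hW a) (hW' a) (pbSnd (h c) (h a)))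
  choose Φ₁ hb₁ hd₁ using hΦ₁
  have hΦ₂ := fun p : Fin n × Fin n => @exists_phi S X T.X₁ E (W c) (pb (h p.1) (h p.2)) _ (hW2 p) (hW c) (h c) (h2 p)
    (@isBaseChange_res S X T.X₁ (pb (h p.1) (h p.2)) _ (pb (h c) (h2 p)) (hW2 p) (hW2' p) (pbSnd (h c) (h2 p)))
  choose Φ₂ hb₂ hd₂ using hΦ₂
  obtain ⟨θ₁, hθ₁, hθ₁d⟩ := bijective_piMap Φ₁ hb₁
  obtain ⟨θ₂, hθ₂, hθ₂d⟩ := bijective_piMap Φ₂ hb₂
  obtain ⟨z, hz⟩ := hθ₁.2 fun a => - d (c, a)
  let lA : ∀ p : Fin n × Fin n, pb (h c) (h2 p) ⟶ pb (h c) (h p.1) := fun p =>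
    pbLift (h c) (h p.1) (pbFst (h c) (h2 p)) (pbSnd (h c) (h2 p) ≫ pbFst (h p.1) (h p.2))
      (by rw [Category.assoc]; exact pb_condition (h c) (h2 p))
  let lB : ∀ p : Fin n × Fin n, pb (h c) (h2 p) ⟶ pb (h c) (h p.2) := fun p =>
    pbLift (h c) (h p.2) (pbFst (h c) (h2 p)) (pbSnd (h c) (h2 p) ≫ pbSnd (h p.1) (h p.2))
      (by rw [Category.assoc, w2]; exact pb_condition (h c) (h2 p))
  have hnat : ∀ z q, θ₂ (δ.lTensor (Rg (h c)) z) q =
      resM T.X₁ (lA q) (θ₁ z q.1) - resM T.X₁ (lB q) (θ₁ z q.2) := by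
    intro z q
    induction z using TensorProduct.induction_on with
    | zero => simp
    | tmul b p =>
      rw [LinearMap.lTensor_tmul, hθ₂d, hd₂, hθ₁d, hθ₁d, hd₁, hd₁, resM_smul, resM_smul]
      show _ • resM T.X₁ (pbSnd (h c) (h2 q)) (resM T.X₁ (pbFst (h q.1) (h q.2)) (p q.1) -
        resM T.X₁ (pbSnd (h q.1) (h q.2)) (p q.2)) = _
      rw [map_sub, smul_sub, ← resM_comp, ← resM_comp, ← resM_comp, ← resM_comp, ← res_comp, ← res_comp]
      simp only [lA, lB, pbLift_fst, pbLift_snd]
    | add a b ha hb =>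
      simp only [map_add, Pi.add_apply, ha, hb]
      abel
  have hone : δ.lTensor (Rg (h c)) z = (1 : Rg (h c)) ⊗ₜ d₀ := by
    apply hθ₂.1
    funext q
    rw [hnat, hz, hθ₂d, hd₂]
    refine Eq.trans ?_ ((congrArg (· • resM T.X₁ (pbSnd (h c) (h2 q)) (d q)) (map_one (res (pbFst (h c) (h2 q))))).trans
      (one_smul _ _)).symm
    apply app_injective_of_mono T.f
    show appM T.f _ (resM T.X₁ (lA q) (-d (c, q.1)) - resM T.X₁ (lB q) (-d (c, q.2))) =
      appM T.f _ (resM T.X₁ (pbSnd (h c) (h2 q)) (d q))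
    have e1 : appM T.f (pb (h c) (h q.1)) (d (c, q.1)) =
        resM T.X₂ (pbFst (h c) (h q.1)) (s c) - resM T.X₂ (pbSnd (h c) (h q.1)) (s q.1) := hd (c, q.1)
    have e2 : appM T.f (pb (h c) (h q.2)) (d (c, q.2)) =
        resM T.X₂ (pbFst (h c) (h q.2)) (s c) - resM T.X₂ (pbSnd (h c) (h q.2)) (s q.2) := hd (c, q.2)
    rw [map_sub, map_neg, map_neg, map_neg, map_neg, ← resM_appM, ← resM_appM, ← resM_appM, e1, e2, hd,
      map_sub, map_sub, map_sub]
    simp only [← resM_comp, lA, lB, pbLift_fst, pbLift_snd]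
    abel
  rw [← LinearMap.lTensor_tmul, ← hone, ← LinearMap.lTensor_comp_apply,
    show (LinearMap.range δ).mkQ.comp δ = 0 from LinearMap.ext fun w =>
      (Submodule.Quotient.mk_eq_zero _).mpr (LinearMap.mem_range_self δ w),
    LinearMap.lTensor_zero, LinearMap.zero_apply]

theorem isQuasicoherent_X₂ {T : ShortComplex (ModEt X)} (hT : T.ShortExact) [T.X₁.IsQuasicoherent]
    [T.X₃.IsQuasicoherent] : T.X₂.IsQuasicoherent := by
  refine isQuasicoherent_of_isBaseChange fun {E V} _ _ g => ?_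
  have := hT.mono_f
  haveI : Module.Flat (R E) (Rg g) := flat_res g
  let θ := LinearMap.liftBaseChange (Rg g) (resL T.X₂ g)
  let e1 := (isBaseChange_res (M := T.X₁) g).equiv
  let e3 := (isBaseChange_res (M := T.X₃) g).equiv
  have n1 : ∀ z, θ ((appM T.f E).lTensor (Rg g) z) = appM T.f V (e1 z) := fun z => by
    induction z using TensorProduct.induction_on with
    | zero =>
      simp only [map_zero]
    | tmul b n =>
      rw [LinearMap.lTensor_tmul, LinearMap.liftBaseChange_tmul, IsBaseChange.equiv_tmul]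
      refine Eq.trans ?_ (map_smul (appM T.f V) (show R V from b) _).symm
      exact congrArg (fun y : sectModEt T.X₂ V => (show R V from b) • y) (resM_appM T.f g n)
    | add a b ha hb =>
      simp only [map_add, ha, hb]
  have n2 : ∀ z, e3 ((appM T.g E).lTensor (Rg g) z) = appM T.g V (θ z) := fun z => by
    induction z using TensorProduct.induction_on with
    | zero =>
      simp only [map_zero]
    | tmul b n =>
      rw [LinearMap.lTensor_tmul, LinearMap.liftBaseChange_tmul, IsBaseChange.equiv_tmul]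
      refine Eq.trans ?_ (map_smul (appM T.g V) (show R V from b) _).symm
      exact congrArg (fun y : sectModEt T.X₃ V => (show R V from b) • y) (resM_appM T.g g n)
    | add a b ha hb =>
      simp only [map_add, ha, hb]
  have hex := Module.Flat.lTensor_exact (Rg g) (exact_appM hT E)
  have hb : Function.Bijective θ := by
    refine ⟨(injective_iff_map_eq_zero θ).mpr fun z hz => ?_, fun m => ?_⟩
    · have h3 : (appM T.g E).lTensor (Rg g) z = 0 := e3.injective (by
        rw [n2, hz]; exact (map_zero _).trans (map_zero e3).symm)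
      obtain ⟨y, hy⟩ := (hex z).mp h3
      rw [← hy, n1] at hz
      have hy0 : e1 y = 0 := app_injective_of_mono T.f V (hz.trans (map_zero (appM T.f V)).symm)
      rw [← hy, e1.map_eq_zero_iff.mp hy0, map_zero]
    · obtain ⟨z, hz⟩ := LinearMap.lTensor_surjective (Rg g) (appM_g_surjective hT E) (e3.symm (appM T.g V m))
      have h0 : appM T.g V (m - θ z) = 0 := by
        rw [map_sub, sub_eq_zero]
        refine Eq.trans ?_ (n2 z)
        rw [hz, LinearEquiv.apply_symm_apply]
      obtain ⟨k, hk⟩ := (exact_appM hT V _).mp h0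
      refine ⟨(appM T.f E).lTensor (Rg g) (e1.symm k) + z, ?_⟩
      rw [map_add, n1, LinearEquiv.apply_symm_apply]
      exact (congrArg (· + θ z) hk).trans (sub_add_cancel _ _)
  exact IsBaseChange.of_equiv (LinearEquiv.ofBijective θ hb) fun m => by
    show θ ((1 : Rg g) ⊗ₜ m) = _
    rw [LinearMap.liftBaseChange_tmul, one_smul]

end Groth.Agent.EtQC
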