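import Groth.Agent.EtQC.PushAff
import Groth.Agent.AlgSpLib.DiagCrit

/-!
Push forwards along representable quasi-compact quasi-separated morphisms of quasi-coherent modules.
-/

set_option autoImplicit false
set_option linter.style.haveILetI false
set_option backward.isDefEq.respectTransparency false

universe u

noncomputable section

open CategoryTheory CategoryTheory.Limits AlgebraicGeometry Opposite AlgSp TensorProduct

namespace Groth.Agent.EtQC

variable {S : Scheme.{u}} {X Y : Sp S}

/-- a finite affine covering of a quasi-compact object -/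
theorem exists_finite_cover_of_compact {W : EtOver X} [CompactSpace ↥W.obj.left.left] :
    ∃ (n : ℕ) (V : Fin n → EtOver X) (h : ∀ i, V i ⟶ W), (∀ i, IsAffine (V i).obj.left.left) ∧
      ∀ x : W.obj.left.left, ∃ i, x ∈ Set.range (h i).hom.left.left := by
  have hch := fun x : W.obj.left.left => exists_affine_nhd W x
  choose V hV h hx using hch
  have ho : ∀ x, IsOpen (Set.range (h x).hom.left.left) := fun x => by
    have : Etale (h x).hom.left.left := EtOver.etale_left (h x)
    exact (h x).hom.left.left.isOpenMap.isOpen_range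
  obtain ⟨t, ht⟩ := isCompact_univ.elim_finite_subcover _ ho (fun x _ => Set.mem_iUnion.mpr ⟨x, hx x⟩)
  obtain ⟨n, ⟨e⟩⟩ := Finite.exists_equiv_fin t
  refine ⟨n, fun i => V (e.symm i).1, fun i => h _, fun i => hV _, fun x => ?_⟩
  obtain ⟨y, hy, hxy⟩ := Set.mem_iUnion₂.mp (ht (Set.mem_univ x))
  refine ⟨e ⟨y, hy⟩, ?_⟩
  have he := e.symm_apply_apply ⟨y, hy⟩
  show x ∈ Set.range (h (e.symm (e ⟨y, hy⟩)).1).hom.left.left
  exact (congrArg (fun k : t => Set.range (h k.1).hom.left.left) he).symm ▸ hxy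

theorem compactSpace_pb {W V V' : EtOver X} (g : V ⟶ W) (h : V' ⟶ W) [QuasiSeparatedSpace ↥W.obj.left.left]
    [IsAffine V.obj.left.left] [IsAffine V'.obj.left.left] : CompactSpace ↥(pb g h).obj.left.left := by
  haveI : QuasiCompact h.hom.left.left := quasiCompact_of_compactSpace _
  exact QuasiCompact.compactSpace_of_compactSpace (pullback.fst g.hom.left.left h.hom.left.left)


variable {f : X ⟶ Y} (hf : Representable f) {E V : EtOver Y} (g : V ⟶ E)

/-- base change of sections over an affine piece of a base change -/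
theorem exists_phi_push (M : ModEt X) [M.IsQuasicoherent] [IsAffine E.obj.left.left] [IsAffine V.obj.left.left]
    {W : EtOver X} [IsAffine W.obj.left.left] (h : W ⟶ (EtOver.bc hf).obj E) :
    letI : Module (R E) (sectModEt M W) := Module.compHom _ ((res h).comp (pushRes hf E))
    ∃ Φ : Rg g ⊗[R E] sectModEt M W →+ sectModEt M (pb ((EtOver.bc hf).map g) h), Function.Bijective Φ ∧
      ∀ (b : Rg g) m, Φ (b ⊗ₜ m) =
        res (pbFst ((EtOver.bc hf).map g) h) (pushRes hf V b) • resM M (pbSnd ((EtOver.bc hf).map g) h) m := by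
  let g' := (EtOver.bc hf).map g
  let W' := pb g' h
  let p₁ := pbFst g' h
  let p₂ := pbSnd g' h
  letI : Algebra (R E) (R W) := ((res h).comp (pushRes hf E)).toAlgebra
  letI : Algebra (Rg g) (Rg p₂) := ((res p₁).comp (pushRes hf V)).toAlgebra
  letI : Algebra (R E) (Rg p₂) := ((algebraMap (R W) (Rg p₂)).comp (algebraMap (R E) (R W))).toAlgebra
  haveI : IsScalarTower (R E) (R W) (Rg p₂) := IsScalarTower.of_algebraMap_eq' rfl
  have hbig : IsPullback p₂.hom.left.left (p₁.hom.left.left ≫ (hf.snd V.obj.hom).left)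
      (h.hom.left.left ≫ (hf.snd E.obj.hom).left) g.hom.left.left :=
    ((IsPullback.of_hasPullback g'.hom.left.left h.hom.left.left).flip).paste_vert (isPullback_bc hf g)
  have hcomm : ∀ a, res p₂ (res h (pushRes hf E a)) = res p₁ (pushRes hf V (res g a)) := fun a => by
    have e := congrArg (fun k => k.appTop.hom a.down) hbig.w
    simp only [Scheme.Hom.comp_appTop, CommRingCat.hom_comp, RingHom.comp_apply] at e
    exact congrArg ULift.up e
  haveI : IsScalarTower (R E) (Rg g) (Rg p₂) := IsScalarTower.of_algebraMap_eq fun a => hcomm a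
  haveI : IsAffine W'.obj.left.left := IsAffine.of_isIso hbig.flip.isoPullback.hom
  haveI : Algebra.IsPushout (R E) (Rg g) (R W) (Rg p₂) := by
    have hp := isPushout_appTop_of_isPullback hbig.flip
    exact isPushout_of_ringEquiv _ _ _ _ hp ULift.ringEquiv.symm ULift.ringEquiv.symm ULift.ringEquiv.symm
      ULift.ringEquiv.symm (fun a => rfl) (fun a => rfl) (fun a => rfl) (fun a => rfl)
  letI : Module (R E) (sectModEt M W) := Module.compHom _ ((res h).comp (pushRes hf E))
  haveI : IsScalarTower (R E) (R W) (sectModEt M W) := IsScalarTower.of_algebraMap_smul fun _ _ => rfl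
  letI : Module (R E) (Rg p₂) := Algebra.toModule
  let l : Rg g →+ sectModEt M W →+ Mg M p₂ :=
    AddMonoidHom.mk' (fun b => AddMonoidHom.mk' (fun m => algebraMap (Rg g) (Rg p₂) b • resL M p₂ m)
      (fun a c => by rw [map_add, smul_add]))
      (fun a c => AddMonoidHom.ext fun m => by
        show algebraMap (Rg g) (Rg p₂) (a + c) • resL M p₂ m = _
        rw [map_add, add_smul]
        rfl)
  let Φ : Rg g ⊗[R E] sectModEt M W →+ Mg M p₂ := TensorProduct.liftAddHom l (fun r b m => by
    show algebraMap (Rg g) (Rg p₂) (r • b) • resL M p₂ m =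
      algebraMap (Rg g) (Rg p₂) b • resM M p₂ (res h (pushRes hf E r) • m)
    rw [resM_smul, hcomm, Algebra.smul_def, map_mul, mul_comm, mul_smul]
    rfl)
  have hΦ : ∀ (b : Rg g) (m : sectModEt M W), Φ (b ⊗ₜ m) = algebraMap (Rg g) (Rg p₂) b • resL M p₂ m :=
    fun b m => rfl
  exact ⟨Φ, bijective_lift_of_pushout (resL M p₂) (isBaseChange_res (M := M) p₂) Φ hΦ, fun b m => rfl⟩

theorem isQuasicoherent_push_qcqs (M : ModEt X) [M.IsQuasicoherent]
    (hc : ∀ E : EtOver Y, IsAffine E.obj.left.left → CompactSpace ↥((EtOver.bc hf).obj E).obj.left.left)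
    (hs : ∀ E : EtOver Y, IsAffine E.obj.left.left → QuasiSeparatedSpace ↥((EtOver.bc hf).obj E).obj.left.left) :
    ((pushModEt hf).obj M).IsQuasicoherent := by
  refine isQuasicoherent_of_isBaseChange fun {E V} _ _ g => ?_
  classical
  let N := (pushModEt hf).obj M
  let E' := (EtOver.bc hf).obj E
  let g' := (EtOver.bc hf).map g
  haveI := hc E inferInstance
  haveI := hs E inferInstance
  obtain ⟨n, W, h, hW, hcov⟩ := exists_finite_cover_of_compact (W := E')
  haveI : ∀ p : Fin n × Fin n, CompactSpace ↥(pb (h p.1) (h p.2)).obj.left.left := fun p => by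
    have := hW p.1; have := hW p.2; exact compactSpace_pb _ _
  have hcov2 := fun p : Fin n × Fin n => exists_finite_cover_of_compact (W := pb (h p.1) (h p.2))
  choose m U u hU hucov using hcov2
  let ι₂ := Σ p : Fin n × Fin n, Fin (m p)
  let hA : ∀ q : ι₂, U q.1 q.2 ⟶ W q.1.1 := fun q => u q.1 q.2 ≫ pbFst (h q.1.1) (h q.1.2)
  let hB : ∀ q : ι₂, U q.1 q.2 ⟶ W q.1.2 := fun q => u q.1 q.2 ≫ pbSnd (h q.1.1) (h q.1.2)
  let h2 : ∀ q : ι₂, U q.1 q.2 ⟶ E' := fun q => hA q ≫ h q.1.1
  have w2 : ∀ q, hB q ≫ h q.1.2 = h2 q := fun q => by simp only [h2, hA, hB, Category.assoc, pb_condition]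
  letI : ∀ a, Module (R E) (sectModEt M (W a)) := fun a => Module.compHom _ ((res (h a)).comp (pushRes hf E))
  letI : ∀ q : ι₂, Module (R E) (sectModEt M (U q.1 q.2)) := fun q => Module.compHom _ ((res (h2 q)).comp (pushRes hf E))
  have hΦ₁ := fun a => @exists_phi_push S X Y f hf E V g M _ _ _ (W a) (hW a) (h a)
  choose Φ₁ hb₁ hd₁ using hΦ₁
  have hΦ₂ := fun q : ι₂ => @exists_phi_push S X Y f hf E V g M _ _ _ (U q.1 q.2) (hU q.1 q.2) (h2 q)
  choose Φ₂ hb₂ hd₂ using hΦ₂
  obtain ⟨θ₁, hθ₁, hθ₁d⟩ := bijective_piMap Φ₁ hb₁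
  obtain ⟨θ₂, hθ₂, hθ₂d⟩ := bijective_piMap Φ₂ hb₂
  let d : sectModEt N E →ₗ[R E] (∀ a, sectModEt M (W a)) :=
    { toFun := fun s a => resM M (h a) s
      map_add' := fun s t => funext fun a => map_add (resM M (h a)) s t
      map_smul' := fun r s => funext fun a => resM_smul (h a) (pushRes hf E r) s }
  let e : (∀ a, sectModEt M (W a)) →ₗ[R E] (∀ q : ι₂, sectModEt M (U q.1 q.2)) :=
    { toFun := fun y q => resM M (hA q) (y q.1.1) - resM M (hB q) (y q.1.2)
      map_add' := fun y z => funext fun q => by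
        simp only [Pi.add_apply, map_add]
        abel
      map_smul' := fun r y => funext fun q => by
        show resM M (hA q) (res (h q.1.1) (pushRes hf E r) • y q.1.1) -
            resM M (hB q) (res (h q.1.2) (pushRes hf E r) • y q.1.2) =
          res (h2 q) (pushRes hf E r) • (resM M (hA q) (y q.1.1) - resM M (hB q) (y q.1.2))
        rw [resM_smul, resM_smul, ← res_comp, ← res_comp, w2, smul_sub] }
  let lA : ∀ q : ι₂, pb g' (h2 q) ⟶ pb g' (h q.1.1) := fun q =>
    pbLift g' (h q.1.1) (pbFst g' (h2 q)) (pbSnd g' (h2 q) ≫ hA q)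
      (by rw [Category.assoc]; exact pb_condition g' (h2 q))
  let lB : ∀ q : ι₂, pb g' (h2 q) ⟶ pb g' (h q.1.2) := fun q =>
    pbLift g' (h q.1.2) (pbFst g' (h2 q)) (pbSnd g' (h2 q) ≫ hB q)
      (by rw [Category.assoc, w2]; exact pb_condition g' (h2 q))
  let d' : sectModEt N V →+ (∀ a, sectModEt M (pb g' (h a))) :=
    AddMonoidHom.pi fun a => (resM M (pbFst g' (h a))).comp (unpush hf V)
  let e' : (∀ a, sectModEt M (pb g' (h a))) →+ (∀ q : ι₂, sectModEt M (pb g' (h2 q))) := AddMonoidHom.pi fun q =>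
    (resM M (lA q)).comp (Pi.evalAddMonoidHom _ q.1.1) - (resM M (lB q)).comp (Pi.evalAddMonoidHom _ q.1.2)
  haveI : Module.Flat (R E) (Rg g) := flat_res g
  have hd : Function.Injective d := fun s t hst => eq_of_cover (M := M) h hcov fun a => congrFun hst a
  have hde : Function.Exact d e := fun y => by
    constructor
    · intro hy
      have hg : ∀ a b, resM M (pbFst (h a) (h b)) (y a) = resM M (pbSnd (h a) (h b)) (y b) := fun a b =>
        eq_of_cover (M := M) (u (a, b)) (hucov (a, b)) fun k => by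
          rw [← resM_comp, ← resM_comp]
          exact sub_eq_zero.mp (congrFun hy ⟨(a, b), k⟩)
      obtain ⟨t, ht⟩ := exists_glue (M := M) h hcov y hg
      exact ⟨t, funext ht⟩
    · rintro ⟨s, rfl⟩
      funext q
      refine sub_eq_zero.mpr ?_
      show resM M (hA q) (resM M (h q.1.1) _) = resM M (hB q) (resM M (h q.1.2) _)
      rw [← resM_comp, ← resM_comp, w2]
  have hc' : ∀ x : ((EtOver.bc hf).obj V).obj.left.left, ∃ a, x ∈ Set.range (pbFst g' (h a)).hom.left.left := fun x => by
    obtain ⟨a, y, hy⟩ := hcov (g'.hom.left.left x)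
    obtain ⟨z, hz, -⟩ := exists_pb_point g' (h a) x y hy.symm
    exact ⟨a, z, hz⟩
  have hd' : Function.Injective d' := fun s t hst => eq_of_cover (M := M) _ hc' fun a => congrFun hst a
  have hde' : ∀ c, e' (d' c) = 0 := fun c => by
    funext q
    refine sub_eq_zero.mpr ?_
    show resM M (lA q) (resM M (pbFst g' (h q.1.1)) _) = resM M (lB q) (resM M (pbFst g' (h q.1.2)) _)
    rw [← resM_comp, ← resM_comp]
    simp only [lA, lB, pbLift_fst]
  have hb : Function.Bijective (LinearMap.liftBaseChange (Rg g) (resL N g)) := by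
    refine bijective_of_flat_exact d e hd hde d' e' hd' hde'
      (LinearMap.liftBaseChange (Rg g) (resL N g)).toAddMonoidHom θ₁ θ₂ hθ₁ hθ₂.1 (fun b c => ?_) (fun b p => ?_)
    · funext a
      rw [hθ₁d, hd₁]
      show resM M (pbFst g' (h a)) (unpush hf V (LinearMap.liftBaseChange (Rg g) (resL N g) (b ⊗ₜ c))) = _
      rw [LinearMap.liftBaseChange_tmul]
      refine (resM_smul (pbFst g' (h a)) (pushRes hf V b) (resM M g' c)).trans ?_
      show _ • resM M (pbFst g' (h a)) (resM M g' c) = _ • resM M (pbSnd g' (h a)) (resM M (h a) c)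
      rw [← resM_comp, ← resM_comp, pb_condition]
    · funext q
      show resM M (lA q) (θ₁ (b ⊗ₜ p) q.1.1) - resM M (lB q) (θ₁ (b ⊗ₜ p) q.1.2) = θ₂ (b ⊗ₜ e p) q
      rw [hθ₁d, hθ₁d, hd₁, hd₁, hθ₂d, hd₂, resM_smul, resM_smul]
      show _ = _ • resM M (pbSnd g' (h2 q)) (resM M (hA q) (p q.1.1) - resM M (hB q) (p q.1.2))
      rw [map_sub, smul_sub, ← resM_comp, ← resM_comp, ← resM_comp, ← resM_comp, ← res_comp, ← res_comp]
      simp only [lA, lB, g', pbLift_fst, pbLift_snd]
  exact IsBaseChange.of_equiv (LinearEquiv.ofBijective _ hb) fun x => by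
    show LinearMap.liftBaseChange (Rg g) (resL N g) ((1 : Rg g) ⊗ₜ x) = _
    rw [LinearMap.liftBaseChange_tmul, one_smul]

theorem isQuasicoherent_push_of_qcqs (hX : IsAlgSpace X) (hY : IsAlgSpace Y) (hqc : IsQuasiCompactMor f)
    (hqs : IsQuasiSeparatedMor f) (M : ModEt X) [M.IsQuasicoherent] : ((pushModEt hf).obj M).IsQuasicoherent := by
  have h1 := ((Groth.Agent.AlgSpLib.isQuasiCompactMor_iff_repWith hX hY hf).1 hqc).2
  have h2 := ((Groth.Agent.AlgSpLib.isQuasiSeparatedMor_iff_repWith hX hY hf).1 hqs).2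
  refine isQuasicoherent_push_qcqs hf M (fun E hE => ?_) fun E hE => ?_
  · haveI : QuasiCompact (hf.snd E.obj.hom).left := h1 E.obj.hom _ _ (hf.isPullback E.obj.hom)
    exact QuasiCompact.compactSpace_of_compactSpace (hf.snd E.obj.hom).left
  · haveI : QuasiSeparated (hf.snd E.obj.hom).left := h2 E.obj.hom _ _ (hf.isPullback E.obj.hom)
    exact quasiSeparatedSpace_of_quasiSeparated (hf.snd E.obj.hom).left

end Groth.Agent.EtQC
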