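import Groth.Agent.EtQC.EtPullExact
import Groth.Agent.EtQC.PushQcqs
import Mathlib.CategoryTheory.Adjunction.FullyFaithful

/-!
Direct and inverse image along an open immersion of algebraic spaces.
-/

set_option autoImplicit false
set_option linter.style.haveILetI false
set_option backward.isDefEq.respectTransparency false

universe u

noncomputable section

open CategoryTheory CategoryTheory.Limits AlgebraicGeometry Opposite AlgSp

namespace Groth.Agent.EtQC

variable {S : Scheme.{u}} {X Y : Sp S} {f : X ⟶ Y} (hf : Representable f) (he : IsEtaleMor f) [Mono f]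

include he in
/-- base change of an object of the source, for a monomorphism -/
theorem isIso_unit_postBc (V : EtOver X) : IsIso ((postBcAdj hf he).unit.app V) := by
  let E := (EtOver.postcomp f he).obj V
  let r : (EtOver.bc hf).obj E ⟶ V := EtOver.homMk (E := (EtOver.bc hf).obj E) (E' := V) (hf.snd E.obj.hom)
    ((cancel_mono f).mp ((Category.assoc _ _ _).trans (hf.w E.obj.hom).symm))
  refine ⟨r, EtOver.hom_ext _ _ (postBcAdj_unit hf he V), EtOver.hom_ext _ _ (hf.hom_ext ?_ ?_)⟩
  · refine (cancel_mono f).mp ?_
    show ((yon S).map (r.hom.left ≫ ((postBcAdj hf he).unit.app V).hom.left) ≫ hf.fst E.obj.hom) ≫ f =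
      ((yon S).map (𝟙 _) ≫ hf.fst E.obj.hom) ≫ f
    rw [Category.assoc, Category.assoc, hf.w, ← Functor.map_comp_assoc, ← Functor.map_comp_assoc, Category.assoc,
      Category.id_comp]
    rw [show ((postBcAdj hf he).unit.app V).hom.left ≫ hf.snd E.obj.hom = 𝟙 _ from postBcAdj_unit hf he V]
    exact congrArg (fun z => (yon S).map z ≫ E.obj.hom) (Category.comp_id _)
  · show (r.hom.left ≫ ((postBcAdj hf he).unit.app V).hom.left) ≫ hf.snd E.obj.hom = 𝟙 _ ≫ hf.snd E.obj.hom
    rw [Category.assoc, show ((postBcAdj hf he).unit.app V).hom.left ≫ hf.snd E.obj.hom = 𝟙 _ from postBcAdj_unit hf he V]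
    exact (Category.comp_id _).trans (Category.id_comp _).symm

theorem res_unit_bcR (V : EtOver X) (a : R ((EtOver.postcomp f he).obj V)) :
    res ((postBcAdj hf he).unit.app V) ((bcRingHom hf).hom.app (op ((EtOver.postcomp f he).obj V)) a) = a := by
  show ULift.up _ = ULift.up a.down
  congr 1
  show ((hf.snd _).left.appTop ≫ (((postBcAdj hf he).unit.app V).hom.left.left).appTop).hom a.down = a.down
  rw [← Scheme.Hom.comp_appTop, ← Over.comp_left, postBcAdj_unit]
  rfl

/-- restriction of a direct image along a monomorphism -/
def restrPushHom (M : ModEt X) :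
    (pushModEt hf ⋙ SheafOfModules.pushforward.{u + 1} (postRingHom he)).obj M ⟶ M :=
  ⟨PresheafOfModules.homMk
    { app := fun V => AddCommGrpCat.ofHom (AddMonoidHom.mk'
        (fun m => (show sectModEt M V.unop from resM M ((postBcAdj hf he).unit.app V.unop) m))
        (fun a b => map_add (resM M ((postBcAdj hf he).unit.app V.unop)) a b))
      naturality := fun {V V'} g => AddCommGrpCat.ext fun m₀ => by
        let m : sectModEt M ((EtOver.bc hf).obj ((EtOver.postcomp f he).obj V.unop)) := m₀
        show resM M ((postBcAdj hf he).unit.app V'.unop)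
            (resM M ((EtOver.bc hf).map ((EtOver.postcomp f he).map g.unop)) m) =
          resM M g.unop (resM M ((postBcAdj hf he).unit.app V.unop) m)
        exact ((resM_comp (M := M) ((EtOver.bc hf).map ((EtOver.postcomp f he).map g.unop))
            ((postBcAdj hf he).unit.app V'.unop) m).symm.trans
          (congrArg (fun q => resM M q m) ((postBcAdj hf he).unit.naturality g.unop).symm)).trans
          (resM_comp (M := M) ((postBcAdj hf he).unit.app V.unop) g.unop m) }
    (fun V r m₀ => by
      let m : sectModEt M ((EtOver.bc hf).obj ((EtOver.postcomp f he).obj V.unop)) := m₀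
      let a : R ((EtOver.bc hf).obj ((EtOver.postcomp f he).obj V.unop)) :=
        (bcRingHom hf).hom.app (op ((EtOver.postcomp f he).obj V.unop)) r
      refine (resM_smul (M := M) ((postBcAdj hf he).unit.app V.unop) a m).trans ?_
      exact congrArg (fun c : R V.unop => c • resM M ((postBcAdj hf he).unit.app V.unop) m)
        (res_unit_bcR hf he V.unop r))⟩

theorem isIso_restrPushHom (M : ModEt X) : IsIso (restrPushHom hf he M) := by
  haveI : IsIso (restrPushHom hf he M).val := by
    haveI : IsIso ((PresheafOfModules.toPresheaf _).map (restrPushHom hf he M).val) := by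
      rw [NatTrans.isIso_iff_isIso_app]
      intro V
      haveI := isIso_unit_postBc hf he V.unop
      have : IsIso (M.val.presheaf.map ((postBcAdj hf he).unit.app V.unop).op) := inferInstance
      exact this
    exact isIso_of_reflects_iso _ (PresheafOfModules.toPresheaf _)
  haveI : IsIso ((SheafOfModules.forget (OEtRing X)).map (restrPushHom hf he M)) := ‹_›
  exact isIso_of_reflects_iso _ (SheafOfModules.forget _)

/-- a monomorphism has fully faithful direct image -/
def restrPushIso : pushModEt hf ⋙ SheafOfModules.pushforward.{u + 1} (postRingHom he) ≅ 𝟭 (ModEt X) :=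
  NatIso.ofComponents (fun M => @asIso _ _ _ _ (restrPushHom hf he M) (isIso_restrPushHom hf he M)) (fun {M N} φ =>
    SheafOfModules.hom_ext (PresheafOfModules.hom_ext fun V => ModuleCat.hom_ext (LinearMap.ext fun m =>
      resM_appM φ ((postBcAdj hf he).unit.app V.unop) m)))

include he in
theorem isIso_counit_open [(SheafOfModules.pushforward.{u + 1} (bcRingHom hf)).IsRightAdjoint] (G : ModEt X) :
    IsIso ((pullPushAdjModEt hf).counit.app G) := by
  haveI : IsIso (restrPushAdj hf he).counit := Adjunction.isIso_counit_of_iso _ (restrPushIso hf he)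
  let hff := (restrPushAdj hf he).fullyFaithfulROfIsIsoCounit
  haveI := hff.full
  haveI := hff.faithful
  infer_instance

end Groth.Agent.EtQC
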