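import Groth.Agent.EtQC.FTUnion
import Groth.Agent.EtQC.OpenPush

/-!
Extension of submodules of finite type from quasi-compact opens.
-/

set_option autoImplicit false
set_option linter.style.haveILetI false
set_option backward.isDefEq.respectTransparency false

universe u

noncomputable section

open CategoryTheory CategoryTheory.Limits AlgebraicGeometry Opposite AlgSp Groth.Agent.AlgSpLib

namespace Groth.Agent.EtQC

variable {S : Scheme.{u}}

theorem isIso_of_open_section {A B : Scheme.{u}} (f : A ⟶ B) [IsOpenImmersion f] (s : B ⟶ A) (h : s ≫ f = 𝟙 B) :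
    IsIso f :=
  ⟨⟨s, by rw [← cancel_mono f, Category.assoc, h, Category.comp_id, Category.id_comp], h⟩⟩

theorem compactSpace_bc_open [QuasiSeparatedSpace ↥S] {X U : Space S} (hqs : IsQuasiSeparatedSp X.obj)
    (hU : IsQuasiCompactSp U.obj) {j : U.obj ⟶ X.obj} (hj : RepWith @IsOpenImmersion j) (E : EtOver X.obj)
    [IsAffine E.obj.left.left] : CompactSpace ↥((EtOver.bc hj.1).obj E).obj.left.left := by
  haveI := compactSpace_of_isQuasiCompactSp hU
  obtain ⟨T, p, hT, he, hs⟩ := exists_affine_chart_of_compact U.property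
  haveI := hT
  obtain ⟨P, a, b, sq⟩ := exists_pullback X.property.diag (p ≫ j) E.obj.hom
  haveI := compact_pullback_of_isQuasiSeparatedSp hqs sq
  let B := (EtOver.bc hj.1).obj E
  let r : P ⟶ B.obj.left := hj.1.lift ((yon S).map a ≫ p) b ((Category.assoc _ _ _).trans sq.w)
  have hr : Function.Surjective r.left := fun y => by
    obtain ⟨t, ht⟩ := ofPt_surjective hs (Points.ofPt B.obj.hom y)
    have h1 : Points.ofPt (p ≫ j) t = Points.ofPt E.obj.hom ((hj.1.snd E.obj.hom).left y) := by
      rw [← Points.map_ofPt, ht, Points.map_ofPt, ← Groth.Agent.AlgSpLib.ofPt_comp]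
      exact congrArg (fun q => Points.ofPt q y) (hj.1.w E.obj.hom)
    obtain ⟨z, hz1, hz2⟩ := (ofPt_eq_iff sq t ((hj.1.snd E.obj.hom).left y)).1 h1
    have hi : IsOpenImmersion (hj.1.snd E.obj.hom).left := hj.2 _ _ _ (hj.1.isPullback E.obj.hom)
    refine ⟨z, (Scheme.Hom.isOpenEmbedding _ (H := hi)).injective ?_⟩
    show (r.left ≫ (hj.1.snd E.obj.hom).left) z = _
    rw [← Over.comp_left, hj.1.lift_snd]
    exact hz2
  exact hr.compactSpace r.left.continuous

theorem isQuasicoherent_push_open [QuasiSeparatedSpace ↥S] {X U : Space S} (hqs : IsQuasiSeparatedSp X.obj)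
    (hU : IsQuasiCompactSp U.obj) {j : U.obj ⟶ X.obj} (hj : RepWith @IsOpenImmersion j) (M : ModEt U.obj)
    [M.IsQuasicoherent] : ((pushModEt hj.1).obj M).IsQuasicoherent := by
  refine isQuasicoherent_push_qcqs hj.1 M (fun E hE => ?_) fun E hE => ?_
  · haveI := hE
    exact compactSpace_bc_open hqs hU hj E
  · haveI := hE
    have hi : IsOpenImmersion (hj.1.snd E.obj.hom).left := hj.2 _ _ _ (hj.1.isPullback E.obj.hom)
    exact quasiSeparatedSpace_of_quasiSeparated (hj.1.snd E.obj.hom).left

variable [QuasiSeparatedSpace ↥S]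

theorem exists_qc_extension {X U : Space S} (hqs : IsQuasiSeparatedSp X.obj) (hU : IsQuasiCompactSp U.obj)
    {j : U.obj ⟶ X.obj} (hj : RepWith @IsOpenImmersion j)
    [(SheafOfModules.pushforward.{u + 1} (bcRingHom hj.1)).IsRightAdjoint] (F : ModEt X.obj) [F.IsQuasicoherent]
    {G : ModEt U.obj} [G.IsQuasicoherent] (g : G ⟶ (pullModEt hj.1).obj F) [Mono g] :
    ∃ (K : ModEt X.obj) (k : K ⟶ F), Mono k ∧ K.IsQuasicoherent ∧
      ∃ e : (pullModEt hj.1).obj K ≅ G, e.hom ≫ g = (pullModEt hj.1).map k := by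
  haveI := Groth.Agent.ElemSq.mono_of_open hj
  have he : IsEtaleMor j := isEtaleMor_of_repWith' (Groth.Agent.ElemSq.repWith_etale_of_open hj)
  haveI := preservesFiniteLimits_pull_etale hj.1 he
  haveI : ((pullModEt hj.1).obj F).IsQuasicoherent := isQuasicoherent_pull_etale hj.1 he F
  haveI := isQuasicoherent_cokernel g
  haveI := isQuasicoherent_push_open hqs hU hj (cokernel g)
  let adj := pullPushAdjModEt hj.1
  haveI : IsIso (adj.counit.app (cokernel g)) := isIso_counit_open hj.1 he (cokernel g)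
  let φ : F ⟶ (pushModEt hj.1).obj (cokernel g) := adj.homEquiv _ _ (cokernel.π g)
  have hφ : (pullModEt hj.1).map φ ≫ adj.counit.app (cokernel g) = cokernel.π g :=
    (adj.homEquiv_counit _ _ _).symm.trans ((adj.homEquiv _ _).symm_apply_apply _)
  let K := kernel φ
  let k : K ⟶ F := kernel.ι φ
  haveI := isQuasicoherent_kernel φ
  haveI : Mono ((pullModEt hj.1).map k) := inferInstance
  have h0 : (pullModEt hj.1).map k ≫ cokernel.π g = 0 := by
    rw [← hφ, ← Category.assoc, ← Functor.map_comp, kernel.condition, Functor.map_zero, zero_comp]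
  let a : (pullModEt hj.1).obj K ⟶ G := Abelian.monoLift g ((pullModEt hj.1).map k) h0
  have ha : a ≫ g = (pullModEt hj.1).map k := Abelian.monoLift_comp _ _ _
  have hg0 : g ≫ (pullModEt hj.1).map φ = 0 := by
    rw [← cancel_mono (adj.counit.app (cokernel g)), Category.assoc, hφ, cokernel.condition, zero_comp]
  let b : G ⟶ (pullModEt hj.1).obj K := kernel.lift ((pullModEt hj.1).map φ) g hg0 ≫
    (PreservesKernel.iso (pullModEt hj.1) φ).inv
  have hb : b ≫ (pullModEt hj.1).map k = g := by
    show (_ ≫ _) ≫ (pullModEt hj.1).map (kernel.ι φ) = g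
    rw [Category.assoc, PreservesKernel.iso_inv_ι, kernel.lift_ι]
  refine ⟨K, k, inferInstance, inferInstance, ⟨a, b, ?_, ?_⟩, ha⟩
  · rw [← cancel_mono ((pullModEt hj.1).map k), Category.assoc, hb, ha, Category.id_comp]
  · rw [← cancel_mono g, Category.assoc, ha, hb, Category.id_comp]

theorem exists_ft_extension (X : Space S) (hqc : IsQuasiCompactSp X.obj) (hqs : IsQuasiSeparatedSp X.obj)
    (U : Space S) (j : U ⟶ X) (hj : RepWith @IsOpenImmersion j.hom) (hU : IsQuasiCompactSp U.obj)
    [(SheafOfModules.pushforward.{u + 1} (bcRingHom hj.1)).IsRightAdjoint]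
    (F : ModEt X.obj) [F.IsQuasicoherent] (G : ModEt U.obj) (g : G ⟶ (pullModEt hj.1).obj F) [Mono g]
    [G.IsQuasicoherent] [G.IsFiniteType] :
    ∃ (G' : ModEt X.obj) (g' : G' ⟶ F), Mono g' ∧ G'.IsQuasicoherent ∧ G'.IsFiniteType ∧
      ∃ e : (pullModEt hj.1).obj G' ≅ G, e.hom ≫ g = (pullModEt hj.1).map g' := by
  haveI := Groth.Agent.ElemSq.mono_of_open hj
  have he : IsEtaleMor j.hom := isEtaleMor_of_repWith' (Groth.Agent.ElemSq.repWith_etale_of_open hj)
  obtain ⟨K, k, hk, hK, eK, heK⟩ := exists_qc_extension hqs hU hj F g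
  haveI := hk
  haveI := hK
  let ν := (restrPushAdj hj.1 he).leftAdjointUniq (pullPushAdjModEt hj.1)
  haveI : ((pullModEt hj.1).obj K).IsQuasicoherent := isQuasicoherent_pull_etale hj.1 he K
  have hfinK : ∀ (E : EtOver X.obj) [IsAffine E.obj.left.left],
      Set.range (Points.ofPt E.obj.hom) ⊆ Set.range (Points.map j.hom) → Module.Finite (R E) (sectModEt K E) := by
    intro E _ hE
    obtain ⟨h, hh⟩ := (exists_factor_iff U.property X.property j.hom hj E.obj.hom).2 (by
      rintro _ ⟨x, rfl⟩
      obtain ⟨y, rfl⟩ := (Points.schemeHomeo E.obj.left).surjective x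
      show Points.map E.obj.hom (Points.ofPt (𝟙 _) y) ∈ _
      rw [Points.map_ofPt, Category.id_comp]
      exact hE ⟨y, rfl⟩)
    let V : EtOver U.obj := (EtOver.bc hj.1).obj E
    let r : V ⟶ V := 𝟙 V
    have hi : IsOpenImmersion (hj.1.snd E.obj.hom).left := hj.2 _ _ _ (hj.1.isPullback E.obj.hom)
    let l : E.obj.left ⟶ hj.1.pullback E.obj.hom := hj.1.lift h (𝟙 _) (by
      rw [hh]
      simp)
    haveI : IsIso (hj.1.snd E.obj.hom).left := by
      haveI := hi
      refine Groth.Agent.EtQC.isIso_of_open_section _ l.left ?_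
      exact congrArg (fun q => q.left) (hj.1.lift_snd _ _ _)
    haveI : IsAffine V.obj.left.left := IsAffine.of_isIso (hj.1.snd E.obj.hom).left
    haveI : IsAffine ((EtOver.postcomp j.hom he).obj V).obj.left.left := ‹IsAffine V.obj.left.left›
    let c : (EtOver.postcomp j.hom he).obj V ⟶ E := (postBcAdj hj.1 he).counit.app E
    let d : E ⟶ (EtOver.postcomp j.hom he).obj V := EtOver.homMk (E := E)
      (E' := (EtOver.postcomp j.hom he).obj V) l (by
        show (yon S).map l ≫ hj.1.fst E.obj.hom ≫ j.hom = E.obj.hom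
        rw [← Category.assoc, hj.1.lift_fst, hh])
    haveI : ((SheafOfModules.pushforward.{u + 1} (postRingHom he)).obj K).IsQuasicoherent :=
      (SheafOfModules.isQuasicoherent (OEtRing U.obj)).prop_of_iso (ν.app K).symm ‹((pullModEt hj.1).obj K).IsQuasicoherent›
    haveI : Module.Finite (R V) (sectModEt G V) := finite_sections_of_isFiniteType V
    have hfV : Module.Finite (R V) (sectModEt ((SheafOfModules.pushforward.{u + 1} (postRingHom he)).obj K) V) := by
      let e' : (SheafOfModules.pushforward.{u + 1} (postRingHom he)).obj K ≅ G := ν.app K ≪≫ eK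
      exact Module.Finite.of_surjective (appM e'.inv V) fun y =>
        ⟨appM e'.hom V y, congrArg (fun q : (SheafOfModules.pushforward.{u + 1} (postRingHom he)).obj K ⟶ _ =>
          appM q V y) e'.hom_inv_id⟩
    haveI : Module.Finite (R ((EtOver.postcomp j.hom he).obj V)) (sectModEt K ((EtOver.postcomp j.hom he).obj V)) := hfV
    exact finite_sections_of_base d
  haveI := compactSpace_of_isQuasiCompactSp hqc
  obtain ⟨T, p, hT, hpe, hps⟩ := exists_affine_chart_of_compact X.property
  let E₀ : EtOver X.obj := EtOver.mk p hpe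
  haveI : IsAffine E₀.obj.left.left := hT
  obtain ⟨G', ι, hι, hG', hfin, hsur, -⟩ := exists_ft_sub X hqc hqs U j hj hU K hfinK E₀ ∅
  haveI := hι
  haveI := hG'
  haveI := preservesFiniteLimits_pull_etale hj.1 he
  haveI : ((pullModEt hj.1).obj G').IsQuasicoherent := isQuasicoherent_pull_etale hj.1 he G'
  haveI : IsIso ((pullModEt hj.1).map ι) := by
    haveI : ∀ V : {V : EtOver U.obj // IsAffine V.obj.left.left}, IsAffine V.1.obj.left.left := fun V => V.2
    refine isIso_of_appM_surjective ((pullModEt hj.1).map ι) (fun V : {V : EtOver U.obj // IsAffine V.obj.left.left} => V.1)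
      (fun x => by
        obtain ⟨V, hV, u, hu⟩ := exists_affine_chart_at U.property x
        exact ⟨⟨V, hV⟩, u, hu⟩) fun V y => ?_
    haveI : IsAffine ((EtOver.postcomp j.hom he).obj V.1).obj.left.left := V.2
    obtain ⟨s, hs⟩ := hsur ((EtOver.postcomp j.hom he).obj V.1) (by
      rintro _ ⟨v, rfl⟩
      exact ⟨Points.ofPt V.1.obj.hom v, Points.map_ofPt _ _ _⟩) (appM (ν.app K).inv V.1 y)
    refine ⟨appM (ν.app G').hom V.1 s, ?_⟩
    refine (congrArg (fun q : (SheafOfModules.pushforward.{u + 1} (postRingHom he)).obj G' ⟶ (pullModEt hj.1).obj K =>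
      appM q V.1 s) (ν.hom.naturality ι).symm).trans ?_
    show appM (ν.app K).hom V.1 (appM ((SheafOfModules.pushforward.{u + 1} (postRingHom he)).map ι) V.1 s) = y
    refine (congrArg (appM (ν.app K).hom V.1) hs).trans ?_
    exact congrArg (fun q : (pullModEt hj.1).obj K ⟶ _ => appM q V.1 y) (ν.app K).inv_hom_id
  refine ⟨G', ι ≫ k, inferInstance, inferInstance, isFiniteType_of_finite_sections G' hfin,
    asIso ((pullModEt hj.1).map ι) ≪≫ eK, ?_⟩
  rw [Iso.trans_hom, asIso_hom, Category.assoc, heK, Functor.map_comp]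

end Groth.Agent.EtQC
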