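import Groth.Agent.EtQC.PushAff
import Groth.Agent.EtQC.PullQC

/-!
Modules of finite type recognised on affine objects; finiteness along finite morphisms.
-/

set_option autoImplicit false
set_option linter.style.haveILetI false
set_option backward.isDefEq.respectTransparency false

universe u

noncomputable section

open CategoryTheory CategoryTheory.Limits AlgebraicGeometry Opposite AlgSp TensorProduct

namespace Groth.Agent.EtQC

variable {S : Scheme.{u}} {X Y : Sp S}

theorem isFiniteType_of_finite_sections (M : ModEt X) [M.IsQuasicoherent]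
    (h : ∀ (E : EtOver X) [IsAffine E.obj.left.left], Module.Finite (R E) (sectModEt M E)) : M.IsFiniteType := by
  classical
  have hex : ∀ E : {E : EtOver X // IsAffine E.obj.left.left}, ∃ (σ : (M.over E.1).GeneratingSections), σ.IsFiniteType := by
    rintro ⟨E, hE⟩
    obtain ⟨t, ht⟩ := (h E).fg_top
    refine ⟨{ I := ↥t, s := fun i => secTop (M.over E) i.1,
              epi := @epi_genHom S X M E hE (fun {V} hV g => isBaseChange_res (M := M) g) (↥t) Subtype.val
                (by rw [Subtype.range_coe]; exact ht) }, ⟨(inferInstance : Finite ↥t)⟩⟩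
  choose σ hσ using hex
  let q : M.LocalGeneratorsData :=
    { I := {E : EtOver X // IsAffine E.obj.left.left}
      X := fun E => E.1
      coversTop := coversTop_affine
      generators := σ }
  have hq : q.IsFiniteType := { isFiniteType := hσ }
  constructor
  exact ⟨q, hq⟩

theorem finite_sections_of_base {M : ModEt X} [M.IsQuasicoherent] {E V : EtOver X} [IsAffine E.obj.left.left]
    [IsAffine V.obj.left.left] (g : V ⟶ E) [Module.Finite (R E) (sectModEt M E)] :
    Module.Finite (R V) (sectModEt M V) := by
  haveI : Module.Finite (Rg g) (Rg g ⊗[R E] sectModEt M E) := inferInstance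
  exact (Module.Finite.equiv (isBaseChange_res (M := M) g).equiv : Module.Finite (Rg g) (Mg M g))

variable {f : X ⟶ Y} (hf : Representable f)

theorem finite_sections_push (hfin : IsFiniteMor f) (M : ModEt X) [M.IsQuasicoherent] [M.IsFiniteType]
    (E : EtOver Y) [IsAffine E.obj.left.left] :
    Module.Finite (R E) (sectModEt ((pushModEt hf).obj M) E) := by
  haveI := isAffine_bc hf (isAffineMor_of_isFiniteMor hfin) E
  letI : Algebra (R E) (R ((EtOver.bc hf).obj E)) := (pushRes hf E).toAlgebra
  haveI := finite_pushRes hf hfin E
  letI : Module (R ((EtOver.bc hf).obj E)) (sectModEt ((pushModEt hf).obj M) E) :=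
    inferInstanceAs (Module (R ((EtOver.bc hf).obj E)) (sectModEt M ((EtOver.bc hf).obj E)))
  haveI : IsScalarTower (R E) (R ((EtOver.bc hf).obj E)) (sectModEt ((pushModEt hf).obj M) E) :=
    IsScalarTower.of_algebraMap_smul fun a m => rfl
  haveI : Module.Finite (R ((EtOver.bc hf).obj E)) (sectModEt ((pushModEt hf).obj M) E) :=
    finite_sections_of_isFiniteType (M := M) ((EtOver.bc hf).obj E)
  exact Module.Finite.trans (R ((EtOver.bc hf).obj E)) _

theorem finite_sections_of_push (haff : IsAffineMor f) (M : ModEt X) (E : EtOver Y) [IsAffine E.obj.left.left]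
    [Module.Finite (R E) (sectModEt ((pushModEt hf).obj M) E)] :
    Module.Finite (R ((EtOver.bc hf).obj E)) (sectModEt M ((EtOver.bc hf).obj E)) := by
  letI : Algebra (R E) (R ((EtOver.bc hf).obj E)) := (pushRes hf E).toAlgebra
  letI : Module (R ((EtOver.bc hf).obj E)) (sectModEt ((pushModEt hf).obj M) E) :=
    inferInstanceAs (Module (R ((EtOver.bc hf).obj E)) (sectModEt M ((EtOver.bc hf).obj E)))
  haveI : IsScalarTower (R E) (R ((EtOver.bc hf).obj E)) (sectModEt ((pushModEt hf).obj M) E) :=
    IsScalarTower.of_algebraMap_smul fun a m => rfl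
  have h : Module.Finite (R ((EtOver.bc hf).obj E)) (sectModEt ((pushModEt hf).obj M) E) :=
    Module.Finite.of_restrictScalars_finite (R E) _ _
  exact h

theorem isFiniteType_iff_push (hY : IsAlgSpace Y) (hfin : IsFiniteMor f) (M : ModEt X) [M.IsQuasicoherent] :
    M.IsFiniteType ↔ ((pushModEt hf).obj M).IsFiniteType := by
  haveI := isQuasicoherent_push_affine hf (isAffineMor_of_isFiniteMor hfin) M
  constructor
  · intro h
    exact isFiniteType_of_finite_sections _ fun E _ => finite_sections_push hf hfin M E
  · intro h
    refine isFiniteType_of_finite_sections M fun W _ => finite_sections fun x => ?_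
    obtain ⟨E, hE, V, hV, a, c, hx⟩ := exists_pull_chart hY hf W x
    haveI := hE
    haveI := hV
    haveI := isAffine_bc hf (isAffineMor_of_isFiniteMor hfin) E
    haveI := finite_sections_of_isFiniteType (M := (pushModEt hf).obj M) E
    haveI := finite_sections_of_push hf (isAffineMor_of_isFiniteMor hfin) M E
    exact ⟨V, a, hV, hx, finite_sections_of_base c⟩

end Groth.Agent.EtQC
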