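import Groth.Agent.EtQC.Site
import Groth.Agent.ElemSq.Step
import Groth.Agent.AlgSpLib.Singleton
import Groth.Agent.SchImg.Reduced
import Mathlib.AlgebraicGeometry.Morphisms.FlatMono

/-!
Two maps to the chart of an elementary distinguished square agree near the new points.
-/

set_option autoImplicit false
set_option linter.style.haveILetI false
set_option backward.isDefEq.respectTransparency false

universe u

noncomputable section

open CategoryTheory CategoryTheory.Limits AlgebraicGeometry Opposite AlgSp Groth.Agent.AlgSpLib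

namespace Groth.Agent.EtQC

variable {S : Scheme.{u}}

/-- a property of two maps into an object: they agree near the points outside a set -/
def NearEq {X : Sp S} (V₀ : EtOver X) (A : Set (Points X)) : Prop :=
  ∀ (W : EtOver X) (b b' : W ⟶ V₀) (w : W.obj.left.left), Points.ofPt W.obj.hom w ∉ A →
    ∃ (V' : EtOver X) (h : V' ⟶ W), IsAffine V'.obj.left.left ∧ w ∈ Set.range h.hom.left.left ∧ h ≫ b = h ≫ b'

theorem nearEq_of_fieldPoint {X : Sp S} (hX : IsAlgSpace X) (V₀ : EtOver X) (A : Set (Points X))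
    (h : ∀ (W : EtOver X) (b b' : W ⟶ V₀) (w : W.obj.left.left), Points.ofPt W.obj.hom w ∉ A →
      W.obj.left.left.fromSpecResidueField w ≫ b.hom.left.left =
        W.obj.left.left.fromSpecResidueField w ≫ b'.hom.left.left) : NearEq V₀ A := by
  intro W b b' w hw
  obtain ⟨P, p, q, sq⟩ := exists_pullback hX.diag V₀.obj.hom V₀.obj.hom
  have : Etale p.left := (repWith_yon_iff p).1 (repWith_baseChange sq.flip V₀.property)
  obtain ⟨c, hc⟩ := (yon S).map_surjective (sq.lift ((yon S).map b.hom.left) ((yon S).map b'.hom.left)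
    ((EtOver.w b).trans (EtOver.w b').symm))
  have hcp : c ≫ p = b.hom.left := (yon S).map_injective (by rw [Functor.map_comp, hc, sq.lift_fst])
  have hcq : c ≫ q = b'.hom.left := (yon S).map_injective (by rw [Functor.map_comp, hc, sq.lift_snd])
  obtain ⟨d, hd⟩ := (yon S).map_surjective (sq.lift (𝟙 _) (𝟙 _) rfl)
  have hdp : d ≫ p = 𝟙 _ := (yon S).map_injective (by rw [Functor.map_comp, hd, sq.lift_fst, CategoryTheory.Functor.map_id])
  have hdq : d ≫ q = 𝟙 _ := (yon S).map_injective (by rw [Functor.map_comp, hd, sq.lift_snd, CategoryTheory.Functor.map_id])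
  have hdp' : d.left ≫ p.left = 𝟙 _ := congrArg (fun k => k.left) hdp
  have hdq' : d.left ≫ q.left = 𝟙 _ := congrArg (fun k => k.left) hdq
  haveI : IsSplitMono d.left := ⟨⟨⟨p.left, hdp'⟩⟩⟩
  haveI : Etale (d.left ≫ p.left) := by rw [hdp']; infer_instance
  haveI : Etale d.left := Etale.of_comp d.left p.left
  haveI : IsOpenImmersion d.left := IsOpenImmersion.of_flat_of_mono d.left
  have hr : c.left w ∈ Set.range d.left := by
    have e : W.obj.left.left.fromSpecResidueField w ≫ c.left =
        (W.obj.left.left.fromSpecResidueField w ≫ b.hom.left.left) ≫ d.left := by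
      let str := W.obj.left.left.fromSpecResidueField w ≫ W.obj.left.hom
      let r : Over.mk str ⟶ W.obj.left := Over.homMk (W.obj.left.left.fromSpecResidueField w) rfl
      have hbb : r ≫ b.hom.left = r ≫ b'.hom.left := Over.OverMorphism.ext (h W b b' w hw)
      have : (yon S).map (r ≫ c) = (yon S).map ((r ≫ b.hom.left) ≫ d) := by
        refine sq.hom_ext ?_ ?_
        · rw [← Functor.map_comp, ← Functor.map_comp, Category.assoc, hcp, Category.assoc, Category.assoc, hdp,
            Category.comp_id]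
        · rw [← Functor.map_comp, ← Functor.map_comp, Category.assoc, hcq, Category.assoc, Category.assoc, hdq,
            Category.comp_id, hbb]
      exact congrArg (fun k => k.left) ((yon S).map_injective this)
    have e' := congrArg (fun k => k (IsLocalRing.closedPoint (W.obj.left.left.residueField w))) e
    simp only [Scheme.Hom.comp_apply, Scheme.fromSpecResidueField_apply] at e'
    exact ⟨_, e'.symm⟩
  let U : W.obj.left.left.Opens := c.left ⁻¹ᵁ d.left.opensRange
  obtain ⟨V', hV', h', v, hv⟩ := exists_affine_nhd (openObj W U) ⟨w, hr⟩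
  refine ⟨V', h' ≫ openHom W U, hV', ⟨v, ?_⟩, ?_⟩
  · exact congrArg U.ι hv
  have hU : U.ι ≫ b.hom.left.left = U.ι ≫ b'.hom.left.left := by
    have hsub : Set.range (U.ι ≫ c.left) ⊆ Set.range d.left := by
      rintro _ ⟨y, rfl⟩
      exact y.2
    let l := IsOpenImmersion.lift d.left (U.ι ≫ c.left) hsub
    have hl : l ≫ d.left = U.ι ≫ c.left := IsOpenImmersion.lift_fac _ _ _
    have h1 : U.ι ≫ b.hom.left.left = l := by
      rw [← hcp]
      show U.ι ≫ c.left ≫ p.left = l
      rw [← Category.assoc, ← hl, Category.assoc, hdp', Category.comp_id]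
    have h2 : U.ι ≫ b'.hom.left.left = l := by
      rw [← hcq]
      show U.ι ≫ c.left ≫ q.left = l
      rw [← Category.assoc, ← hl, Category.assoc, hdq', Category.comp_id]
    rw [h1, h2]
  have hU' : openHom W U ≫ b = openHom W U ≫ b' := EtOver.hom_ext _ _ (Over.OverMorphism.ext hU)
  rw [Category.assoc, Category.assoc, hU']

theorem nearEq_of_elemDistSq {X W₁ W₂ : Space S} (k : W₁ ⟶ W₂) (j₂ : W₂ ⟶ X) (h₂ : RepWith @IsOpenImmersion j₂.hom)
    {V : Over S} (f : (yon S).obj V ⟶ W₂.obj) (hsq : IsElemDistSq k.hom f) (V₀ : EtOver X.obj) (e : V₀.obj.left = V)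
    (he : V₀.obj.hom = (yon S).map (eqToHom e) ≫ f ≫ j₂.hom) :
    NearEq V₀ (Set.range (Points.map (k ≫ j₂).hom)) := by
  obtain ⟨hk, -, T, P, i, p₁, p₂, hi, sq, hp₁⟩ := hsq
  haveI := Groth.Agent.ElemSq.mono_of_open h₂
  refine nearEq_of_fieldPoint X.property V₀ _ fun W b b' w hw => ?_
  let str := W.obj.left.left.fromSpecResidueField w ≫ W.obj.left.hom
  let r : Over.mk str ⟶ W.obj.left := Over.homMk (W.obj.left.left.fromSpecResidueField w) rfl
  have key : ∀ β : W ⟶ V₀, ((yon S).map (r ≫ β.hom.left ≫ eqToHom e) ≫ f) ≫ j₂.hom = (yon S).map r ≫ W.obj.hom := fun β => by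
    rw [← EtOver.w β, he, Functor.map_comp, Functor.map_comp]
    simp only [Category.assoc]
  let q := (yon S).map (r ≫ b.hom.left ≫ eqToHom e) ≫ f
  have hq' : (yon S).map (r ≫ b'.hom.left ≫ eqToHom e) ≫ f = q := (cancel_mono j₂.hom).1 ((key b').trans (key b).symm)
  obtain ⟨t, ht⟩ := Groth.Agent.SchImg.exists_factor_of_reduced hi.1 (IsAlgSpace.yon_obj (Over.mk str)) W₂.property
    (isReducedSp_yon_field str) (f := q) (by
      rintro _ ⟨y, rfl⟩
      rw [hi.2.1]
      rintro ⟨z, hz⟩
      obtain ⟨y, rfl⟩ := (Points.schemeHomeo (Over.mk str)).surjective y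
      refine hw ⟨z, ?_⟩
      show Points.map (k.hom ≫ j₂.hom) z = _
      rw [Points.map_comp, hz, ← Points.map_comp]
      show Points.map (q ≫ j₂.hom) (Points.ofPt (𝟙 _) y) = _
      rw [key b, Points.map_ofPt, Category.id_comp]
      rw [Groth.Agent.AlgSpLib.ofPt_comp]
      exact congrArg _ (Scheme.fromSpecResidueField_apply _ _))
  haveI := hp₁
  have hm : ∀ β : W ⟶ V₀, (yon S).map (r ≫ β.hom.left ≫ eqToHom e) ≫ f = q →
      (yon S).map (r ≫ β.hom.left ≫ eqToHom e) = t ≫ inv p₁ ≫ p₂ := fun β hβ => by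
    have h1 : sq.lift t ((yon S).map (r ≫ β.hom.left ≫ eqToHom e)) (ht.trans hβ.symm) = t ≫ inv p₁ := by
      rw [IsIso.eq_comp_inv, sq.lift_fst]
    rw [← Category.assoc t, ← h1, sq.lift_snd]
  have hfin := (yon S).map_injective ((hm b rfl).trans (hm b' hq').symm)
  subst e
  simp only [eqToHom_refl, Category.comp_id] at hfin
  exact congrArg (fun x => x.left) hfin

end Groth.Agent.EtQC
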