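import Groth.Agent.EtQC.CohColim
import Groth.Agent.EtQC.FTPush
import Groth.Agent.EtQC.NearEq
import Groth.Agent.ElemSq.Induct
import Groth.Agent.AlgSpLib.QCompact

/-!
Quasi-coherent submodules of finite type on quasi-compact quasi-separated algebraic spaces: extension from a
quasi-compact open and containment of given sections.
-/

set_option autoImplicit false
set_option linter.style.haveILetI false
set_option backward.isDefEq.respectTransparency false

universe u

noncomputable section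

open CategoryTheory CategoryTheory.Limits AlgebraicGeometry Opposite AlgSp TensorProduct

namespace Groth.Agent.EtQC

variable {S : Scheme.{u}}

theorem SubFam.finite_toMod {X : Sp S} {F : ModEt X} [F.IsQuasicoherent] (σ : SubFam F) (E : EtOver X)
    [IsAffine E.obj.left.left] (h : (σ.sub E inferInstance).FG) : Module.Finite (R E) (sectModEt σ.toMod E) := by
  refine ⟨Submodule.fg_of_fg_map_injective (appM σ.ι E) (σ.ι_injective E) ?_⟩
  rwa [Submodule.map_top, show LinearMap.range (appM σ.ι E) = σ.sub E inferInstance from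
    SetLike.coe_injective (σ.range_ι E inferInstance)]

theorem SubFam.exists_preimage {X : Sp S} {F : ModEt X} [F.IsQuasicoherent] (σ : SubFam F) {E : EtOver X}
    (hE : IsAffine E.obj.left.left) {s : sectModEt F E} (h : s ∈ σ.sub E hE) : ∃ a, appM σ.ι E a = s := by
  rw [← SetLike.mem_coe, ← σ.range_ι E hE] at h
  exact h

section Step

variable {X : Sp S} [QuasiSeparatedSpace ↥S] (hX : IsAlgSpace X) (hqs : IsQuasiSeparatedSp X) (M : ModEt X)
  [M.IsQuasicoherent] (E₁ V₀ : EtOver X) [IsAffine E₁.obj.left.left] [IsAffine V₀.obj.left.left]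

include hX hqs in
theorem exists_ft_step (hne : NearEq V₀ (Set.range (Points.ofPt E₁.obj.hom))) [Module.Finite (R E₁) (sectModEt M E₁)]
    (t : Finset (sectModEt M V₀)) :
    ∃ σ : SubFam M, σ.sub E₁ inferInstance = ⊤ ∧ (σ.sub V₀ inferInstance).FG ∧
      ∀ (E : EtOver X) (hE : IsAffine E.obj.left.left),
        chartSub M (Submodule.span (R V₀) (t : Set (sectModEt M V₀))) E ≤ σ.sub E hE := by
  classical
  obtain ⟨C⟩ := nonempty_prodCover hX hqs E₁ V₀
  have hex : ∀ k, ∃ u : Finset (sectModEt M V₀),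
      Submodule.span (R (C.W k)) (resM M (C.b k) '' (u : Set (sectModEt M V₀))) = ⊤ := by
    intro k
    haveI := C.isAffine k
    haveI := finite_sections_of_base (M := M) (C.a k)
    obtain ⟨s, hs⟩ := (Module.Finite.fg_top : (⊤ : Submodule (R (C.W k)) (sectModEt M (C.W k))).FG)
    have hgen : ∀ y : sectModEt M (C.W k), ∃ u : Finset (sectModEt M V₀),
        y ∈ Submodule.span (R (C.W k)) (resM M (C.b k) '' (u : Set (sectModEt M V₀))) := fun y => by
      induction y using (isBaseChange_res (M := M) (C.b k)).inductionOn with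
      | zero => exact ⟨∅, Submodule.zero_mem _⟩
      | tmul m => exact ⟨{m}, Submodule.subset_span ⟨m, by simp, rfl⟩⟩
      | smul a y hy =>
        obtain ⟨u, hu⟩ := hy
        exact ⟨u, Submodule.smul_mem _ (a : R (C.W k)) hu⟩
      | add y z hy hz =>
        obtain ⟨u, hu⟩ := hy
        obtain ⟨u', hu'⟩ := hz
        exact ⟨u ∪ u', Submodule.add_mem _
          (Submodule.span_mono (Set.image_mono (Finset.coe_subset.mpr Finset.subset_union_left)) hu)
          (Submodule.span_mono (Set.image_mono (Finset.coe_subset.mpr Finset.subset_union_right)) hu')⟩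
    choose uu huu using hgen
    refine ⟨s.biUnion uu, eq_top_iff.mpr ?_⟩
    rw [← hs, Submodule.span_le]
    intro y hy
    exact Submodule.span_mono (Set.image_mono (Finset.coe_subset.mpr (Finset.subset_biUnion_of_mem uu hy))) (huu y)
  choose u hu using hex
  let T : Finset (sectModEt M V₀) := t ∪ Finset.univ.biUnion u
  let N : Submodule (R V₀) (sectModEt M V₀) := Submodule.span (R V₀) (T : Set (sectModEt M V₀))
  -- near the old points the generators span everything
  have htop : ∀ (W : EtOver X) (b : W ⟶ V₀) (x : W.obj.left.left),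
      Points.ofPt W.obj.hom x ∈ Set.range (Points.ofPt E₁.obj.hom) →
      ∃ (V : EtOver X) (h : V ⟶ W), IsAffine V.obj.left.left ∧ x ∈ Set.range h.hom.left.left ∧
        ∀ y, y ∈ Submodule.span (R V) (resM M (h ≫ b) '' (N : Set (sectModEt M V₀))) := by
    rintro W b x ⟨e, he⟩
    obtain ⟨W', hW', g₁, g₂, w, hw, -⟩ := exists_common W E₁ x e he.symm
    obtain ⟨V, h, k, c, hV, hwh, hca, hcb⟩ := C.factor g₂ (g₁ ≫ b) w
    obtain ⟨v, hv⟩ := hwh
    refine ⟨V, h ≫ g₁, hV, ⟨v, (congrArg g₁.hom.left.left hv).trans hw⟩, fun y => ?_⟩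
    haveI := C.isAffine k
    haveI := hV
    induction y using (isBaseChange_res (M := M) c).inductionOn with
    | zero => exact Submodule.zero_mem _
    | tmul z =>
      have hz : z ∈ Submodule.span (R (C.W k)) (resM M (C.b k) '' (N : Set (sectModEt M V₀))) := by
        refine Submodule.span_mono (Set.image_mono ?_) ((hu k).symm ▸ Submodule.mem_top)
        exact (Finset.coe_subset.mpr ((Finset.subset_biUnion_of_mem u (Finset.mem_univ k)).trans
          Finset.subset_union_right)).trans Submodule.subset_span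
      refine Submodule.span_mono ?_ (span_res_mono c _ hz)
      rintro _ ⟨_, ⟨n, hn, rfl⟩, rfl⟩
      exact ⟨n, hn, by rw [Category.assoc, ← hcb, resM_comp]⟩
    | smul a z hz => exact Submodule.smul_mem _ (a : R V) hz
    | add z z' hz hz' => exact Submodule.add_mem _ hz hz'
  refine ⟨chartFam (M := M) (E₀ := V₀) N hX hqs, ?_, ?_, fun E hE m hm W hW a b =>
    Submodule.span_mono (Set.image_mono (Submodule.span_mono (Finset.coe_subset.mpr Finset.subset_union_left)))
      (hm W hW a b)⟩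
  · refine eq_top_iff.mpr fun m _ W hW a b => haveI := hW; mem_span_of_locally _ _ fun x => ?_
    obtain ⟨V, h, hV, hx, hy⟩ := htop W b x ⟨a.hom.left.left x, by
      rw [← EtOver.w a, Groth.Agent.AlgSpLib.ofPt_comp]⟩
    refine ⟨V, h, hV, hx, Submodule.span_mono ?_ (hy _)⟩
    rintro _ ⟨n, hn, rfl⟩
    exact ⟨resM M b n, ⟨n, hn, rfl⟩, (resM_comp b h n).symm⟩
  · refine ⟨T, le_antisymm (fun n hn => ?_) fun m hm => chartSub_le N m hm⟩
    show n ∈ chartSub M N V₀
    intro W hW a b
    haveI := hW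
    refine mem_span_of_locally _ _ fun x => ?_
    by_cases hx : Points.ofPt W.obj.hom x ∈ Set.range (Points.ofPt E₁.obj.hom)
    · obtain ⟨V, h, hV, hxh, hy⟩ := htop W b x hx
      refine ⟨V, h, hV, hxh, Submodule.span_mono ?_ (hy _)⟩
      rintro _ ⟨z, hz, rfl⟩
      exact ⟨resM M b z, ⟨z, hz, rfl⟩, (resM_comp b h z).symm⟩
    · obtain ⟨V, h, hV, hxh, hab⟩ := hne W a b x hx
      refine ⟨V, h, hV, hxh, Submodule.subset_span ⟨resM M b n, ⟨n, hn, rfl⟩, ?_⟩⟩
      rw [← resM_comp, ← resM_comp, hab]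

end Step

theorem mem_range_of_elemDistSq {U V W : Sp S} {j : U ⟶ W} {f : V ⟶ W} (h : IsElemDistSq j f) (x : Points W) :
    x ∈ Set.range (Points.map j) ∨ x ∈ Set.range (Points.map f) := by
  obtain ⟨-, -, T, P, i, p₁, p₂, hi, sq, hp₁⟩ := h
  by_cases hx : x ∈ Set.range (Points.map j)
  · exact Or.inl hx
  right
  obtain ⟨t, rfl⟩ : x ∈ Set.range (Points.map i) := hi.2.1.symm ▸ hx
  haveI := hp₁
  refine ⟨Points.map p₂ (Points.map (inv p₁) t), ?_⟩
  rw [← Points.map_comp, ← Points.map_comp, ← sq.w, IsIso.inv_hom_id_assoc]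

/-- finite type submodules with given values on a quasi-compact open and containing given sections -/
theorem exists_ft_sub [QuasiSeparatedSpace ↥S] (X : Space S) (hqc : IsQuasiCompactSp X.obj)
    (hqs : IsQuasiSeparatedSp X.obj) (W : Space S) (jW : W ⟶ X) (hjW : RepWith @IsOpenImmersion jW.hom)
    (hWc : IsQuasiCompactSp W.obj) (M : ModEt X.obj) [M.IsQuasicoherent]
    (hfin : ∀ (E : EtOver X.obj) [IsAffine E.obj.left.left],
      Set.range (Points.ofPt E.obj.hom) ⊆ Set.range (Points.map jW.hom) → Module.Finite (R E) (sectModEt M E))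
    (E₀ : EtOver X.obj) [IsAffine E₀.obj.left.left] (t : Finset (sectModEt M E₀)) :
    ∃ (M' : ModEt X.obj) (ι : M' ⟶ M), Mono ι ∧ M'.IsQuasicoherent ∧
      (∀ (E : EtOver X.obj) [IsAffine E.obj.left.left], Module.Finite (R E) (sectModEt M' E)) ∧
      (∀ (E : EtOver X.obj) [IsAffine E.obj.left.left],
        Set.range (Points.ofPt E.obj.hom) ⊆ Set.range (Points.map jW.hom) → Function.Surjective (appM ι E)) ∧
      ∀ s ∈ t, ∃ a, appM ι E₀ a = s := by
  classical
  have key := Groth.Agent.ElemSq.induct_space X hqc hqs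
    (fun U jU => ∃ (M' : ModEt X.obj) (ι : M' ⟶ M), Mono ι ∧ M'.IsQuasicoherent ∧
      (∀ (E : EtOver X.obj) [IsAffine E.obj.left.left],
        Set.range (Points.ofPt E.obj.hom) ⊆ Set.range (Points.map jU.hom) → Module.Finite (R E) (sectModEt M' E)) ∧
      (∀ (E : EtOver X.obj) [IsAffine E.obj.left.left],
        Set.range (Points.ofPt E.obj.hom) ⊆ Set.range (Points.map jW.hom) → Function.Surjective (appM ι E)) ∧
      ∀ s ∈ t, ∃ a, appM ι E₀ a = s)
    W jW hjW hWc ⟨M, 𝟙 M, inferInstance, inferInstance, hfin, fun E _ _ s => ⟨s, rfl⟩, fun s _ => ⟨s, rfl⟩⟩ ?_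
  · obtain ⟨M', ι, h1, h2, h3, h4, h5⟩ := key
    exact ⟨M', ι, h1, h2, fun E _ => h3 E fun x _ => ⟨x, by simp⟩, h4, h5⟩
  rintro W₁ W₂ V j₁ j₂ k m f hV hj₁ hj₂ hk hm hc₁ hc₂ hsq ⟨M', ι, hmono, hqcM, hfM, hsur, ht⟩
  subst hk
  haveI := hmono
  haveI := hqcM
  haveI := Groth.Agent.AlgSpLib.compactSpace_of_isQuasiCompactSp hc₁
  obtain ⟨U₁, p, hU₁, he, hs⟩ := Groth.Agent.AlgSpLib.exists_affine_chart_of_compact W₁.property
  let E₁ : EtOver X.obj := EtOver.mk (p ≫ (k ≫ j₂).hom)
    (Groth.Agent.AlgSpLib.repWith_comp he (Groth.Agent.ElemSq.repWith_etale_of_open hj₁))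
  haveI : IsAffine E₁.obj.left.left := hU₁
  have hfe : RepWith @Etale f.hom := by
    simpa using hsq.2.1 (𝟙 _) (repWith_id _ _)
  let V₀ : EtOver X.obj := EtOver.mk (f.hom ≫ j₂.hom)
    (Groth.Agent.AlgSpLib.repWith_comp hfe (Groth.Agent.ElemSq.repWith_etale_of_open hj₂))
  haveI : IsAffine V₀.obj.left.left := hV
  have hA : Set.range (Points.ofPt E₁.obj.hom) = Set.range (Points.map (k ≫ j₂).hom) := by
    ext x
    constructor
    · rintro ⟨e, rfl⟩
      exact ⟨Points.ofPt p e, Points.map_ofPt _ _ _⟩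
    · rintro ⟨y, rfl⟩
      obtain ⟨e, rfl⟩ := Groth.Agent.AlgSpLib.ofPt_surjective hs y
      exact ⟨e, (Points.map_ofPt _ _ _).symm⟩
  haveI : Module.Finite (R E₁) (sectModEt M' E₁) := hfM E₁ hA.le
  have hne : NearEq V₀ (Set.range (Points.ofPt E₁.obj.hom)) := hA ▸
    nearEq_of_elemDistSq k j₂ hj₂ f.hom hsq V₀ rfl (by
      simp only [eqToHom_refl, CategoryTheory.Functor.map_id, Category.id_comp]
      rfl)
  choose a ha using ht
  choose u hu using fun s : t => exists_fg_mem_chartSub (M := M') (E₀ := V₀) X.property hqs E₀ (a s.1 s.2)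
  obtain ⟨σ, hσ₁, hσV, hσt⟩ := exists_ft_step X.property hqs M' E₁ V₀ hne (t.attach.biUnion u)
  haveI := σ.isQuasicoherent_toMod
  refine ⟨σ.toMod, σ.ι ≫ ι, inferInstance, inferInstance, fun E _ hE => finite_sections fun x => ?_,
    fun E hEaff hE s => ?_, fun s hs' => ?_⟩
  · haveI := σ.finite_toMod E₁ (hσ₁ ▸ (Module.Finite.fg_top : (⊤ : Submodule (R E₁) (sectModEt M' E₁)).FG))
    haveI := σ.finite_toMod V₀ hσV
    obtain ⟨y, hy⟩ := hE ⟨x, rfl⟩
    rcases mem_range_of_elemDistSq hsq y with ⟨z, rfl⟩ | ⟨z, rfl⟩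
    · obtain ⟨e, he'⟩ : Points.ofPt E.obj.hom x ∈ Set.range (Points.ofPt E₁.obj.hom) := by
        rw [hA]
        exact ⟨z, by rw [← hy]; exact Points.map_comp _ _ _⟩
      obtain ⟨W', hW', g₁, g₂, w, hw, -⟩ := exists_common E E₁ x e he'.symm
      exact ⟨W', g₁, hW', ⟨w, hw⟩, finite_sections_of_base g₂⟩
    · obtain ⟨v, rfl⟩ := (Points.schemeHomeo V).surjective z
      have he' : Points.ofPt V₀.obj.hom v = Points.ofPt E.obj.hom x := by
        rw [← hy]
        show Points.ofPt (f.hom ≫ j₂.hom) v = Points.map j₂.hom (Points.map f.hom (Points.ofPt (𝟙 _) v))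
        rw [Points.map_ofPt, Category.id_comp, Points.map_ofPt]
      obtain ⟨W', hW', g₁, g₂, w, hw, -⟩ := exists_common E V₀ x v he'.symm
      exact ⟨W', g₁, hW', ⟨w, hw⟩, finite_sections_of_base g₂⟩
  · have hE₁ : Set.range (Points.ofPt E.obj.hom) ⊆ Set.range (Points.ofPt E₁.obj.hom) := by
      rw [hA]
      refine hE.trans ?_
      rintro _ ⟨z, rfl⟩
      exact ⟨Points.map m.hom z, by rw [← Points.map_comp]; exact congrArg (fun q : W ⟶ X => Points.map q.hom z) hm⟩
    obtain ⟨y, rfl⟩ := hsur E hE s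
    have htopE : y ∈ σ.sub E hEaff := by
      rw [← Submodule.span_eq (σ.sub E hEaff)]
      refine mem_span_of_locally _ _ fun x => ?_
      obtain ⟨e, he'⟩ := hE₁ ⟨x, rfl⟩
      obtain ⟨W', hW', g₁, g₂, w, hw, -⟩ := exists_common E E₁ x e he'.symm
      refine ⟨W', g₁, hW', ⟨w, hw⟩, σ.le_span g₁ hEaff hW' ?_⟩
      have h' := σ.le_span g₂ inferInstance hW'
      induction (resM M' g₁ y) using (isBaseChange_res (M := M') g₂).inductionOn with
      | zero => exact Submodule.zero_mem _
      | tmul z => exact σ.res_mem g₂ inferInstance hW' z (hσ₁ ▸ Submodule.mem_top)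
      | smul r z hz => exact Submodule.smul_mem _ (r : R W') hz
      | add z z' hz hz' => exact Submodule.add_mem _ hz hz'
    obtain ⟨b, hb⟩ := σ.exists_preimage hEaff htopE
    exact ⟨b, congrArg (appM ι E) hb⟩
  · obtain ⟨b, hb⟩ := σ.exists_preimage (E := E₀) inferInstance (hσt E₀ inferInstance (show a s hs' ∈ _ from
      fun W' hW' g g' => Submodule.span_mono (Set.image_mono (Submodule.span_mono (Finset.coe_subset.mpr
        (Finset.subset_biUnion_of_mem u (Finset.mem_attach t ⟨s, hs'⟩))))) (hu ⟨s, hs'⟩ W' hW' g g')))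
    exact ⟨b, (congrArg (appM ι E₀) hb).trans (ha s hs')⟩

end Groth.Agent.EtQC
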