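import Groth.Agent.EtQC.FPTo

/-!
Quasi-coherent modules of finite type as colimits of finitely presented modules with surjective transition maps.
-/

set_option autoImplicit false
set_option linter.style.haveILetI false
set_option backward.isDefEq.respectTransparency false

universe u

noncomputable section

open CategoryTheory CategoryTheory.Limits AlgebraicGeometry Opposite AlgSp TensorProduct

namespace Groth.Agent.EtQC

variable {S : Scheme.{u}}

theorem epi_of_surjective_chart {X : Sp S} {E₀ : EtOver X} [IsAffine E₀.obj.left.left] (hX : IsAlgSpace X)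
    (hs : RepWith @Surjective E₀.obj.hom) {P M : ModEt X} [M.IsQuasicoherent] (φ : P ⟶ M)
    (h : Function.Surjective (appM φ E₀)) : Epi φ :=
  ⟨fun {Z} g g' e => hom_ext_chart (G := M) hX hs (LinearMap.ext fun m => by
    obtain ⟨a, rfl⟩ := h m
    exact congrArg (fun q : P ⟶ Z => appM q E₀ a) e)⟩

theorem finitePresentation_cokernel {X : Sp S} {N P : ModEt X} [N.IsQuasicoherent] [P.IsQuasicoherent]
    [N.IsFiniteType] (ι : N ⟶ P) (E : EtOver X) [IsAffine E.obj.left.left]
    [Module.FinitePresentation (R E) (sectModEt P E)] :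
    Module.FinitePresentation (R E) (sectModEt (cokernel ι) E) := by
  haveI := isQuasicoherent_cokernel ι
  haveI := finite_sections_of_isFiniteType (M := N) E
  refine Module.finitePresentation_of_surjective (appM (cokernel.π ι) E) (appM_surjective_of_epi _ E) ?_
  rw [exact_cokernel_appM, LinearMap.range_eq_map]
  exact Module.Finite.fg_top.map _

variable [QuasiSeparatedSpace ↥S] (X : Space S) (hqc : IsQuasiCompactSp X.obj) (hqs : IsQuasiSeparatedSp X.obj)
  {P M : ModEt X.obj} (φ : P ⟶ M) (E₀ : EtOver X.obj)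

/-- the submodules of sections on the chart coming from finite type submodules of the kernel -/
def KerIdx : Type (u + 1) :=
  {K : Submodule (R E₀) (sectModEt P E₀) //
    ∃ (N : ModEt X.obj) (n : N ⟶ kernel φ), Mono n ∧ N.IsQuasicoherent ∧ N.IsFiniteType ∧
      LinearMap.range (appM (n ≫ kernel.ι φ) E₀) = K}

instance : PartialOrder (KerIdx X φ E₀) := inferInstanceAs (PartialOrder (Subtype _))

namespace KerIdx

variable {X φ E₀} (K : KerIdx X φ E₀)

/-- a module with the given sections -/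
def mod : ModEt X.obj := K.2.choose

/-- its map to the kernel -/
def toKer : K.mod ⟶ kernel φ := K.2.choose_spec.choose

/-- its map to the module -/
def toP : K.mod ⟶ P := K.toKer ≫ kernel.ι φ

theorem mono_toKer : Mono K.toKer := K.2.choose_spec.choose_spec.1

theorem qc : K.mod.IsQuasicoherent := K.2.choose_spec.choose_spec.2.1

theorem ft : K.mod.IsFiniteType := K.2.choose_spec.choose_spec.2.2.1

theorem range_eq : LinearMap.range (appM K.toP E₀) = K.1 := K.2.choose_spec.choose_spec.2.2.2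

theorem toP_comp : K.toP ≫ φ = 0 := by
  rw [toP, Category.assoc, kernel.condition, comp_zero]

end KerIdx

variable {X φ E₀} [IsAffine E₀.obj.left.left] (hs : RepWith @Surjective E₀.obj.hom) [P.IsQuasicoherent]

include hs in
theorem toP_comp_of_le {K K' : KerIdx X φ E₀} (h : K ≤ K') : K.toP ≫ cokernel.π K'.toP = 0 := by
  haveI := K.qc
  refine hom_ext_chart (G := K.mod) X.property hs (LinearMap.ext fun a => ?_)
  obtain ⟨b, hb⟩ : appM K.toP E₀ a ∈ LinearMap.range (appM K'.toP E₀) := by
    rw [K'.range_eq]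
    exact (show K.1 ≤ K'.1 from h) (K.range_eq.le ⟨a, rfl⟩)
  show appM (cokernel.π K'.toP) E₀ (appM K.toP E₀ a) = appM (0 : K.mod ⟶ cokernel K'.toP) E₀ a
  rw [← hb]
  refine (congrArg (fun q : K'.mod ⟶ cokernel K'.toP => appM q E₀ b) (cokernel.condition K'.toP)).trans ?_
  rfl

/-- the system of quotients -/
def kerSys : KerIdx X φ E₀ ⥤ ModEt X.obj where
  obj K := cokernel K.toP
  map {K K'} h := cokernel.desc K.toP (cokernel.π K'.toP) (toP_comp_of_le hs (leOfHom h))
  map_id K := by
    rw [← cancel_epi (cokernel.π K.toP), cokernel.π_desc, Category.comp_id]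
  map_comp f g := by
    rw [← cancel_epi (cokernel.π _), cokernel.π_desc, cokernel.π_desc_assoc, cokernel.π_desc]

/-- the cocone of the system of quotients -/
def kerCocone : kerSys hs ⟶ (Functor.const (KerIdx X φ E₀)).obj M where
  app K := cokernel.desc K.toP φ K.toP_comp
  naturality K K' f := by
    refine Eq.trans ?_ (Category.comp_id _).symm
    show cokernel.desc K.toP _ _ ≫ cokernel.desc K'.toP φ _ = cokernel.desc K.toP φ _
    rw [← cancel_epi (cokernel.π K.toP), cokernel.π_desc_assoc, cokernel.π_desc, cokernel.π_desc]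

theorem epi_kerSys_map {K K' : KerIdx X φ E₀} (f : K ⟶ K') : Epi ((kerSys hs).map f) := by
  haveI : Epi (cokernel.π K.toP ≫ (kerSys hs).map f) := by
    show Epi (cokernel.π K.toP ≫ cokernel.desc K.toP (cokernel.π K'.toP) _)
    rw [cokernel.π_desc]
    infer_instance
  exact epi_of_epi (cokernel.π K.toP) _

theorem isFinitePresentation_kerSys (hfp : Module.FinitePresentation (R E₀) (sectModEt P E₀))
    (K : KerIdx X φ E₀) : ((kerSys hs).obj K).IsFinitePresentation := by
  haveI := K.qc
  haveI := K.ft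
  haveI := hfp
  haveI := finitePresentation_cokernel K.toP E₀
  haveI := isQuasicoherent_cokernel K.toP
  exact isFinitePresentation_of_chart (E₀ := E₀) X.property hs (cokernel K.toP)

include hqc hqs in
theorem exists_kerIdx_mem [M.IsQuasicoherent] (t : Finset (sectModEt (kernel φ) E₀)) :
    ∃ K : KerIdx X φ E₀, ∀ s ∈ t, appM (kernel.ι φ) E₀ s ∈ K.1 := by
  haveI := isQuasicoherent_kernel φ
  obtain ⟨N, n, h1, h2, h3, h4⟩ := exists_ft_sub_mem X hqc hqs (kernel φ) E₀ t
  refine ⟨⟨_, N, n, h1, h2, h3, rfl⟩, fun s hs => ?_⟩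
  obtain ⟨a, ha⟩ := h4 s hs
  exact ⟨a, congrArg (appM (kernel.ι φ) E₀) ha⟩

include hqc hqs in
theorem isDirected_kerIdx [M.IsQuasicoherent] : IsDirected (KerIdx X φ E₀) (· ≤ ·) := by
  refine ⟨fun K K' => ?_⟩
  haveI := isQuasicoherent_kernel φ
  haveI := K.qc
  haveI := K.ft
  haveI := K'.qc
  haveI := K'.ft
  obtain ⟨C, c, h1, h2, h3, ⟨a, ha⟩, b, hb⟩ := exists_ft_join K.toKer K'.toKer
  have hle : ∀ (L : KerIdx X φ E₀) (l : L.mod ⟶ C), l ≫ c = L.toKer →
      L.1 ≤ LinearMap.range (appM (c ≫ kernel.ι φ) E₀) := fun L l hl => by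
    rw [← L.range_eq]
    rintro _ ⟨x, rfl⟩
    refine ⟨appM l E₀ x, ?_⟩
    rw [KerIdx.toP, ← hl, Category.assoc]
    rfl
  exact ⟨⟨_, C, c, h1, h2, h3, rfl⟩, hle K a ha, hle K' b hb⟩

include hqc hqs in
theorem nonempty_isColimit_kerSys [M.IsQuasicoherent] [Epi φ] :
    Nonempty (IsColimit (Cocone.mk M (kerCocone (φ := φ) hs))) := by
  classical
  haveI := isDirected_kerIdx hqc hqs (φ := φ) (E₀ := E₀)
  haveI := isQuasicoherent_kernel φ
  obtain ⟨K₀, -⟩ := exists_kerIdx_mem hqc hqs (φ := φ) (E₀ := E₀) ∅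
  have hw : ∀ (s : Cocone (kerSys (φ := φ) hs)) (K : KerIdx X φ E₀),
      cokernel.π K.toP ≫ s.ι.app K = cokernel.π K₀.toP ≫ s.ι.app K₀ := fun s K => by
    obtain ⟨L, hL, hL'⟩ := directed_of (· ≤ ·) K K₀
    have e : ∀ (A : KerIdx X φ E₀) (h : A ≤ L), cokernel.π A.toP ≫ s.ι.app A = cokernel.π L.toP ≫ s.ι.app L :=
      fun A h => by
        rw [← s.w (homOfLE h)]
        show cokernel.π A.toP ≫ cokernel.desc A.toP _ _ ≫ _ = _
        rw [cokernel.π_desc_assoc]
    rw [e K hL, e K₀ hL']
  have hker : ∀ s : Cocone (kerSys (φ := φ) hs), kernel.ι φ ≫ cokernel.π K₀.toP ≫ s.ι.app K₀ = 0 := fun s => by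
    refine hom_ext_chart (G := kernel φ) X.property hs (LinearMap.ext fun m => ?_)
    obtain ⟨K, hK⟩ := exists_kerIdx_mem hqc hqs (φ := φ) (E₀ := E₀) {m}
    obtain ⟨b, hb⟩ : appM (kernel.ι φ) E₀ m ∈ LinearMap.range (appM K.toP E₀) := by
      rw [K.range_eq]
      exact hK m (Finset.mem_singleton_self m)
    show appM (cokernel.π K₀.toP ≫ s.ι.app K₀) E₀ (appM (kernel.ι φ) E₀ m) = _
    rw [← hw s K, ← hb]
    refine (congrArg (fun q : K.mod ⟶ s.pt => appM q E₀ b) (show K.toP ≫ cokernel.π K.toP ≫ s.ι.app K = 0 by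
      rw [cokernel.condition_assoc, zero_comp])).trans ?_
    rfl
  refine ⟨{ desc := fun s => Abelian.epiDesc φ _ (hker s), fac := fun s K => ?_, uniq := fun s g hg => ?_ }⟩
  · refine (cancel_epi (cokernel.π K.toP)).1 ?_
    show cokernel.π K.toP ≫ cokernel.desc K.toP φ K.toP_comp ≫ _ = _
    rw [cokernel.π_desc_assoc]
    exact (Abelian.comp_epiDesc _ _ _).trans (hw s K).symm
  · refine (cancel_epi φ).1 ?_
    refine Eq.trans ?_ (Abelian.comp_epiDesc _ _ (hker s)).symm
    have := hg K₀
    rw [← this]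
    show φ ≫ g = cokernel.π K₀.toP ≫ cokernel.desc K₀.toP φ K₀.toP_comp ≫ g
    rw [cokernel.π_desc_assoc]

end Groth.Agent.EtQC
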