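import Groth.Agent.EtQC.FPColim

/-!
Every quasi-coherent module on a qcqs space is a filtered colimit of finitely presented modules.
-/

set_option autoImplicit false
set_option linter.style.haveILetI false
set_option backward.isDefEq.respectTransparency false

universe u v w

noncomputable section

open CategoryTheory CategoryTheory.Limits AlgebraicGeometry Opposite AlgSp TensorProduct

namespace Groth.Agent.EtQC

theorem finitePresentation_pi {A : Type*} [CommRing A] {ι : Type*} [Finite ι] (M : ι → Type*)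
    [∀ i, AddCommGroup (M i)] [∀ i, Module A (M i)] [∀ i, Module.FinitePresentation A (M i)] :
    Module.FinitePresentation A (∀ i, M i) := by
  choose n l hl using fun i => Module.Finite.exists_fin' A (M i)
  let L : (∀ i, Fin (n i) → A) →ₗ[A] ∀ i, M i := LinearMap.pi fun i => (l i).comp (LinearMap.proj i)
  haveI : Module.FinitePresentation A (∀ i, Fin (n i) → A) := Module.finitePresentation_of_projective _ _
  refine Module.finitePresentation_of_surjective L (fun y => ?_) ?_
  · choose x hx using fun i => hl i (y i)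
    exact ⟨x, funext hx⟩
  · rw [show LinearMap.ker L = Submodule.pi Set.univ (fun i => LinearMap.ker (l i)) from
      Submodule.ext fun x => by simp [L, funext_iff]]
    exact Submodule.fg_pi fun i => Module.FinitePresentation.fg_ker (l i) (hl i)

variable {S : Scheme.{u}}

/-- a cocone is a colimit when it is one on the sections over a surjective chart -/
theorem nonempty_isColimit_of_chart {X : Sp S} {E₀ : EtOver X} [IsAffine E₀.obj.left.left] (hX : IsAlgSpace X)
    (hs : RepWith @Surjective E₀.obj.hom) {J : Type w} [Category.{v} J] [IsFilteredOrEmpty J] {D : J ⥤ ModEt X}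
    [∀ j, (D.obj j).IsQuasicoherent] (c : Cocone D) [c.pt.IsQuasicoherent]
    (hu : ∀ m : sectModEt c.pt E₀, ∃ j a, appM (c.ι.app j) E₀ a = m)
    (hinj : ∀ i (b b' : sectModEt (D.obj i) E₀), appM (c.ι.app i) E₀ b = appM (c.ι.app i) E₀ b' →
      ∃ (k : J) (f : i ⟶ k), appM (D.map f) E₀ b = appM (D.map f) E₀ b') : Nonempty (IsColimit c) := by
  have hw : ∀ (s : Cocone D) {i j : J} (f : i ⟶ j) (a : sectModEt (D.obj i) E₀),
      appM (s.ι.app j) E₀ (appM (D.map f) E₀ a) = appM (s.ι.app i) E₀ a := fun s i j f a =>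
    congrArg (fun q : D.obj i ⟶ s.pt => appM q E₀ a) (s.w f)
  choose j a ha using hu
  have wd : ∀ (s : Cocone D) (m : sectModEt c.pt E₀) (i : J) (b : sectModEt (D.obj i) E₀),
      appM (c.ι.app i) E₀ b = m → appM (s.ι.app (j m)) E₀ (a m) = appM (s.ι.app i) E₀ b := by
    intro s m i b hb
    rw [← hw s (IsFiltered.leftToMax (j m) i) (a m), ← hw s (IsFiltered.rightToMax (j m) i) b]
    obtain ⟨k, f, hk⟩ := hinj _ (appM (D.map (IsFiltered.leftToMax (j m) i)) E₀ (a m))
      (appM (D.map (IsFiltered.rightToMax (j m) i)) E₀ b) (by rw [hw c, hw c, ha, hb])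
    refine ((hw s f _).symm.trans (congrArg (appM (s.ι.app k) E₀) hk)).trans (hw s f _)
  let v : ∀ (s : Cocone D), sectModEt c.pt E₀ → sectModEt s.pt E₀ := fun s m => appM (s.ι.app (j m)) E₀ (a m)
  have hadd : ∀ s m m', v s (m + m') = v s m + v s m' := fun s m m' => by
    let k := IsFiltered.max (j m) (j m')
    show appM (s.ι.app (j (m + m'))) E₀ (a (m + m')) = _
    rw [wd s (m + m') k (appM (D.map (IsFiltered.leftToMax _ _)) E₀ (a m) +
      appM (D.map (IsFiltered.rightToMax _ _)) E₀ (a m')) (by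
        rw [map_add, hw c, hw c, ha, ha]
        ), map_add, hw s, hw s]
  have hsmul : ∀ s (r : R E₀) m, v s (r • m) = r • v s m := fun s r m => by
    show appM (s.ι.app (j (r • m))) E₀ (a (r • m)) = _
    rw [wd s (r • m) (j m) (r • a m) (by
      rw [map_smul, ha]
      ), map_smul]
  let l : ∀ s : Cocone D, sectModEt c.pt E₀ →ₗ[R E₀] sectModEt s.pt E₀ := fun s =>
    { toFun := v s, map_add' := hadd s, map_smul' := hsmul s }
  have hl : ∀ s i b, l s (appM (c.ι.app i) E₀ b) = appM (s.ι.app i) E₀ b := fun s i b => wd s _ i b rfl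
  have hcompat : ∀ (s : Cocone D) (W : EtOver X) [IsAffine W.obj.left.left] (b b' : W ⟶ E₀),
      extAt (G := c.pt) (l s) b = extAt (G := c.pt) (l s) b' := fun s W _ b b' => extAt_unique (G := c.pt) _ b' _ fun n => by
    conv_lhs => rw [← ha n]
    refine (congrArg (extAt (G := c.pt) (l s) b) (resM_appM (c.ι.app (j n)) b' (a n))).trans ?_
    refine (extAt_precomp (G := c.pt) (l s) (c.ι.app (j n)) (s.ι.app (j n)) (hl s (j n)) b _).trans ?_
    exact (resM_appM (s.ι.app (j n)) b' (a n)).symm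
  choose φ hφ using fun s : Cocone D => exists_hom_of_chart (G := c.pt) (M := s.pt) (l s) hX hs (hcompat s)
  refine ⟨{ desc := φ, fac := fun s i => ?_, uniq := fun s ψ hψ => ?_ }⟩
  · refine hom_ext_chart (G := D.obj i) hX hs (LinearMap.ext fun b => ?_)
    show appM (φ s) E₀ (appM (c.ι.app i) E₀ b) = _
    rw [hφ]
    exact hl s i b
  · refine hom_ext_chart (G := c.pt) hX hs (LinearMap.ext fun m => ?_)
    conv_lhs => rw [← ha m]
    rw [hφ]
    show _ = l s m
    exact congrArg (fun q : D.obj (j m) ⟶ s.pt => appM q E₀ (a m)) (hψ (j m))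

section Sum

variable {X : Sp S} {I : Type (u + 1)} (P : I → ModEt X) (T T' T'' : Finset I)

/-- finite sums -/
abbrev sumMod : ModEt X := ∐ fun m : T => P m.1

/-- inclusion of finite sums -/
def incl {T T' : Finset I} (h : T ⊆ T') : sumMod P T ⟶ sumMod P T' :=
  Sigma.desc fun m => Sigma.ι (fun m : T' => P m.1) ⟨m.1, h m.2⟩

theorem incl_refl : incl P (Finset.Subset.refl T) = 𝟙 _ :=
  Sigma.hom_ext _ _ fun m => by simp [incl]

theorem incl_trans {T T' T'' : Finset I} (h : T ⊆ T') (h' : T' ⊆ T'') :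
    incl P h ≫ incl P h' = incl P (h.trans h') :=
  Sigma.hom_ext _ _ fun m => by simp [incl]

theorem isQuasicoherent_sumMod [∀ m, (P m).IsQuasicoherent] : (sumMod P T).IsQuasicoherent :=
  isQuasicoherent_colimit (Discrete.functor fun m : T => P m.1) fun m => inferInstanceAs (P m.as.1).IsQuasicoherent

theorem finitePresentation_sumMod (E : EtOver X)
    (h : ∀ m, Module.FinitePresentation (R E) (sectModEt (P m) E)) :
    Module.FinitePresentation (R E) (sectModEt (sumMod P T) E) := by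
  classical
  let ι' : ∀ m : T, P m.1 ⟶ sumMod P T := fun m => Sigma.ι (fun m : T => P m.1) m
  let pr : ∀ m : T, sumMod P T ⟶ P m.1 := fun m =>
    Sigma.desc fun m' => if e : m' = m then eqToHom (by rw [e]) else 0
  have hpr : ∀ m, ι' m ≫ pr m = 𝟙 _ := fun m => by simp [ι', pr]
  have hne : ∀ m m', m' ≠ m → ι' m' ≫ pr m = 0 := fun m m' e => by simp [ι', pr, e]
  have hsum : ∑ m, pr m ≫ ι' m = 𝟙 _ := Sigma.hom_ext _ _ fun m => by
    rw [Preadditive.comp_sum, Category.comp_id, Finset.sum_eq_single m]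
    · rw [← Category.assoc]
      exact (congrArg (· ≫ ι' m) (hpr m)).trans (Category.id_comp _)
    · intro m' _ e
      rw [← Category.assoc]
      exact (congrArg (· ≫ ι' m') (hne m' m (Ne.symm e))).trans zero_comp
    · exact fun e => absurd (Finset.mem_univ m) e
  haveI := h
  haveI := finitePresentation_pi (A := R E) fun m : T => sectModEt (P m.1) E
  let φ : (∀ m : T, sectModEt (P m.1) E) →ₗ[R E] sectModEt (sumMod P T) E :=
    ∑ m : T, (appM (ι' m) E).comp (LinearMap.proj m)
  have hφ : ∀ x, φ x = ∑ m : T, appM (ι' m) E (x m) := fun x => by simp [φ]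
  have hadd : ∀ {A B : ModEt X} (s : Finset T) (f : T → (A ⟶ B)) (y : sectModEt A E),
      appM (∑ m ∈ s, f m) E y = ∑ m ∈ s, appM (f m) E y := fun {A B} s f y => by
    induction s using Finset.induction_on with
    | empty => rw [Finset.sum_empty, Finset.sum_empty]; rfl
    | insert m s hm ih => rw [Finset.sum_insert hm, Finset.sum_insert hm, ← ih]; rfl
  refine Module.FinitePresentation.of_equiv (LinearEquiv.ofLinear φ (LinearMap.pi fun m => appM (pr m) E) ?_ ?_)
  · refine LinearMap.ext fun y => (hφ _).trans ?_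
    exact (hadd Finset.univ (fun m => pr m ≫ ι' m) y).symm.trans
      (congrArg (fun q : sumMod P T ⟶ sumMod P T => appM q E y) hsum)
  · refine LinearMap.ext fun x => funext fun m => ?_
    show appM (pr m) E (φ x) = x m
    rw [hφ, map_sum, Finset.sum_eq_single m]
    · exact congrArg (fun q : P m.1 ⟶ P m.1 => appM q E (x m)) (hpr m)
    · intro m' _ e
      exact congrArg (fun q : P m'.1 ⟶ P m.1 => appM q E (x m')) (hne m m' e)
    · exact fun e => absurd (Finset.mem_univ m) e

end Sum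

section System

variable [QuasiSeparatedSpace ↥S] {X : Space S} (hqc : IsQuasiCompactSp X.obj) (hqs : IsQuasiSeparatedSp X.obj)
  {I : Type (u + 1)} (P : I → ModEt X.obj) {M : ModEt X.obj} (φ : ∀ m, P m ⟶ M) (E₀ : EtOver X.obj)

/-- the map of a finite sum -/
def sumTo (T : Finset I) : sumMod P T ⟶ M := Sigma.desc fun m => φ m.1

theorem incl_sumTo {T T' : Finset I} (h : T ⊆ T') : incl P h ≫ sumTo P φ T' = sumTo P φ T :=
  Sigma.hom_ext _ _ fun m => by simp [incl, sumTo]

/-- finite sums with finitely many relations -/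
def SumIdx : Type (u + 1) := Σ T : Finset I, KerIdx X (sumTo P φ T) E₀

instance : PartialOrder (SumIdx P φ E₀) where
  le a b := ∃ h : a.1 ⊆ b.1, a.2.1.map (appM (incl P h) E₀) ≤ b.2.1
  le_refl a := ⟨Finset.Subset.refl _, by rw [incl_refl]; exact le_of_eq (Submodule.map_id _)⟩
  le_trans a b c := fun ⟨h, hab⟩ ⟨h', hbc⟩ => ⟨h.trans h', by
    rw [← incl_trans P h h']
    refine le_trans ?_ ((Submodule.map_mono hab).trans hbc)
    rw [← Submodule.map_comp]
    exact le_rfl⟩
  le_antisymm a b := fun ⟨h, hab⟩ ⟨h', hba⟩ => by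
    obtain ⟨T, K⟩ := a
    obtain ⟨T', K'⟩ := b
    obtain rfl : T = T' := Finset.Subset.antisymm h h'
    rw [incl_refl] at hab hba
    refine congrArg (Sigma.mk T) (Subtype.ext (le_antisymm ?_ ?_))
    · exact le_trans (le_of_eq (Submodule.map_id _).symm) hab
    · exact le_trans (le_of_eq (Submodule.map_id _).symm) hba

variable [IsAffine E₀.obj.left.left] (hs : RepWith @Surjective E₀.obj.hom) [∀ m, (P m).IsQuasicoherent]

include hs in
theorem sumIdx_w {a b : SumIdx P φ E₀} (hle : a ≤ b) :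
    a.2.toP ≫ incl P hle.1 ≫ cokernel.π b.2.toP = 0 := by
  haveI := a.2.qc
  refine hom_ext_chart (G := a.2.mod) X.property hs (LinearMap.ext fun x => ?_)
  obtain ⟨y, hy⟩ : appM (incl P hle.1) E₀ (appM a.2.toP E₀ x) ∈ LinearMap.range (appM b.2.toP E₀) := by
    rw [b.2.range_eq]
    exact hle.2 ⟨_, a.2.range_eq.le ⟨x, rfl⟩, rfl⟩
  show appM (cokernel.π b.2.toP) E₀ (appM (incl P hle.1) E₀ (appM a.2.toP E₀ x)) = _
  rw [← hy]
  refine (congrArg (fun q : b.2.mod ⟶ cokernel b.2.toP => appM q E₀ y) (cokernel.condition b.2.toP)).trans ?_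
  rfl

/-- the diagram -/
def sumSys : SumIdx P φ E₀ ⥤ ModEt X.obj where
  obj a := cokernel a.2.toP
  map {a b} f := cokernel.desc a.2.toP (incl P (leOfHom f).1 ≫ cokernel.π b.2.toP) (sumIdx_w P φ E₀ hs (leOfHom f))
  map_id a := by
    rw [← cancel_epi (cokernel.π a.2.toP), cokernel.π_desc, Category.comp_id]
    exact (congrArg (· ≫ cokernel.π a.2.toP) (incl_refl P a.1)).trans (Category.id_comp _)
  map_comp f g := by
    rw [← cancel_epi (cokernel.π _), cokernel.π_desc, cokernel.π_desc_assoc, Category.assoc, cokernel.π_desc,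
      ← Category.assoc, incl_trans]

/-- the cocone -/
def sumCocone : sumSys P φ E₀ hs ⟶ (Functor.const (SumIdx P φ E₀)).obj M where
  app a := cokernel.desc a.2.toP (sumTo P φ a.1) a.2.toP_comp
  naturality a b f := by
    refine Eq.trans ?_ (Category.comp_id _).symm
    show cokernel.desc a.2.toP _ _ ≫ cokernel.desc b.2.toP _ _ = cokernel.desc a.2.toP _ _
    rw [← cancel_epi (cokernel.π a.2.toP), cokernel.π_desc_assoc, Category.assoc, cokernel.π_desc, cokernel.π_desc,
      incl_sumTo]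

theorem appM_sumSys_map {T : Finset I} (K L : KerIdx X (sumTo P φ T) E₀)
    (hle : @LE.le (SumIdx P φ E₀) _ (Sigma.mk T K) (Sigma.mk T L)) (x x' : sectModEt (sumMod P T) E₀)
    (h : appM (cokernel.π L.toP) E₀ x = appM (cokernel.π L.toP) E₀ x') :
    appM ((sumSys P φ E₀ hs).map (homOfLE hle)) E₀ (appM (cokernel.π K.toP) E₀ x) =
      appM ((sumSys P φ E₀ hs).map (homOfLE hle)) E₀ (appM (cokernel.π K.toP) E₀ x') := by
  have e : cokernel.π K.toP ≫ cokernel.desc K.toP (incl P (leOfHom (homOfLE hle)).1 ≫ cokernel.π L.toP)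
      (sumIdx_w P φ E₀ hs (leOfHom (homOfLE hle))) = cokernel.π L.toP :=
    (cokernel.π_desc _ _ _).trans ((congrArg (· ≫ cokernel.π L.toP) (incl_refl P T)).trans (Category.id_comp _))
  exact ((congrArg (fun q : sumMod P T ⟶ cokernel L.toP => appM q E₀ x) e).trans h).trans
    (congrArg (fun q : sumMod P T ⟶ cokernel L.toP => appM q E₀ x') e).symm

theorem isFinitePresentation_sumSys (hfp : ∀ m, Module.FinitePresentation (R E₀) (sectModEt (P m) E₀))
    (a : SumIdx P φ E₀) : ((sumSys P φ E₀ hs).obj a).IsFinitePresentation :=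
  haveI := isQuasicoherent_sumMod P a.1
  isFinitePresentation_kerSys (φ := sumTo P φ a.1) hs (finitePresentation_sumMod P a.1 E₀ hfp) a.2

include hqc hqs in
theorem nonempty_sumIdx [M.IsQuasicoherent] : Nonempty (SumIdx P φ E₀) := by
  haveI := isQuasicoherent_sumMod P (∅ : Finset I)
  obtain ⟨K, -⟩ := exists_kerIdx_mem hqc hqs (φ := sumTo P φ (∅ : Finset I)) (E₀ := E₀) ∅
  exact ⟨⟨∅, K⟩⟩

include hqc hqs in
theorem isDirected_sumIdx [M.IsQuasicoherent] : IsDirected (SumIdx P φ E₀) (· ≤ ·) := by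
  classical
  refine ⟨fun a b => ?_⟩
  obtain ⟨T, K⟩ := a
  obtain ⟨T', K'⟩ := b
  let T'' := T ∪ T'
  haveI := isQuasicoherent_sumMod P T''
  haveI := isQuasicoherent_kernel (sumTo P φ T'')
  haveI := K.qc
  haveI := K.ft
  haveI := K'.qc
  haveI := K'.ft
  let l : ∀ {T₀ : Finset I} (h : T₀ ⊆ T'') (L : KerIdx X (sumTo P φ T₀) E₀), L.mod ⟶ kernel (sumTo P φ T'') :=
    fun h L => kernel.lift _ (L.toP ≫ incl P h) (by rw [Category.assoc, incl_sumTo, L.toP_comp])
  obtain ⟨C, c, h1, h2, h3, ⟨u₁, hu₁⟩, u₂, hu₂⟩ :=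
    exists_ft_join (l Finset.subset_union_left K) (l Finset.subset_union_right K')
  have hle : ∀ {T₀ : Finset I} (h : T₀ ⊆ T'') (L : KerIdx X (sumTo P φ T₀) E₀) (x : L.mod ⟶ C), x ≫ c = l h L →
      L.1.map (appM (incl P h) E₀) ≤ LinearMap.range (appM (c ≫ kernel.ι (sumTo P φ T'')) E₀) := by
    intro T₀ h L x hx
    rw [← L.range_eq]
    rintro _ ⟨_, ⟨y, rfl⟩, rfl⟩
    refine ⟨appM x E₀ y, ?_⟩
    refine congrArg (fun q : L.mod ⟶ sumMod P T'' => appM q E₀ y)
      (show x ≫ c ≫ kernel.ι (sumTo P φ T'') = L.toP ≫ incl P h by rw [← Category.assoc, hx, kernel.lift_ι])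
  exact ⟨⟨T'', ⟨_, C, c, h1, h2, h3, rfl⟩⟩, ⟨Finset.subset_union_left, hle _ K u₁ hu₁⟩,
    ⟨Finset.subset_union_right, hle _ K' u₂ hu₂⟩⟩

include hqc hqs in
theorem nonempty_isColimit_sumSys [M.IsQuasicoherent] (hsur : ∀ m : sectModEt M E₀, ∃ i b, appM (φ i) E₀ b = m) :
    Nonempty (IsColimit (Cocone.mk M (sumCocone P φ E₀ hs))) := by
  classical
  haveI := isDirected_sumIdx hqc hqs P φ E₀
  haveI := isFilteredOrEmpty_of_directed_le (SumIdx P φ E₀)
  haveI : (Cocone.mk M (sumCocone P φ E₀ hs)).pt.IsQuasicoherent := ‹M.IsQuasicoherent›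
  haveI : ∀ a, ((sumSys P φ E₀ hs).obj a).IsQuasicoherent := fun a => by
    haveI := a.2.qc
    haveI := isQuasicoherent_sumMod P a.1
    exact isQuasicoherent_cokernel a.2.toP
  refine nonempty_isColimit_of_chart (E₀ := E₀) X.property hs (Cocone.mk M (sumCocone P φ E₀ hs)) (fun m => ?_)
    fun a b b' hbb => ?_
  · obtain ⟨i, b, hb⟩ := hsur m
    haveI := isQuasicoherent_sumMod P {i}
    obtain ⟨K, -⟩ := exists_kerIdx_mem hqc hqs (φ := sumTo P φ {i}) (E₀ := E₀) ∅
    refine ⟨⟨{i}, K⟩, appM (Sigma.ι (fun m : ({i} : Finset I) => P m.1) ⟨i, Finset.mem_singleton_self i⟩ ≫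
      cokernel.π K.toP) E₀ b, ?_⟩
    refine (congrArg (fun q : P i ⟶ M => appM q E₀ b) (show (Sigma.ι (fun m : ({i} : Finset I) => P m.1)
      ⟨i, Finset.mem_singleton_self i⟩ ≫ cokernel.π K.toP) ≫ cokernel.desc K.toP (sumTo P φ {i}) K.toP_comp = φ i by
        rw [Category.assoc, cokernel.π_desc]
        exact Sigma.ι_desc _ _)).trans hb
  · obtain ⟨T, K⟩ := a
    haveI := isQuasicoherent_sumMod P T
    haveI := K.qc
    haveI := isQuasicoherent_cokernel K.toP
    obtain ⟨x, hx⟩ := appM_surjective_of_epi (cokernel.π K.toP) E₀ b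
    obtain ⟨x', hx'⟩ := appM_surjective_of_epi (cokernel.π K.toP) E₀ b'
    subst hx hx'
    have e : appM (sumTo P φ T) E₀ (x - x') = 0 := by
      rw [map_sub, sub_eq_zero]
      have := cokernel.π_desc K.toP (sumTo P φ T) K.toP_comp
      rw [← this]
      exact hbb
    obtain ⟨z, hz⟩ := GenSite.exists_kernel_lift (V := E₀) (sumTo P φ T) (x - x') e
    obtain ⟨K₁, hK₁⟩ := exists_kerIdx_mem hqc hqs (φ := sumTo P φ T) (E₀ := E₀) {z}
    haveI := isDirected_kerIdx hqc hqs (φ := sumTo P φ T) (E₀ := E₀)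
    obtain ⟨L, hKL, hK₁L⟩ := directed_of (· ≤ ·) K K₁
    let a₀ : SumIdx P φ E₀ := ⟨T, K⟩
    let a₁ : SumIdx P φ E₀ := ⟨T, L⟩
    have hle : a₀ ≤ a₁ := ⟨Finset.Subset.refl T, by
      show K.1.map (appM (incl P (Finset.Subset.refl T)) E₀) ≤ L.1
      rw [incl_refl]
      exact le_trans (le_of_eq (Submodule.map_id _)) hKL⟩
    refine ⟨a₁, homOfLE hle, ?_⟩
    obtain ⟨y, hy⟩ : x - x' ∈ LinearMap.range (appM L.toP E₀) := by
      rw [L.range_eq]
      exact hK₁L (hz ▸ hK₁ z (Finset.mem_singleton_self z))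
    have hπ : appM (cokernel.π L.toP) E₀ x = appM (cokernel.π L.toP) E₀ x' := by
      rw [← sub_eq_zero, ← map_sub, ← hy]
      refine (congrArg (fun q : L.mod ⟶ cokernel L.toP => appM q E₀ y) (cokernel.condition L.toP)).trans ?_
      rfl
    exact appM_sumSys_map P φ E₀ hs K L hle x x' hπ

end System

end Groth.Agent.EtQC
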