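import Groth.Agent.EtQC.FTPush
import Mathlib.RingTheory.Finiteness.ModuleFinitePresentation
import Mathlib.AlgebraicGeometry.Morphisms.FinitePresentation

/-!
Finite presentation of modules along finite morphisms of finite presentation.
-/

set_option autoImplicit false
set_option linter.style.haveILetI false
set_option backward.isDefEq.respectTransparency false

universe u

noncomputable section

open CategoryTheory CategoryTheory.Limits AlgebraicGeometry Opposite AlgSp TensorProduct

namespace Groth.Agent.EtQC

theorem finitePresentation_of_restrictScalars {A B M : Type*} [CommRing A] [CommRing B] [Algebra A B]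
    [Module.Finite A B] [AddCommGroup M] [Module A M] [Module B M] [IsScalarTower A B M]
    [Module.FinitePresentation A M] : Module.FinitePresentation B M := by
  haveI : Module.Finite B M := Module.Finite.of_restrictScalars_finite A B M
  obtain ⟨n, l, hl⟩ := Module.Finite.exists_fin' B M
  refine Module.finitePresentation_of_surjective l hl (Submodule.FG.of_restrictScalars A ?_)
  exact Module.FinitePresentation.fg_ker (l.restrictScalars A) hl

theorem finitePresentation_of_jointlyFF {A : Type (u + 1)} [CommRing A] {ι : Type*} [Finite ι] (B : ι → Type (u + 1))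
    [∀ i, CommRing (B i)] [∀ i, Algebra A (B i)] [∀ i, Module.Flat A (B i)] (hB : JointlyFF (A := A) B)
    (M : Type (u + 1)) [AddCommGroup M] [Module A M] [Module.Finite A M]
    [∀ i, Module.FinitePresentation (B i) (B i ⊗[A] M)] : Module.FinitePresentation A M := by
  classical
  haveI := Fintype.ofFinite ι
  obtain ⟨n, l, hl⟩ := Module.Finite.exists_fin' A M
  refine Module.finitePresentation_of_surjective l hl ?_
  let K := LinearMap.ker l
  have hex : ∀ i, ∃ t : Finset K,
      ∀ c ∈ LinearMap.ker (l.baseChange (B i)),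
        c ∈ Submodule.span (B i) ((fun k : K => (1 : B i) ⊗ₜ[A] (k : Fin n → A)) '' (t : Set K)) := by
    intro i
    have hfg : (LinearMap.ker (l.baseChange (B i))).FG :=
      Module.FinitePresentation.fg_ker (l.baseChange (B i)) (LinearMap.lTensor_surjective (B i) hl)
    obtain ⟨s, hs⟩ := hfg
    have hk : ∀ c ∈ LinearMap.ker (l.baseChange (B i)), ∃ t : Finset K,
        c ∈ Submodule.span (B i) ((fun k : K => (1 : B i) ⊗ₜ[A] (k : Fin n → A)) '' (t : Set K)) := by
      intro c hc
      obtain ⟨w, rfl⟩ := (Module.Flat.lTensor_exact (B i) (LinearMap.exact_subtype_ker_map l) c).mp hc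
      clear hc
      induction w using TensorProduct.induction_on with
      | zero => exact ⟨∅, by rw [map_zero]; exact Submodule.zero_mem _⟩
      | tmul b k =>
        refine ⟨{k}, ?_⟩
        rw [LinearMap.lTensor_tmul, Finset.coe_singleton, Set.image_singleton]
        refine Submodule.mem_span_singleton.mpr ⟨b, ?_⟩
        rw [TensorProduct.smul_tmul', smul_eq_mul, mul_one]
        rfl
      | add a b ha hb =>
        obtain ⟨t, ht⟩ := ha
        obtain ⟨t', ht'⟩ := hb
        refine ⟨t ∪ t', ?_⟩
        rw [map_add]
        exact Submodule.add_mem _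
          (Submodule.span_mono (Set.image_mono (Finset.coe_subset.mpr Finset.subset_union_left)) ht)
          (Submodule.span_mono (Set.image_mono (Finset.coe_subset.mpr Finset.subset_union_right)) ht')
    choose tt htt using hk
    refine ⟨s.attach.biUnion fun c => tt c.1 (hs ▸ Submodule.subset_span c.2), fun c hc => ?_⟩
    rw [← hs] at hc
    refine Submodule.span_le.mpr (fun x hx => ?_) hc
    exact Submodule.span_mono (Set.image_mono (Finset.coe_subset.mpr
      (Finset.subset_biUnion_of_mem (fun c : {c // c ∈ s} => tt c.1 (hs ▸ Submodule.subset_span c.2))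
        (Finset.mem_attach s ⟨x, hx⟩)))) (htt x _)
  choose t ht using hex
  let T : Finset (Fin n → A) := (Finset.univ.biUnion t).image (fun k : K => (k : Fin n → A))
  refine ⟨T, le_antisymm (Submodule.span_le.mpr ?_) fun c hc => ?_⟩
  · intro x hx
    obtain ⟨k, -, rfl⟩ := Finset.mem_image.mp hx
    exact k.2
  · refine (Submodule.Quotient.mk_eq_zero _).mp (eq_zero_of_one_tmul B hB
      ((Submodule.span A (T : Set (Fin n → A))).mkQ c) fun i => ?_)
    have hci : (1 : B i) ⊗ₜ[A] c ∈ LinearMap.ker (l.baseChange (B i)) := by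
      rw [LinearMap.mem_ker, LinearMap.baseChange_tmul, show l c = 0 from hc, TensorProduct.tmul_zero]
    have h0 : (Submodule.span A (T : Set (Fin n → A))).mkQ.baseChange (B i) ((1 : B i) ⊗ₜ[A] c) = 0 := by
      refine (Submodule.span_le (p := LinearMap.ker ((Submodule.span A (T : Set (Fin n → A))).mkQ.baseChange (B i)))).mpr
        ?_ (ht i _ hci)
      rintro _ ⟨k, hk, rfl⟩
      rw [SetLike.mem_coe, LinearMap.mem_ker, LinearMap.baseChange_tmul, Submodule.mkQ_apply,
        (Submodule.Quotient.mk_eq_zero _).mpr (Submodule.subset_span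
          (Finset.mem_image_of_mem _ (Finset.mem_biUnion.mpr ⟨i, Finset.mem_univ i, hk⟩))), TensorProduct.tmul_zero]
    rwa [LinearMap.baseChange_tmul] at h0

variable {S : Scheme.{u}} {X Y : Sp S} {f : X ⟶ Y} (hf : Representable f)

theorem finitePresentation_pushRes (hfin : IsFiniteMor f) (hlfp : LocP @LocallyOfFinitePresentation f)
    (E : EtOver Y) [IsAffine E.obj.left.left] :
    letI : Algebra (R E) (R ((EtOver.bc hf).obj E)) := (pushRes hf E).toAlgebra
    Module.FinitePresentation (R E) (R ((EtOver.bc hf).obj E)) := by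
  haveI := isAffine_bc hf (isAffineMor_of_isFiniteMor hfin) E
  letI : Algebra (R E) (R ((EtOver.bc hf).obj E)) := (pushRes hf E).toAlgebra
  haveI := finite_pushRes hf hfin E
  haveI : LocallyOfFinitePresentation (hf.snd E.obj.hom).left :=
    hlfp ((EtOver.bc hf).obj E).obj.hom E.obj.hom (hf.snd E.obj.hom) ((EtOver.bc hf).obj E).property E.property
      (hf.isPullback E.obj.hom).w
  haveI : IsAffine (hf.pullback E.obj.hom).left := isAffine_bc hf (isAffineMor_of_isFiniteMor hfin) E
  have h : (hf.snd E.obj.hom).left.appTop.hom.FinitePresentation :=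
    (HasRingHomProperty.iff_of_isAffine (P := @LocallyOfFinitePresentation)).mp inferInstance
  have e : RingHom.FinitePresentation ((((ULift.ringEquiv.{u, u + 1} : ULift.{u + 1} Γ((hf.pullback E.obj.hom).left, ⊤) ≃+* _).symm.toRingHom).comp
      (hf.snd E.obj.hom).left.appTop.hom).comp
      (ULift.ringEquiv.{u, u + 1} : ULift.{u + 1} Γ(E.obj.left.left, ⊤) ≃+* _).toRingHom) :=
    RingHom.FinitePresentation.comp (RingHom.FinitePresentation.comp
    (RingHom.FinitePresentation.of_bijective (RingEquiv.bijective _)) h)
    (RingHom.FinitePresentation.of_bijective (RingEquiv.bijective _))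
  haveI : Algebra.FinitePresentation (R E) (R ((EtOver.bc hf).obj E)) := e
  exact Module.FinitePresentation.of_finite_of_finitePresentation _ _

theorem finitePresentation_of_cover {M : ModEt X} [M.IsQuasicoherent] {E : EtOver X} [IsAffine E.obj.left.left]
    (h : ∀ x : E.obj.left.left, ∃ (V : EtOver X) (g : V ⟶ E), IsAffine V.obj.left.left ∧
      x ∈ Set.range g.hom.left.left ∧ Module.FinitePresentation (R V) (sectModEt M V)) :
    Module.FinitePresentation (R E) (sectModEt M E) := by
  haveI : Module.Finite (R E) (sectModEt M E) := finite_sections fun x => by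
    obtain ⟨V, g, hV, hx, hfp⟩ := h x
    exact ⟨V, g, hV, hx, inferInstance⟩
  obtain ⟨n, V, g, hV, hcov, hP⟩ :=
    exists_finite_cover (W := E) (fun V _ => Module.FinitePresentation (R V) (sectModEt M V)) h
  have hB : JointlyFF (A := R E) (fun i => Rg (g i)) := by
    letI : ∀ i, Algebra (R E) (R (V i)) := fun i => (res (g i)).toAlgebra
    exact jointlyFF_res g hcov fun i a => rfl
  haveI : ∀ i, Module.Flat (R E) (Rg (g i)) := fun i => by have := hV i; exact flat_res (g i)
  haveI : ∀ i, Module.FinitePresentation (Rg (g i)) (Rg (g i) ⊗[R E] sectModEt M E) := fun i => by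
    have := hV i
    haveI : Module.FinitePresentation (Rg (g i)) (Mg M (g i)) := hP i
    exact Module.FinitePresentation.of_equiv (isBaseChange_res (M := M) (g i)).equiv.symm
  exact finitePresentation_of_jointlyFF (fun i => Rg (g i)) hB _

theorem mem_span_finsupp_of_cover {I : Type (u + 1)} {W : EtOver X} [IsAffine W.obj.left.left]
    (T : Set (I →₀ R W)) (c : I →₀ R W)
    (h : ∀ x : W.obj.left.left, ∃ (V : EtOver X) (k : V ⟶ W), IsAffine V.obj.left.left ∧
      x ∈ Set.range k.hom.left.left ∧ c.mapRange (res k) (map_zero _) ∈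
        Submodule.span (R V) ((fun d : I →₀ R W => d.mapRange (res k) (map_zero _)) '' T)) :
    c ∈ Submodule.span (R W) T := by
  classical
  obtain ⟨n, V, k, hV, hcov, hP⟩ := exists_finite_cover (W := W)
    (fun V k => c.mapRange (res k) (map_zero _) ∈
      Submodule.span (R V) ((fun d : I →₀ R W => d.mapRange (res k) (map_zero _)) '' T)) h
  have hB : JointlyFF (A := R W) (fun i => Rg (k i)) := by
    letI : ∀ i, Algebra (R W) (R (V i)) := fun i => (res (k i)).toAlgebra
    exact jointlyFF_res k hcov fun i a => rfl
  haveI : ∀ i, Module.Flat (R W) (Rg (k i)) := fun i => by have := hV i; exact flat_res (k i)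
  let N := Submodule.span (R W) T
  rw [← Submodule.Quotient.mk_eq_zero (p := N)]
  refine eq_zero_of_one_tmul (fun i => Rg (k i)) hB _ fun i => ?_
  let e := TensorProduct.finsuppScalarRight (R W) (Rg (k i)) (Rg (k i)) I
  have he : ∀ d : I →₀ R W, e ((1 : Rg (k i)) ⊗ₜ[R W] d) = d.mapRange (res (k i)) (map_zero _) := fun d => by
    ext j
    rw [TensorProduct.finsuppScalarRight_apply_tmul_apply]
    show d j • (1 : Rg (k i)) = res (k i) (d j)
    rw [Algebra.smul_def, mul_one]
    rfl
  let L : (I →₀ Rg (k i)) →ₗ[Rg (k i)] Rg (k i) ⊗[R W] ((I →₀ R W) ⧸ N) :=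
    (N.mkQ.baseChange (Rg (k i))).comp e.symm.toLinearMap
  have hL : ∀ d : I →₀ R W, L (d.mapRange (res (k i)) (map_zero _)) = (1 : Rg (k i)) ⊗ₜ[R W] (N.mkQ d) := fun d => by
    rw [← he d]
    exact (congrArg (N.mkQ.baseChange (Rg (k i))) (e.symm_apply_apply _)).trans (LinearMap.baseChange_tmul _ _ _)
  have hz : Submodule.span (Rg (k i)) ((fun d : I →₀ R W => (d.mapRange (res (k i)) (map_zero _) : I →₀ Rg (k i))) '' T) ≤
      LinearMap.ker L := by
    rw [Submodule.span_le]
    rintro _ ⟨d, hd, rfl⟩
    rw [SetLike.mem_coe, LinearMap.mem_ker, hL, Submodule.mkQ_apply,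
      (Submodule.Quotient.mk_eq_zero N).mpr (Submodule.subset_span hd), TensorProduct.tmul_zero]
  exact (hL c).symm.trans (hz (hP i))

theorem finitePresentation_of_presentation {M : ModEt X} [M.IsQuasicoherent] {U : EtOver X} {I J : Type (u + 1)}
    [Finite I] [Finite J] (π : Fr U I ⟶ M.over U) [Epi π] (ρ : Fr U J ⟶ kernel π) [Epi ρ] {V : EtOver X}
    [IsAffine V.obj.left.left] (g : V ⟶ U) : Module.FinitePresentation (R V) (sectModEt M V) := by
  classical
  let L := Finsupp.linearCombination (R V) (secOf π g)
  have hL : Function.Surjective L := fun m => by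
    have hm : m ∈ Submodule.span (R V) (Set.range (secOf π g)) :=
      mem_span_of_locally _ m fun x => locally_span π g m x
    rwa [← Finsupp.range_linearCombination] at hm
  have hrel : ∀ l, ∃ d : I →₀ R V,
      (kernel.ι π).val.app (op (Over.mk g)) (ρ.val.app (op (Over.mk g)) (bas l (Over.mk g))) =
        combo (Over.mk g) d := fun l => free_sections_eq_span g _
  choose d hd using hrel
  have hdk : ∀ l, L (d l) = 0 := fun l => by
    refine (app_combo π g (d l)).symm.trans ?_
    rw [← hd l]
    exact congrArg (fun p : kernel π ⟶ M.over U =>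
      p.val.app (op (Over.mk g)) (ρ.val.app (op (Over.mk g)) (bas l (Over.mk g))))
      (kernel.condition π)
  haveI : Finite (Set.range d) := (Set.finite_range d).to_subtype
  refine Module.finitePresentation_of_surjective L hL
    (Submodule.fg_def.mpr ⟨Set.range d, Set.finite_range d, le_antisymm (Submodule.span_le.mpr ?_) fun c hc => ?_⟩)
  · rintro _ ⟨l, rfl⟩
    exact hdk l
  refine mem_span_finsupp_of_cover _ c fun x => ?_
  obtain ⟨k, hk⟩ := GenSite.exists_kernel_lift (V := Over.mk g) π (combo (Over.mk g) c)
    ((app_combo π g c).trans hc)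
  obtain ⟨T, hT, hlift⟩ := GenSite.epi_locally (V := Over.mk g) ρ k
  obtain ⟨W, hW, b, hx, ht⟩ := @exists_affine_of_mem_over _ _ U V g T hT x
  obtain ⟨y', hy'⟩ := hlift _ ht
  obtain ⟨e, rfl⟩ := free_sections_eq_span (b ≫ g) y'
  refine ⟨W, b, hW, hx, ?_⟩
  let β : Over.mk (b ≫ g) ⟶ Over.mk g := Over.homMk b rfl
  let p := ρ ≫ kernel.ι π
  have hp : ∀ l, p.val.app (op (Over.mk (b ≫ g))) (bas l (Over.mk (b ≫ g))) =
      combo (Over.mk (b ≫ g)) ((d l).mapRange (res b) (map_zero _)) := fun l => by
    refine Eq.trans ?_ (map_combo β (d l))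
    rw [← hd l]
    refine (congrArg (p.val.app (op (Over.mk (b ≫ g)))) (GenSite.map_basisSec l β)).symm.trans ?_
    exact PresheafOfModules.naturality_apply p.val β.op (bas l (Over.mk g))
  have hpe : ∀ e : J →₀ R W, p.val.app (op (Over.mk (b ≫ g))) (combo (Over.mk (b ≫ g)) e) =
      combo (Over.mk (b ≫ g)) (Finsupp.linearCombination (R W)
        (fun l => ((d l).mapRange (res b) (map_zero _) : I →₀ R W)) e) := by
    intro e
    induction e using Finsupp.induction_linear with
    | zero =>
      rw [map_zero (Finsupp.linearCombination (R W) _)]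
      exact (congrArg (p.val.app _) (map_zero (combo (Over.mk (b ≫ g))))).trans
        ((map_zero (p.val.app _).hom).trans (map_zero (combo (Over.mk (b ≫ g)))).symm)
    | add a a' ha ha' =>
      rw [map_add (Finsupp.linearCombination (R W) _)]
      refine (congrArg (p.val.app _) (map_add (combo (Over.mk (b ≫ g))) a a')).trans ?_
      refine ((map_add (p.val.app _).hom _ _).trans ?_).trans (map_add (combo (Over.mk (b ≫ g))) _ _).symm
      exact congrArg₂ (· + ·) ha ha'
    | single l a =>
      rw [Finsupp.linearCombination_single]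
      refine (congrArg (p.val.app _) (combo_single (V := Over.mk (b ≫ g)) l a)).trans ?_
      refine ((map_smul (p.val.app _).hom a (bas l (Over.mk (b ≫ g)))).trans ?_).trans
        (map_smul (combo (Over.mk (b ≫ g))) (show R (Over.mk (b ≫ g)).left from a) _).symm
      exact congrArg (fun v : (Fr U I).val.obj (op (Over.mk (b ≫ g))) => a • v) (hp l)
  have hc' : combo (Over.mk (b ≫ g)) (Finsupp.linearCombination (R W)
        (fun l => ((d l).mapRange (res b) (map_zero _) : I →₀ R W)) e) =
      combo (Over.mk (b ≫ g)) (c.mapRange (res b) (map_zero _)) := by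
    refine ((hpe e).symm.trans ?_).trans (map_combo β c)
    rw [← hk]
    refine (congrArg ((kernel.ι π).val.app (op (Over.mk (b ≫ g)))) hy').trans ?_
    exact PresheafOfModules.naturality_apply (kernel.ι π).val β.op k
  have heq : Finsupp.linearCombination (R W)
        (fun l => ((d l).mapRange (res b) (map_zero _) : I →₀ R W)) e =
      c.mapRange (res b) (map_zero _) := Finsupp.ext fun j =>
    (coord_combo (V := Over.mk (b ≫ g)) j _).symm.trans
      ((congrArg ((GenSite.coord (R := (OEtRing X).over U) j).val.app (op (Over.mk (b ≫ g)))) hc').trans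
        (coord_combo (V := Over.mk (b ≫ g)) j _))
  rw [← heq, ← Set.range_comp, Finsupp.mem_span_range_iff_exists_finsupp]
  exact ⟨e, (Finsupp.linearCombination_apply _ _).symm⟩

theorem finitePresentation_sections_qc (M : ModEt X) [M.IsQuasicoherent] [M.IsFinitePresentation] (E : EtOver X)
    [IsAffine E.obj.left.left] : Module.FinitePresentation (R E) (sectModEt M E) := by
  classical
  obtain ⟨q, hq⟩ := SheafOfModules.IsFinitePresentation.exists_quasicoherentData M
  refine finitePresentation_of_cover fun x => ?_
  obtain ⟨V₀, h₀, ⟨i, ⟨f⟩⟩, y, hy⟩ :=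
    Groth.Agent.AlgSpLib.StalkPoint.surjective_of_mem_etTop (q.coversTop E) x
  obtain ⟨V, hV, h, z, hz⟩ := exists_affine_nhd V₀ y
  refine ⟨V, h ≫ h₀, hV, ⟨z, by rw [← hy, ← hz]; rfl⟩, ?_⟩
  let σ := q.presentation i
  haveI := hq.isFinite_presentation i
  haveI : Finite σ.generators.I := SheafOfModules.GeneratingSections.IsFiniteType.finite
  haveI : Finite σ.relations.I := SheafOfModules.GeneratingSections.IsFiniteType.finite
  haveI : Epi σ.generators.π := σ.generators.epi
  haveI : Epi σ.relations.π := σ.relations.epi
  exact finitePresentation_of_presentation σ.generators.π σ.relations.π (h ≫ f)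

theorem isFinitePresentation_iff_push (hY : IsAlgSpace Y) (hfin : IsFiniteMor f)
    (hlfp : LocP @LocallyOfFinitePresentation f) (M : ModEt X) [M.IsQuasicoherent] :
    M.IsFinitePresentation ↔ ((pushModEt hf).obj M).IsFinitePresentation := by
  haveI := isQuasicoherent_push_affine hf (isAffineMor_of_isFiniteMor hfin) M
  constructor
  · intro h
    refine isFinitePresentation_of_isBaseChange (fun {E V} _ _ g => isBaseChange_res g) fun E _ => ?_
    haveI := isAffine_bc hf (isAffineMor_of_isFiniteMor hfin) E
    letI : Algebra (R E) (R ((EtOver.bc hf).obj E)) := (pushRes hf E).toAlgebra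
    haveI := finitePresentation_pushRes hf hfin hlfp E
    letI : Module (R ((EtOver.bc hf).obj E)) (sectModEt ((pushModEt hf).obj M) E) :=
      inferInstanceAs (Module (R ((EtOver.bc hf).obj E)) (sectModEt M ((EtOver.bc hf).obj E)))
    haveI : IsScalarTower (R E) (R ((EtOver.bc hf).obj E)) (sectModEt ((pushModEt hf).obj M) E) :=
      IsScalarTower.of_algebraMap_smul fun a m => rfl
    haveI : Module.FinitePresentation (R ((EtOver.bc hf).obj E)) (sectModEt ((pushModEt hf).obj M) E) :=
      finitePresentation_sections_qc M ((EtOver.bc hf).obj E)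
    exact Module.FinitePresentation.trans (R E) _ (R ((EtOver.bc hf).obj E))
  · intro h
    refine isFinitePresentation_of_isBaseChange (fun {E V} _ _ g => isBaseChange_res g) fun W _ =>
      finitePresentation_of_cover fun x => ?_
    obtain ⟨E, hE, V, hV, a, c, hx⟩ := exists_pull_chart hY hf W x
    haveI := hE
    haveI := hV
    haveI := isAffine_bc hf (isAffineMor_of_isFiniteMor hfin) E
    refine ⟨V, a, hV, hx, ?_⟩
    letI : Algebra (R E) (R ((EtOver.bc hf).obj E)) := (pushRes hf E).toAlgebra
    haveI := finite_pushRes hf hfin E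
    letI : Module (R ((EtOver.bc hf).obj E)) (sectModEt ((pushModEt hf).obj M) E) :=
      inferInstanceAs (Module (R ((EtOver.bc hf).obj E)) (sectModEt M ((EtOver.bc hf).obj E)))
    haveI : IsScalarTower (R E) (R ((EtOver.bc hf).obj E)) (sectModEt ((pushModEt hf).obj M) E) :=
      IsScalarTower.of_algebraMap_smul fun a m => rfl
    haveI := finitePresentation_sections_qc ((pushModEt hf).obj M) E
    have h' : Module.FinitePresentation (R ((EtOver.bc hf).obj E)) (sectModEt ((pushModEt hf).obj M) E) :=
      finitePresentation_of_restrictScalars (A := R E)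
    haveI : Module.FinitePresentation (R ((EtOver.bc hf).obj E)) (sectModEt M ((EtOver.bc hf).obj E)) := h'
    haveI : Module.FinitePresentation (Rg c) (Rg c ⊗[R ((EtOver.bc hf).obj E)] sectModEt M ((EtOver.bc hf).obj E)) :=
      inferInstance
    exact (Module.FinitePresentation.of_equiv (isBaseChange_res (M := M) c).equiv :
      Module.FinitePresentation (Rg c) (Mg M c))

end Groth.Agent.EtQC
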