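import Groth.Agent.EtQC.GlueProps
import Groth.Agent.EtQC.ExtSub

/-!
One step of the approximation by finitely presented modules along an elementary distinguished square.
-/

set_option autoImplicit false
set_option linter.style.haveILetI false
set_option backward.isDefEq.respectTransparency false

universe u

noncomputable section

open CategoryTheory CategoryTheory.Limits AlgebraicGeometry Opposite AlgSp TensorProduct

namespace Groth.Agent.EtQC

/-- finitely many relations suffice after flat base changes with finitely presented targets -/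
theorem exists_finite_relations {A : Type*} [CommRing A] {ι : Type*} [Finite ι] (B : ι → Type*)
    [∀ i, CommRing (B i)] [∀ i, Algebra A (B i)] [∀ i, Module.Flat A (B i)] {F P : Type*} [AddCommGroup F]
    [Module A F] [Module.Finite A F] [AddCommGroup P] [Module A P] (π : F →ₗ[A] P)
    (hsur : ∀ i, Function.Surjective (π.baseChange (B i)))
    (hfp : ∀ i, Module.FinitePresentation (B i) (B i ⊗[A] P)) :
    ∃ N₀ : Submodule A F, N₀ ≤ LinearMap.ker π ∧ N₀.FG ∧ ∀ (N : Submodule A F) (h : N ≤ LinearMap.ker π),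
      N₀ ≤ N → ∀ i, Function.Bijective ((N.liftQ π h).baseChange (B i)) := by
  classical
  haveI := Fintype.ofFinite ι
  let K := LinearMap.ker π
  have hex : ∀ i, ∃ t : Finset K, ∀ c ∈ LinearMap.ker (π.baseChange (B i)),
      c ∈ Submodule.span (B i) ((fun k : K => (1 : B i) ⊗ₜ[A] (k : F)) '' (t : Set K)) := by
    intro i
    have := hfp i
    obtain ⟨s, hs⟩ := Module.FinitePresentation.fg_ker (π.baseChange (B i)) (hsur i)
    have hk : ∀ c ∈ LinearMap.ker (π.baseChange (B i)), ∃ t : Finset K,
        c ∈ Submodule.span (B i) ((fun k : K => (1 : B i) ⊗ₜ[A] (k : F)) '' (t : Set K)) := by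
      intro c hc
      obtain ⟨w, rfl⟩ := (Module.Flat.lTensor_exact (B i) (LinearMap.exact_subtype_ker_map π) c).mp hc
      clear hc
      induction w using TensorProduct.induction_on with
      | zero => exact ⟨∅, by rw [map_zero]; exact Submodule.zero_mem _⟩
      | tmul b k =>
        refine ⟨{k}, ?_⟩
        rw [LinearMap.lTensor_tmul, Finset.coe_singleton, Set.image_singleton]
        refine Submodule.mem_span_singleton.mpr ⟨b, ?_⟩
        rw [TensorProduct.smul_tmul', smul_eq_mul, mul_one]
        rfl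
      | add a b ha hb =>
        obtain ⟨t, ht⟩ := ha
        obtain ⟨t', ht'⟩ := hb
        refine ⟨t ∪ t', ?_⟩
        rw [map_add]
        exact Submodule.add_mem _
          (Submodule.span_mono (Set.image_mono (Finset.coe_subset.mpr Finset.subset_union_left)) ht)
          (Submodule.span_mono (Set.image_mono (Finset.coe_subset.mpr Finset.subset_union_right)) ht')
    choose tt htt using hk
    refine ⟨s.attach.biUnion fun c => tt c.1 (hs ▸ Submodule.subset_span c.2), fun c hc => ?_⟩
    rw [← hs] at hc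
    refine Submodule.span_le.mpr (fun x hx => ?_) hc
    exact Submodule.span_mono (Set.image_mono (Finset.coe_subset.mpr
      (Finset.subset_biUnion_of_mem (fun c : {c // c ∈ s} => tt c.1 (hs ▸ Submodule.subset_span c.2))
        (Finset.mem_attach s ⟨x, hx⟩)))) (htt x _)
  choose t ht using hex
  let T : Finset F := (Finset.univ.biUnion t).image (fun k : K => (k : F))
  refine ⟨Submodule.span A (T : Set F), Submodule.span_le.mpr fun x hx => ?_, ⟨T, rfl⟩, fun N hN hle i => ?_⟩
  · obtain ⟨k, -, rfl⟩ := Finset.mem_image.mp hx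
    exact k.2
  have hcomp : ∀ c, (N.liftQ π hN).baseChange (B i) (N.mkQ.baseChange (B i) c) = π.baseChange (B i) c := fun c => by
    rw [← LinearMap.comp_apply, ← LinearMap.baseChange_comp, Submodule.liftQ_mkQ]
  refine ⟨(injective_iff_map_eq_zero _).mpr fun z hz => ?_, fun y => ?_⟩
  · obtain ⟨c, rfl⟩ := LinearMap.lTensor_surjective (B i) N.mkQ_surjective z
    have hle : Submodule.span (B i) ((fun k : K => (1 : B i) ⊗ₜ[A] (k : F)) '' (t i : Set K)) ≤
        LinearMap.ker (N.mkQ.baseChange (B i)) := by
      rw [Submodule.span_le]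
      rintro _ ⟨k, hk, rfl⟩
      rw [SetLike.mem_coe, LinearMap.mem_ker, LinearMap.baseChange_tmul, Submodule.mkQ_apply,
        (Submodule.Quotient.mk_eq_zero N).mpr (hle (Submodule.subset_span
          (Finset.mem_image_of_mem _ (Finset.mem_biUnion.mpr ⟨i, Finset.mem_univ i, hk⟩)))), TensorProduct.tmul_zero]
    exact hle (ht i c ((hcomp c).symm.trans hz))
  · obtain ⟨c, rfl⟩ := hsur i y
    exact ⟨_, hcomp c⟩

variable {S : Scheme.{u}} {X : Sp S}

theorem finitePresentation_baseChange {P : ModEt X} [P.IsQuasicoherent] {E W : EtOver X} [IsAffine E.obj.left.left]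
    [IsAffine W.obj.left.left] (a : W ⟶ E) [Module.FinitePresentation (R E) (sectModEt P E)] :
    Module.FinitePresentation (Rg a) (Mg P a) := by
  haveI : Module.FinitePresentation (Rg a) (Rg a ⊗[R E] sectModEt P E) := inferInstance
  exact Module.FinitePresentation.of_equiv (isBaseChange_res (M := P) a).equiv

theorem equiv_baseChange_apply {P : ModEt X} [P.IsQuasicoherent] {E W : EtOver X} [IsAffine E.obj.left.left]
    [IsAffine W.obj.left.left] (b : W ⟶ E) {L : Type (u + 1)} [AddCommGroup L] [Module (R E) L]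
    (a : L →ₗ[R E] sectModEt P E) (z : Rg b ⊗[R E] L) :
    (isBaseChange_res (M := P) b).equiv (a.baseChange (Rg b) z) =
      LinearMap.liftBaseChange (Rg b) ((resL P b).comp a) z := by
  induction z using TensorProduct.induction_on with
  | zero => simp only [map_zero]
  | tmul r n => rw [LinearMap.baseChange_tmul, IsBaseChange.equiv_tmul, LinearMap.liftBaseChange_tmul]; rfl
  | add x y hx hy => rw [map_add, map_add, hx, hy, map_add]

section Generic

variable {A : Type (u + 1)} [CommRing A] (p : TopPt X A) {N N' : Type (u + 1)} [AddCommGroup N] [Module A N]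
  [AddCommGroup N'] [Module A N'] {M : ModEt X}

theorem descW_lTensor (φ : N' →ₗ[A] p.Mt M p.t) (f : N →ₗ[A] N') (W : EtOver X) (z : p.TN N W) :
    p.descW (φ.comp f) W z = p.descW φ W (LinearMap.lTensor (p.Rt W) f z) := by
  induction z using TensorProduct.induction_on with
  | zero => simp only [map_zero]
  | tmul r n =>
    rw [LinearMap.lTensor_tmul, TopPt.descW_tmul, TopPt.descW_tmul]
    rfl
  | add x y hx hy => rw [map_add, map_add, map_add, hx, hy]

theorem exists_finset_descW (K : Submodule A N) (W : EtOver X) (w : p.Rt W ⊗[A] K) :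
    ∃ s : Finset N, (s : Set N) ⊆ K ∧ ∀ (M : ModEt X) (φ : N →ₗ[A] p.Mt M p.t), (∀ n ∈ s, φ n = 0) →
      p.descW φ W (LinearMap.lTensor (p.Rt W) K.subtype w) = 0 := by
  classical
  induction w using TensorProduct.induction_on with
  | zero => exact ⟨∅, by simp, fun M φ _ => by rw [map_zero, map_zero]⟩
  | tmul r n =>
    refine ⟨{n.1}, by simp, fun M φ hφ => ?_⟩
    rw [LinearMap.lTensor_tmul, TopPt.descW_tmul, Submodule.subtype_apply, hφ n.1 (Finset.mem_singleton_self _),
      map_zero, smul_zero]
  | add x y hx hy =>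
    obtain ⟨s, hs, hs'⟩ := hx
    obtain ⟨t, ht, ht'⟩ := hy
    refine ⟨s ∪ t, by rw [Finset.coe_union]; exact Set.union_subset hs ht, fun M φ hφ => ?_⟩
    rw [map_add, map_add, hs' M φ fun n hn => hφ n (Finset.mem_union_left _ hn),
      ht' M φ fun n hn => hφ n (Finset.mem_union_right _ hn), add_zero]

end Generic

section Chart

variable (V : EtOver X) [IsAffine V.obj.left.left] {L L' : Type (u + 1)} [AddCommGroup L] [Module (R V) L]
  [AddCommGroup L'] [Module (R V) L']

theorem flat_Rt (W : EtOver ((yon S).obj V.obj.left)) [hW : IsAffine W.obj.left.left] :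
    Module.Flat (R V) ((ptE V).Rt W) := by
  let g := toV V W
  haveI : IsAffine (postV V W).obj.left.left := hW
  haveI : Module.Flat (R V) (Rg g) := flat_res g
  let χ : (ptE V).Rt W ≃ₗ[R V] Rg g :=
    { toFun := fun r => r
      invFun := fun r => r
      left_inv := fun _ => rfl
      right_inv := fun _ => rfl
      map_add' := fun _ _ => rfl
      map_smul' := fun a r => by
        exact congrArg (· * (show R (postV V W) from r))
          (res_comp (eps V) ((EtOver.postcomp V.obj.hom (isEtaleMor_hom V)).map (topHom V W)) a).symm }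
  exact Module.Flat.of_linearEquiv χ

/-- the universal elements, linearly -/
def genL : L →ₗ[R V] (ptE V).Mt (chartSheaf V L) (ptE V).t where
  toFun := (ptE V).gen
  map_add' n n' := by
    show ((ptE V).eta L).app _ ((ptE V).mkP L _) = _
    rw [TensorProduct.tmul_add]
    exact map_add (((ptE V).eta L).app (op (ptE V).t)).hom _ _
  map_smul' c n := by
    show ((ptE V).eta L).app _ ((ptE V).mkP L ((1 : (ptE V).Rt (ptE V).t) ⊗ₜ (c • n))) = _
    refine Eq.trans ?_ (LinearMap.map_smul (((ptE V).eta L).app (op (ptE V).t)).hom _ _)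
    refine congrArg (((ptE V).eta L).app (op (ptE V).t)).hom ?_
    show (ptE V).mkP L (_ ⊗ₜ[R V] _) = (ptE V).mkP L ((algebraMap (R V) ((ptE V).Rt (ptE V).t) c) • ((1 : (ptE V).Rt (ptE V).t) ⊗ₜ[R V] n))
    rw [algebraMap_smul, ← TensorProduct.tmul_smul]

/-- functoriality of the module on the chart -/
def chartFun (f : L →ₗ[R V] L') : chartSheaf V L ⟶ chartSheaf V L' := (ptE V).lift ((genL V).comp f)

variable (P : ModEt X)

theorem chartMap_gen (a : L →ₗ[R V] sectModEt P V) (n : L) :
    appM (chartMap V P L a) (topObj V) ((ptE V).gen n) = resM P (eps V) (a n) :=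
  (ptE V).lift_gen ((phiE P (E := V)).comp a) n

theorem chartFun_chartMap (f : L →ₗ[R V] L') (a' : L' →ₗ[R V] sectModEt P V) :
    chartFun V f ≫ chartMap V P L' a' = chartMap V P L (a'.comp f) :=
  (ptE V).sheaf_hom_ext _ _ fun n => by
    refine (congrArg (appM (chartMap V P L' a') (topObj V)) ((ptE V).lift_gen ((genL V).comp f) n)).trans ?_
    exact (chartMap_gen V P a' (f n)).trans (chartMap_gen V P (a'.comp f) n).symm

theorem exists_kill [P.IsQuasicoherent] (a : L →ₗ[R V] sectModEt P V) (W : EtOver ((yon S).obj V.obj.left))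
    [IsAffine W.obj.left.left] (d : sectModEt (chartSheaf V L) W) (hd : appM (chartMap V P L a) W d = 0) :
    ∃ s : Finset L, (s : Set L) ⊆ LinearMap.ker a ∧ ∀ (L' : Type (u + 1)) [AddCommGroup L'] [Module (R V) L']
      (f : L →ₗ[R V] L'), (∀ n ∈ s, f n = 0) → appM (chartFun V f) W d = 0 := by
  classical
  let p := ptE V
  haveI := flat_Rt V W
  obtain ⟨z, rfl⟩ := (p.eta_bijective L W).2 d
  have h0 : p.descW ((phiE P (E := V)).comp a) W z = 0 := (p.lift_apply _ W z).symm.trans hd
  have h2 : LinearMap.lTensor (p.Rt W) a z = 0 :=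
    (descW_phiE_bijective P W).1 (((descW_lTensor p (phiE P (E := V)) a W z).symm.trans h0).trans
      (map_zero (p.descW (phiE P (E := V)) W)).symm)
  obtain ⟨w, rfl⟩ := (Module.Flat.lTensor_exact (p.Rt W) (LinearMap.exact_subtype_ker_map a) z).mp h2
  obtain ⟨s, hs, hs'⟩ := exists_finset_descW p (LinearMap.ker a) W w
  refine ⟨s, hs, fun L' _ _ f hf => ?_⟩
  exact (p.lift_apply _ W _).trans (hs' (chartSheaf V L') ((genL V).comp f) fun n hn =>
    (congrArg (genL V) (hf n hn)).trans (map_zero _))

theorem chartMap_res_gen (a : L →ₗ[R V] sectModEt P V) (W : EtOver ((yon S).obj V.obj.left)) (x : L) :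
    appM (chartMap V P L a) W (resM (chartSheaf V L) (topHom V W) ((ptE V).gen x)) = resM P (toV V W) (a x) :=
  (resM_appM (chartMap V P L a) (topHom V W) _).symm.trans
    ((congrArg (resM (restrTo V P) (topHom V W)) (chartMap_gen V P a x)).trans
      (resM_comp (M := P) (eps V) ((EtOver.postcomp V.obj.hom (isEtaleMor_hom V)).map (topHom V W)) (a x)).symm)

theorem res_chartUnit (hg : Representable V.obj.hom) {E : EtOver X} (W : EtOver ((yon S).obj V.obj.left))
    (g : W ⟶ (EtOver.bc hg).obj E) (m : sectModEt P E) :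
    resM (restrTo V P) g (appM (chartUnit V hg P) E m) =
      resM P ((EtOver.postcomp V.obj.hom (isEtaleMor_hom V)).map g ≫ (postBcAdj hg (isEtaleMor_hom V)).counit.app E) m :=
  (resM_comp (M := P) ((postBcAdj hg (isEtaleMor_hom V)).counit.app E)
    ((EtOver.postcomp V.obj.hom (isEtaleMor_hom V)).map g) m).symm

variable [QuasiSeparatedSpace ↥S] (hX : IsAlgSpace X) (hqs : IsQuasiSeparatedSp X) (hg : Representable V.obj.hom)
  (E : EtOver X) [IsAffine E.obj.left.left]

include hX hqs in
theorem compact_qs_bc : CompactSpace ↥((EtOver.bc hg).obj E).obj.left.left ∧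
    QuasiSeparatedSpace ↥((EtOver.bc hg).obj E).obj.left.left := by
  obtain ⟨a, ha⟩ := (yon S).map_surjective (hg.fst E.obj.hom)
  have sq : IsPullback ((yon S).map a) ((yon S).map (hg.snd E.obj.hom)) V.obj.hom E.obj.hom :=
    ha.symm ▸ hg.isPullback E.obj.hom
  refine ⟨Groth.Agent.AlgSpLib.compact_pullback_of_isQuasiSeparatedSp hqs sq, ?_⟩
  let Q := hg.pullback E.obj.hom
  let l : Q.left ⟶ pullback (terminal.from V.obj.left.left) (terminal.from E.obj.left.left) :=
    pullback.lift a.left (hg.snd E.obj.hom).left (terminal.hom_ext _ _)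
  haveI : Mono l := ⟨fun {T} x y h => by
    have h1 : x ≫ a.left = y ≫ a.left := by
      have := congrArg (· ≫ pullback.fst _ _) h
      simpa [l] using this
    have h2 : x ≫ (hg.snd E.obj.hom).left = y ≫ (hg.snd E.obj.hom).left := by
      have := congrArg (· ≫ pullback.snd _ _) h
      simpa [l] using this
    have hy : y ≫ Q.hom = x ≫ Q.hom := by
      rw [← Over.w a, ← Category.assoc, ← h1, Category.assoc]
    let x' : Over.mk (x ≫ Q.hom) ⟶ Q := Over.homMk x rfl
    let y' : Over.mk (x ≫ Q.hom) ⟶ Q := Over.homMk y hy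
    have e : x' = y' := (yon S).map_injective (sq.hom_ext
      (by rw [← Functor.map_comp, ← Functor.map_comp]; exact congrArg _ (Over.OverMorphism.ext h1))
      (by rw [← Functor.map_comp, ← Functor.map_comp]; exact congrArg _ (Over.OverMorphism.ext h2)))
    exact congrArg (fun q => q.left) e⟩
  exact quasiSeparatedSpace_of_quasiSeparated l

include hX hqs in
/-- sections in the image locally lift after killing finitely many elements of the kernel -/
theorem exists_lift_of_kill [P.IsQuasicoherent] (a : L →ₗ[R V] sectModEt P V) (m : sectModEt P E)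
    (hm : m ∈ chartSub P (LinearMap.range a) E) :
    ∃ s : Finset L, (s : Set L) ⊆ LinearMap.ker a ∧ ∀ (L' : Type (u + 1)) [AddCommGroup L'] [Module (R V) L']
      (f : L →ₗ[R V] L') (a' : L' →ₗ[R V] sectModEt P V), a'.comp f = a → (∀ n ∈ s, f n = 0) →
        ∃ z, appM (glueTo V hg P L' a') E z = m := by
  classical
  let p := ptE V
  let B := (EtOver.bc hg).obj E
  let σ : sectModEt (restrTo V P) B := appM (chartUnit V hg P) E m
  obtain ⟨hc, hq⟩ := compact_qs_bc V hX hqs hg E
  haveI : CompactSpace ↥B.obj.left.left := hc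
  haveI : QuasiSeparatedSpace ↥B.obj.left.left := hq
  obtain ⟨n, W, j, hW, hcov⟩ := exists_finite_cover_of_compact (W := B)
  haveI := hW
  have hlift : ∀ k, ∃ q, appM (chartMap V P L a) (W k) q = resM (restrTo V P) (j k) σ := by
    intro k
    let pc := EtOver.postcomp V.obj.hom (isEtaleMor_hom V)
    let α : postV V (W k) ⟶ E := pc.map (j k) ≫ (postBcAdj hg (isEtaleMor_hom V)).counit.app E
    let Q : Submodule (R (postV V (W k))) (sectModEt P (postV V (W k))) :=
      { carrier := Set.range (appM (chartMap V P L a) (W k))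
        add_mem' := by rintro _ _ ⟨x, rfl⟩ ⟨y, rfl⟩; exact ⟨x + y, map_add _ x y⟩
        zero_mem' := ⟨0, map_zero _⟩
        smul_mem' := by
          rintro c _ ⟨x, rfl⟩
          exact ⟨(show R (W k) from c) • x, map_smul (appM (chartMap V P L a) (W k)) (show R (W k) from c) x⟩ }
    have hle : resM P α m ∈ Q := by
      refine Submodule.span_le.mpr ?_ (hm (postV V (W k)) (hW k) α (toV V (W k)))
      rintro _ ⟨_, ⟨x, rfl⟩, rfl⟩
      exact ⟨resM (chartSheaf V L) (topHom V (W k)) (p.gen x), chartMap_res_gen V P a (W k) x⟩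
    obtain ⟨q, hq⟩ := hle
    exact ⟨q, hq.trans (res_chartUnit V P hg (W k) (j k) m).symm⟩
  choose q hq using hlift
  haveI : ∀ k l, CompactSpace ↥(pb (j k) (j l)).obj.left.left := fun k l => compactSpace_pb _ _
  have hcov2 := fun k l => exists_finite_cover_of_compact (W := pb (j k) (j l))
  choose nn U i hU hicov using hcov2
  let d := fun k l r => resM (chartSheaf V L) (i k l r) (resM _ (pbFst (j k) (j l)) (q k) - resM _ (pbSnd (j k) (j l)) (q l))
  have hd : ∀ k l r, appM (chartMap V P L a) (U k l r) (d k l r) = 0 := fun k l r => by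
    refine (resM_appM (chartMap V P L a) (i k l r) _).symm.trans ?_
    rw [map_sub, ← resM_appM, ← resM_appM, hq, hq, ← resM_comp, ← resM_comp, pb_condition, sub_self, map_zero]
  haveI := hU
  choose s hs hkill using fun k l r => exists_kill V P a (U k l r) (d k l r) (hd k l r)
  let S₀ : Finset L := Finset.univ.biUnion fun k => Finset.univ.biUnion fun l => Finset.univ.biUnion fun r => s k l r
  refine ⟨S₀, fun x hx => ?_, fun L' _ _ f a' hfa hf => ?_⟩
  · obtain ⟨k, -, hx⟩ := Finset.mem_biUnion.mp hx
    obtain ⟨l, -, hx⟩ := Finset.mem_biUnion.mp hx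
    obtain ⟨r, -, hx⟩ := Finset.mem_biUnion.mp hx
    exact hs k l r hx
  let F := chartFun V f
  have hov : ∀ k l, resM (chartSheaf V L') (pbFst (j k) (j l)) (appM F (W k) (q k)) =
      resM (chartSheaf V L') (pbSnd (j k) (j l)) (appM F (W l) (q l)) := by
    intro k l
    refine eq_of_cover (i k l) (hicov k l) fun r => ?_
    rw [← sub_eq_zero, ← map_sub, resM_appM, resM_appM, ← map_sub, resM_appM]
    exact hkill k l r L' f fun x hx => hf x (Finset.mem_biUnion.mpr ⟨k, Finset.mem_univ k, Finset.mem_biUnion.mpr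
      ⟨l, Finset.mem_univ l, Finset.mem_biUnion.mpr ⟨r, Finset.mem_univ r, hx⟩⟩⟩)
  obtain ⟨t, ht⟩ := exists_glue j hcov (fun k => appM F (W k) (q k)) hov
  have hts : appM (chartMap V P L' a') B t = σ := eq_of_cover j hcov fun k => by
    rw [resM_appM, ht, ← hq]
    exact congrArg (fun φ : chartSheaf V L ⟶ restrTo V P => appM φ (W k) (q k))
      (show F ≫ chartMap V P L' a' = chartMap V P L a from
        (chartFun_chartMap V P f a').trans (congrArg (chartMap V P L) hfa))
  obtain ⟨z, hz, -⟩ := exists_glue_section V hg P L' a' E m t hts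
  exact ⟨z, hz⟩

end Chart

variable [QuasiSeparatedSpace ↥S] (hX : IsAlgSpace X) (hqs : IsQuasiSeparatedSp X) (P : ModEt X)
  [P.IsQuasicoherent] (E₁ V E₀ : EtOver X) [IsAffine E₁.obj.left.left] [IsAffine V.obj.left.left]
  [IsAffine E₀.obj.left.left]

include hX hqs in
/-- extending a finitely presented module across the chart, keeping given sections in the image -/
theorem exists_fp_step (hne : NearEq V (Set.range (Points.ofPt E₁.obj.hom)))
    [Module.FinitePresentation (R E₁) (sectModEt P E₁)] (t : Finset (sectModEt P E₀)) :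
    ∃ (P' : ModEt X) (φ : P' ⟶ P), P'.IsQuasicoherent ∧ Module.FinitePresentation (R V) (sectModEt P' V) ∧
      (∀ E : EtOver X, Set.range (Points.ofPt E.obj.hom) ⊆ Set.range (Points.ofPt E₁.obj.hom) →
        Function.Bijective (appM φ E)) ∧ ∀ s ∈ t, ∃ a, appM φ E₀ a = s := by
  classical
  have hg : Representable V.obj.hom := Functor.relativelyRepresentable.of_diag hX.diag _
  choose t₁ ht₁ using fun s : t => exists_fg_mem_chartSub (M := P) (E₀ := V) hX hqs E₀ s.1
  obtain ⟨C⟩ := nonempty_prodCover hX hqs E₁ V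
  haveI : ∀ k, IsAffine (C.W k).obj.left.left := C.isAffine
  haveI : ∀ k, Module.Flat (R V) (Rg (C.b k)) := fun k => flat_res (C.b k)
  have hfp : ∀ k, Module.FinitePresentation (Rg (C.b k)) (Rg (C.b k) ⊗[R V] sectModEt P V) := fun k => by
    haveI : Module.FinitePresentation (Rg (C.b k)) (Mg P (C.b k)) :=
      finitePresentation_baseChange (P := P) (C.a k)
    exact Module.FinitePresentation.of_equiv (isBaseChange_res (M := P) (C.b k)).equiv.symm
  have hex : ∀ k, ∃ u : Finset (sectModEt P V), ∀ y : Rg (C.b k) ⊗[R V] sectModEt P V,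
      y ∈ Submodule.span (Rg (C.b k)) ((fun m => (1 : Rg (C.b k)) ⊗ₜ[R V] m) '' (u : Set (sectModEt P V))) := by
    intro k
    have := hfp k
    obtain ⟨s, hs⟩ := (Module.Finite.fg_top : (⊤ : Submodule (Rg (C.b k)) (Rg (C.b k) ⊗[R V] sectModEt P V)).FG)
    have hgen : ∀ y : Rg (C.b k) ⊗[R V] sectModEt P V, ∃ u : Finset (sectModEt P V),
        y ∈ Submodule.span (Rg (C.b k)) ((fun m => (1 : Rg (C.b k)) ⊗ₜ[R V] m) '' (u : Set (sectModEt P V))) := fun y => by
      induction y using TensorProduct.induction_on with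
      | zero => exact ⟨∅, Submodule.zero_mem _⟩
      | tmul r m =>
        refine ⟨{m}, ?_⟩
        rw [Finset.coe_singleton, Set.image_singleton]
        exact Submodule.mem_span_singleton.mpr ⟨r, by rw [TensorProduct.smul_tmul', smul_eq_mul, mul_one]⟩
      | add y z hy hz =>
        obtain ⟨u, hu⟩ := hy
        obtain ⟨u', hu'⟩ := hz
        exact ⟨u ∪ u', Submodule.add_mem _
          (Submodule.span_mono (Set.image_mono (Finset.coe_subset.mpr Finset.subset_union_left)) hu)
          (Submodule.span_mono (Set.image_mono (Finset.coe_subset.mpr Finset.subset_union_right)) hu')⟩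
    choose uu huu using hgen
    refine ⟨s.biUnion uu, fun y => ?_⟩
    have hy : y ∈ Submodule.span (Rg (C.b k)) (s : Set _) := hs ▸ Submodule.mem_top
    refine Submodule.span_le.mpr (fun x hx => ?_) hy
    exact Submodule.span_mono (Set.image_mono (Finset.coe_subset.mpr (Finset.subset_biUnion_of_mem uu hx))) (huu x)
  choose u hu using hex
  let T : Finset (sectModEt P V) := t.attach.biUnion t₁ ∪ Finset.univ.biUnion u
  let π : (T → R V) →ₗ[R V] sectModEt P V := Fintype.linearCombination (R V) (fun s : T => (s : sectModEt P V))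
  have hπ : ∀ (s) (hs : s ∈ T), π (Pi.single ⟨s, hs⟩ 1) = s := fun s hs => by
    simp [π, Fintype.linearCombination_apply_single]
  have hsur : ∀ k, Function.Surjective (π.baseChange (Rg (C.b k))) := fun k y => by
    refine (Submodule.span_le (p := LinearMap.range (π.baseChange (Rg (C.b k))))).mpr ?_ (hu k y)
    rintro _ ⟨m, hm, rfl⟩
    have hmT : m ∈ T := Finset.mem_union_right _ (Finset.mem_biUnion.mpr ⟨k, Finset.mem_univ k, hm⟩)
    exact ⟨(1 : Rg (C.b k)) ⊗ₜ[R V] Pi.single ⟨m, hmT⟩ 1, by rw [LinearMap.baseChange_tmul, hπ m hmT]⟩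
  have hmem : ∀ s : t, s.1 ∈ chartSub P (LinearMap.range π) E₀ := fun s W' hW' g g' =>
    Submodule.span_mono (Set.image_mono (Submodule.span_le.mpr fun x hx =>
      LinearMap.mem_range.mpr ⟨_, hπ x (Finset.mem_union_left _ (Finset.mem_biUnion.mpr ⟨s, Finset.mem_attach t s, hx⟩))⟩)) (ht₁ s W' hW' g g')
  choose s₁ hs₁ hlift using fun s : t => exists_lift_of_kill V P hX hqs hg E₀ π s.1 (hmem s)
  obtain ⟨N₀, hN₀, hN₀fg, hbij⟩ := exists_finite_relations (fun k => Rg (C.b k)) π hsur hfp
  let N := N₀ ⊔ Submodule.span (R V) ((t.attach.biUnion s₁ : Finset (T → R V)) : Set (T → R V))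
  have hN : N ≤ LinearMap.ker π := sup_le hN₀ (Submodule.span_le.mpr fun x hx => by
    obtain ⟨s, -, hs⟩ := Finset.mem_biUnion.mp hx
    exact hs₁ s hs)
  let L := (T → R V) ⧸ N
  let a : L →ₗ[R V] sectModEt P V := N.liftQ π hN
  haveI : Module.FinitePresentation (R V) L :=
    Module.finitePresentation_of_surjective N.mkQ N.mkQ_surjective (by
      rw [Submodule.ker_mkQ]
      exact hN₀fg.sup ⟨_, rfl⟩)
  have hiso : IsoNear V P L a (Set.range (Points.ofPt E₁.obj.hom)) := isoNear_of_pieces V P L a E₁ C fun k => by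
    have h := ((isBaseChange_res (M := P) (C.b k)).equiv.bijective).comp (hbij N hN le_sup_left k)
    rwa [show ((isBaseChange_res (M := P) (C.b k)).equiv ∘ (N.liftQ π hN).baseChange (Rg (C.b k))) =
      LinearMap.liftBaseChange (Rg (C.b k)) ((resL P (C.b k)).comp a) from
      funext fun z => equiv_baseChange_apply (C.b k) a z] at h
  obtain ⟨e, -⟩ := exists_linearEquiv_glue V P L a hiso hg hne
  refine ⟨glueMod V hg P L a, glueTo V hg P L a, isQuasicoherent_glueMod hX hqs V hg P L a,
    Module.FinitePresentation.of_equiv e, fun E hE => bijective_glueTo V P L a hiso hg E fun x => hE ⟨x, rfl⟩,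
    fun s hs => ?_⟩
  exact hlift ⟨s, hs⟩ L N.mkQ a (Submodule.liftQ_mkQ _ _ _) fun x hx =>
    (Submodule.Quotient.mk_eq_zero N).mpr (Submodule.mem_sup_right (Submodule.subset_span
      (Finset.mem_biUnion.mpr ⟨⟨s, hs⟩, Finset.mem_attach t _, hx⟩)))

end Groth.Agent.EtQC
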