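import Groth.Agent.EtQC.CohColim

/-!
Morphisms out of a quasi-coherent module are determined by, and built from, their sections on an affine chart.
-/

set_option autoImplicit false
set_option linter.style.haveILetI false
set_option backward.isDefEq.respectTransparency false

universe u

noncomputable section

open CategoryTheory CategoryTheory.Limits AlgebraicGeometry Opposite AlgSp TensorProduct

namespace Groth.Agent.EtQC

variable {S : Scheme.{u}} {X : Sp S} {E₀ : EtOver X} [IsAffine E₀.obj.left.left] {G M : ModEt X} [G.IsQuasicoherent]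

/-- the extension of a linear map on the chart to an affine object over the chart -/
def extAt (l : sectModEt G E₀ →ₗ[R E₀] sectModEt M E₀) {W : EtOver X} [IsAffine W.obj.left.left] (b : W ⟶ E₀) :
    sectModEt G W →ₗ[R W] sectModEt M W :=
  let L : Mg G b →ₗ[Rg b] Mg M b := (isBaseChange_res (M := G) b).lift ((resL M b).comp l)
  { toFun := fun y => L y
    map_add' := map_add L
    map_smul' := map_smul L }

variable (l : sectModEt G E₀ →ₗ[R E₀] sectModEt M E₀)

theorem extAt_res {W : EtOver X} [IsAffine W.obj.left.left] (b : W ⟶ E₀) (n : sectModEt G E₀) :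
    extAt l b (resM G b n) = resM M b (l n) :=
  (isBaseChange_res (M := G) b).lift_eq ((resL M b).comp l) n

theorem extAt_unique {W : EtOver X} [IsAffine W.obj.left.left] (b : W ⟶ E₀)
    (f : sectModEt G W →ₗ[R W] sectModEt M W) (h : ∀ n, f (resM G b n) = resM M b (l n)) : f = extAt l b := by
  let f' : Mg G b →ₗ[Rg b] Mg M b := { toFun := fun y => f y, map_add' := map_add f, map_smul' := map_smul f }
  have e : f' = (isBaseChange_res (M := G) b).lift ((resL M b).comp l) :=
    (isBaseChange_res (M := G) b).algHom_ext _ _ fun n =>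
      (h n).trans ((isBaseChange_res (M := G) b).lift_eq ((resL M b).comp l) n).symm
  exact LinearMap.ext fun y => LinearMap.congr_fun e y

theorem resM_extAt {W W' : EtOver X} [IsAffine W.obj.left.left] [IsAffine W'.obj.left.left] (h : W' ⟶ W) (b : W ⟶ E₀)
    (y : sectModEt G W) : resM M h (extAt l b y) = extAt l (h ≫ b) (resM G h y) := by
  induction y using (isBaseChange_res (M := G) b).inductionOn with
  | zero =>
    exact ((congrArg (resM M h) (map_zero (extAt l b))).trans (map_zero _)).trans
      ((congrArg (extAt l (h ≫ b)) (map_zero (resM G h))).trans (map_zero _)).symm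
  | tmul n =>
    show resM M h (extAt l b (resM G b n)) = extAt l (h ≫ b) (resM G h (resM G b n))
    rw [extAt_res, ← resM_comp, ← resM_comp, extAt_res]
  | smul r y hy =>
    refine ((congrArg (resM M h) (map_smul (extAt l b) (r : R W) y)).trans (resM_smul h _ _)).trans ?_
    refine Eq.trans ?_ ((congrArg (extAt l (h ≫ b)) (resM_smul h (r : R W) y)).trans (map_smul _ _ _)).symm
    exact congrArg (fun z : sectModEt M W' => res h (r : R W) • z) hy
  | add y z hy hz =>
    refine ((congrArg (resM M h) (map_add (extAt l b) y z)).trans (map_add _ _ _)).trans ?_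
    refine Eq.trans ?_ ((congrArg (extAt l (h ≫ b)) (map_add (resM G h) y z)).trans (map_add _ _ _)).symm
    exact congrArg₂ (· + ·) hy hz

/-- the value of the extended map on an arbitrary object -/
def IsExt {E : EtOver X} (m : sectModEt G E) (t : sectModEt M E) : Prop :=
  ∀ (W : EtOver X) (_ : IsAffine W.obj.left.left) (a : W ⟶ E) (b : W ⟶ E₀), resM M a t = extAt l b (resM G a m)

variable (hX : IsAlgSpace X) (hs : RepWith @Surjective E₀.obj.hom)

include hX hs in
theorem isExt_unique {E : EtOver X} {m : sectModEt G E} {t t' : sectModEt M E} (h : IsExt l m t) (h' : IsExt l m t') :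
    t = t' := by
  choose W hW a b hx using fun x => exists_common_chart hX hs E x
  exact eq_of_cover a (fun x => ⟨x, hx x⟩) fun x => (h _ (hW x) (a x) (b x)).trans (h' _ (hW x) (a x) (b x)).symm

variable (hl : ∀ (W : EtOver X) [IsAffine W.obj.left.left] (b b' : W ⟶ E₀), extAt l b = extAt l b')

include hX hs hl in
theorem exists_isExt {E : EtOver X} (m : sectModEt G E) : ∃ t, IsExt l m t := by
  choose W hW a b hx using fun x => exists_common_chart hX hs E x
  let v : ∀ x, sectModEt M (W x) := fun x => haveI := hW x; extAt l (b x) (resM G (a x) m)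
  have key : ∀ {V : EtOver X} [IsAffine V.obj.left.left] (x : E.obj.left.left) (p : V ⟶ W x) (q : V ⟶ E₀),
      resM M p (v x) = extAt l q (resM G (p ≫ a x) m) := fun {V} _ x p q => by
    haveI := hW x
    rw [resM_comp, resM_extAt, hl V (p ≫ b x) q]
  obtain ⟨t, ht⟩ := exists_glue a (fun x => ⟨x, hx x⟩) v fun x x' => eq_of_affine fun V _ g => by
    rw [← resM_comp, ← resM_comp, key x (g ≫ pbFst (a x) (a x')) ((g ≫ pbFst (a x) (a x')) ≫ b x),
      key x' (g ≫ pbSnd (a x) (a x')) ((g ≫ pbFst (a x) (a x')) ≫ b x),
      show (g ≫ pbFst (a x) (a x')) ≫ a x = (g ≫ pbSnd (a x) (a x')) ≫ a x' by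
        rw [Category.assoc, Category.assoc, pb_condition]]
  refine ⟨t, fun V hV α β => ?_⟩
  have hc : ∀ y : V.obj.left.left, ∃ (V' : EtOver X) (_ : IsAffine V'.obj.left.left)
      (j : V' ⟶ pb α (a (α.hom.left.left y))) (w' : V'.obj.left.left),
        (pbFst α (a (α.hom.left.left y))).hom.left.left (j.hom.left.left w') = y := fun y => by
    obtain ⟨v', hv'⟩ := hx (α.hom.left.left y)
    obtain ⟨w, hw, -⟩ := exists_pb_point α (a (α.hom.left.left y)) y v' hv'.symm
    obtain ⟨V', hV', j, w', hw'⟩ := exists_affine_nhd (pb α (a (α.hom.left.left y))) w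
    exact ⟨V', hV', j, w', (congrArg (pbFst α (a (α.hom.left.left y))).hom.left.left hw').trans hw⟩
  choose V' hV' j w' hj using hc
  refine eq_of_cover (fun y => j y ≫ pbFst α (a (α.hom.left.left y))) (fun y => ⟨y, w' y, hj y⟩) fun y => ?_
  haveI := hV' y
  rw [resM_extAt, ← resM_comp, ← resM_comp, Category.assoc, pb_condition, ← Category.assoc,
    resM_comp (M := M) (a _) _ t, ht]
  exact key _ _ _

include hX hs hl in
theorem exists_hom_of_chart : ∃ φ : G ⟶ M, appM φ E₀ = l := by
  choose f hf using fun (E : EtOver X) (m : sectModEt G E) => exists_isExt l hX hs hl m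
  have hadd : ∀ (E : EtOver X) (m m' : sectModEt G E), f E (m + m') = f E m + f E m' := fun E m m' =>
    isExt_unique l hX hs (hf E _) fun W hW a b => by rw [map_add, map_add, map_add, hf E m W hW a b, hf E m' W hW a b]
  have hsmul : ∀ (E : EtOver X) (r : R E) (m : sectModEt G E), f E (r • m) = r • f E m := fun E r m =>
    isExt_unique l hX hs (hf E _) fun W hW a b => by rw [resM_smul, resM_smul, map_smul, hf E m W hW a b]
  have hnat : ∀ {E E' : EtOver X} (g : E' ⟶ E) (m : sectModEt G E), f E' (resM G g m) = resM M g (f E m) :=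
    fun g m => isExt_unique l hX hs (hf _ _) fun W hW a b => by
      rw [← resM_comp, ← resM_comp, hf _ m W hW (a ≫ g) b]
  let φ : G ⟶ M := ⟨PresheafOfModules.homMk
    { app := fun E => AddCommGrpCat.ofHom (AddMonoidHom.mk' (fun m => (show sectModEt M E.unop from f E.unop m))
        (fun m m' => hadd E.unop m m'))
      naturality := fun {E E'} g => AddCommGrpCat.ext fun m => hnat g.unop m }
    (fun E r m => hsmul E.unop r m)⟩
  refine ⟨φ, LinearMap.ext fun n => ?_⟩
  show f E₀ n = l n
  refine isExt_unique l hX hs (hf _ _) fun W hW a b => ?_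
  rw [hl W b a, extAt_res]

include hX hs in
theorem hom_ext_chart {φ ψ : G ⟶ M} (h : appM φ E₀ = appM ψ E₀) : φ = ψ := by
  refine SheafOfModules.hom_ext (PresheafOfModules.hom_ext fun E => ModuleCat.hom_ext (LinearMap.ext fun m => ?_))
  show appM φ E.unop m = appM ψ E.unop m
  choose W hW a b hx using fun x => exists_common_chart hX hs E.unop x
  refine eq_of_cover a (fun x => ⟨x, hx x⟩) fun x => ?_
  haveI := hW x
  rw [resM_appM, resM_appM, extAt_unique (appM φ E₀) (b x) (appM φ (W x)) (fun n => (resM_appM φ (b x) n).symm),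
    extAt_unique (appM φ E₀) (b x) (appM ψ (W x)) (fun n => (resM_appM ψ (b x) n).symm.trans
      (congrArg (resM M (b x)) (LinearMap.congr_fun h n).symm))]

end Groth.Agent.EtQC
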