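import Groth.Agent.EtQC.CohSub

/-!
The largest quasi-coherent submodule contained in a submodule of a quasi-coherent module, and images.
-/

set_option autoImplicit false
set_option linter.style.haveILetI false
set_option backward.isDefEq.respectTransparency false

universe u

noncomputable section

open CategoryTheory CategoryTheory.Limits AlgebraicGeometry Opposite AlgSp TensorProduct

namespace Groth.Agent.EtQC

variable {S : Scheme.{u}} {X : Sp S}

/-- the family of images of a map from a quasi-coherent module -/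
def imFam {H F : ModEt X} [H.IsQuasicoherent] (φ : H ⟶ F) : SubFam F where
  sub E _ := LinearMap.range (appM φ E)
  res_mem {E V} g _ _ s hs := by
    obtain ⟨a, rfl⟩ := hs
    exact ⟨resM H g a, (resM_appM φ g a).symm⟩
  le_span {E V} g hE hV := by
    haveI := hE
    haveI := hV
    rintro _ ⟨a, rfl⟩
    obtain ⟨z, rfl⟩ := (isBaseChange_res (M := H) g).equiv.surjective a
    induction z using TensorProduct.induction_on with
    | zero =>
      rw [map_zero, map_zero]
      exact Submodule.zero_mem _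
    | tmul b n =>
      rw [IsBaseChange.equiv_tmul]
      exact (map_smul (appM φ V) (show R V from b) (resM H g n)).symm ▸
        Submodule.smul_mem _ _ (Submodule.subset_span ⟨appM φ E n, ⟨n, rfl⟩, resM_appM φ g n⟩)
    | add a b ha hb =>
      rw [map_add, map_add]
      exact Submodule.add_mem _ ha hb

/-- the supremum of a set of families -/
def sSupFam {F : ModEt X} (T : Set (SubFam F)) : SubFam F where
  sub E hE := ⨆ σ : T, σ.1.sub E hE
  res_mem {E V} g hE hV s hs := by
    induction hs using Submodule.iSup_induction' with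
    | mem σ x hx => exact Submodule.mem_iSup_of_mem σ (σ.1.res_mem g hE hV x hx)
    | zero => rw [map_zero]; exact Submodule.zero_mem _
    | add x y _ _ hx hy => rw [map_add]; exact Submodule.add_mem _ hx hy
  le_span {E V} g hE hV := iSup_le fun σ => (σ.1.le_span g hE hV).trans
    (Submodule.span_mono (Set.image_mono fun _ hs => Submodule.mem_iSup_of_mem σ hs))

theorem le_sSupFam {F : ModEt X} {T : Set (SubFam F)} {σ : SubFam F} (hσ : σ ∈ T) (E : EtOver X)
    (hE : IsAffine E.obj.left.left) : σ.sub E hE ≤ (sSupFam T).sub E hE :=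
  le_iSup (fun σ : T => σ.1.sub E hE) ⟨σ, hσ⟩

/-- the families with sections inside a submodule -/
def belowFams {G F : ModEt X} (ι : G ⟶ F) : Set (SubFam F) :=
  {σ | ∀ (E : EtOver X) (hE : IsAffine E.obj.left.left), σ.sub E hE ≤ LinearMap.range (appM ι E)}

theorem sSup_belowFams_le {G F : ModEt X} (ι : G ⟶ F) (E : EtOver X) (hE : IsAffine E.obj.left.left) :
    (sSupFam (belowFams ι)).sub E hE ≤ LinearMap.range (appM ι E) :=
  iSup_le fun σ => σ.2 E hE

theorem toMod_comp_cokernel {G F : ModEt X} [F.IsQuasicoherent] (ι : G ⟶ F) :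
    (sSupFam (belowFams ι)).ι ≫ cokernel.π ι = 0 := by
  let σ := sSupFam (belowFams ι)
  refine SheafOfModules.hom_ext (PresheafOfModules.hom_ext fun W => ModuleCat.hom_ext (LinearMap.ext fun s => ?_))
  show appM (σ.ι ≫ cokernel.π ι) W.unop s = 0
  have hn := fun x : W.unop.obj.left.left => exists_affine_nhd W.unop x
  choose V hV h hx using hn
  refine eq_of_cover h (fun x => ⟨x, hx x⟩) fun x => ?_
  rw [map_zero, resM_appM]
  have hm : appM σ.ι (V x) (resM σ.toMod (h x) s) ∈ σ.sub (V x) (hV x) := by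
    rw [← SetLike.mem_coe, ← σ.range_ι (V x) (hV x)]
    exact ⟨_, rfl⟩
  obtain ⟨a, ha⟩ := sSup_belowFams_le ι (V x) (hV x) hm
  show appM (cokernel.π ι) (V x) (appM σ.ι (V x) (resM σ.toMod (h x) s)) = 0
  rw [← ha]
  exact congrArg (fun q : G ⟶ cokernel ι => appM q (V x) a) (cokernel.condition ι)

theorem exists_largest {G F : ModEt X} [F.IsQuasicoherent] (ι : G ⟶ F) [Mono ι] :
    ∃ (G' : ModEt X) (κ : G' ⟶ G), Mono κ ∧ G'.IsQuasicoherent ∧
      ∀ H : ModEt X, H.IsQuasicoherent → Function.Bijective (fun φ : H ⟶ G' => φ ≫ κ) := by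
  let σ := sSupFam (belowFams ι)
  let κ : σ.toMod ⟶ G := Abelian.monoLift ι σ.ι (toMod_comp_cokernel ι)
  have hκ : κ ≫ ι = σ.ι := Abelian.monoLift_comp _ _ _
  haveI : Mono κ := by
    haveI : Mono (κ ≫ ι) := hκ.symm ▸ (inferInstance : Mono σ.ι)
    exact mono_of_mono κ ι
  refine ⟨σ.toMod, κ, inferInstance, σ.isQuasicoherent_toMod, fun H hH => ⟨fun a b h => (cancel_mono κ).mp h,
    fun φ => ?_⟩⟩
  haveI := hH
  have hmem : imFam (φ ≫ ι) ∈ belowFams ι := fun E _ => by
    rintro _ ⟨a, rfl⟩
    exact ⟨appM φ E a, rfl⟩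
  refine ⟨σ.lift (φ ≫ ι) (fun E hE a => le_sSupFam hmem E hE ⟨a, rfl⟩), ?_⟩
  show _ ≫ κ = φ
  rw [← cancel_mono ι, Category.assoc, hκ, SubFam.lift_ι]

end Groth.Agent.EtQC
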