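import Groth.Agent.EtQC.ExtSub
import Groth.Agent.EtQC.MaxSub
import Groth.Agent.EtQC.GlueHom

/-!
A quasi-coherent module on a qcqs space is the union of its quasi-coherent submodules of finite type.
-/

set_option autoImplicit false
set_option linter.style.haveILetI false
set_option backward.isDefEq.respectTransparency false

universe u v w

noncomputable section

open CategoryTheory CategoryTheory.Limits AlgebraicGeometry Opposite AlgSp TensorProduct

namespace Groth.Agent.EtQC

variable {S : Scheme.{u}}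

theorem finite_sections_of_empty {X : Sp S} (M : ModEt X) [M.IsQuasicoherent] (E : EtOver X) [IsAffine E.obj.left.left]
    (h : Set.range (Points.ofPt E.obj.hom) ⊆ ∅) : Module.Finite (R E) (sectModEt M E) :=
  finite_sections fun x => absurd (h ⟨x, rfl⟩) (Set.notMem_empty _)

/-- finitely many sections lie in a quasi-coherent submodule of finite type -/
theorem exists_ft_sub_mem [QuasiSeparatedSpace ↥S] (X : Space S) (hqc : IsQuasiCompactSp X.obj)
    (hqs : IsQuasiSeparatedSp X.obj) (M : ModEt X.obj) [M.IsQuasicoherent] (E₀ : EtOver X.obj)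
    [IsAffine E₀.obj.left.left] (t : Finset (sectModEt M E₀)) :
    ∃ (M' : ModEt X.obj) (ι : M' ⟶ M), Mono ι ∧ M'.IsQuasicoherent ∧ M'.IsFiniteType ∧
      ∀ s ∈ t, ∃ a, appM ι E₀ a = s := by
  let W : Space S := ⟨Groth.Agent.AlgSpLib.subSheaf (∅ : Set (Points X.obj)),
    Groth.Agent.AlgSpLib.isAlgSpace_subSheaf X.property isOpen_empty⟩
  let jW : W ⟶ X := ObjectProperty.homMk (Groth.Agent.AlgSpLib.subInc _)
  obtain ⟨M', ι, h1, h2, h3, -, h5⟩ := exists_ft_sub X hqc hqs W jW (Groth.Agent.AlgSpLib.repWith_subInc isOpen_empty)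
    (Groth.Agent.ElemSq.isQuasiCompactSp_subSheaf X.property isOpen_empty isCompact_empty) M
    (fun E _ hE => finite_sections_of_empty M E (hE.trans (le_of_eq (Groth.Agent.AlgSpLib.range_subInc _)))) E₀ t
  haveI := h2
  exact ⟨M', ι, h1, h2, isFiniteType_of_finite_sections M' h3, h5⟩

theorem exists_ft_join {X : Sp S} {M : ModEt X} [M.IsQuasicoherent] {A B : ModEt X} [A.IsQuasicoherent]
    [B.IsQuasicoherent] [A.IsFiniteType] [B.IsFiniteType] (a : A ⟶ M) (b : B ⟶ M) :
    ∃ (C : ModEt X) (c : C ⟶ M), Mono c ∧ C.IsQuasicoherent ∧ C.IsFiniteType ∧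
      (∃ a' : A ⟶ C, a' ≫ c = a) ∧ ∃ b' : B ⟶ C, b' ≫ c = b := by
  let σ := sSupFam ({imFam a, imFam b} : Set (SubFam M))
  haveI := σ.isQuasicoherent_toMod
  refine ⟨σ.toMod, σ.ι, inferInstance, inferInstance, isFiniteType_of_finite_sections _ fun E hE => ?_,
    ⟨σ.lift a fun E hE x => le_sSupFam (σ := imFam a) (Or.inl rfl) E hE ⟨x, rfl⟩, σ.lift_ι _ _⟩,
    ⟨σ.lift b fun E hE x => le_sSupFam (σ := imFam b) (Or.inr rfl) E hE ⟨x, rfl⟩, σ.lift_ι _ _⟩⟩
  refine σ.finite_toMod E ?_
  have e : σ.sub E inferInstance = LinearMap.range (appM a E) ⊔ LinearMap.range (appM b E) := by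
    refine le_antisymm (iSup_le ?_) (sup_le (le_sSupFam (σ := imFam a) (Or.inl rfl) E inferInstance)
      (le_sSupFam (σ := imFam b) (Or.inr rfl) E inferInstance))
    rintro ⟨τ, rfl | rfl⟩
    · exact le_sup_left
    · exact le_sup_right
  haveI := finite_sections_of_isFiniteType (M := A) E
  haveI := finite_sections_of_isFiniteType (M := B) E
  rw [e, LinearMap.range_eq_map, LinearMap.range_eq_map]
  exact (Module.Finite.fg_top.map _).sup (Module.Finite.fg_top.map _)

theorem extAt_precomp {X : Sp S} {E₀ : EtOver X} [IsAffine E₀.obj.left.left] {G' G M : ModEt X} [G.IsQuasicoherent]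
    [G'.IsQuasicoherent] (l : sectModEt G E₀ →ₗ[R E₀] sectModEt M E₀) (ψ : G' ⟶ G) (χ : G' ⟶ M)
    (h : ∀ a, l (appM ψ E₀ a) = appM χ E₀ a) {W : EtOver X} [IsAffine W.obj.left.left] (b : W ⟶ E₀)
    (y : sectModEt G' W) : extAt l b (appM ψ W y) = appM χ W y := by
  have e1 : (extAt l b).comp (appM ψ W) = extAt (appM χ E₀) b := extAt_unique _ b _ fun n => by
    rw [LinearMap.comp_apply, ← resM_appM, extAt_res, h]
  have e2 : appM χ W = extAt (appM χ E₀) b := extAt_unique _ b _ fun n => (resM_appM χ b n).symm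
  exact LinearMap.congr_fun (e1.trans e2.symm) y

theorem nonempty_isColimit_of_union {X : Sp S} {E₀ : EtOver X} [IsAffine E₀.obj.left.left] (hX : IsAlgSpace X)
    (hs : RepWith @Surjective E₀.obj.hom) {J : Type w} [Category.{v} J] [IsFilteredOrEmpty J] {D : J ⥤ ModEt X}
    [∀ j, (D.obj j).IsQuasicoherent] (c : Cocone D) [c.pt.IsQuasicoherent] [∀ j, Mono (c.ι.app j)]
    (hu : ∀ m : sectModEt c.pt E₀, ∃ j a, appM (c.ι.app j) E₀ a = m) : Nonempty (IsColimit c) := by
  have hw : ∀ (s : Cocone D) {i j : J} (f : i ⟶ j) (a : sectModEt (D.obj i) E₀),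
      appM (s.ι.app j) E₀ (appM (D.map f) E₀ a) = appM (s.ι.app i) E₀ a := fun s i j f a =>
    congrArg (fun q : D.obj i ⟶ s.pt => appM q E₀ a) (s.w f)
  choose j a ha using hu
  have wd : ∀ (s : Cocone D) (m : sectModEt c.pt E₀) (i : J) (b : sectModEt (D.obj i) E₀),
      appM (c.ι.app i) E₀ b = m → appM (s.ι.app (j m)) E₀ (a m) = appM (s.ι.app i) E₀ b := by
    intro s m i b hb
    rw [← hw s (IsFiltered.leftToMax (j m) i) (a m), ← hw s (IsFiltered.rightToMax (j m) i) b]
    refine congrArg _ (app_injective_of_mono (c.ι.app (IsFiltered.max (j m) i)) E₀ ?_)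
    show appM (c.ι.app _) E₀ _ = appM (c.ι.app _) E₀ _
    rw [hw c, hw c, ha, hb]
  let v : ∀ (s : Cocone D), sectModEt c.pt E₀ → sectModEt s.pt E₀ := fun s m => appM (s.ι.app (j m)) E₀ (a m)
  have hadd : ∀ s m m', v s (m + m') = v s m + v s m' := fun s m m' => by
    let k := IsFiltered.max (j m) (j m')
    show appM (s.ι.app (j (m + m'))) E₀ (a (m + m')) = _
    rw [wd s (m + m') k (appM (D.map (IsFiltered.leftToMax _ _)) E₀ (a m) +
      appM (D.map (IsFiltered.rightToMax _ _)) E₀ (a m')) (by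
        rw [map_add, hw c, hw c, ha, ha]
        ), map_add, hw s, hw s]
  have hsmul : ∀ s (r : R E₀) m, v s (r • m) = r • v s m := fun s r m => by
    show appM (s.ι.app (j (r • m))) E₀ (a (r • m)) = _
    rw [wd s (r • m) (j m) (r • a m) (by
      rw [map_smul, ha]
      ), map_smul]
  let l : ∀ s : Cocone D, sectModEt c.pt E₀ →ₗ[R E₀] sectModEt s.pt E₀ := fun s =>
    { toFun := v s, map_add' := hadd s, map_smul' := hsmul s }
  have hl : ∀ s i b, l s (appM (c.ι.app i) E₀ b) = appM (s.ι.app i) E₀ b := fun s i b => wd s _ i b rfl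
  have hcompat : ∀ (s : Cocone D) (W : EtOver X) [IsAffine W.obj.left.left] (b b' : W ⟶ E₀),
      extAt (G := c.pt) (l s) b = extAt (G := c.pt) (l s) b' := fun s W _ b b' => extAt_unique (G := c.pt) _ b' _ fun n => by
    conv_lhs => rw [← ha n]
    refine (congrArg (extAt (G := c.pt) (l s) b) (resM_appM (c.ι.app (j n)) b' (a n))).trans ?_
    refine (extAt_precomp (G := c.pt) (l s) (c.ι.app (j n)) (s.ι.app (j n)) (hl s (j n)) b _).trans ?_
    exact (resM_appM (s.ι.app (j n)) b' (a n)).symm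
  choose φ hφ using fun s : Cocone D => exists_hom_of_chart (G := c.pt) (M := s.pt) (l s) hX hs (hcompat s)
  refine ⟨{ desc := φ, fac := fun s i => ?_, uniq := fun s ψ hψ => ?_ }⟩
  · refine hom_ext_chart (G := D.obj i) hX hs (LinearMap.ext fun b => ?_)
    show appM (φ s) E₀ (appM (c.ι.app i) E₀ b) = _
    rw [hφ]
    exact hl s i b
  · refine hom_ext_chart (G := c.pt) hX hs (LinearMap.ext fun m => ?_)
    conv_lhs => rw [← ha m]
    rw [hφ]
    show _ = l s m
    refine (congrArg (fun q : D.obj (j m) ⟶ s.pt => appM q E₀ (a m)) (hψ (j m))).trans ?_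
    rfl

/-- the subobjects whose underlying module is quasi-coherent of finite type -/
abbrev ftSub {X : Sp S} (M : ModEt X) : ObjectProperty (Subobject M) :=
  fun N => (Subobject.underlying.obj N).IsQuasicoherent ∧ (Subobject.underlying.obj N).IsFiniteType

theorem ftSub_mk {X : Sp S} {A M : ModEt X} (a : A ⟶ M) [Mono a] [A.IsQuasicoherent] [A.IsFiniteType] :
    ftSub M (Subobject.mk a) := by
  haveI hq : (Subobject.underlying.obj (Subobject.mk a)).IsQuasicoherent :=
    (SheafOfModules.isQuasicoherent (OEtRing X)).prop_of_iso (Subobject.underlyingIso a).symm ‹A.IsQuasicoherent›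
  refine ⟨hq, isFiniteType_of_finite_sections _ fun E hE => ?_⟩
  haveI := finite_sections_of_isFiniteType (M := A) E
  exact Module.Finite.of_surjective (appM (Subobject.underlyingIso a).inv E) fun y =>
    ⟨appM (Subobject.underlyingIso a).hom E y,
      congrArg (fun q : (Subobject.underlying.obj (Subobject.mk a)) ⟶ _ => appM q E y)
        (Subobject.underlyingIso a).hom_inv_id⟩

theorem isFiltered_ftSub [QuasiSeparatedSpace ↥S] (X : Space S) (hqc : IsQuasiCompactSp X.obj)
    (hqs : IsQuasiSeparatedSp X.obj) (M : ModEt X.obj) [M.IsQuasicoherent] (E₀ : EtOver X.obj)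
    [IsAffine E₀.obj.left.left] : IsFiltered (ftSub M).FullSubcategory := by
  obtain ⟨A, a, ha, hA, hA', -⟩ := exists_ft_sub_mem X hqc hqs M E₀ ∅
  haveI := ha
  haveI := hA
  haveI := hA'
  haveI : Nonempty (ftSub M).FullSubcategory := ⟨⟨Subobject.mk a, ftSub_mk a⟩⟩
  haveI : IsFilteredOrEmpty (ftSub M).FullSubcategory :=
    { cocone_objs := fun x y => by
        haveI := x.property.1
        haveI := x.property.2
        haveI := y.property.1
        haveI := y.property.2
        obtain ⟨C, c, hc, hC, hC', ⟨x', hx'⟩, y', hy'⟩ := exists_ft_join x.obj.arrow y.obj.arrow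
        haveI := hc
        haveI := hC
        haveI := hC'
        exact ⟨⟨Subobject.mk c, ftSub_mk c⟩, ObjectProperty.homMk (homOfLE (Subobject.le_mk_of_comm x' hx')),
          ObjectProperty.homMk (homOfLE (Subobject.le_mk_of_comm y' hy')), trivial⟩
      cocone_maps := fun x y f g => ⟨y, 𝟙 y, ObjectProperty.hom_ext _ (Subsingleton.elim _ _)⟩ }
  exact { nonempty := inferInstance }

theorem nonempty_isColimit_ftSub [QuasiSeparatedSpace ↥S] (X : Space S) (hqc : IsQuasiCompactSp X.obj)
    (hqs : IsQuasiSeparatedSp X.obj) (M : ModEt X.obj) [M.IsQuasicoherent] {E₀ : EtOver X.obj}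
    [IsAffine E₀.obj.left.left] (hs : RepWith @Surjective E₀.obj.hom)
    (ι : (ftSub M).ι ⋙ Subobject.underlying ⟶ (Functor.const (ftSub M).FullSubcategory).obj M)
    (hι : ∀ N : (ftSub M).FullSubcategory, ι.app N = N.obj.arrow) : Nonempty (IsColimit (Cocone.mk M ι)) := by
  haveI := isFiltered_ftSub X hqc hqs M E₀
  haveI : ∀ N : (ftSub M).FullSubcategory, (((ftSub M).ι ⋙ Subobject.underlying).obj N).IsQuasicoherent :=
    fun N => N.property.1
  haveI : ∀ N : (ftSub M).FullSubcategory, Mono ((Cocone.mk M ι).ι.app N) := fun N => by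
    show Mono (ι.app N)
    rw [hι]
    exact (inferInstance : Mono N.obj.arrow)
  haveI : (Cocone.mk M ι).pt.IsQuasicoherent := ‹M.IsQuasicoherent›
  refine nonempty_isColimit_of_union (E₀ := E₀) X.property hs (Cocone.mk M ι) fun m => ?_
  obtain ⟨A, a, ha, hA, hA', hm⟩ := exists_ft_sub_mem X hqc hqs M E₀ {m}
  haveI := ha
  haveI := hA
  haveI := hA'
  obtain ⟨z, hz⟩ := hm m (Finset.mem_singleton_self m)
  refine ⟨⟨Subobject.mk a, ftSub_mk a⟩, appM (Subobject.underlyingIso a).inv E₀ z, ?_⟩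
  show appM (ι.app _) E₀ _ = m
  rw [hι, ← hz]
  exact congrArg (fun q : A ⟶ M => appM q E₀ z) (Subobject.underlyingIso_arrow a)

end Groth.Agent.EtQC
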