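import Groth.Agent.EtQC.FPStep
import Groth.Agent.EtQC.FTUnion

/-!
Every finite set of sections of a quasi-coherent module on a qcqs space comes from a finitely presented module.
-/

set_option autoImplicit false
set_option linter.style.haveILetI false
set_option backward.isDefEq.respectTransparency false

universe u

noncomputable section

open CategoryTheory CategoryTheory.Limits AlgebraicGeometry Opposite AlgSp TensorProduct

namespace Groth.Agent.EtQC

variable {S : Scheme.{u}}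

theorem exists_fp_to [QuasiSeparatedSpace ↥S] (X : Space S) (hqc : IsQuasiCompactSp X.obj)
    (hqs : IsQuasiSeparatedSp X.obj) (M : ModEt X.obj) [M.IsQuasicoherent] (E₀ : EtOver X.obj)
    [IsAffine E₀.obj.left.left] (t : Finset (sectModEt M E₀)) :
    ∃ (P : ModEt X.obj) (φ : P ⟶ M), P.IsQuasicoherent ∧
      (∀ (E : EtOver X.obj) [IsAffine E.obj.left.left], Module.FinitePresentation (R E) (sectModEt P E)) ∧
      ∀ s ∈ t, ∃ a, appM φ E₀ a = s := by
  classical
  let W : Space S := ⟨Groth.Agent.AlgSpLib.subSheaf (∅ : Set (Points X.obj)),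
    Groth.Agent.AlgSpLib.isAlgSpace_subSheaf X.property isOpen_empty⟩
  let jW : W ⟶ X := ObjectProperty.homMk (Groth.Agent.AlgSpLib.subInc _)
  have key := Groth.Agent.ElemSq.induct_space X hqc hqs
    (fun U jU => ∃ (P : ModEt X.obj) (φ : P ⟶ M), P.IsQuasicoherent ∧
      (∀ (E : EtOver X.obj) [IsAffine E.obj.left.left],
        Set.range (Points.ofPt E.obj.hom) ⊆ Set.range (Points.map jU.hom) →
          Module.FinitePresentation (R E) (sectModEt P E)) ∧
      ∀ s ∈ t, ∃ a, appM φ E₀ a = s)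
    W jW (Groth.Agent.AlgSpLib.repWith_subInc isOpen_empty)
    (Groth.Agent.ElemSq.isQuasiCompactSp_subSheaf X.property isOpen_empty isCompact_empty)
    ⟨M, 𝟙 M, inferInstance, fun E _ hE => finitePresentation_of_cover fun x =>
      absurd ((hE.trans (le_of_eq (Groth.Agent.AlgSpLib.range_subInc _))) ⟨x, rfl⟩) (Set.notMem_empty _),
      fun s _ => ⟨s, rfl⟩⟩ ?_
  · obtain ⟨P, φ, h1, h2, h3⟩ := key
    exact ⟨P, φ, h1, fun E _ => h2 E fun x _ => ⟨x, by simp⟩, h3⟩
  rintro W₁ W₂ V j₁ j₂ k m f hV hj₁ hj₂ hk hm hc₁ hc₂ hsq ⟨P, φ, hP, hfP, ht⟩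
  subst hk
  haveI := hP
  haveI := Groth.Agent.AlgSpLib.compactSpace_of_isQuasiCompactSp hc₁
  obtain ⟨U₁, p, hU₁, he, hs⟩ := Groth.Agent.AlgSpLib.exists_affine_chart_of_compact W₁.property
  let E₁ : EtOver X.obj := EtOver.mk (p ≫ (k ≫ j₂).hom)
    (Groth.Agent.AlgSpLib.repWith_comp he (Groth.Agent.ElemSq.repWith_etale_of_open hj₁))
  haveI : IsAffine E₁.obj.left.left := hU₁
  have hfe : RepWith @Etale f.hom := by
    simpa using hsq.2.1 (𝟙 _) (repWith_id _ _)
  let V₀ : EtOver X.obj := EtOver.mk (f.hom ≫ j₂.hom)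
    (Groth.Agent.AlgSpLib.repWith_comp hfe (Groth.Agent.ElemSq.repWith_etale_of_open hj₂))
  haveI : IsAffine V₀.obj.left.left := hV
  have hA : Set.range (Points.ofPt E₁.obj.hom) = Set.range (Points.map (k ≫ j₂).hom) := by
    ext x
    constructor
    · rintro ⟨e, rfl⟩
      exact ⟨Points.ofPt p e, Points.map_ofPt _ _ _⟩
    · rintro ⟨y, rfl⟩
      obtain ⟨e, rfl⟩ := Groth.Agent.AlgSpLib.ofPt_surjective hs y
      exact ⟨e, (Points.map_ofPt _ _ _).symm⟩
  haveI : Module.FinitePresentation (R E₁) (sectModEt P E₁) := hfP E₁ hA.le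
  have hne : NearEq V₀ (Set.range (Points.ofPt E₁.obj.hom)) := hA ▸
    nearEq_of_elemDistSq k j₂ hj₂ f.hom hsq V₀ rfl (by
      simp only [eqToHom_refl, CategoryTheory.Functor.map_id, Category.id_comp]
      rfl)
  choose a ha using ht
  obtain ⟨P', ψ, hP', hVfp, hbij, himg⟩ :=
    exists_fp_step X.property hqs P E₁ V₀ E₀ hne (t.attach.image fun s : t => a s.1 s.2)
  haveI := hP'
  refine ⟨P', ψ ≫ φ, hP', fun E _ hE => finitePresentation_of_cover fun x => ?_, fun s hs' => ?_⟩
  · obtain ⟨y, hy⟩ := hE ⟨x, rfl⟩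
    rcases mem_range_of_elemDistSq hsq y with ⟨z, rfl⟩ | ⟨z, rfl⟩
    · obtain ⟨e, he'⟩ : Points.ofPt E.obj.hom x ∈ Set.range (Points.ofPt E₁.obj.hom) := by
        rw [hA]
        exact ⟨z, by rw [← hy]; exact Points.map_comp _ _ _⟩
      obtain ⟨W', hW', g₁, g₂, w, hw, -⟩ := exists_common E E₁ x e he'.symm
      haveI := hW'
      haveI : Module.FinitePresentation (R W') (sectModEt P W') := finitePresentation_baseChange (P := P) g₂
      refine ⟨W', g₁, hW', ⟨w, hw⟩, Module.FinitePresentation.of_equiv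
        (LinearEquiv.ofBijective (appM ψ W') (hbij W' ?_)).symm⟩
      rintro _ ⟨w', rfl⟩
      refine ⟨g₂.hom.left.left w', ?_⟩
      rw [← EtOver.w g₂, Groth.Agent.AlgSpLib.ofPt_comp]
    · obtain ⟨v, rfl⟩ := (Points.schemeHomeo V).surjective z
      have he' : Points.ofPt V₀.obj.hom v = Points.ofPt E.obj.hom x := by
        rw [← hy]
        show Points.ofPt (f.hom ≫ j₂.hom) v = Points.map j₂.hom (Points.map f.hom (Points.ofPt (𝟙 _) v))
        rw [Points.map_ofPt, Category.id_comp, Points.map_ofPt]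
      obtain ⟨W', hW', g₁, g₂, w, hw, -⟩ := exists_common E V₀ x v he'.symm
      haveI := hW'
      haveI : Module.FinitePresentation (R V₀) (sectModEt P' V₀) := hVfp
      exact ⟨W', g₁, hW', ⟨w, hw⟩, finitePresentation_baseChange (P := P') g₂⟩
  · obtain ⟨b, hb⟩ := himg (a s hs') (Finset.mem_image.mpr ⟨⟨s, hs'⟩, Finset.mem_attach t _, rfl⟩)
    exact ⟨b, (congrArg (appM φ E₀) hb).trans (ha s hs')⟩

end Groth.Agent.EtQC
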