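import Groth.Agent.EtQC.Span

/-!
Generators of a module on a slice, elementwise; sections of a quasi-coherent module of finite type on affine objects
are finitely generated.
-/

set_option autoImplicit false
set_option linter.style.haveILetI false
set_option backward.isDefEq.respectTransparency false

universe u

noncomputable section

open CategoryTheory CategoryTheory.Limits AlgebraicGeometry Opposite AlgSp TensorProduct

namespace Groth.Agent.EtQC

variable {S : Scheme.{u}} {X : Sp S} {M : ModEt X} {U : EtOver X} {I : Type (u + 1)}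

/-- the value of a generator of the slice on an object over the base -/
def secOf (π : Fr U I ⟶ M.over U) {W : EtOver X} (g : W ⟶ U) (i : I) : sectModEt M W :=
  π.val.app (op (Over.mk g)) (bas i (Over.mk g))

theorem resM_secOf (π : Fr U I ⟶ M.over U) {W V : EtOver X} (g : W ⟶ U) (k : V ⟶ W) (i : I) :
    resM M k (secOf π g i) = secOf π (k ≫ g) i := by
  let f : Over.mk (k ≫ g) ⟶ Over.mk g := Over.homMk k rfl
  refine (PresheafOfModules.naturality_apply π.val f.op (bas i (Over.mk g))).symm.trans ?_
  exact congrArg (π.val.app (op (Over.mk (k ≫ g)))) (GenSite.map_basisSec i f)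

theorem app_combo (π : Fr U I ⟶ M.over U) {W : EtOver X} (g : W ⟶ U) (c : I →₀ R W) :
    π.val.app (op (Over.mk g)) (combo (Over.mk g) c) = Finsupp.linearCombination (R W) (secOf π g) c := by
  induction c using Finsupp.induction_linear with
  | zero =>
    rw [map_zero (Finsupp.linearCombination (R W) (secOf π g))]
    exact (congrArg (π.val.app (op (Over.mk g))) (map_zero (combo (Over.mk g)))).trans
      (map_zero (π.val.app (op (Over.mk g))).hom)
  | add a b ha hb =>
    rw [map_add (Finsupp.linearCombination (R W) (secOf π g))]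
    refine (congrArg (π.val.app (op (Over.mk g))) (map_add (combo (Over.mk g)) a b)).trans
      ((map_add (π.val.app (op (Over.mk g))).hom _ _).trans ?_)
    exact congrArg₂ (· + ·) ha hb
  | single i a =>
    rw [Finsupp.linearCombination_single]
    refine (congrArg _ (combo_single (V := Over.mk g) i a)).trans ?_
    exact map_smul (π.val.app (op (Over.mk g))).hom a (bas i (Over.mk g))

theorem locally_span (π : Fr U I ⟶ M.over U) [Epi π] {W : EtOver X} (g : W ⟶ U) (m : sectModEt M W)
    (x : W.obj.left.left) :
    ∃ (V : EtOver X) (h : V ⟶ W), IsAffine V.obj.left.left ∧ x ∈ Set.range h.hom.left.left ∧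
      resM M h m ∈ Submodule.span (R V) (resM M h '' Set.range (secOf π g)) := by
  have hh : ∃ T ∈ (etTop X).over U (Over.mk g), ∀ ⦃V' : Over U⦄ (f : V' ⟶ Over.mk g), T.arrows f →
      ∃ y : (Fr U I).val.obj (op V'), π.val.app (op V') y = (M.over U).val.map f.op m :=
    GenSite.epi_locally (V := Over.mk g) π m
  obtain ⟨T, hT, hlift⟩ := hh
  have hw := @exists_affine_of_mem_over _ _ U W g T hT x
  obtain ⟨V, hV, h, hx, ht⟩ := hw
  have hl := hlift _ ht
  obtain ⟨y, hy⟩ := hl
  have hb := free_sections_eq_span (h ≫ g) y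
  obtain ⟨c, rfl⟩ := hb
  refine ⟨V, h, hV, hx, ?_⟩
  have e : Finsupp.linearCombination (R V) (secOf π (h ≫ g)) c = resM M h m := (app_combo π (h ≫ g) c).symm.trans hy
  rw [← e, Finsupp.linearCombination_apply]
  refine Submodule.sum_mem _ fun i _ => Submodule.smul_mem _ _ (Submodule.subset_span ?_)
  exact ⟨secOf π g i, ⟨i, rfl⟩, resM_secOf π g h i⟩

theorem finite_sections_of_epi [M.IsQuasicoherent] [Finite I] (π : Fr U I ⟶ M.over U) [Epi π] {W : EtOver X}
    [IsAffine W.obj.left.left] (g : W ⟶ U) : Module.Finite (R W) (sectModEt M W) := by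
  refine ⟨Submodule.fg_def.mpr ⟨Set.range (secOf π g), Set.finite_range _, eq_top_iff.mpr fun m _ => ?_⟩⟩
  exact mem_span_of_locally _ m fun x => locally_span π g m x

theorem finite_sections_of_isFiniteType [M.IsQuasicoherent] [M.IsFiniteType] (W : EtOver X)
    [IsAffine W.obj.left.left] : Module.Finite (R W) (sectModEt M W) := by
  obtain ⟨σ, hσ⟩ := SheafOfModules.IsFiniteType.exists_localGeneratorsData M
  refine finite_sections fun x => ?_
  have hs := Groth.Agent.AlgSpLib.StalkPoint.surjective_of_mem_etTop (σ.coversTop W) x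
  obtain ⟨V₀, h₀, hh₀, y, hy⟩ := hs
  have hn := exists_affine_nhd V₀ y
  obtain ⟨V, hV, h, z, hz⟩ := hn
  obtain ⟨i, ⟨f⟩⟩ := hh₀
  haveI : Finite (σ.generators i).I := (hσ.isFiniteType i).finite
  haveI : Epi (σ.generators i).π := (σ.generators i).epi
  refine ⟨V, h ≫ h₀, hV, ⟨z, ?_⟩, finite_sections_of_epi (σ.generators i).π (h ≫ f)⟩
  rw [← hy, ← hz]
  rfl

end Groth.Agent.EtQC
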