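import Mathlib.Algebra.Category.ModuleCat.Sheaf.Quasicoherent
import Mathlib.Algebra.Category.ModuleCat.Presheaf.Colimits
import Groth.Agent.QCAlg.Colim

/-!
Sheaves of modules on any site, elementwise: epimorphisms are locally surjective, sections of a free module are
locally finite combinations of the basis, kernels are computed on sections.
-/

set_option autoImplicit false
set_option linter.style.haveILetI false
set_option backward.isDefEq.respectTransparency false

universe w v' u'

noncomputable section

open CategoryTheory CategoryTheory.Limits Opposite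

namespace Groth.Agent.EtQC.GenSite

variable {C : Type u'} [Category.{v'} C] {J : GrothendieckTopology C}
  [HasSheafify J AddCommGrpCat.{w}] [J.WEqualsLocallyBijective AddCommGrpCat.{w}]
  {R : Sheaf J RingCat.{w}}

theorem epi_toSheaf {M N : SheafOfModules.{w} R} (p : M ⟶ N) [Epi p] : Epi ((SheafOfModules.toSheaf R).map p) := by
  haveI : PreservesColimitsOfSize.{0, 0} (SheafOfModules.toSheaf.{w} R) := preservesColimitsOfSize_shrink _
  infer_instance

theorem epi_locally {M N : SheafOfModules.{w} R} (p : M ⟶ N) [Epi p] {V : C} (n : N.val.obj (op V)) :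
    ∃ T ∈ J V, ∀ ⦃V' : C⦄ (f : V' ⟶ V), T f → ∃ m : M.val.obj (op V'), p.val.app (op V') m = N.val.map f.op n := by
  haveI : Presheaf.IsLocallySurjective J ((PresheafOfModules.toPresheaf _).map p.val) :=
    (Sheaf.isLocallySurjective_iff_epi' _ ((SheafOfModules.toSheaf R).map p)).mpr (epi_toSheaf p)
  exact ⟨_, Presheaf.imageSieve_mem J ((PresheafOfModules.toPresheaf _).map p.val) (U := op V) n,
    fun _ _ hf => by obtain ⟨m, hm⟩ := hf; exact ⟨m, hm⟩⟩

theorem exists_kernel_lift {M N : SheafOfModules.{w} R} (p : M ⟶ N) {V : C} (m : M.val.obj (op V))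
    (hm : p.val.app (op V) m = 0) : ∃ k : (kernel p).val.obj (op V), (kernel.ι p).val.app (op V) k = m := by
  let G := SheafOfModules.evaluation R (op V)
  have hS : (ShortComplex.mk (G.map (kernel.ι p)) (G.map p)
      (by rw [← G.map_comp, kernel.condition, Functor.map_zero])).Exact :=
    ShortComplex.exact_of_f_is_kernel _ (KernelFork.mapIsLimit _ (kernelIsKernel p) G)
  exact (ShortComplex.moduleCat_exact_iff _).mp hS m hm

/-- the basis of a free module -/
def basisSec {I : Type w} (i : I) (V : C) : (SheafOfModules.free (R := R) I).val.obj (op V) :=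
  (SheafOfModules.ιFree (R := R) i).val.app (op V) (1 : R.obj.obj (op V))

theorem map_basisSec {I : Type w} (i : I) {V V' : C} (f : V' ⟶ V) :
    (SheafOfModules.free (R := R) I).val.map f.op (basisSec i V) = basisSec i V' := by
  refine (PresheafOfModules.naturality_apply (SheafOfModules.ιFree (R := R) i).val f.op
    (1 : R.obj.obj (op V))).symm.trans ?_
  exact congrArg ((SheafOfModules.ιFree (R := R) i).val.app (op V')) (map_one (R.obj.map f.op).hom)

theorem ιFree_app {I : Type w} (i : I) {V : C} (a : R.obj.obj (op V)) :
    (SheafOfModules.ιFree (R := R) i).val.app (op V) a = a • basisSec i V := by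
  refine Eq.trans ?_ (map_smul ((SheafOfModules.ιFree (R := R) i).val.app (op V)).hom a
    (1 : R.obj.obj (op V)))
  exact congrArg ((SheafOfModules.ιFree (R := R) i).val.app (op V)) (mul_one a).symm

theorem free_locally {I : Type w} {V : C} (x : (SheafOfModules.free (R := R) I).val.obj (op V)) :
    ∃ T ∈ J V, ∀ ⦃V' : C⦄ (f : V' ⟶ V), T f → (SheafOfModules.free (R := R) I).val.map f.op x ∈
      Submodule.span (R.obj.obj (op V')) (Set.range fun i : I => basisSec (R := R) i V') := by
  let D : I → PresheafOfModules.{w} R.obj := fun _ => (SheafOfModules.unit R).val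
  let q : (∐ D) ⟶ (SheafOfModules.free (R := R) I).val := Sigma.desc fun i => (SheafOfModules.ιFree i).val
  let adj := PresheafOfModules.sheafificationAdjunction (R := R) (𝟙 R.obj)
  let q' := (adj.homEquiv (∐ D) (SheafOfModules.free I)).symm q
  have hq' : Epi q' := ⟨fun {Z} a b hab => by
    refine Cofan.IsColimit.hom_ext (SheafOfModules.isColimitFreeCofan I) _ _ fun i => ?_
    apply (SheafOfModules.forget R).map_injective
    have e : q ≫ (SheafOfModules.forget R).map a = q ≫ (SheafOfModules.forget R).map b := by
      have h := congrArg (adj.homEquiv (∐ D) Z) hab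
      rw [Adjunction.homEquiv_naturality_right, Adjunction.homEquiv_naturality_right,
        Equiv.apply_symm_apply] at h
      exact h
    have h2 := congrArg (fun k => Sigma.ι D i ≫ k) e
    simp only [q, Sigma.ι_desc_assoc] at h2
    exact h2⟩
  have h1 : Presheaf.IsLocallySurjective J ((PresheafOfModules.toPresheaf _).map q) := by
    have e : q = adj.unit.app (∐ D) ≫ (SheafOfModules.forget R ⋙
        PresheafOfModules.restrictScalars (𝟙 R.obj)).map q' :=
      ((adj.homEquiv (∐ D) (SheafOfModules.free I)).apply_symm_apply q).symm.trans (adj.homEquiv_unit _ _ _)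
    haveI : Presheaf.IsLocallySurjective J ((PresheafOfModules.toPresheaf _).map
        ((SheafOfModules.forget R ⋙ PresheafOfModules.restrictScalars (𝟙 R.obj)).map q')) :=
      (Sheaf.isLocallySurjective_iff_epi' _ ((SheafOfModules.toSheaf R).map q')).mpr (@epi_toSheaf _ _ _ _ _ _ _ _ q' hq')
    haveI : Presheaf.IsLocallySurjective J ((PresheafOfModules.toPresheaf _).map (adj.unit.app (∐ D))) := by
      rw [PresheafOfModules.toPresheaf_map_sheafificationAdjunction_unit_app]
      exact ((J.W_iff_isLocallyBijective _).mp (J.W_toSheafify _)).2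
    rw [e, Functor.map_comp]
    infer_instance
  refine ⟨_, Presheaf.imageSieve_mem J ((PresheafOfModules.toPresheaf _).map q) (U := op V) x, fun V' f hf => ?_⟩
  obtain ⟨y, hy⟩ := hf
  have hy' : q.app (op V') y = (SheafOfModules.free (R := R) I).val.map f.op x := hy
  rw [← hy']
  let P := Submodule.span (R.obj.obj (op V')) (Set.range fun i : I => basisSec (R := R) i V')
  suffices h : ModuleCat.ofHom (P.mkQ ∘ₗ (q.app (op V')).hom) = 0 by
    exact (Submodule.Quotient.mk_eq_zero P).mp
      (congrArg (fun k : _ ⟶ ModuleCat.of (R.obj.obj (op V')) (_ ⧸ P) => k.hom y) h)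
  refine (isColimitOfPreserves (PresheafOfModules.evaluation R.obj (op V')) (coproductIsCoproduct D)).hom_ext
    fun i => ?_
  rw [comp_zero]
  refine ModuleCat.hom_ext (LinearMap.ext fun a => ?_)
  show P.mkQ (q.app (op V') (((Sigma.ι D i.as).app (op V')) a)) = 0
  rw [Submodule.mkQ_apply, Submodule.Quotient.mk_eq_zero]
  have e2 : q.app (op V') ((Sigma.ι D i.as).app (op V') a) =
      (SheafOfModules.ιFree (R := R) i.as).val.app (op V') a :=
    congrArg (fun k : D i.as ⟶ _ => k.app (op V') a) (Sigma.ι_desc _ i.as)
  rw [e2, ιFree_app]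
  exact Submodule.smul_mem _ _ (Submodule.subset_span ⟨i.as, rfl⟩)

open Classical in
/-- coordinate of a section of a free module -/
def coord {I : Type w} (k : I) : SheafOfModules.free (R := R) I ⟶ SheafOfModules.unit R :=
  Cofan.IsColimit.desc (SheafOfModules.isColimitFreeCofan I) fun i => if i = k then 𝟙 _ else 0

open Classical in
theorem coord_basisSec {I : Type w} (k i : I) (V : C) :
    (coord (R := R) k).val.app (op V) (basisSec i V) = if i = k then (1 : R.obj.obj (op V)) else 0 := by
  have e : SheafOfModules.ιFree i ≫ coord (R := R) k = if i = k then 𝟙 _ else 0 :=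
    Cofan.IsColimit.fac (SheafOfModules.isColimitFreeCofan I) _ i
  refine (congrArg (fun q : SheafOfModules.unit R ⟶ SheafOfModules.unit R =>
    q.val.app (op V) (1 : R.obj.obj (op V))) e).trans ?_
  split_ifs <;> rfl

theorem coord_sum {I : Type w} (k : I) (V : C) (c : I →₀ R.obj.obj (op V)) :
    (coord (R := R) k).val.app (op V) (Finsupp.linearCombination _ (fun i => basisSec (R := R) i V) c) = c k := by
  classical
  rw [Finsupp.linearCombination_apply, Finsupp.sum, map_sum]
  refine (Finset.sum_eq_single k (fun i _ hi => ?_) (fun hk => ?_)).trans ?_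
  · rw [map_smul, coord_basisSec, if_neg hi]
    exact smul_zero _
  · rw [Finsupp.notMem_support_iff.mp hk]
    exact map_zero _ |> (fun h => by rw [zero_smul]; exact h)
  · rw [map_smul, coord_basisSec, if_pos rfl]
    exact mul_one (c k)

end Groth.Agent.EtQC.GenSite
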