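import Groth.Agent.EtQC.Tilde
import Groth.Agent.EtQC.Closure
import Groth.Agent.EtQC.Coherent

/-!
The sheaf of the presheaf of base changes, and its universal property.
-/

set_option autoImplicit false
set_option linter.style.haveILetI false
set_option backward.isDefEq.respectTransparency false

universe u

noncomputable section

open CategoryTheory CategoryTheory.Limits AlgebraicGeometry Opposite AlgSp TensorProduct

namespace Groth.Agent.EtQC

variable {S : Scheme.{u}} {X : Sp S} {A : Type (u + 1)} [CommRing A] (p : TopPt X A) (N : Type (u + 1))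
  [AddCommGroup N] [Module A N]

namespace TopPt

/-- the sheafification adjunction -/
abbrev shAdj : PresheafOfModules.sheafification (R := OEtRing X) (𝟙 (OEtRing X).obj) ⊣ toPre X :=
  PresheafOfModules.sheafificationAdjunction (R := OEtRing X) (𝟙 (OEtRing X).obj)

/-- the module of a module over the functions at the terminal object -/
def sheaf : ModEt X := (PresheafOfModules.sheafification (R := OEtRing X) (𝟙 (OEtRing X).obj)).obj (p.pre N)

/-- the unit -/
def eta : p.pre N ⟶ (p.sheaf N).val := (shAdj (X := X)).unit.app (p.pre N)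

instance : Presheaf.IsLocallyInjective (etTop X) ((PresheafOfModules.toPresheaf _).map (p.eta N)) := by
  have h : (PresheafOfModules.toPresheaf _).map (p.eta N) = _ :=
    PresheafOfModules.toPresheaf_map_sheafificationAdjunction_unit_app (R := OEtRing X) (𝟙 (OEtRing X).obj) (p.pre N)
  rw [h]
  exact (((etTop X).W_iff_isLocallyBijective _).mp ((etTop X).W_toSheafify _)).1

instance : Presheaf.IsLocallySurjective (etTop X) ((PresheafOfModules.toPresheaf _).map (p.eta N)) := by
  have h : (PresheafOfModules.toPresheaf _).map (p.eta N) = _ :=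
    PresheafOfModules.toPresheaf_map_sheafificationAdjunction_unit_app (R := OEtRing X) (𝟙 (OEtRing X).obj) (p.pre N)
  rw [h]
  exact (((etTop X).W_iff_isLocallyBijective _).mp ((etTop X).W_toSheafify _)).2

theorem isQuasicoherent_sheaf : (p.sheaf N).IsQuasicoherent :=
  isQuasicoherent_of_locBij (p.eta N) (p.isBC_pre N)

theorem eta_bijective (W : EtOver X) [IsAffine W.obj.left.left] :
    Function.Bijective (fun z : p.TN N W => (p.eta N).app (op W) (p.mkP N z)) :=
  appPs_bijective (p.eta N) (p.isBC_pre N) W

variable {N} {M : ModEt X}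

/-- the universal element -/
def gen (n : N) : sectModEt (p.sheaf N) p.t := (p.eta N).app (op p.t) (p.mkP N ((1 : p.Rt p.t) ⊗ₜ n))

/-- maps out of the sheaf -/
def lift (φ : N →ₗ[A] p.Mt M p.t) : p.sheaf N ⟶ M := ((shAdj (X := X)).homEquiv (p.pre N) M).symm (p.desc φ)

theorem eta_lift (φ : N →ₗ[A] p.Mt M p.t) : p.eta N ≫ (p.lift φ).val = p.desc φ :=
  ((shAdj (X := X)).homEquiv_unit (p.pre N) M (p.lift φ)).symm.trans
    (((shAdj (X := X)).homEquiv (p.pre N) M).apply_symm_apply (p.desc φ))

theorem lift_gen (φ : N →ₗ[A] p.Mt M p.t) (n : N) : appM (p.lift φ) p.t (p.gen n) = φ n :=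
  (congrArg (fun q : p.pre N ⟶ M.val => q.app (op p.t) (p.mkP N ((1 : p.Rt p.t) ⊗ₜ n))) (p.eta_lift φ)).trans
    (p.desc_one φ n)

theorem sheaf_hom_ext (h h' : p.sheaf N ⟶ M) (e : ∀ n : N, appM h p.t (p.gen n) = appM h' p.t (p.gen n)) : h = h' :=
  ((shAdj (X := X)).homEquiv (p.pre N) M).injective
    (((shAdj (X := X)).homEquiv_unit (p.pre N) M h).trans
      ((p.hom_ext (M := M) (p.eta N ≫ h.val) (p.eta N ≫ h'.val) e).trans
        ((shAdj (X := X)).homEquiv_unit (p.pre N) M h').symm))

theorem lift_apply (φ : N →ₗ[A] p.Mt M p.t) (W : EtOver X) (z : p.TN N W) :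
    appM (p.lift φ) W ((p.eta N).app (op W) (p.mkP N z)) = p.descW φ W z :=
  (congrArg (fun q : p.pre N ⟶ M.val => q.app (op W) (p.mkP N z)) (p.eta_lift φ)).trans
    (p.desc_apply φ W z)

/-- a quasi-coherent module with the expected sections on affine objects is the sheaf -/
theorem isIso_lift [M.IsQuasicoherent] [IsAffine p.t.obj.left.left]
    (hpt : ∀ x : Points X, ∃ u, Points.ofPt p.t.obj.hom u = x) (φ : N →ₗ[A] p.Mt M p.t)
    (h : ∀ (W : EtOver X) [IsAffine W.obj.left.left], Function.Bijective (p.descW φ W)) : IsIso (p.lift φ) := by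
  haveI := p.isQuasicoherent_sheaf N
  have hb : ∀ (W : EtOver X) [IsAffine W.obj.left.left], Function.Bijective (appM (p.lift φ) W) := fun W _ => by
    refine (Function.Bijective.of_comp_iff _ (p.eta_bijective N W)).1 ?_
    rw [show (appM (p.lift φ) W : _ → _) ∘ (fun z : p.TN N W => (p.eta N).app (op W) (p.mkP N z)) = p.descW φ W from
      funext fun z => p.lift_apply φ W z]
    exact h W
  haveI : Mono (p.lift φ) := by
    have hall : ∀ W : EtOver X, Function.Injective ((p.lift φ).val.app (op W)).hom := fun W s t hst => by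
      refine eq_of_affine (M := p.sheaf N) fun V _ g => (hb V).1 ?_
      show appM (p.lift φ) V (resM (p.sheaf N) g s) = appM (p.lift φ) V (resM (p.sheaf N) g t)
      rw [← resM_appM, ← resM_appM]
      exact congrArg (resM M g) hst
    haveI : Mono (p.lift φ).val := PresheafOfModules.mono_of_injective fun U => hall U.unop
    exact (SheafOfModules.forget _).mono_of_mono_map ‹_›
  exact isIso_of_appM_surjective (p.lift φ) (fun _ : PUnit.{1} => p.t)
    (fun x => ⟨⟨⟩, hpt x⟩)
    fun _ => (hb p.t).2

end TopPt

end Groth.Agent.EtQC
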