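import Groth.Agent.EtQC.PullSect
import Groth.Agent.EtQC.TildeSheaf

/-!
Sections of the inverse image, part one: the two base points, and restriction to an affine object of the target.
-/

set_option autoImplicit false
set_option linter.style.haveILetI false
set_option backward.isDefEq.respectTransparency false

universe u

noncomputable section

open CategoryTheory CategoryTheory.Limits AlgebraicGeometry Opposite AlgSp TensorProduct

namespace Groth.Agent.EtQC

variable {S : Scheme.{u}} {X Y : Sp S} {f : X ⟶ Y}

theorem topObj_point (E : EtOver X) (x : Points ((yon S).obj E.obj.left)) :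
    ∃ u, Points.ofPt (topObj E).obj.hom u = x := by
  obtain ⟨U, a, w, rfl⟩ := Groth.Agent.AlgSpLib.exists_ofPt x
  obtain ⟨g, rfl⟩ := (yon S).map_surjective a
  refine ⟨g.left w, ?_⟩
  show Points.ofPt (𝟙 _) (g.left w) = _
  rw [← Groth.Agent.AlgSpLib.ofPt_comp, Category.comp_id]

variable (hf : Representable f) [(SheafOfModules.pushforward.{u + 1} (bcRingHom hf)).IsRightAdjoint]
  (G : ModEt Y) {V : EtOver X} {E : EtOver Y} (c : V ⟶ (EtOver.bc hf).obj E)

/-- the map of schemes of a map to a base change -/
abbrev gSch : V.obj.left ⟶ E.obj.left := c.hom.left ≫ hf.snd E.obj.hom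

omit [(SheafOfModules.pushforward.{u + 1} (bcRingHom hf)).IsRightAdjoint] in
theorem square : V.obj.hom ≫ f = (yon S).map (gSch hf c) ≫ E.obj.hom := by
  rw [Functor.map_comp, Category.assoc, ← hf.w, ← Category.assoc]
  exact congrArg (· ≫ f) (EtOver.w c).symm

/-- the base point over the target -/
def ptE (E : EtOver Y) : TopPt ((yon S).obj E.obj.left) (R E) where
  t := topObj E
  τ := topHom E
  uniq := topHom_uniq E
  ι := res (eps E)

/-- the base point over the source -/
def ptV : TopPt ((yon S).obj V.obj.left) (R E) where
  t := topObj V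
  τ := topHom V
  uniq := topHom_uniq V
  ι := (res (eps V ≫ c)).comp (bcR hf E)

/-- the sections of the module over the target point -/
def phiE : sectModEt G E →ₗ[R E] (ptE E).Mt (restrTo E G) (ptE E).t where
  toFun n := resM G (eps E) n
  map_add' := map_add (resM G (eps E))
  map_smul' a n := by
    refine (resM_smul (eps E) a n).trans ?_
    show res (eps E) a • resM G (eps E) n = res (topHom E (topObj E)) (res (eps E) a) • _
    rw [show topHom E (topObj E) = 𝟙 _ from (topHom_uniq E (𝟙 _)).symm]
    exact congrArg (fun r : R _ => r • resM G (eps E) n) (res_id (topObj E) (res (eps E) a)).symm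

/-- the sections of the inverse image over the source point -/
def phiV : sectModEt G E →ₗ[R E] (ptV hf c).Mt (restrTo V ((pullModEt hf).obj G)) (ptV hf c).t where
  toFun n := resM ((pullModEt hf).obj G) (eps V ≫ c) (appM ((pullPushAdjModEt hf).unit.app G) E n)
  map_add' n n' := by rw [map_add]; exact map_add (resM _ _) _ _
  map_smul' a n := by
    have e : res (eps V ≫ c) (bcR hf E a) = (res (topHom V (topObj V)) (res (eps V ≫ c) (bcR hf E a)) : R (topObj V)) := by
      rw [show topHom V (topObj V) = 𝟙 _ from (topHom_uniq V (𝟙 _)).symm]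
      exact (res_id (topObj V) (res (eps V ≫ c) (bcR hf E a))).symm
    rw [map_smul]
    refine (resM_smul (eps V ≫ c) (bcR hf E a) (show sectModEt _ ((EtOver.bc hf).obj E) from _)).trans ?_
    exact congrArg (fun r : R ((EtOver.postcomp V.obj.hom (isEtaleMor_hom V)).obj (topObj V)) =>
      r • resM ((pullModEt hf).obj G) (eps V ≫ c) (appM ((pullPushAdjModEt hf).unit.app G) E n)) e

omit [(SheafOfModules.pushforward.{u + 1} (bcRingHom hf)).IsRightAdjoint] in
theorem descW_phiE_bijective [G.IsQuasicoherent] [IsAffine E.obj.left.left] (W : EtOver ((yon S).obj E.obj.left))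
    [hW : IsAffine W.obj.left.left] : Function.Bijective ((ptE E).descW (phiE G (E := E)) W) := by
  let g := (EtOver.postcomp E.obj.hom (isEtaleMor_hom E)).map (topHom E W) ≫ eps E
  haveI : IsAffine ((EtOver.postcomp E.obj.hom (isEtaleMor_hom E)).obj W).obj.left.left := hW
  have hc : ∀ a : R E, (algebraMap (R E) ((ptE E).Rt W) a : (ptE E).Rt W) = (res g a : R _) := fun a =>
    (res_comp (eps E) ((EtOver.postcomp E.obj.hom (isEtaleMor_hom E)).map (topHom E W)) a).symm
  let χ : (ptE E).Rt W ≃ₗ[R E] Rg g :=
    { toFun := fun r => r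
      invFun := fun r => r
      left_inv := fun _ => rfl
      right_inv := fun _ => rfl
      map_add' := fun _ _ => rfl
      map_smul' := fun a r => by
        exact congrArg (· * (show R _ from r)) (hc a) }
  have hb := (isBaseChange_res (M := G) g).equiv.bijective.comp
    (TensorProduct.congr χ (LinearEquiv.refl (R E) (sectModEt G E))).bijective
  suffices heq : ∀ z, (show Mg G g from (ptE E).descW (phiE G (E := E)) W z) =
      (isBaseChange_res (M := G) g).equiv (TensorProduct.congr χ (LinearEquiv.refl (R E) (sectModEt G E)) z) from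
    ⟨fun z z' h => hb.1 (((heq z).symm.trans h).trans (heq z')), fun y => (hb.2 y).imp fun z hz => (heq z).trans hz⟩
  intro z
  induction z using TensorProduct.induction_on with
  | zero =>
    exact (map_zero _).trans ((congrArg _ (map_zero _)).trans (map_zero _)).symm
  | tmul b n =>
    refine ((ptE E).descW_tmul _ W b n).trans (Eq.trans ?_ ((isBaseChange_res (M := G) g).equiv_tmul _ _).symm)
    show (show R _ from b) • resM G ((EtOver.postcomp E.obj.hom (isEtaleMor_hom E)).map (topHom E W)) (resM G (eps E) n) =
      (show R _ from b) • resM G g n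
    rw [resM_comp]
  | add z z' h h' =>
    refine (map_add ((ptE E).descW (phiE G) W) z z').trans ?_
    refine Eq.trans ?_ ((congrArg _ (map_add _ z z')).trans (map_add _ _ _)).symm
    exact congrArg₂ (· + ·) h h'

omit [(SheafOfModules.pushforward.{u + 1} (bcRingHom hf)).IsRightAdjoint] in
theorem isQuasicoherent_restrTo [G.IsQuasicoherent] (E : EtOver Y) : (restrTo E G).IsQuasicoherent :=
  isQuasicoherent_of_isBaseChange fun {U W} hU hW g => by
    haveI : IsAffine ((EtOver.postcomp E.obj.hom (isEtaleMor_hom E)).obj U).obj.left.left := hU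
    haveI : IsAffine ((EtOver.postcomp E.obj.hom (isEtaleMor_hom E)).obj W).obj.left.left := hW
    exact isBaseChange_res (M := G) ((EtOver.postcomp E.obj.hom (isEtaleMor_hom E)).map g)

omit [(SheafOfModules.pushforward.{u + 1} (bcRingHom hf)).IsRightAdjoint] in
theorem isIso_liftE [G.IsQuasicoherent] [IsAffine E.obj.left.left] : IsIso ((ptE E).lift (phiE G (E := E))) := by
  haveI := isQuasicoherent_restrTo G E
  haveI : IsAffine (ptE E).t.obj.left.left := isAffine_topObj E
  exact (ptE E).isIso_lift (topObj_point E) _ fun W _ => descW_phiE_bijective G W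

end Groth.Agent.EtQC
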