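import Groth.Agent.EtQC.FPPush
import Groth.Agent.EtQC.PushQcqs
import Groth.Agent.EtQC.PullPts
import Groth.Agent.EtQC.NearEq
import Groth.Agent.EtQC.ClosedRight
import Groth.Agent.EtQC.ProdCover

/-!
Modifying a quasi-coherent module on the chart of a square: the fibre product with a direct image.
-/

set_option autoImplicit false
set_option linter.style.haveILetI false
set_option backward.isDefEq.respectTransparency false

universe u

noncomputable section

open CategoryTheory CategoryTheory.Limits AlgebraicGeometry Opposite AlgSp TensorProduct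

namespace Groth.Agent.EtQC

variable {S : Scheme.{u}} {X : Sp S}

theorem isQuasicoherent_biprod (A B : ModEt X) [A.IsQuasicoherent] [B.IsQuasicoherent] : (A ⊞ B).IsQuasicoherent := by
  have hc := isQuasicoherent_colimit (Discrete.functor fun b : WalkingPair => WalkingPair.casesOn b A B)
    (fun j => by rcases j with ⟨_ | _⟩ <;> assumption)
  refine (SheafOfModules.isQuasicoherent (OEtRing X)).prop_of_iso ?_ hc
  refine HasColimit.isoOfNatIso (Discrete.natIso fun b => ?_) ≪≫ (biprod.isoCoprod A B).symm
  rcases b with ⟨_ | _⟩ <;> exact Iso.refl _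

variable [QuasiSeparatedSpace ↥S] (hX : IsAlgSpace X) (hqs : IsQuasiSeparatedSp X) (V : EtOver X)
  [IsAffine V.obj.left.left]

include hX hqs in
theorem isQuasicoherent_push_chart (hg : Representable V.obj.hom) (M : ModEt ((yon S).obj V.obj.left))
    [M.IsQuasicoherent] : ((pushModEt hg).obj M).IsQuasicoherent := by
  refine isQuasicoherent_push_qcqs hg M (fun E hE => ?_) fun E hE => ?_
  · haveI := hE
    obtain ⟨a, ha⟩ := (yon S).map_surjective (hg.fst E.obj.hom)
    exact Groth.Agent.AlgSpLib.compact_pullback_of_isQuasiSeparatedSp hqs (ha.symm ▸ hg.isPullback E.obj.hom :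
      IsPullback ((yon S).map a) ((yon S).map (hg.snd E.obj.hom)) V.obj.hom E.obj.hom)
  · haveI := hE
    obtain ⟨a, ha⟩ := (yon S).map_surjective (hg.fst E.obj.hom)
    have sq : IsPullback ((yon S).map a) ((yon S).map (hg.snd E.obj.hom)) V.obj.hom E.obj.hom :=
      ha.symm ▸ hg.isPullback E.obj.hom
    let P := hg.pullback E.obj.hom
    let l : P.left ⟶ pullback (terminal.from V.obj.left.left) (terminal.from E.obj.left.left) :=
      pullback.lift a.left (hg.snd E.obj.hom).left (terminal.hom_ext _ _)
    haveI : Mono l := ⟨fun {T} x y h => by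
      have h1 : x ≫ a.left = y ≫ a.left := by
        have := congrArg (· ≫ pullback.fst _ _) h
        simpa [l] using this
      have h2 : x ≫ (hg.snd E.obj.hom).left = y ≫ (hg.snd E.obj.hom).left := by
        have := congrArg (· ≫ pullback.snd _ _) h
        simpa [l] using this
      have hy : y ≫ P.hom = x ≫ P.hom := by
        rw [← Over.w a, ← Category.assoc, ← h1, Category.assoc]
      let x' : Over.mk (x ≫ P.hom) ⟶ P := Over.homMk x rfl
      let y' : Over.mk (x ≫ P.hom) ⟶ P := Over.homMk y hy
      have e : x' = y' := (yon S).map_injective (sq.hom_ext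
        (by rw [← Functor.map_comp, ← Functor.map_comp]; exact congrArg _ (Over.OverMorphism.ext h1))
        (by rw [← Functor.map_comp, ← Functor.map_comp]; exact congrArg _ (Over.OverMorphism.ext h2)))
      exact congrArg (fun q => q.left) e⟩
    exact quasiSeparatedSpace_of_quasiSeparated l

variable (hg : Representable V.obj.hom) (P : ModEt X) (L : Type (u + 1)) [AddCommGroup L] [Module (R V) L]
  (a : L →ₗ[R V] sectModEt P V)

/-- the module on the chart -/
abbrev chartSheaf : ModEt ((yon S).obj V.obj.left) := (ptE V).sheaf L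

/-- the map to the restriction -/
def chartMap : chartSheaf V L ⟶ restrTo V P := (ptE V).lift ((phiE P (E := V)).comp a)

/-- the unit of the direct image on a chart -/
def chartUnit : P ⟶ (pushModEt hg).obj (restrTo V P) :=
  (restrPushAdj hg (isEtaleMor_hom V)).unit.app P

/-- the difference map -/
def glueMap : P ⊞ (pushModEt hg).obj (chartSheaf V L) ⟶ (pushModEt hg).obj (restrTo V P) :=
  biprod.desc (chartUnit V hg P) (-((pushModEt hg).map (chartMap V P L a)))

/-- the glued module -/
def glueMod : ModEt X := kernel (glueMap V hg P L a)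

/-- its map to the given one -/
def glueTo : glueMod V hg P L a ⟶ P := kernel.ι (glueMap V hg P L a) ≫ biprod.fst

/-- its component on the chart -/
def glueChart : glueMod V hg P L a ⟶ (pushModEt hg).obj (chartSheaf V L) :=
  kernel.ι (glueMap V hg P L a) ≫ biprod.snd

include hX hqs in
theorem isQuasicoherent_glueMod [P.IsQuasicoherent] : (glueMod V hg P L a).IsQuasicoherent := by
  haveI : (chartSheaf V L).IsQuasicoherent := (ptE V).isQuasicoherent_sheaf L
  haveI := isQuasicoherent_restrTo P V
  haveI := isQuasicoherent_push_chart hX hqs V hg (chartSheaf V L)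
  haveI := isQuasicoherent_push_chart hX hqs V hg (restrTo V P)
  haveI := isQuasicoherent_biprod P ((pushModEt hg).obj (chartSheaf V L))
  exact isQuasicoherent_kernel (glueMap V hg P L a)

omit [QuasiSeparatedSpace ↥S] [IsAffine V.obj.left.left] in
theorem appM_chartUnit (E : EtOver X) (s : sectModEt P E) :
    appM (chartUnit V hg P) E s = resM P ((postBcAdj hg (isEtaleMor_hom V)).counit.app E) s := rfl

omit [QuasiSeparatedSpace ↥S] [IsAffine V.obj.left.left] in
theorem glue_condition (E : EtOver X) (z : sectModEt (glueMod V hg P L a) E) :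
    appM ((pushModEt hg).map (chartMap V P L a)) E (appM (glueChart V hg P L a) E z) =
      appM (chartUnit V hg P) E (appM (glueTo V hg P L a) E z) := by
  have h := kernel.condition (glueMap V hg P L a)
  have h' : glueTo V hg P L a ≫ chartUnit V hg P = glueChart V hg P L a ≫ (pushModEt hg).map (chartMap V P L a) := by
    rw [glueTo, glueChart, Category.assoc, Category.assoc, ← sub_eq_zero, ← Preadditive.comp_sub]
    refine Eq.trans ?_ h
    congr 1
    refine biprod.hom_ext' _ _ ?_ ?_
    · simp [glueMap]
    · simp [glueMap]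
  exact (congrArg (fun q : glueMod V hg P L a ⟶ _ => appM q E z) h').symm

omit [QuasiSeparatedSpace ↥S] [IsAffine V.obj.left.left] in
theorem exists_glue_section (E : EtOver X) (s : sectModEt P E) (q : sectModEt ((pushModEt hg).obj (chartSheaf V L)) E)
    (h : appM ((pushModEt hg).map (chartMap V P L a)) E q = appM (chartUnit V hg P) E s) :
    ∃ z, appM (glueTo V hg P L a) E z = s ∧ appM (glueChart V hg P L a) E z = q := by
  let y : sectModEt (P ⊞ (pushModEt hg).obj (chartSheaf V L)) E :=
    appM (biprod.inl (X := P) (Y := (pushModEt hg).obj (chartSheaf V L))) E s +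
      appM (biprod.inr (X := P) (Y := (pushModEt hg).obj (chartSheaf V L))) E q
  have hl : appM (glueMap V hg P L a) E y = 0 := by
    rw [map_add]
    have e1 : appM (glueMap V hg P L a) E (appM biprod.inl E s) = appM (chartUnit V hg P) E s :=
      congrArg (fun k : P ⟶ _ => appM k E s) (biprod.inl_desc _ _)
    have e2 : appM (glueMap V hg P L a) E (appM biprod.inr E q) = -appM ((pushModEt hg).map (chartMap V P L a)) E q :=
      congrArg (fun k : (pushModEt hg).obj (chartSheaf V L) ⟶ _ => appM k E q) (biprod.inr_desc _ _)
    rw [e1, e2, h]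
    exact add_neg_cancel _
  obtain ⟨z, hz⟩ := GenSite.exists_kernel_lift (V := E) (glueMap V hg P L a) y hl
  have hz' : appM (kernel.ι (glueMap V hg P L a)) E z = y := hz
  refine ⟨z, ?_, ?_⟩
  · show appM biprod.fst E (appM (kernel.ι (glueMap V hg P L a)) E z) = s
    rw [hz', map_add]
    refine (congrArg₂ (· + ·) (congrArg (fun k : P ⟶ P => appM k E s) biprod.inl_fst)
      (congrArg (fun k : (pushModEt hg).obj (chartSheaf V L) ⟶ P => appM k E q) biprod.inr_fst)).trans ?_
    exact add_zero s
  · show appM biprod.snd E (appM (kernel.ι (glueMap V hg P L a)) E z) = q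
    rw [hz', map_add]
    refine (congrArg₂ (· + ·)
      (congrArg (fun k : P ⟶ (pushModEt hg).obj (chartSheaf V L) => appM k E s) biprod.inl_snd)
      (congrArg (fun k : (pushModEt hg).obj (chartSheaf V L) ⟶ _ => appM k E q) biprod.inr_snd)).trans ?_
    exact zero_add q

omit [QuasiSeparatedSpace ↥S] [IsAffine V.obj.left.left] in
theorem glue_ext (E : EtOver X) (z z' : sectModEt (glueMod V hg P L a) E)
    (h₁ : appM (glueTo V hg P L a) E z = appM (glueTo V hg P L a) E z')
    (h₂ : appM (glueChart V hg P L a) E z = appM (glueChart V hg P L a) E z') : z = z' := by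
  refine app_injective_of_mono (kernel.ι (glueMap V hg P L a)) E ?_
  have hid : ∀ y : sectModEt (P ⊞ (pushModEt hg).obj (chartSheaf V L)) E,
      appM biprod.inl E (appM biprod.fst E y) + appM biprod.inr E (appM biprod.snd E y) = y := fun y =>
    congrArg (fun k : P ⊞ (pushModEt hg).obj (chartSheaf V L) ⟶ _ => appM k E y) biprod.total
  show appM (kernel.ι _) E z = appM (kernel.ι _) E z'
  rw [← hid (appM (kernel.ι _) E z), ← hid (appM (kernel.ι _) E z')]
  exact congrArg₂ (· + ·) (congrArg (appM biprod.inl E) h₁) (congrArg (appM biprod.inr E) h₂)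

end Groth.Agent.EtQC
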