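import Groth.Agent.EtQC.GlueModule

/-!
The glued module: unchanged over the old open, the given module on the chart.
-/

set_option autoImplicit false
set_option linter.style.haveILetI false
set_option backward.isDefEq.respectTransparency false

universe u

noncomputable section

open CategoryTheory CategoryTheory.Limits AlgebraicGeometry Opposite AlgSp TensorProduct

namespace Groth.Agent.EtQC

variable {S : Scheme.{u}} {X : Sp S} (V : EtOver X) [IsAffine V.obj.left.left]

/-- an object over the chart, as an object over the space -/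
abbrev postV (W : EtOver ((yon S).obj V.obj.left)) : EtOver X :=
  (EtOver.postcomp V.obj.hom (isEtaleMor_hom V)).obj W

/-- a map to the chart as an object over the chart -/
def liftV {W : EtOver X} (b : W ⟶ V) : EtOver ((yon S).obj V.obj.left) :=
  EtOver.mk ((yon S).map b.hom.left)
    ((Groth.Agent.AlgSpLib.repWith_yon_iff _).2 (show Etale b.hom.left.left from EtOver.etale_left b))

/-- the comparison -/
def liftVHom {W : EtOver X} (b : W ⟶ V) : postV V (liftV V b) ⟶ W :=
  EtOver.homMk (𝟙 _) (by
    show (yon S).map (𝟙 _) ≫ W.obj.hom = (yon S).map b.hom.left ≫ V.obj.hom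
    rw [CategoryTheory.Functor.map_id]
    exact (Category.id_comp _).trans (EtOver.w b).symm)

/-- its inverse -/
def liftVInv {W : EtOver X} (b : W ⟶ V) : W ⟶ postV V (liftV V b) :=
  EtOver.homMk (𝟙 _) (by
    show (yon S).map (𝟙 _) ≫ (yon S).map b.hom.left ≫ V.obj.hom = W.obj.hom
    rw [CategoryTheory.Functor.map_id]
    exact (Category.id_comp _).trans (EtOver.w b))

/-- an object over the chart maps to the chart -/
def toV (W : EtOver ((yon S).obj V.obj.left)) : postV V W ⟶ V :=
  (EtOver.postcomp V.obj.hom (isEtaleMor_hom V)).map (topHom V W) ≫ eps V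

variable (P : ModEt X) (L : Type (u + 1)) [AddCommGroup L] [Module (R V) L] (a : L →ₗ[R V] sectModEt P V)

theorem toV_liftV {W : EtOver X} (b : W ⟶ V) : toV V (liftV V b) = liftVHom V b ≫ b := by
  refine EtOver.hom_ext _ _ ?_
  show (topHom V (liftV V b)).hom.left ≫ 𝟙 _ = 𝟙 _ ≫ b.hom.left
  refine (Category.comp_id _).trans (Eq.trans ?_ (Category.id_comp _).symm)
  exact (yon S).preimage_map b.hom.left

theorem bijective_chartMap_liftV [P.IsQuasicoherent] {W : EtOver X} [IsAffine W.obj.left.left] (b : W ⟶ V)
    (h : Function.Bijective (LinearMap.liftBaseChange (Rg b) ((resL P b).comp a))) :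
    Function.Bijective (appM (chartMap V P L a) (liftV V b)) := by
  haveI : IsAffine (liftV V b).obj.left.left := ‹IsAffine W.obj.left.left›
  let p := ptE V
  let W' := liftV V b
  let φ := (phiE P (E := V)).comp a
  have hcomm : ∀ c : R V, (show R W from algebraMap (R V) (p.Rt W') c) = res b c := fun c =>
    ((res_comp (eps V) ((EtOver.postcomp V.obj.hom (isEtaleMor_hom V)).map (topHom V W')) c).symm.trans
      ((congrArg (fun q => res q c) (toV_liftV V b)).trans ((res_comp b (liftVHom V b) c).trans (res_id W _))) :)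
  let castR : p.Rt W' →ₗ[R V] Rg b :=
    LinearMap.mk (σ := RingHom.id (R V)) ⟨fun r => (r : R W), fun _ _ => rfl⟩ fun c r =>
      (congrArg (fun x : R W => x * (show R W from r)) (hcomm c) :)
  let castR' : Rg b →ₗ[R V] p.Rt W' :=
    LinearMap.mk (σ := RingHom.id (R V)) ⟨fun r => (r : R W), fun _ _ => rfl⟩ fun c r =>
      (congrArg (fun x : R W => x * (show R W from r)) (hcomm c).symm :)
  let β : p.Rt W' ⊗[R V] L → Rg b ⊗[R V] L := TensorProduct.map castR LinearMap.id
  have hβ : Function.Bijective β := by
    refine Function.bijective_iff_has_inverse.mpr ⟨TensorProduct.map castR' LinearMap.id, fun z => ?_, fun z => ?_⟩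
    · induction z using TensorProduct.induction_on with
      | zero => exact (congrArg _ (map_zero _)).trans (map_zero _)
      | tmul r n => rfl
      | add x y hx hy => exact ((congrArg _ (map_add _ x y)).trans (map_add _ _ _)).trans (congrArg₂ (· + ·) hx hy)
    · induction z using TensorProduct.induction_on with
      | zero => exact (congrArg β (map_zero _)).trans (map_zero _)
      | tmul r n => rfl
      | add x y hx hy =>
        exact ((congrArg β (map_add _ x y)).trans (map_add _ _ _)).trans (congrArg₂ (· + ·) hx hy)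
  have hres : Function.Bijective (resM P (liftVHom V b)) := Function.bijective_iff_has_inverse.mpr
    ⟨resM P (liftVInv V b),
      fun s => by rw [← resM_comp]; exact (congrArg (fun q => resM P q s) (EtOver.hom_ext _ _ (Category.id_comp _))).trans (resM_id W s),
      fun s => by rw [← resM_comp]; exact (congrArg (fun q => resM P q s) (EtOver.hom_ext _ _ (Category.id_comp _))).trans (resM_id _ s)⟩
  have key : ∀ z, (p.descW φ W' z : sectModEt P (postV V W')) =
      resM P (liftVHom V b) (LinearMap.liftBaseChange (Rg b) ((resL P b).comp a) (β z)) := fun z => by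
    induction z using TensorProduct.induction_on with
    | zero =>
      exact (map_zero _).trans ((congrArg (resM P (liftVHom V b))
        ((congrArg _ (map_zero _)).trans (map_zero _))).trans (map_zero _)).symm
    | tmul r n =>
      refine (p.descW_tmul φ W' r n).trans ?_
      refine Eq.trans ?_ (congrArg (resM P (liftVHom V b)) (LinearMap.liftBaseChange_tmul (Rg b) ((resL P b).comp a)
        (show Rg b from (show R W from r)) n)).symm
      refine Eq.trans ?_ (resM_smul (liftVHom V b) (show R W from r) (resM P b (a n))).symm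
      show (show R (postV V W') from r) • (show sectModEt P (postV V W') from
          resM P ((EtOver.postcomp V.obj.hom (isEtaleMor_hom V)).map (topHom V W')) (resM P (eps V) (a n))) = _
      refine congrArg₂ (fun (c : R (postV V W')) (x : sectModEt P (postV V W')) => c • x) (res_id W (show R W from r)).symm ?_
      rw [← resM_comp, ← resM_comp]
      exact congrArg (fun q => resM P q (a n)) (toV_liftV V b)
    | add x y hx hy =>
      refine ((map_add _ x y).trans (congrArg₂ (fun (c d : sectModEt P (postV V W')) => c + d) hx hy)).trans ?_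
      exact ((congrArg (resM P (liftVHom V b)) ((congrArg _ (map_add _ x y)).trans (map_add _ _ _))).trans
        (map_add _ _ _)).symm
  refine (Function.Bijective.of_comp_iff _ (p.eta_bijective L W')).1 ?_
  rw [show (appM (chartMap V P L a) W' : _ → _) ∘ (fun z : p.TN L W' => (p.eta L).app (op W') (p.mkP L z)) =
    fun z => (resM P (liftVHom V b) (LinearMap.liftBaseChange (Rg b) ((resL P b).comp a) (β z))) from
    funext fun z => (p.lift_apply φ W' z).trans (key z)]
  exact hres.comp (h.comp hβ)

/-- the chart map is bijective near the points over a set -/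
def IsoNear (A : Set (Points X)) : Prop :=
  ∀ (W : EtOver ((yon S).obj V.obj.left)) (x : W.obj.left.left),
    Points.ofPt (W.obj.hom ≫ V.obj.hom) x ∈ A → ∃ (W' : EtOver ((yon S).obj V.obj.left)) (h : W' ⟶ W),
      IsAffine W'.obj.left.left ∧ x ∈ Set.range h.hom.left.left ∧ Function.Bijective (appM (chartMap V P L a) W')

theorem isoNear_of_pieces [P.IsQuasicoherent] (E₁ : EtOver X) [IsAffine E₁.obj.left.left] (C : ProdCover E₁ V)
    (h : ∀ k, haveI := C.isAffine k;
      Function.Bijective (LinearMap.liftBaseChange (Rg (C.b k)) ((resL P (C.b k)).comp a))) :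
    IsoNear V P L a (Set.range (Points.ofPt E₁.obj.hom)) := by
  rintro W x ⟨e, he⟩
  obtain ⟨W₁, hW₁, g₁, g₂, w, hw, -⟩ := exists_common (postV V W) E₁ x e he.symm
  obtain ⟨V', j, k, c, hV', ⟨v, hv⟩, hca, hcb⟩ := C.factor g₂ (g₁ ≫ toV V W) w
  haveI := C.isAffine k
  haveI := hV'
  let W' : EtOver ((yon S).obj V.obj.left) :=
    EtOver.mk ((yon S).map (j ≫ g₁).hom.left ≫ W.obj.hom) (Groth.Agent.AlgSpLib.repWith_comp
      ((Groth.Agent.AlgSpLib.repWith_yon_iff _).2 (show Etale (j ≫ g₁).hom.left.left from EtOver.etale_left (j ≫ g₁)))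
      W.property)
  haveI : IsAffine W'.obj.left.left := hV'
  let toW : W' ⟶ W := EtOver.homMk (E := W') (E' := W) (j ≫ g₁).hom.left rfl
  let toPiece : W' ⟶ liftV V (C.b k) := EtOver.homMk (E := W') (E' := liftV V (C.b k)) c.hom.left (by
    show (yon S).map c.hom.left ≫ (yon S).map (C.b k).hom.left = (yon S).map (j ≫ g₁).hom.left ≫ W.obj.hom
    rw [← (yon S).map_preimage W.obj.hom, ← Functor.map_comp, ← Functor.map_comp]
    refine congrArg (yon S).map ?_
    refine ((congrArg (fun q : V' ⟶ V => q.hom.left) hcb :)).trans ?_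
    show j.hom.left ≫ g₁.hom.left ≫ (topHom V W).hom.left ≫ 𝟙 _ = (j.hom.left ≫ g₁.hom.left) ≫ _
    exact (congrArg (fun q => j.hom.left ≫ g₁.hom.left ≫ q) (Category.comp_id _)).trans (Category.assoc _ _ _).symm)
  refine ⟨W', toW, hV', ⟨v, (congrArg g₁.hom.left.left hv).trans hw⟩, ?_⟩
  haveI : IsAffine (liftV V (C.b k)).obj.left.left := C.isAffine k
  haveI : (chartSheaf V L).IsQuasicoherent := (ptE V).isQuasicoherent_sheaf L
  haveI := isQuasicoherent_restrTo P V
  exact bijective_appM_of_base (chartMap V P L a) toPiece (bijective_chartMap_liftV V P L a (C.b k) (h k))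

variable {A : Set (Points X)} (hiso : IsoNear V P L a A)

include hiso in
theorem injective_chartMap_over (W : EtOver ((yon S).obj V.obj.left))
    (hW : ∀ x, Points.ofPt (W.obj.hom ≫ V.obj.hom) x ∈ A) : Function.Injective (appM (chartMap V P L a) W) := by
  intro s t hst
  choose W' h hW' hx hb using fun x => hiso W x (hW x)
  refine eq_of_cover h (fun x => ⟨x, hx x⟩) fun x => (hb x).1 ?_
  rw [← resM_appM, ← resM_appM, hst]

omit [IsAffine V.obj.left.left] in
theorem mem_of_hom {W W' : EtOver ((yon S).obj V.obj.left)} (h : W' ⟶ W)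
    (hW : ∀ x, Points.ofPt (W.obj.hom ≫ V.obj.hom) x ∈ A) (x : W'.obj.left.left) :
    Points.ofPt (W'.obj.hom ≫ V.obj.hom) x ∈ A := by
  rw [← EtOver.w h, Category.assoc, Groth.Agent.AlgSpLib.ofPt_comp]
  exact hW _

include hiso in
theorem surjective_chartMap_over (W : EtOver ((yon S).obj V.obj.left))
    (hW : ∀ x, Points.ofPt (W.obj.hom ≫ V.obj.hom) x ∈ A) : Function.Surjective (appM (chartMap V P L a) W) := by
  intro s
  choose W' h hW' hx hb using fun x => hiso W x (hW x)
  choose q hq using fun x => (hb x).2 (resM (restrTo V P) (h x) s)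
  obtain ⟨t, ht⟩ := exists_glue h (fun x => ⟨x, hx x⟩) q fun i j => by
    refine injective_chartMap_over V P L a hiso _ (mem_of_hom V (pbFst (h i) (h j) ≫ h i) hW) ?_
    rw [← resM_appM, ← resM_appM, hq, hq, ← resM_comp, ← resM_comp, pb_condition]
  refine ⟨t, eq_of_cover h (fun x => ⟨x, hx x⟩) fun x => ?_⟩
  rw [resM_appM, ht, hq]

variable (hg : Representable V.obj.hom)

include hiso in
theorem bijective_glueTo (E : EtOver X) (hE : ∀ x, Points.ofPt E.obj.hom x ∈ A) :
    Function.Bijective (appM (glueTo V hg P L a) E) := by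
  have hW : ∀ x, Points.ofPt (((EtOver.bc hg).obj E).obj.hom ≫ V.obj.hom) x ∈ A := fun x => by
    show Points.ofPt (hg.fst E.obj.hom ≫ V.obj.hom) x ∈ A
    rw [hg.w, Groth.Agent.AlgSpLib.ofPt_comp]
    exact hE _
  refine ⟨fun z z' h => glue_ext V hg P L a E z z' h (injective_chartMap_over V P L a hiso _ hW ?_), fun s => ?_⟩
  · exact (glue_condition V hg P L a E z).trans
      ((congrArg (appM (chartUnit V hg P) E) h).trans (glue_condition V hg P L a E z').symm)
  · obtain ⟨q, hq⟩ := surjective_chartMap_over V P L a hiso _ hW (appM (chartUnit V hg P) E s)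
    obtain ⟨z, hz, -⟩ := exists_glue_section V hg P L a E s q hq
    exact ⟨z, hz⟩

/-- the diagonal of the chart -/
def diag : topObj V ⟶ (EtOver.bc hg).obj V :=
  EtOver.homMk (hg.lift (𝟙 _) (𝟙 _) (by rw [CategoryTheory.Functor.map_id]))
    (hg.lift_fst _ _ _)

theorem diag_counit :
    (EtOver.postcomp V.obj.hom (isEtaleMor_hom V)).map (diag V hg) ≫ (postBcAdj hg (isEtaleMor_hom V)).counit.app V =
      eps V := by
  refine EtOver.hom_ext _ _ ?_
  show (diag V hg).hom.left ≫ ((postBcAdj hg (isEtaleMor_hom V)).counit.app V).hom.left = 𝟙 _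
  rw [postBcAdj_counit]
  exact hg.lift_snd _ _ _

theorem res_diag (c : R V) :
    res (diag V hg) ((bcRingHom hg).hom.app (op V) c : R ((EtOver.bc hg).obj V)) = res (eps V) c := by
  have h : (diag V hg).hom.left ≫ hg.snd V.obj.hom = 𝟙 _ := hg.lift_snd _ _ _
  refine ULift.ext _ _ ?_
  have e : ((diag V hg).hom.left ≫ hg.snd V.obj.hom).left.appTop = (eps V).hom.left.left.appTop := by rw [h]; rfl
  exact congrArg (fun q => q.hom c.down) ((Scheme.Hom.comp_appTop _ _).symm.trans e)

theorem exists_diag_point (hne : NearEq V A) (y : ((EtOver.bc hg).obj V).obj.left.left)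
    (hy : Points.ofPt (((EtOver.bc hg).obj V).obj.hom ≫ V.obj.hom) y ∉ A) :
    y ∈ Set.range (diag V hg).hom.left.left := by
  let B := (EtOver.bc hg).obj V
  obtain ⟨V', h, hV', ⟨v, hv⟩, hh⟩ := hne (postV V B) (toV V B) ((postBcAdj hg (isEtaleMor_hom V)).counit.app V) y hy
  have h1 : h.hom.left ≫ (topHom V B).hom.left = h.hom.left ≫ hg.snd V.obj.hom := by
    have := congrArg (fun q : V' ⟶ V => q.hom.left) hh
    refine Eq.trans ?_ (this.trans (congrArg (h.hom.left ≫ ·) (postBcAdj_counit hg (isEtaleMor_hom V) V)))
    exact congrArg (h.hom.left ≫ ·) (Category.comp_id _).symm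
  have h2 : h.hom.left = (h.hom.left ≫ (topHom V B).hom.left) ≫ (diag V hg).hom.left := by
    refine hg.hom_ext ?_ ?_
    · show (yon S).map h.hom.left ≫ B.obj.hom = (yon S).map _ ≫ hg.fst V.obj.hom
      rw [Functor.map_comp _ (h.hom.left ≫ _), Category.assoc,
        show (yon S).map (diag V hg).hom.left ≫ hg.fst V.obj.hom = 𝟙 _ from hg.lift_fst _ _ _, Functor.map_comp]
      refine Eq.trans ?_ (Category.comp_id _).symm
      exact congrArg ((yon S).map h.hom.left ≫ ·) ((yon S).map_preimage B.obj.hom).symm
    · rw [Category.assoc (h.hom.left ≫ (topHom V B).hom.left),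
        show (diag V hg).hom.left ≫ hg.snd V.obj.hom = 𝟙 _ from hg.lift_snd _ _ _]
      exact h1.symm.trans (Category.comp_id _).symm
  refine ⟨(h.hom.left ≫ (topHom V B).hom.left).left v, ?_⟩
  exact (congrArg (fun q : V'.obj.left ⟶ B.obj.left => q.left v) h2).symm.trans hv

include hiso in
theorem exists_linearEquiv_glue [P.IsQuasicoherent] (hne : NearEq V A) :
    ∃ e : L ≃ₗ[R V] sectModEt (glueMod V hg P L a) V, ∀ n, appM (glueTo V hg P L a) V (e n) = a n := by
  let p := ptE V
  let B := (EtOver.bc hg).obj V
  let φ := (phiE P (E := V)).comp a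
  have hgen : ∀ n, appM (chartMap V P L a) (topObj V) (p.gen n) = resM P (eps V) (a n) := fun n => p.lift_gen φ n
  let val : sectModEt (glueMod V hg P L a) V → sectModEt (chartSheaf V L) (topObj V) := fun z =>
    resM (chartSheaf V L) (diag V hg) (appM (glueChart V hg P L a) V z)
  have hunit : ∀ s : sectModEt P V, resM (restrTo V P) (diag V hg) (appM (chartUnit V hg P) V s) = resM P (eps V) s :=
    fun s => by
      show resM P ((EtOver.postcomp V.obj.hom (isEtaleMor_hom V)).map (diag V hg))
        (resM P ((postBcAdj hg (isEtaleMor_hom V)).counit.app V) s) = _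
      exact (resM_comp (M := P) _ _ s).symm.trans (congrArg (fun q => resM P q s) (diag_counit V hg))
  have hcond : ∀ z, appM (chartMap V P L a) (topObj V) (val z) = resM P (eps V) (appM (glueTo V hg P L a) V z) :=
    fun z => by
      refine (resM_appM (chartMap V P L a) (diag V hg) _).symm.trans ?_
      refine (congrArg (resM (restrTo V P) (diag V hg)) (glue_condition V hg P L a V z)).trans ?_
      exact hunit _
  have huniq : ∀ z z', appM (glueTo V hg P L a) V z = appM (glueTo V hg P L a) V z' → val z = val z' → z = z' := by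
    intro z z' h₁ h₂
    refine glue_ext V hg P L a V z z' h₁ ?_
    classical
    refine eq_of_affine (M := chartSheaf V L) (E := B) fun W hW g => ?_
    have hloc : ∀ x : W.obj.left.left, ∃ (W' : EtOver ((yon S).obj V.obj.left)) (j : W' ⟶ W),
        x ∈ Set.range j.hom.left.left ∧
          resM (chartSheaf V L) (j ≫ g) (appM (glueChart V hg P L a) V z) =
          resM (chartSheaf V L) (j ≫ g) (appM (glueChart V hg P L a) V z') := by
      intro x
      by_cases hx : Points.ofPt (W.obj.hom ≫ V.obj.hom) x ∈ A
      · obtain ⟨W', j, hW', hxj, hb⟩ := hiso W x hx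
        refine ⟨W', j, hxj, hb.1 ?_⟩
        refine (resM_appM (chartMap V P L a) (j ≫ g) _).symm.trans (Eq.trans ?_ (resM_appM (chartMap V P L a) (j ≫ g) _))
        exact congrArg (resM (restrTo V P) (j ≫ g)) ((glue_condition V hg P L a V z).trans
          ((congrArg (appM (chartUnit V hg P) V) h₁).trans (glue_condition V hg P L a V z').symm))
      · have hy : Points.ofPt (B.obj.hom ≫ V.obj.hom) (g.hom.left.left x) ∉ A := by
          rwa [← Groth.Agent.AlgSpLib.ofPt_comp, ← Category.assoc, EtOver.w g]
        obtain ⟨t, ht⟩ := exists_diag_point V hg hne _ hy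
        obtain ⟨w, hw, -⟩ := exists_pb_point g (diag V hg) x t ht.symm
        refine ⟨pb g (diag V hg), pbFst g (diag V hg), ⟨w, hw⟩, ?_⟩
        rw [pb_condition, resM_comp, resM_comp]
        exact congrArg (resM (chartSheaf V L) (pbSnd g (diag V hg))) h₂
    choose W' j hx hj using hloc
    refine eq_of_cover j (fun x => ⟨x, hx x⟩) fun x => ?_
    rw [← resM_comp, ← resM_comp]
    exact hj x
  have hover : ∀ {W W'' : EtOver ((yon S).obj V.obj.left)} (_ : IsAffine W.obj.left.left)
      (_ : Function.Bijective (appM (chartMap V P L a) W)) (k : W'' ⟶ W),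
      Function.Injective (appM (chartMap V P L a) W'') := by
    intro W W'' hW hb k s t hst
    haveI : (chartSheaf V L).IsQuasicoherent := p.isQuasicoherent_sheaf L
    haveI := isQuasicoherent_restrTo P V
    refine eq_of_affine (M := chartSheaf V L) fun W₃ hW₃ g => ?_
    refine (bijective_appM_of_base (chartMap V P L a) (g ≫ k) hb).1 ?_
    rw [← resM_appM, ← resM_appM, hst]
  have hex : ∀ n, ∃ z, appM (glueTo V hg P L a) V z = a n ∧ val z = p.gen n := by
    intro n
    classical
    let s : sectModEt (restrTo V P) B := appM (chartUnit V hg P) V (a n)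
    have hsd : resM (restrTo V P) (diag V hg) s = appM (chartMap V P L a) (topObj V) (p.gen n) :=
      (hunit (a n)).trans (hgen n).symm
    have hpiece : ∀ y : B.obj.left.left, ∃ (W : EtOver ((yon S).obj V.obj.left)) (j : W ⟶ B)
        (q : sectModEt (chartSheaf V L) W), y ∈ Set.range j.hom.left.left ∧
          appM (chartMap V P L a) W q = resM (restrTo V P) j s ∧
          ((∀ (W'' : EtOver ((yon S).obj V.obj.left)) (_ : W'' ⟶ W), Function.Injective (appM (chartMap V P L a) W'')) ∨
            ∃ i : W ⟶ topObj V, j = i ≫ diag V hg ∧ q = resM (chartSheaf V L) i (p.gen n)) := by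
      intro y
      by_cases hy : Points.ofPt (B.obj.hom ≫ V.obj.hom) y ∈ A
      · obtain ⟨W, j, hW, hyj, hb⟩ := hiso B y hy
        obtain ⟨q, hq⟩ := hb.2 (resM (restrTo V P) j s)
        exact ⟨W, j, q, hyj, hq, Or.inl fun W'' k => hover hW hb k⟩
      · exact ⟨topObj V, diag V hg, p.gen n, exists_diag_point V hg hne y hy, hsd.symm,
          Or.inr ⟨𝟙 _, (Category.id_comp _).symm, (resM_id _ _).symm⟩⟩
    choose W j q hyj hq hgood using hpiece
    have hov : ∀ y y', resM (chartSheaf V L) (pbFst (j y) (j y')) (q y) =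
        resM (chartSheaf V L) (pbSnd (j y) (j y')) (q y') := by
      intro y y'
      have himg : appM (chartMap V P L a) _ (resM (chartSheaf V L) (pbFst (j y) (j y')) (q y)) =
          appM (chartMap V P L a) _ (resM (chartSheaf V L) (pbSnd (j y) (j y')) (q y')) := by
        rw [← resM_appM, ← resM_appM, hq, hq, ← resM_comp, ← resM_comp, pb_condition]
      rcases hgood y with h | ⟨i, hi, hqi⟩
      · exact h _ (pbFst (j y) (j y')) himg
      rcases hgood y' with h | ⟨i', hi', hqi'⟩
      · exact h _ (pbSnd (j y) (j y')) himg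
      rw [hqi, hqi', ← resM_comp, ← resM_comp, topHom_uniq V (pbFst (j y) (j y') ≫ i),
        topHom_uniq V (pbSnd (j y) (j y') ≫ i')]
    obtain ⟨t, ht⟩ := exists_glue j (fun y => ⟨y, hyj y⟩) q hov
    have hts : appM (chartMap V P L a) B t = s := eq_of_cover j (fun y => ⟨y, hyj y⟩) fun y => by
      rw [resM_appM, ht, hq]
    obtain ⟨z, hz1, hz2⟩ := exists_glue_section V hg P L a V (a n) t hts
    refine ⟨z, hz1, ?_⟩
    show resM (chartSheaf V L) (diag V hg) (appM (glueChart V hg P L a) V z) = p.gen n
    rw [hz2]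
    refine eq_of_cover (fun y => pbFst (diag V hg) (j y)) (V := fun y => pb (diag V hg) (j y)) (fun x => ?_) fun y => ?_
    · obtain ⟨u, hu⟩ := hyj ((diag V hg).hom.left.left x)
      obtain ⟨w, hw, -⟩ := exists_pb_point (diag V hg) (j ((diag V hg).hom.left.left x)) x u hu.symm
      exact ⟨(diag V hg).hom.left.left x, w, hw⟩
    rw [← resM_comp, pb_condition, resM_comp, ht]
    rcases hgood y with h | ⟨i, hi, hqi⟩
    · refine h _ (pbSnd (diag V hg) (j y)) ?_
      rw [← resM_appM, hq, ← resM_comp, ← pb_condition, ← resM_appM, resM_comp, hsd]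
    · rw [hqi, ← resM_comp, topHom_uniq V (pbSnd (diag V hg) (j y) ≫ i), topHom_uniq V (pbFst (diag V hg) (j y))]
  choose lam hlam1 hlam2 using hex
  have hgen_add : ∀ n n', p.gen (n + n') = p.gen n + p.gen n' := fun n n' => by
    show (p.eta L).app _ (p.mkP L _) = _
    rw [TensorProduct.tmul_add]
    exact map_add ((p.eta L).app (op p.t)).hom _ _
  have hgen_smul : ∀ (c : R V) n, p.gen (c • n) = res (eps V) c • (show sectModEt (chartSheaf V L) (topObj V) from p.gen n) := fun c n => by
    show (p.eta L).app _ (p.mkP L ((1 : p.Rt p.t) ⊗ₜ (c • n))) = _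
    rw [← TensorProduct.smul_tmul]
    refine Eq.trans ?_ (LinearMap.map_smul ((p.eta L).app (op p.t)).hom _ _)
    refine congrArg ((p.eta L).app (op p.t)).hom ?_
    show p.mkP L ((c • (1 : p.Rt p.t)) ⊗ₜ[R V] n) = p.mkP L ((show p.Rt p.t from res (eps V) c) • ((1 : p.Rt p.t) ⊗ₜ[R V] n))
    rw [TensorProduct.smul_tmul', Algebra.smul_def, smul_eq_mul, mul_one, mul_one]
    congr 2
    show res (topHom V (topObj V)) (res (eps V) c) = _
    rw [show topHom V (topObj V) = 𝟙 _ from (topHom_uniq V (𝟙 _)).symm, res_id]
  have hval_add : ∀ z z', val (z + z') = val z + val z' := fun z z' => by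
    exact (congrArg (resM (chartSheaf V L) (diag V hg)) (map_add (appM (glueChart V hg P L a) V) z z')).trans
      (map_add (resM (chartSheaf V L) (diag V hg)) _ _)
  have hval_smul : ∀ (c : R V) z, val (c • z) = res (eps V) c • val z := fun c z => by
    refine (congrArg (resM (chartSheaf V L) (diag V hg)) (map_smul (appM (glueChart V hg P L a) V) c z)).trans ?_
    refine (resM_smul (diag V hg) ((bcRingHom hg).hom.app (op V) c : R B) _).trans ?_
    refine congrArg (fun r : R (topObj V) => r • val z) ?_
    exact res_diag V hg c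
  let f : L →ₗ[R V] sectModEt (glueMod V hg P L a) V :=
    { toFun := lam
      map_add' := fun n n' => huniq _ _ (by rw [map_add, hlam1, hlam1, hlam1, map_add])
        (by rw [hval_add, hlam2, hlam2, hlam2]; exact hgen_add n n')
      map_smul' := fun c n => huniq _ _ (by rw [RingHom.id_apply, map_smul, hlam1, hlam1, map_smul])
        (by rw [RingHom.id_apply, hval_smul, hlam2, hlam2]; exact hgen_smul c n) }
  refine ⟨LinearEquiv.ofBijective f ⟨fun n n' h => ?_, fun z => ?_⟩, hlam1⟩
  · have h' : p.gen n = p.gen n' := ((hlam2 n).symm.trans (congrArg val h)).trans (hlam2 n')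
    haveI : IsAffine p.t.obj.left.left := isAffine_topObj V
    have h'' := (p.eta_bijective L p.t).1 h'
    have e := congrArg (TensorProduct.lift (LinearMap.mk₂ (R V)
      (fun (r : p.Rt p.t) (m : L) => (res (epsInv V) r : R V) • m)
      (fun r r' m => by rw [← add_smul]; exact congrArg (· • m) (map_add (res (epsInv V)) r r'))
      (fun c r m => by
        rw [smul_smul]
        refine congrArg (· • m) ?_
        refine (map_mul (res (epsInv V)) _ _).trans (congrArg (fun x : R V => x * res (epsInv V) r) ?_)
        show res (epsInv V) (res (topHom V (topObj V)) (res (eps V) c)) = c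
        rw [show topHom V (topObj V) = 𝟙 _ from (topHom_uniq V (𝟙 _)).symm, res_id,
          show res (epsInv V) (res (eps V) c) = c by rw [← res_comp, epsInv_eps, res_id]])
      (fun r m m' => smul_add _ m m') (fun c r m => smul_comm _ c m))) h''
    simp only [TensorProduct.lift.tmul, LinearMap.mk₂_apply] at e
    rwa [show res (epsInv V) (1 : p.Rt p.t) = (1 : R V) from map_one (res (epsInv V)), one_smul, one_smul] at e
  · haveI : IsAffine p.t.obj.left.left := isAffine_topObj V
    obtain ⟨y, hy⟩ := (p.eta_bijective L p.t).2 (val z)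
    have hn : ∀ y : p.TN L p.t, ∃ n, (p.eta L).app (op p.t) (p.mkP L y) = p.gen n := by
      intro y
      induction y using TensorProduct.induction_on with
      | zero => exact ⟨0, by show _ = (p.eta L).app _ (p.mkP L _); rw [TensorProduct.tmul_zero]⟩
      | tmul r m =>
        refine ⟨(res (epsInv V) r : R V) • m, ?_⟩
        show _ = (p.eta L).app _ (p.mkP L ((1 : p.Rt p.t) ⊗ₜ ((res (epsInv V) r : R V) • m)))
        refine congrArg (fun x => (p.eta L).app (op p.t) (p.mkP L x)) ?_
        rw [← TensorProduct.smul_tmul, Algebra.smul_def, mul_one]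
        congr 1
        show r = res (topHom V (topObj V)) (res (eps V) (res (epsInv V) r))
        rw [show topHom V (topObj V) = 𝟙 _ from (topHom_uniq V (𝟙 _)).symm, res_id, ← res_comp, eps_epsInv, res_id]
      | add x x' hx hx' =>
        obtain ⟨n, hn⟩ := hx
        obtain ⟨n', hn'⟩ := hx'
        refine ⟨n + n', ?_⟩
        rw [hgen_add, ← hn, ← hn']
        exact map_add ((p.eta L).app (op p.t)).hom _ _
    obtain ⟨n, hn'⟩ := hn y
    have hv : val z = p.gen n := hy.symm.trans hn'
    refine ⟨n, huniq _ _ ?_ ((hlam2 n).trans hv.symm)⟩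
    have e := hcond z
    rw [hv, hgen] at e
    have hinj : Function.Injective (resM P (eps V)) := Function.LeftInverse.injective (g := resM P (epsInv V))
      fun s => by rw [← resM_comp, epsInv_eps, resM_id]
    exact (hlam1 n).trans (hinj e)

end Groth.Agent.EtQC
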