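import Groth.Agent.EtQC.ColimSect
import Groth.Agent.EtQC.GlueHom
import Groth.Agent.EtQC.FPPush
import Groth.Agent.EtQC.ProdCover
import Mathlib.CategoryTheory.Limits.Types.Filtered

/-!
Maps out of a module of finite presentation commute with filtered colimits on a qcqs space.
-/

set_option autoImplicit false
set_option linter.style.haveILetI false
set_option backward.isDefEq.respectTransparency false

universe u

noncomputable section

open CategoryTheory CategoryTheory.Limits AlgebraicGeometry Opposite AlgSp TensorProduct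

namespace Groth.Agent.EtQC

variable {S : Scheme.{u}} {X : Sp S} {E₀ : EtOver X} [IsAffine E₀.obj.left.left]

theorem extAt_comp {G M N : ModEt X} [G.IsQuasicoherent] (l : sectModEt G E₀ →ₗ[R E₀] sectModEt M E₀) (ψ : M ⟶ N)
    {W : EtOver X} [IsAffine W.obj.left.left] (b : W ⟶ E₀) :
    extAt ((appM ψ E₀).comp l) b = (appM ψ W).comp (extAt l b) :=
  (extAt_unique _ b _ fun n => by
    rw [LinearMap.comp_apply, extAt_res, ← resM_appM]
    rfl).symm

theorem extAt_appM {G M : ModEt X} [G.IsQuasicoherent] (φ : G ⟶ M)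
    {W : EtOver X} [IsAffine W.obj.left.left] (b : W ⟶ E₀) : extAt (appM φ E₀) b = appM φ W :=
  (extAt_unique _ b _ fun n => (resM_appM φ b n).symm).symm

theorem exists_linear_lift {J : Type (u + 1)} [SmallCategory J] [IsFiltered J] {D : J ⥤ ModEt X} {c : Cocone D}
    (hc : IsColimit c) {N : Type (u + 1)} [AddCommGroup N] [Module (R E₀) N] [Module.FinitePresentation (R E₀) N]
    (φ : N →ₗ[R E₀] sectModEt c.pt E₀) :
    ∃ (k : J) (l : N →ₗ[R E₀] sectModEt (D.obj k) E₀), ∀ y, appM (c.ι.app k) E₀ (l y) = φ y := by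
  classical
  obtain ⟨n, π, hπ⟩ := Module.Finite.exists_fin' (R E₀) N
  obtain ⟨t, ht⟩ := Module.FinitePresentation.fg_ker π hπ
  choose j m hm using fun i : Fin n => surj_colim_affine hc (φ (π (Pi.single i 1)))
  obtain ⟨k, hk⟩ := IsFiltered.sup_objs_exists (Finset.univ.image j)
  have f : ∀ i, j i ⟶ k := fun i => (hk (Finset.mem_image_of_mem j (Finset.mem_univ i))).some
  let l' : (Fin n → R E₀) →ₗ[R E₀] sectModEt (D.obj k) E₀ :=
    (Pi.basisFun (R E₀) (Fin n)).constr ℕ fun i => appM (D.map (f i)) E₀ (m i)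
  have hl' : ∀ v, appM (c.ι.app k) E₀ (l' v) = φ (π v) := by
    have e : ((appM (c.ι.app k) E₀).comp l' : (Fin n → R E₀) →ₗ[R E₀] sectModEt c.pt E₀) = φ.comp π := by
      refine (Pi.basisFun (R E₀) (Fin n)).ext fun i => ?_
      show appM (c.ι.app k) E₀ (l' _) = φ (π _)
      rw [Module.Basis.constr_basis, appM_ι_map, hm, Pi.basisFun_apply]
    exact fun v => LinearMap.congr_fun e v
  obtain ⟨k', g, hg⟩ := inj_colim_fin hc (E := fun _ : t => E₀) (fun v => l' v.1) fun v => by
    rw [hl' v.1]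
    have hv : π v.1 = 0 := LinearMap.mem_ker.mp (ht ▸ Submodule.subset_span v.2)
    rw [hv, map_zero]
  let l'' := (appM (D.map g) E₀).comp l'
  have hker : LinearMap.ker π ≤ LinearMap.ker l'' := by
    rw [← ht, Submodule.span_le]
    exact fun v hv => hg ⟨v, hv⟩
  refine ⟨k', ((LinearMap.ker π).liftQ l'' hker).comp (π.quotKerEquivOfSurjective hπ).symm.toLinearMap, fun y => ?_⟩
  obtain ⟨v, rfl⟩ := hπ y
  have e : (π.quotKerEquivOfSurjective hπ).symm (π v) = Submodule.Quotient.mk v := by
    rw [LinearEquiv.symm_apply_eq]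
    rfl
  rw [LinearMap.comp_apply, LinearEquiv.coe_coe, e, Submodule.liftQ_apply, ← hl' v]
  exact appM_ι_map c g (l' v)

theorem extAt_eq_of_pieces {G M : ModEt X} [G.IsQuasicoherent] (C : ProdCover E₀ E₀)
    (l : sectModEt G E₀ →ₗ[R E₀] sectModEt M E₀) (T : Set (sectModEt G E₀)) (hT : Submodule.span (R E₀) T = ⊤)
    (h : ∀ k, ∀ n ∈ T, haveI := C.isAffine k; extAt l (C.a k) (resM G (C.b k) n) = resM M (C.b k) (l n))
    (W : EtOver X) [IsAffine W.obj.left.left] (b b' : W ⟶ E₀) : extAt l b = extAt l b' := by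
  have h' : ∀ k n, haveI := C.isAffine k; extAt l (C.a k) (resM G (C.b k) n) = resM M (C.b k) (l n) := fun k n => by
    haveI := C.isAffine k
    have hn : n ∈ Submodule.span (R E₀) T := hT ▸ Submodule.mem_top
    induction hn using Submodule.span_induction with
    | mem x hx => exact h k x hx
    | zero => rw [map_zero, map_zero, map_zero, map_zero]
    | add x y _ _ hx hy => rw [map_add, map_add, map_add, map_add, hx, hy]
    | smul r x _ hx => rw [resM_smul, map_smul, map_smul, resM_smul, hx]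
  refine extAt_unique l b' _ fun n => ?_
  choose V g k c hV hx hca hcb using fun x : W.obj.left.left => C.factor b b' x
  refine eq_of_cover g (fun x => ⟨x, hx x⟩) fun x => ?_
  haveI := hV x
  haveI := C.isAffine (k x)
  rw [resM_extAt, ← hca x, ← resM_comp, ← resM_comp, ← hcb x, resM_comp, ← resM_extAt, h' (k x) n, ← resM_comp]

variable [QuasiSeparatedSpace ↥S] (hX : IsAlgSpace X) (hqs : IsQuasiSeparatedSp X)
  (hs : RepWith @Surjective E₀.obj.hom)

include hX hqs hs in
theorem preservesColimit_coyoneda (G : ModEt X) [G.IsFinitePresentation] {J : Type (u + 1)} [SmallCategory J]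
    [IsFiltered J] (D : J ⥤ ModEt X) : PreservesColimit D (coyoneda.obj (op G)) := by
  classical
  haveI := finitePresentation_sections_qc G E₀
  obtain ⟨t, ht⟩ := (Module.Finite.fg_top : (⊤ : Submodule (R E₀) (sectModEt G E₀)).FG)
  obtain ⟨C⟩ := nonempty_prodCover hX hqs E₀ E₀
  refine ⟨fun {c} hc => ⟨Types.FilteredColimit.isColimitOf' _ _ (fun φ => ?_) fun j α β h => ?_⟩⟩
  · let φ' : G ⟶ c.pt := φ
    obtain ⟨k, l, hl⟩ := exists_linear_lift hc (appM φ' E₀)
    have hcomp : ((appM (c.ι.app k) E₀).comp l : sectModEt G E₀ →ₗ[R E₀] sectModEt c.pt E₀) = appM φ' E₀ :=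
      LinearMap.ext hl
    haveI : ∀ p : Fin C.n × t, IsAffine (C.W p.1).obj.left.left := fun p => C.isAffine p.1
    obtain ⟨m, g, hg⟩ := inj_colim_fin hc (E := fun p : Fin C.n × t => C.W p.1)
      (fun p => extAt l (C.a p.1) (resM G (C.b p.1) p.2.1) - resM (D.obj k) (C.b p.1) (l p.2.1))
      (fun p => by
        have e1 := LinearMap.congr_fun (extAt_comp l (c.ι.app k) (C.a p.1)) (resM G (C.b p.1) p.2.1)
        have e2 : (extAt ((appM (c.ι.app k) E₀).comp l) (C.a p.1)) = appM φ' (C.W p.1) :=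
          (congrArg (fun q : sectModEt G E₀ →ₗ[R E₀] sectModEt c.pt E₀ => extAt q (C.a p.1)) hcomp).trans
            (extAt_appM φ' (C.a p.1))
        rw [map_sub, sub_eq_zero]
        refine (e1.symm.trans (LinearMap.congr_fun e2 _)).trans ?_
        refine ((resM_appM φ' (C.b p.1) p.2.1).symm.trans ?_).trans (resM_appM (c.ι.app k) (C.b p.1) (l p.2.1))
        exact congrArg (resM c.pt (C.b p.1)) (hl p.2.1).symm)
    let l₁ := (appM (D.map g) E₀).comp l
    have hl₁ : ∀ (W : EtOver X) [IsAffine W.obj.left.left] (b b' : W ⟶ E₀), extAt l₁ b = extAt l₁ b' :=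
      extAt_eq_of_pieces C l₁ (t : Set (sectModEt G E₀)) ht fun i n hn => by
        haveI := C.isAffine i
        have := hg (i, ⟨n, hn⟩)
        rw [map_sub, sub_eq_zero] at this
        rw [extAt_comp, LinearMap.comp_apply, this, ← resM_appM]
        rfl
    obtain ⟨ψ, hψ⟩ := exists_hom_of_chart l₁ hX hs hl₁
    refine ⟨m, ψ, hom_ext_chart hX hs (LinearMap.ext fun y => ?_)⟩
    show appM φ' E₀ y = appM (c.ι.app m) E₀ (appM ψ E₀ y)
    rw [hψ, ← hl y]
    exact (appM_ι_map c g (l y)).symm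
  · let α' : G ⟶ D.obj j := α
    let β' : G ⟶ D.obj j := β
    obtain ⟨k, f, hf⟩ := inj_colim_fin hc (E := fun _ : t => E₀) (fun v => appM α' E₀ v.1 - appM β' E₀ v.1)
      fun v => by
        rw [map_sub, sub_eq_zero]
        exact congrArg (fun q : G ⟶ c.pt => appM q E₀ v.1) h
    refine ⟨k, f, ?_⟩
    show α' ≫ D.map f = β' ≫ D.map f
    refine hom_ext_chart hX hs (LinearMap.ext_on ht fun v hv => ?_)
    have := hf ⟨v, hv⟩
    rw [map_sub, sub_eq_zero] at this
    exact this

end Groth.Agent.EtQC
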