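import Groth.Agent.EtQC.Sub
import Mathlib.RingTheory.Smooth.IntegralClosure
import Mathlib.AlgebraicGeometry.Morphisms.Etale

/-!
Integral closure of the structure sheaf in a quasi-coherent algebra on the small etale site.
-/

set_option autoImplicit false
set_option linter.style.haveILetI false
set_option backward.isDefEq.respectTransparency false

universe u

noncomputable section

open CategoryTheory CategoryTheory.Limits AlgebraicGeometry Opposite AlgSp TensorProduct

namespace Groth.Agent.EtQC

variable {S : Scheme.{u}} {X : Sp S}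

/-- restriction between affine objects is smooth -/
theorem smooth_res {E E' : EtOver X} (g : E' ⟶ E) [IsAffine E.obj.left.left] [IsAffine E'.obj.left.left] :
    (res g).Smooth := by
  haveI : Etale g.hom.left.left := EtOver.etale_left g
  have h : g.hom.left.left.appTop.hom.Smooth :=
    HasRingHomProperty.appTop (P := @AlgebraicGeometry.Smooth) g.hom.left.left inferInstance
  exact RingHom.Smooth.comp (RingHom.Smooth.comp (RingHom.Smooth.of_bijective
    (f := (ULift.ringEquiv.{u, u + 1} : ULift.{u + 1} Γ(E.obj.left.left, ⊤) ≃+* _).toRingHom)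
    (ULift.ringEquiv.bijective)) h) (RingHom.Smooth.of_bijective
    (f := (ULift.ringEquiv.{u, u + 1} : ULift.{u + 1} Γ(E'.obj.left.left, ⊤) ≃+* _).symm.toRingHom)
    (ULift.ringEquiv.symm.bijective))

variable (A : EtSh X CommRingCat.{u + 1}) (φ : OEt X ⟶ A)

/-- the module of a sheaf of algebras -/
abbrev algMod : ModEt X :=
  (SheafOfModules.restrictScalars
      ((sheafCompose (etTop X) (forget₂ CommRingCat.{u + 1} RingCat.{u + 1})).map φ)).obj
    (SheafOfModules.unit ((sheafCompose (etTop X) (forget₂ CommRingCat.{u + 1} RingCat.{u + 1})).obj A))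

/-- the structure map -/
abbrev phiR (E : EtOver X) : R E →+* A.obj.obj (op E) := (φ.hom.app (op E)).hom

/-- restriction in the algebra -/
abbrev resA {E E' : EtOver X} (g : E' ⟶ E) : A.obj.obj (op E) →+* A.obj.obj (op E') := (A.obj.map g.op).hom

variable {A}

theorem phiR_res {E E' : EtOver X} (g : E' ⟶ E) (r : R E) :
    resA A g (phiR A φ E r) = phiR A φ E' (res g r) :=
  (congrArg (fun f : (OEt X).obj.obj (op E) ⟶ A.obj.obj (op E') => f.hom r) (φ.hom.naturality g.op)).symm

theorem isIntegralElem_resA {E E' : EtOver X} (g : E' ⟶ E) {x : A.obj.obj (op E)}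
    (hx : (phiR A φ E).IsIntegralElem x) : (phiR A φ E').IsIntegralElem (resA A g x) := by
  obtain ⟨p, hp, hpx⟩ := hx
  refine ⟨p.map (res g), hp.map _, ?_⟩
  rw [Polynomial.eval₂_map,
    show (phiR A φ E').comp (res g) = (resA A g).comp (phiR A φ E) from RingHom.ext fun r => (phiR_res φ g r).symm,
    ← Polynomial.hom_eval₂, hpx, map_zero]

/-- integral elements of the sections over an affine object -/
def intSub (E : EtOver X) : Submodule (R E) (sectModEt (algMod A φ) E) where
  carrier := {x | (phiR A φ E).IsIntegralElem (show A.obj.obj (op E) from x)}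
  add_mem' ha hb := RingHom.IsIntegralElem.add (f := phiR A φ E) ha hb
  zero_mem' := RingHom.isIntegralElem_zero (phiR A φ E)
  smul_mem' r _ hx := RingHom.IsIntegralElem.mul (f := phiR A φ E) (RingHom.isIntegralElem_map (phiR A φ E)) hx

theorem resM_algMod {E E' : EtOver X} (g : E' ⟶ E) (x : sectModEt (algMod A φ) E) :
    resM (algMod A φ) g x = (show sectModEt (algMod A φ) E' from resA A g (show A.obj.obj (op E) from x)) := rfl

variable [(algMod A φ).IsQuasicoherent]

theorem mem_span_of_isIntegralElem {E V : EtOver X} (g : V ⟶ E) [IsAffine E.obj.left.left]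
    [IsAffine V.obj.left.left] (y : sectModEt (algMod A φ) V) (hy : y ∈ intSub φ V) :
    y ∈ Submodule.span (R V) (resM (algMod A φ) g '' (intSub φ E : Set (sectModEt (algMod A φ) E))) := by
  letI : Algebra (R E) (A.obj.obj (op E)) := (phiR A φ E).toAlgebra
  letI : Algebra (Rg g) (A.obj.obj (op V)) := (phiR A φ V).toAlgebra
  letI : Algebra (R E) (A.obj.obj (op V)) := ((phiR A φ V).comp (res g)).toAlgebra
  haveI : IsScalarTower (R E) (Rg g) (A.obj.obj (op V)) := IsScalarTower.of_algebraMap_eq' rfl
  haveI : Algebra.Smooth (R E) (Rg g) := smooth_res g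
  let ρ : A.obj.obj (op E) →ₐ[R E] A.obj.obj (op V) := { resA A g with commutes' := phiR_res φ g }
  let ψ : Rg g ⊗[R E] A.obj.obj (op E) →ₐ[Rg g] A.obj.obj (op V) :=
    Algebra.TensorProduct.lift (Algebra.ofId _ _) ρ fun _ _ => Commute.all _ _
  let eF := (isBaseChange_res (M := algMod A φ) g).equiv
  let toM : Rg g ⊗[R E] A.obj.obj (op E) →+ Rg g ⊗[R E] sectModEt (algMod A φ) E :=
    TensorProduct.liftAddHom (AddMonoidHom.mk' (fun s => AddMonoidHom.mk' (fun b => s ⊗ₜ (show sectModEt (algMod A φ) E from b))
      fun a b => TensorProduct.tmul_add _ _ _) fun a b => AddMonoidHom.ext fun _ => TensorProduct.add_tmul _ _ _)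
      fun r s b => TensorProduct.smul_tmul r s (show sectModEt (algMod A φ) E from b)
  let ofM : Rg g ⊗[R E] sectModEt (algMod A φ) E →+ Rg g ⊗[R E] A.obj.obj (op E) :=
    TensorProduct.liftAddHom (AddMonoidHom.mk' (fun s => AddMonoidHom.mk' (fun b => s ⊗ₜ (show A.obj.obj (op E) from b))
      fun a b => TensorProduct.tmul_add _ _ _) fun a b => AddMonoidHom.ext fun _ => TensorProduct.add_tmul _ _ _)
      fun r s b => TensorProduct.smul_tmul r s (show A.obj.obj (op E) from b)
  have hψ : ∀ z, ψ z = (show A.obj.obj (op V) from eF (toM z)) := fun z => by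
    induction z using TensorProduct.induction_on with
    | zero => rw [map_zero, map_zero, map_zero]
    | tmul s b =>
      refine Eq.trans ?_ (congrArg (fun w => (show A.obj.obj (op V) from w)) (IsBaseChange.equiv_tmul _ s _).symm)
      rfl
    | add a b ha hb => rw [map_add, map_add, map_add, ha, hb]
  have hinj : Function.Injective ψ := fun a b hab => by
    have h2 : ∀ z, ofM (toM z) = z := fun z => by
      induction z using TensorProduct.induction_on with
      | zero => rw [map_zero, map_zero]
      | tmul s b => rfl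
      | add a b ha hb => rw [map_add, map_add, ha, hb]
    rw [← h2 a, ← h2 b]
    exact congrArg ofM (eF.injective ((hψ a).symm.trans (hab.trans (hψ b))))
  obtain ⟨z, hz⟩ : ∃ z, ψ z = (show A.obj.obj (op V) from y) := by
    refine ⟨ofM (eF.symm y), (hψ _).trans ?_⟩
    have h2 : ∀ z, toM (ofM z) = z := fun z => by
      induction z using TensorProduct.induction_on with
      | zero => rw [map_zero, map_zero]
      | tmul s b => rfl
      | add a b ha hb => rw [map_add, map_add, ha, hb]
    rw [h2, LinearEquiv.apply_symm_apply]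
  have hzi : IsIntegral (Rg g) z := (isIntegral_algHom_iff ψ hinj).1 (hz ▸ hy)
  obtain ⟨w, hw⟩ := (TensorProduct.toIntegralClosure_bijective_of_smooth (R := R E) (S := Rg g)
    (B := A.obj.obj (op E))).2 ⟨z, hzi⟩
  have hzw : z = (TensorProduct.toIntegralClosure (R E) (Rg g) (A.obj.obj (op E)) w).1 := (congrArg Subtype.val hw).symm
  rw [hzw] at hz
  clear hw hzw hzi hy
  revert y
  induction w using TensorProduct.induction_on with
  | zero =>
    intro y hz
    have : y = 0 := hz.symm.trans ((congrArg ψ (congrArg Subtype.val (map_zero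
      (TensorProduct.toIntegralClosure (R E) (Rg g) (A.obj.obj (op E)))))).trans (map_zero ψ))
    rw [this]
    exact Submodule.zero_mem _
  | tmul s b =>
    intro y hz
    have : y = (show R V from s) • resM (algMod A φ) g (show sectModEt (algMod A φ) E from b.1) :=
      hz.symm.trans (Algebra.TensorProduct.lift_tmul _ _ _ s b.1)
    rw [this]
    exact Submodule.smul_mem _ _ (Submodule.subset_span ⟨_, b.2, rfl⟩)
  | add a b ha hb =>
    intro y hz
    have : y = (show sectModEt (algMod A φ) V from ψ (TensorProduct.toIntegralClosure (R E) (Rg g) (A.obj.obj (op E)) a).1) +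
        (show sectModEt (algMod A φ) V from ψ (TensorProduct.toIntegralClosure (R E) (Rg g) (A.obj.obj (op E)) b).1) :=
      hz.symm.trans ((congrArg ψ (congrArg Subtype.val (map_add
        (TensorProduct.toIntegralClosure (R E) (Rg g) (A.obj.obj (op E))) a b))).trans (map_add ψ _ _))
    rw [this]
    exact Submodule.add_mem _ (ha _ rfl) (hb _ rfl)

/-- the family of integral elements -/
def intFam : SubFam (algMod A φ) where
  sub E _ := intSub φ E
  res_mem g _ _ _ hs := isIntegralElem_resA φ g hs
  le_span g hE hV _ hs := by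
    haveI := hE
    haveI := hV
    exact mem_span_of_isIntegralElem φ g _ hs

/-- sections integral on every affine object -/
def intRing (E : EtOver X) : Subring (A.obj.obj (op E)) where
  carrier := {s | ∀ (V : EtOver X), IsAffine V.obj.left.left → ∀ g : V ⟶ E, (phiR A φ V).IsIntegralElem (resA A g s)}
  add_mem' ha hb V hV g := by rw [map_add]; exact (ha V hV g).add _ (hb V hV g)
  zero_mem' V _ g := by rw [map_zero]; exact RingHom.isIntegralElem_zero _
  one_mem' V _ g := by rw [map_one]; exact RingHom.isIntegralElem_one _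
  mul_mem' ha hb V hV g := by rw [map_mul]; exact (ha V hV g).mul _ (hb V hV g)
  neg_mem' ha V hV g := by rw [map_neg]; exact (ha V hV g).neg _

theorem resA_comp {E E' E'' : EtOver X} (g : E' ⟶ E) (h : E'' ⟶ E') (s : A.obj.obj (op E)) :
    resA A (h ≫ g) s = resA A h (resA A g s) := by
  show (A.obj.map (g.op ≫ h.op)).hom s = _
  rw [CategoryTheory.Functor.map_comp]
  rfl

/-- the presheaf of integral sections -/
def intPre : (EtOver X)ᵒᵖ ⥤ CommRingCat.{u + 1} where
  obj E := CommRingCat.of (intRing φ E.unop)
  map {E E'} f := CommRingCat.ofHom ((resA A f.unop).restrict (intRing φ E.unop) (intRing φ E'.unop)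
    fun s hs V hV g => by rw [← resA_comp]; exact hs V hV _)
  map_id E := CommRingCat.hom_ext (RingHom.ext fun s => Subtype.ext
    (congrArg (fun f : A.obj.obj E ⟶ A.obj.obj E => f.hom s.1) (A.obj.map_id E)))
  map_comp {E E' E''} f g := CommRingCat.hom_ext (RingHom.ext fun s => Subtype.ext (resA_comp f.unop g.unop s.1))

theorem isSheaf_intPre : Presheaf.IsSheaf (etTop X) (intPre φ) := by
  refine (Presheaf.isSheaf_iff_isSheaf_forget (etTop X) _ (CategoryTheory.forget CommRingCat.{u + 1})).2 ?_
  have h := (Presheaf.isSheaf_iff_isSheaf_forget (etTop X) _ (CategoryTheory.forget AddCommGrpCat.{u + 1})).1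
    (intFam φ).toMod.isSheaf
  let e : (intPre φ ⋙ CategoryTheory.forget CommRingCat.{u + 1}) ≅
      ((intFam φ).toMod.val.presheaf ⋙ CategoryTheory.forget AddCommGrpCat.{u + 1}) :=
    NatIso.ofComponents (fun E => Equiv.toIso
      { toFun := fun x => (show ↥((intFam φ).objSub E.unop) from
          ⟨(show ↥(intRing φ E.unop) from x).1, (show ↥(intRing φ E.unop) from x).2⟩)
        invFun := fun x => (show ↥(intRing φ E.unop) from
          ⟨(show ↥((intFam φ).objSub E.unop) from x).1, (show ↥((intFam φ).objSub E.unop) from x).2⟩)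
        left_inv := fun _ => rfl
        right_inv := fun _ => rfl }) fun _ => rfl
  exact (Presheaf.isSheaf_of_iso_iff e).2 h

/-- the sheaf of integral sections -/
def intSh : EtSh X CommRingCat.{u + 1} := ⟨intPre φ, isSheaf_intPre φ⟩

/-- the inclusion -/
def intι : intSh φ ⟶ A :=
  ⟨{ app := fun E => CommRingCat.ofHom (intRing φ E.unop).subtype
     naturality := fun _ _ _ => rfl }⟩

/-- the structure map of the integral closure -/
def intφ : OEt X ⟶ intSh φ :=
  ⟨{ app := fun E => CommRingCat.ofHom ((phiR A φ E.unop).codRestrict (intRing φ E.unop) fun r V hV g => by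
        rw [phiR_res]; exact RingHom.isIntegralElem_map _)
     naturality := fun {E E'} f => CommRingCat.hom_ext (RingHom.ext fun r => Subtype.ext
        (phiR_res φ f.unop r).symm) }⟩

theorem isQuasicoherent_intSh : (algMod (intSh φ) (intφ φ)).IsQuasicoherent := by
  let i : algMod (intSh φ) (intφ φ) ≅ (intFam φ).toMod :=
    (SheafOfModules.fullyFaithfulForget _).preimageIso (PresheafOfModules.isoMk (fun E => LinearEquiv.toModuleIso
      (R := (OEtRing X).obj.obj E)
      (X₁ := ((algMod (intSh φ) (intφ φ)).val.obj E : Type (u + 1)))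
      (X₂ := ((intFam φ).toMod.val.obj E : Type (u + 1)))
      { toFun := fun x => (show ↥((intFam φ).objSub E.unop) from
          ⟨(show ↥(intRing φ E.unop) from x).1, (show ↥(intRing φ E.unop) from x).2⟩)
        map_add' := fun _ _ => rfl
        map_smul' := fun _ _ => rfl
        invFun := fun x => (show ↥(intRing φ E.unop) from
          ⟨(show ↥((intFam φ).objSub E.unop) from x).1, (show ↥((intFam φ).objSub E.unop) from x).2⟩)
        left_inv := fun _ => rfl
        right_inv := fun _ => rfl }) fun _ _ _ => rfl)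
  exact (SheafOfModules.isQuasicoherent (OEtRing X)).prop_of_iso i.symm (intFam φ).isQuasicoherent_toMod

theorem exists_integralClosure : ∃ (A' : EtSh X CommRingCat.{u + 1}) (ι : A' ⟶ A) (φ' : OEt X ⟶ A'),
    φ' ≫ ι = φ ∧ (∀ E : EtOver X, Function.Injective (ι.hom.app (op E))) ∧
    (∀ E : EtOver X, IsAffine E.obj.left.left → ∀ x : A.obj.obj (op E),
      x ∈ Set.range (ι.hom.app (op E)) ↔ (φ.hom.app (op E)).hom.IsIntegralElem x) ∧
    (algMod A' φ').IsQuasicoherent := by
  refine ⟨intSh φ, intι φ, intφ φ, ?_, fun E => Subtype.val_injective, fun E hE x => ?_, isQuasicoherent_intSh φ⟩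
  · exact ObjectProperty.hom_ext _ (NatTrans.ext (funext fun E => CommRingCat.hom_ext (RingHom.ext fun r => rfl)))
  · refine ⟨fun ⟨a, ha⟩ => ?_, fun h => ⟨⟨x, fun V hV g => isIntegralElem_resA φ g h⟩, rfl⟩⟩
    have h := a.2 E hE (𝟙 E)
    rw [← ha]
    refine (congrArg (phiR A φ E).IsIntegralElem ?_).mp h
    exact congrArg (fun f : A.obj.obj (op E) ⟶ A.obj.obj (op E) => f.hom a.1) (A.obj.map_id (op E))

end Groth.Agent.EtQC
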