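import Groth.Agent.EtQC.Site
import Mathlib.LinearAlgebra.TensorProduct.Tower

/-!
A module on the etale site against the base change of a module over an affine object: locally bijective
comparison maps are bijective (fpqc descent of elements).
-/

set_option autoImplicit false
set_option linter.style.haveILetI false
set_option backward.isDefEq.respectTransparency false

universe u

noncomputable section

open CategoryTheory CategoryTheory.Limits AlgebraicGeometry Opposite AlgSp TensorProduct

namespace Groth.Agent.EtQC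

variable {S : Scheme.{u}} {X : Sp S} {W V V' : EtOver X}

/-- the ring of `V` as an algebra over that of `W` -/
def Rg (_g : V ⟶ W) : Type (u + 1) := R V

instance (g : V ⟶ W) : CommRing (Rg g) := inferInstanceAs (CommRing (R V))
instance instAlgRg (g : V ⟶ W) : Algebra (R W) (Rg g) := RingHom.toAlgebra (res g)

theorem algebraMap_Rg (g : V ⟶ W) (a : R W) : algebraMap (R W) (Rg g) a = res g a := rfl

/-- restriction between the algebras -/
def resR {g : V ⟶ W} {k : V' ⟶ W} (h : V' ⟶ V) (w : h ≫ g = k) : Rg g →ₐ[R W] Rg k :=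
  { (res h : R V →+* R V') with
    commutes' := fun a => by
      subst w
      exact (res_comp g h a).symm }

theorem resR_apply {g : V ⟶ W} {k : V' ⟶ W} (h : V' ⟶ V) (w : h ≫ g = k) (a : Rg g) :
    resR h w a = res h a := rfl

variable (M : ModEt X)

/-- the sections over `V` as a module over both rings -/
def Mg (_g : V ⟶ W) : Type (u + 1) := sectModEt M V

instance (g : V ⟶ W) : AddCommGroup (Mg M g) := inferInstanceAs (AddCommGroup (sectModEt M V))
instance instModRgMg (g : V ⟶ W) : Module (Rg g) (Mg M g) := inferInstanceAs (Module (R V) (sectModEt M V))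
instance instModMg (g : V ⟶ W) : Module (R W) (Mg M g) := Module.compHom _ (algebraMap (R W) (Rg g))
instance (g : V ⟶ W) : IsScalarTower (R W) (Rg g) (Mg M g) :=
  IsScalarTower.of_algebraMap_smul fun _ _ => rfl

/-- restriction of sections, linearly -/
def resL (g : V ⟶ W) : sectModEt M W →ₗ[R W] Mg M g where
  toFun m := resM M g m
  map_add' := map_add (resM M g)
  map_smul' := resM_smul g

variable {M}

theorem resL_apply (g : V ⟶ W) (m : sectModEt M W) : resL M g m = resM M g m := rfl

variable {N : Type (u + 1)} [AddCommGroup N] [Module (R W) N] (φ : N →ₗ[R W] sectModEt M W)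

/-- the comparison map -/
def theta (g : V ⟶ W) : Rg g ⊗[R W] N →ₗ[Rg g] Mg M g :=
  LinearMap.liftBaseChange (Rg g) (resL M g ∘ₗ φ)

theorem theta_tmul (g : V ⟶ W) (b : Rg g) (n : N) : theta φ g (b ⊗ₜ n) = b • resL M g (φ n) :=
  LinearMap.liftBaseChange_tmul _ _ _ _

variable (N) in
/-- restriction of the base changes -/
def tmap {g : V ⟶ W} {k : V' ⟶ W} (h : V' ⟶ V) (w : h ≫ g = k) : Rg g ⊗[R W] N →+ Rg k ⊗[R W] N :=
  (LinearMap.rTensor N (resR h w).toLinearMap).toAddMonoidHom

theorem tmap_tmul {g : V ⟶ W} {k : V' ⟶ W} (h : V' ⟶ V) (w : h ≫ g = k) (b : Rg g) (n : N) :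
    tmap N h w (b ⊗ₜ n) = resR h w b ⊗ₜ n := rfl

theorem theta_tmap {g : V ⟶ W} {k : V' ⟶ W} (h : V' ⟶ V) (w : h ≫ g = k) (z : Rg g ⊗[R W] N) :
    theta φ k (tmap N h w z) = resM M h (theta φ g z) := by
  induction z using TensorProduct.induction_on with
  | zero => simp only [map_zero]
  | tmul b n =>
    rw [tmap_tmul, theta_tmul, theta_tmul]
    subst w
    refine Eq.trans ?_ (resM_smul h b (resL M g (φ n))).symm
    exact congrArg (resR h rfl b • ·) (resM_comp g h (φ n))
  | add a b ha hb => simp only [map_add, ha, hb]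

/-- every section is locally in the image -/
def LocSurj : Prop :=
  ∀ {V : EtOver X} (g : V ⟶ W) (s : sectModEt M V) (x : V.obj.left.left),
    ∃ (V' : EtOver X) (_ : IsAffine V'.obj.left.left) (h : V' ⟶ V),
      x ∈ Set.range h.hom.left.left ∧ ∃ z, theta φ (h ≫ g) z = resM M h s

/-- every relation holds locally -/
def LocInj : Prop :=
  ∀ {V : EtOver X} [IsAffine V.obj.left.left] (g : V ⟶ W) (z : Rg g ⊗[R W] N), theta φ g z = 0 →
    ∀ x : V.obj.left.left, ∃ (V' : EtOver X) (_ : IsAffine V'.obj.left.left) (h : V' ⟶ V),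
      x ∈ Set.range h.hom.left.left ∧ tmap N h rfl z = (0 : Rg (h ≫ g) ⊗[R W] N)

theorem flat_Rg {g : V ⟶ W} {k : V' ⟶ W} (h : V' ⟶ V) (w : h ≫ g = k) [IsAffine V.obj.left.left]
    [IsAffine V'.obj.left.left] :
    letI : Algebra (Rg g) (Rg k) := (resR h w).toRingHom.toAlgebra
    Module.Flat (Rg g) (Rg k) :=
  flat_res h

theorem theta_injective (hi : LocInj φ) [IsAffine V.obj.left.left] (g : V ⟶ W) :
    Function.Injective (theta φ g) := by
  refine (injective_iff_map_eq_zero (theta φ g)).mpr fun z hz => ?_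
  obtain ⟨n, V', h, hV', hc, hP⟩ := exists_finite_cover (W := V)
    (fun V' h => tmap N h rfl z = (0 : Rg (h ≫ g) ⊗[R W] N)) (fun x => by
      obtain ⟨V', hV', h, hx, he⟩ := hi g z hz x
      exact ⟨V', h, hV', hx, he⟩)
  letI : ∀ i, Algebra (Rg g) (Rg (h i ≫ g)) := fun i => (resR (h i) rfl).toRingHom.toAlgebra
  haveI : ∀ i, IsScalarTower (R W) (Rg g) (Rg (h i ≫ g)) := fun i =>
    IsScalarTower.of_algebraMap_eq' (resR (h i) rfl).comp_algebraMap.symm
  haveI : ∀ i, Module.Flat (Rg g) (Rg (h i ≫ g)) := fun i => by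
    have := hV' i
    exact flat_Rg (h i) rfl
  have hB : JointlyFF (A := Rg g) (fun i => Rg (h i ≫ g)) := by
    letI : ∀ i, Algebra (R V) (R (V' i)) := fun i => (res (h i)).toAlgebra
    exact jointlyFF_res h hc fun i a => rfl
  refine eq_zero_of_one_tmul (A := Rg g) (fun i => Rg (h i ≫ g)) hB z fun i => ?_
  apply (AlgebraTensorModule.cancelBaseChange (R W) (Rg g) (Rg g) (Rg (h i ≫ g)) N).injective
  rw [map_zero]
  refine Eq.trans ?_ (hP i)
  have key : ∀ z' : Rg g ⊗[R W] N,
      AlgebraTensorModule.cancelBaseChange (R W) (Rg g) (Rg g) (Rg (h i ≫ g)) N ((1 : Rg (h i ≫ g)) ⊗ₜ z') =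
        tmap N (h i) rfl z' := by
    intro z'
    induction z' using TensorProduct.induction_on with
    | zero => simp
    | tmul b n =>
      rw [AlgebraTensorModule.cancelBaseChange_tmul, tmap_tmul, Algebra.smul_def, mul_one]
      rfl
    | add a b ha hb => rw [tmul_add, map_add, map_add, ha, hb]
  exact key z

theorem theta_surjective (hs : LocSurj φ) (hi : LocInj φ) [IsAffine V.obj.left.left] (g : V ⟶ W) :
    Function.Surjective (theta φ g) := by
  intro s
  obtain ⟨n, V', h, hV', hc, hP⟩ := exists_finite_cover (W := V)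
    (fun V' h => ∃ z, theta φ (h ≫ g) z = resM M h s) (fun x => by
      obtain ⟨V', hV', h, hx, he⟩ := hs g s x
      exact ⟨V', h, hV', hx, he⟩)
  choose z hz using hP
  letI : ∀ i, Algebra (Rg g) (Rg (h i ≫ g)) := fun i => (resR (h i) rfl).toRingHom.toAlgebra
  haveI : ∀ i, IsScalarTower (R W) (Rg g) (Rg (h i ≫ g)) := fun i =>
    IsScalarTower.of_algebraMap_eq' (resR (h i) rfl).comp_algebraMap.symm
  haveI : ∀ i, Module.Flat (Rg g) (Rg (h i ≫ g)) := fun i => by
    have := hV' i
    exact flat_Rg (h i) rfl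
  have hB : JointlyFF (A := Rg g) (fun i => Rg (h i ≫ g)) := by
    letI : ∀ i, Algebra (R V) (R (V' i)) := fun i => (res (h i)).toAlgebra
    exact jointlyFF_res h hc fun i a => rfl
  let d : ∀ i, Rg g ⊗[R W] N →ₗ[Rg g] Rg (h i ≫ g) ⊗[R W] N := fun i =>
    AlgebraTensorModule.map (Algebra.linearMap (Rg g) (Rg (h i ≫ g))) LinearMap.id
  have hd : ∀ i z', d i z' = tmap N (h i) rfl z' := fun i z' => by
    induction z' using TensorProduct.induction_on with
    | zero => simp
    | tmul b n => rfl
    | add a b ha hb => rw [map_add, map_add, ha, hb]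
  let k : ∀ i j, pb (h i) (h j) ⟶ W := fun i j => pbFst (h i) (h j) ≫ h i ≫ g
  have wk : ∀ i j, pbSnd (h i) (h j) ≫ h j ≫ g = k i j := fun i j => by
    simp only [k, ← Category.assoc, pb_condition]
  let r₁ : ∀ i j, Rg (h i ≫ g) ⊗[R W] N →+ Rg (k i j) ⊗[R W] N := fun i j => tmap N (pbFst (h i) (h j)) rfl
  let r₂ : ∀ i j, Rg (h j ≫ g) ⊗[R W] N →+ Rg (k i j) ⊗[R W] N := fun i j =>
    tmap N (pbSnd (h i) (h j)) (wk i j)
  have hΦ : ∀ i j, ∃ Φ : Rg (h i ≫ g) ⊗[Rg g] (Rg (h j ≫ g) ⊗[R W] N) →+ Rg (k i j) ⊗[R W] N,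
      Function.Injective Φ ∧ ∀ b p, Φ (b ⊗ₜ p) = resR (pbFst (h i) (h j)) rfl b • r₂ i j p := by
    intro i j
    have := hV' i
    have := hV' j
    letI : Algebra (Rg (h i ≫ g)) (Rg (k i j)) := (resR (pbFst (h i) (h j)) rfl).toRingHom.toAlgebra
    letI : Algebra (Rg (h j ≫ g)) (Rg (k i j)) := (resR (pbSnd (h i) (h j)) (wk i j)).toRingHom.toAlgebra
    letI : Algebra (Rg g) (Rg (k i j)) :=
      ((algebraMap (Rg (h i ≫ g)) (Rg (k i j))).comp (algebraMap (Rg g) (Rg (h i ≫ g)))).toAlgebra
    haveI : IsScalarTower (Rg g) (Rg (h i ≫ g)) (Rg (k i j)) := IsScalarTower.of_algebraMap_eq' rfl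
    haveI : IsScalarTower (Rg g) (Rg (h j ≫ g)) (Rg (k i j)) := IsScalarTower.of_algebraMap_eq fun a => by
      show res (pbFst (h i) (h j)) (res (h i) a) = res (pbSnd (h i) (h j)) (res (h j) a)
      rw [← res_comp, ← res_comp, pb_condition]
    haveI : IsScalarTower (R W) (Rg (h j ≫ g)) (Rg (k i j)) :=
      IsScalarTower.of_algebraMap_eq' (resR (pbSnd (h i) (h j)) (wk i j)).comp_algebraMap.symm
    haveI : Algebra.IsPushout (Rg g) (Rg (h i ≫ g)) (Rg (h j ≫ g)) (Rg (k i j)) :=
      @isPushout_pb _ _ _ _ _ (h i) (h j) _ _ _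
        (show Algebra (R V) (R (V' i)) from (res (h i)).toAlgebra)
        (show Algebra (R V) (R (V' j)) from (res (h j)).toAlgebra)
        (show Algebra (R (V' i)) (R (pb (h i) (h j))) from (res (pbFst (h i) (h j))).toAlgebra)
        (show Algebra (R (V' j)) (R (pb (h i) (h j))) from (res (pbSnd (h i) (h j))).toAlgebra)
        (show Algebra (R V) (R (pb (h i) (h j))) from ((res (pbFst (h i) (h j))).comp (res (h i))).toAlgebra)
        (IsScalarTower.of_algebraMap_eq' (R := Rg g) (S := Rg (h i ≫ g)) (A := Rg (k i j)) rfl)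
        (inferInstanceAs (IsScalarTower (Rg g) (Rg (h j ≫ g)) (Rg (k i j))))
        (fun a => rfl) (fun a => rfl) (fun a => rfl) (fun a => rfl)
    let χ : Rg (h j ≫ g) ⊗[R W] N →ₗ[Rg (h j ≫ g)] Rg (k i j) ⊗[R W] N :=
      AlgebraTensorModule.map (Algebra.linearMap _ _) LinearMap.id
    have hχr : ∀ p, χ p = r₂ i j p := fun p => by
      induction p using TensorProduct.induction_on with
      | zero => simp
      | tmul b n => rfl
      | add a b ha hb => rw [map_add, map_add, ha, hb]
    have hχ : IsBaseChange (Rg (k i j)) χ :=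
      IsBaseChange.of_equiv (AlgebraTensorModule.cancelBaseChange (R W) (Rg (h j ≫ g)) (Rg (k i j))
        (Rg (k i j)) N) fun p => by
        induction p using TensorProduct.induction_on with
        | zero => simp
        | tmul b n =>
          rw [AlgebraTensorModule.cancelBaseChange_tmul, Algebra.smul_def, mul_one]
          rfl
        | add a b ha hb => rw [tmul_add, map_add, map_add, ha, hb]
    let Φ : Rg (h i ≫ g) ⊗[Rg g] (Rg (h j ≫ g) ⊗[R W] N) →ₗ[Rg g] Rg (k i j) ⊗[R W] N :=
      TensorProduct.lift ((LinearMap.lsmul (Rg (k i j)) (Rg (k i j) ⊗[R W] N)).restrictScalars₁₂ (Rg g) (Rg g)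
        |>.compl₁₂ ((Algebra.linearMap (Rg (h i ≫ g)) (Rg (k i j))).restrictScalars (Rg g))
          (χ.restrictScalars (Rg g)))
    refine ⟨Φ.toAddMonoidHom, (bijective_lift_of_pushout χ hχ Φ.toAddMonoidHom fun b p => rfl).1, fun b p => ?_⟩
    rw [← hχr]
    rfl
  choose Φ hΦinj hΦdef using hΦ
  have hgen : ∀ i, Submodule.span (Rg (h i ≫ g)) (Set.range (d i)) = ⊤ := fun i => by
    refine eq_top_iff.mpr fun p _ => ?_
    induction p using TensorProduct.induction_on with
    | zero => exact Submodule.zero_mem _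
    | tmul b n =>
      have : b ⊗ₜ[R W] n = b • d i (1 ⊗ₜ n) := by
        rw [hd, tmap_tmul, map_one, TensorProduct.smul_tmul', smul_eq_mul, mul_one]
      rw [this]
      exact Submodule.smul_mem _ _ (Submodule.subset_span ⟨_, rfl⟩)
    | add a b ha hb => exact Submodule.add_mem _ (ha trivial) (hb trivial)
  have hr₁ : ∀ i j (b : Rg (h i ≫ g)) p, r₁ i j (b • p) = resR (pbFst (h i) (h j)) rfl b • r₁ i j p := by
    intro i j b p
    induction p using TensorProduct.induction_on with
    | zero => simp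
    | tmul c n =>
      simp only [r₁, TensorProduct.smul_tmul', smul_eq_mul, tmap_tmul, map_mul]
      rfl
    | add a c ha hc => simp only [smul_add, map_add, ha, hc]
  obtain ⟨c, hc'⟩ := exists_of_compat (fun i => Rg (h i ≫ g)) hB d hgen r₁ r₂ Φ hΦinj
    (fun i j b c => by
      rw [hΦdef, hr₁]
      congr 1
      simp only [hd, r₁, r₂]
      induction c using TensorProduct.induction_on with
      | zero => simp
      | tmul a n =>
        simp only [tmap_tmul]
        congr 1
        show res (pbSnd (h i) (h j)) (res (h j) a) = res (pbFst (h i) (h j)) (res (h i) a)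
        rw [← res_comp, ← res_comp, pb_condition]
      | add a c ha hc => simp only [map_add, ha, hc])
    (fun i j p => by rw [hΦdef, map_one, one_smul]) z (fun i j => by
      have := hV' i
      have := hV' j
      refine theta_injective φ hi (k i j) ?_
      simp only [r₁, r₂, theta_tmap, hz]
      rw [← resM_comp, ← resM_comp, pb_condition])
  refine ⟨c, eq_of_cover h hc fun i => ?_⟩
  rw [← theta_tmap φ (h i) rfl, ← hd, hc', hz]

theorem theta_bijective (hs : LocSurj φ) (hi : LocInj φ) [IsAffine V.obj.left.left] (g : V ⟶ W) :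
    Function.Bijective (theta φ g) :=
  ⟨theta_injective φ hi g, theta_surjective φ hs hi g⟩

end Groth.Agent.EtQC
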