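import Groth.Agent.EtQC.GenSite
import Groth.Agent.EtQC.Theta

/-!
A module with a presentation on the slice over an object of the etale site: on affine objects over it the sections
are obtained by base change.
-/

set_option autoImplicit false
set_option linter.style.haveILetI false
set_option backward.isDefEq.respectTransparency false

universe u

noncomputable section

open CategoryTheory CategoryTheory.Limits AlgebraicGeometry Opposite AlgSp TensorProduct

namespace Groth.Agent.EtQC

theorem lTensor_finsuppScalarRight_symm {A B N : Type (u + 1)} [CommRing A] [CommRing B] [Algebra A B]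
    [AddCommGroup N] [Module A N] {I : Type (u + 1)} [DecidableEq I] (L : (I →₀ A) →ₗ[A] N) (d : I →₀ B) :
    L.lTensor B ((TensorProduct.finsuppScalarRight A A B I).symm d) =
      d.sum fun i b => b ⊗ₜ[A] L (Finsupp.single i 1) := by
  induction d using Finsupp.induction_linear with
  | zero => simp
  | add a b ha hb =>
    rw [map_add, map_add, ha, hb]
    exact (Finsupp.sum_add_index' (fun i => by rw [zero_tmul]) (fun i a b => by rw [add_tmul])).symm
  | single i a =>
    rw [TensorProduct.finsuppScalarRight_symm_apply_single, LinearMap.lTensor_tmul,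
      Finsupp.sum_single_index (by rw [zero_tmul])]

variable {S : Scheme.{u}} {X : Sp S} {U : EtOver X}

/-- covering sieves of the slice, pointwise -/
theorem exists_affine_of_mem_over {W : EtOver X} (g : W ⟶ U) {T : Sieve (Over.mk g)}
    (hT : T ∈ (etTop X).over U (Over.mk g)) (x : W.obj.left.left) :
    ∃ (V : EtOver X) (_ : IsAffine V.obj.left.left) (h : V ⟶ W),
      x ∈ Set.range h.hom.left.left ∧ T (Over.homMk (U := Over.mk (h ≫ g)) h rfl) := by
  rw [GrothendieckTopology.mem_over_iff] at hT
  obtain ⟨V₀, h₀, hh₀, y, rfl⟩ := Groth.Agent.AlgSpLib.StalkPoint.surjective_of_mem_etTop hT x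
  obtain ⟨V, hV, h, hy⟩ := exists_affine_nhd V₀ y
  obtain ⟨z, rfl⟩ := hy
  refine ⟨V, hV, h ≫ h₀, ⟨z, rfl⟩, ?_⟩
  have := (Sieve.overEquiv _ T).downward_closed hh₀ h
  rw [Sieve.overEquiv_iff] at this
  exact this

/-- separatedness of a module on the slice -/
theorem eq_of_over {F : SheafOfModules.{u + 1} ((OEtRing X).over U)} {V : Over U} {T : Sieve V}
    (hT : T ∈ (etTop X).over U V) {s t : F.val.obj (op V)}
    (h : ∀ ⦃V' : Over U⦄ (f : V' ⟶ V), T f → F.val.map f.op s = F.val.map f.op t) : s = t :=
  ((isSheaf_iff_isSheaf_of_type _ _).1 ((Presheaf.isSheaf_iff_isSheaf_forget _ F.val.presheaf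
    (CategoryTheory.forget AddCommGrpCat.{u + 1})).1 F.isSheaf) T hT).isSeparatedFor.ext h

section Free

variable {I : Type (u + 1)}

variable (U) in
/-- the free module of the slice -/
abbrev Fr (I : Type (u + 1)) : SheafOfModules.{u + 1} ((OEtRing X).over U) :=
  SheafOfModules.free (R := (OEtRing X).over U) I

instance instModuleSlice (F : SheafOfModules.{u + 1} ((OEtRing X).over U)) (V : Over U) :
    Module (R V.left) (F.val.obj (op V)) :=
  inferInstanceAs (Module (((OEtRing X).over U).obj.obj (op V)) (F.val.obj (op V)))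

/-- basis of the free module of the slice -/
abbrev bas (i : I) (V : Over U) : (Fr U I).val.obj (op V) :=
  GenSite.basisSec (R := (OEtRing X).over U) i V

/-- a finite combination of the basis -/
def combo (V : Over U) : (I →₀ R V.left) →ₗ[R V.left] (Fr U I).val.obj (op V) :=
  Finsupp.linearCombination (R V.left) (fun i => bas i V)

theorem combo_single {V : Over U} (i : I) (a : R V.left) :
    combo V (Finsupp.single i a) = a • bas i V :=
  Finsupp.linearCombination_single _ _ _

theorem coord_combo (k : I) {V : Over U} (c : I →₀ R V.left) :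
    (GenSite.coord (R := (OEtRing X).over U) k).val.app (op V) (combo V c) = c k :=
  GenSite.coord_sum (R := (OEtRing X).over U) k V c

theorem map_combo {V V' : Over U} (f : V' ⟶ V) (c : I →₀ R V.left) :
    (Fr U I).val.map f.op (combo V c) = combo V' (c.mapRange (res f.left) (map_zero _)) := by
  induction c using Finsupp.induction_linear with
  | zero => rw [Finsupp.mapRange_zero]; exact (congrArg _ (map_zero (combo V))).trans ((map_zero _).trans (map_zero (combo V')).symm)
  | add a b ha hb =>
    rw [Finsupp.mapRange_add (map_add (res f.left))]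
    refine (congrArg _ (map_add (combo V) a b)).trans ?_
    refine (map_add ((Fr U I).val.map f.op).hom _ _).trans ?_
    exact (congrArg₂ (· + ·) ha hb).trans (map_add (combo V') _ _).symm
  | single i a =>
    rw [Finsupp.mapRange_single, combo_single, combo_single]
    refine (PresheafOfModules.map_smul (Fr U I).val f.op _ _).trans ?_
    exact congrArg _ (GenSite.map_basisSec i f)

theorem exists_combo_of_mem_span {V : Over U} (x : (Fr U I).val.obj (op V))
    (hx : x ∈ Submodule.span (((OEtRing X).over U).obj.obj (op V)) (Set.range fun i => bas i V)) :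
    ∃ c : I →₀ R V.left, combo V c = x := by
  obtain ⟨c, hc⟩ := Finsupp.mem_span_range_iff_exists_finsupp.mp hx
  exact ⟨c, (Finsupp.linearCombination_apply _ _).trans hc⟩

theorem app_bas_map {J : Type (u + 1)} (q : Fr U J ⟶ Fr U I) {V V' : Over U} (f : V' ⟶ V) (l : J)
    (d : I →₀ R V.left) (hd : q.val.app (op V) (bas l V) = combo V d) :
    q.val.app (op V') (bas l V') = combo V' (d.mapRange (res f.left) (map_zero _)) := by
  rw [← map_combo f d, ← hd]
  refine Eq.trans ?_ (PresheafOfModules.naturality_apply q.val f.op (bas l V))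
  exact congrArg (q.val.app (op V')) (GenSite.map_basisSec l f).symm

theorem coord_app_combo {J : Type (u + 1)} (q : Fr U J ⟶ Fr U I) (V : Over U) (b : J →₀ R V.left)
    (d : J → I →₀ R V.left) (hq : ∀ l, q.val.app (op V) (bas l V) = combo V (d l)) (i : I) :
    (GenSite.coord (R := (OEtRing X).over U) i).val.app (op V) (q.val.app (op V) (combo V b)) =
      ∑ l ∈ b.support, b l * d l i := by
  have e : q.val.app (op V) (combo V b) = combo V (Finsupp.linearCombination (R V.left) d b) := by
    induction b using Finsupp.induction_linear with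
    | zero =>
      rw [map_zero (Finsupp.linearCombination (R V.left) d)]
      exact (congrArg (q.val.app (op V)) (map_zero (combo V))).trans
        ((map_zero (q.val.app (op V)).hom).trans (map_zero (combo V)).symm)
    | add a c ha hc =>
      rw [map_add (Finsupp.linearCombination (R V.left) d)]
      refine (congrArg (q.val.app (op V)) (map_add (combo V) a c)).trans ?_
      refine ((map_add (q.val.app (op V)).hom _ _).trans ?_).trans (map_add (combo V) _ _).symm
      exact congrArg₂ (· + ·) ha hc
    | single l a =>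
      rw [Finsupp.linearCombination_single]
      refine (congrArg (q.val.app (op V)) (combo_single l a)).trans ?_
      refine ((map_smul (q.val.app (op V)).hom a (bas l V)).trans ?_).trans (map_smul (combo V) a (d l)).symm
      exact congrArg (a • ·) (hq l)
  rw [e, coord_combo, Finsupp.linearCombination_apply, Finsupp.sum, Finsupp.finsetSum_apply]
  rfl

/-- sections of the free module of the slice over an affine object are finite combinations -/
theorem free_sections_eq_span {W : EtOver X} [IsAffine W.obj.left.left] (g : W ⟶ U)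
    (r : (Fr U I).val.obj (op (Over.mk g))) : ∃ c : I →₀ R W, r = combo (Over.mk g) c := by
  classical
  obtain ⟨T, hT, hspan⟩ := GenSite.free_locally r
  obtain ⟨n, V, h, hV, hc, hP⟩ := exists_finite_cover (W := W)
    (fun V h => T.arrows (Over.homMk (U := Over.mk (h ≫ g)) h rfl)) (fun x => by
      obtain ⟨V, hV, h, hx, ht⟩ := exists_affine_of_mem_over g hT x
      exact ⟨V, h, hV, hx, ht⟩)
  let κ : I → R W := fun k => (GenSite.coord (R := (OEtRing X).over U) k).val.app (op (Over.mk g)) r
  have hκ : ∀ ⦃V' : Over U⦄ (f : V' ⟶ Over.mk g) (d : I →₀ R V'.left),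
      combo V' d = (Fr U I).val.map f.op r → ∀ k, d k = res f.left (κ k) := by
    intro V' f d hd k
    refine (coord_combo k d).symm.trans ((congrArg _ hd).trans ?_)
    exact PresheafOfModules.naturality_apply (GenSite.coord (R := (OEtRing X).over U) k).val f.op r
  have hcomb : ∀ a, ∃ c : I →₀ R (V a), ∀ k, c k = res (h a) (κ k) := fun a => by
    obtain ⟨c, hc⟩ := exists_combo_of_mem_span _ (hspan (Over.homMk (U := Over.mk (h a ≫ g)) (V := Over.mk g) (h a) rfl) (hP a))
    exact ⟨c, fun k => hκ _ c hc k⟩
  choose c hc' using hcomb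
  have hfin : {k | κ k ≠ 0}.Finite := by
    refine ((Finset.univ.biUnion fun a => (c a).support).finite_toSet).subset fun k hk => ?_
    by_contra hk'
    refine hk (eq_of_cover (M := unitModEt X) h hc fun a => ?_)
    show res (h a) (κ k) = res (h a) 0
    rw [map_zero, ← hc' a k]
    by_contra hne
    exact hk' (Finset.mem_coe.mpr (Finset.mem_biUnion.mpr ⟨a, Finset.mem_univ a, Finsupp.mem_support_iff.mpr hne⟩))
  refine ⟨Finsupp.ofSupportFinite κ hfin, eq_of_over hT fun V' f hf => ?_⟩
  obtain ⟨d, hd⟩ := exists_combo_of_mem_span _ (hspan f hf)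
  refine hd.symm.trans (Eq.trans ?_ (map_combo f _).symm)
  congr 1
  exact Finsupp.ext fun k => by rw [hκ f d hd k, Finsupp.mapRange_apply]; rfl

end Free

variable {M : ModEt X} (P : (M.over U).Presentation)

/-- a generator on an object over `U` -/
def gen {W : EtOver X} (g : W ⟶ U) (i : P.generators.I) : sectModEt M W :=
  P.generators.π.val.app (op (Over.mk g)) (bas i (Over.mk g))

theorem resM_gen {W V : EtOver X} (g : W ⟶ U) (k : V ⟶ W) (i : P.generators.I) :
    resM M k (gen P g i) = gen P (k ≫ g) i := by
  let f : Over.mk (k ≫ g) ⟶ Over.mk g := Over.homMk k rfl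
  refine (PresheafOfModules.naturality_apply P.generators.π.val f.op (bas i (Over.mk g))).symm.trans ?_
  exact congrArg (P.generators.π.val.app (op (Over.mk (k ≫ g)))) (GenSite.map_basisSec i f)

theorem pi_combination {W : EtOver X} (g : W ⟶ U) (c : P.generators.I →₀ R W) :
    P.generators.π.val.app (op (Over.mk g)) (combo (Over.mk g) c) =
    Finsupp.linearCombination (R W) (gen P g) c := by
  induction c using Finsupp.induction_linear with
  | zero =>
    rw [map_zero (Finsupp.linearCombination (R W) (gen P g))]
    exact (congrArg (P.generators.π.val.app (op (Over.mk g))) (map_zero (combo (Over.mk g)))).trans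
      (map_zero (P.generators.π.val.app (op (Over.mk g))).hom)
  | add a b ha hb =>
    rw [map_add (Finsupp.linearCombination (R W) (gen P g))]
    refine (congrArg (P.generators.π.val.app (op (Over.mk g))) (map_add (combo (Over.mk g)) a b)).trans
      ((map_add (P.generators.π.val.app (op (Over.mk g))).hom _ _).trans ?_)
    exact congrArg₂ (· + ·) ha hb
  | single i a =>
    rw [Finsupp.linearCombination_single]
    refine (congrArg _ (combo_single (V := Over.mk g) i a)).trans ?_
    exact map_smul (P.generators.π.val.app (op (Over.mk g))).hom a (bas i (Over.mk g))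

/-- the span of the generators over `W` -/
def gensp {W : EtOver X} (g : W ⟶ U) : Submodule (R W) (sectModEt M W) :=
  LinearMap.range (Finsupp.linearCombination (R W) (gen P g))

theorem locSurj_gensp {W : EtOver X} (g : W ⟶ U) : LocSurj (gensp P g).subtype := by
  intro V k s x
  obtain ⟨T, hT, hlift⟩ := GenSite.epi_locally P.generators.π (V := Over.mk (k ≫ g)) s
  obtain ⟨V₁, hV₁, h₁, ⟨y, rfl⟩, ht⟩ := exists_affine_of_mem_over (k ≫ g) hT x
  obtain ⟨m, hm⟩ := hlift _ ht
  obtain ⟨c, rfl⟩ := free_sections_eq_span (h₁ ≫ k ≫ g) m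
  replace hm : Finsupp.linearCombination (R V₁) (gen P (h₁ ≫ k ≫ g)) c = resM M h₁ s :=
    (pi_combination P _ c).symm.trans hm
  refine ⟨V₁, hV₁, h₁, ⟨y, rfl⟩, c.sum fun i a => (a : Rg (h₁ ≫ k)) ⊗ₜ[R W] (⟨gen P g i, ⟨Finsupp.single i 1,
    by rw [Finsupp.linearCombination_single, one_smul]⟩⟩ : gensp P g), ?_⟩
  rw [← hm, Finsupp.linearCombination_apply, Finsupp.sum, Finsupp.sum, map_sum]
  refine Finset.sum_congr rfl fun i _ => ?_
  rw [theta_tmul]
  show (c i) • resM M (h₁ ≫ k) (gen P g i) = _
  rw [resM_gen, Category.assoc]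

/-- a vanishing combination of generators is locally a combination of relations with coefficients over `W` -/
theorem exists_coeffs {W V : EtOver X} [IsAffine W.obj.left.left] [IsAffine V.obj.left.left] (g : W ⟶ U) (k : V ⟶ W)
    (c : P.generators.I →₀ R V) (h0 : Finsupp.linearCombination (R V) (gen P (k ≫ g)) c = 0)
    (x : V.obj.left.left) :
    ∃ (V₁ : EtOver X) (_ : IsAffine V₁.obj.left.left) (h : V₁ ⟶ V) (_ : x ∈ Set.range h.hom.left.left)
      (b : P.relations.I →₀ R V₁) (d : P.relations.I → P.generators.I →₀ R W),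
      (∀ l, Finsupp.linearCombination (R W) (gen P g) (d l) = 0) ∧
        ∀ i, res h (c i) = ∑ l ∈ b.support, b l * res (h ≫ k) (d l i) := by
  have hz : P.generators.π.val.app (op (Over.mk (k ≫ g))) (combo (Over.mk (k ≫ g)) c) = 0 :=
    (pi_combination P (k ≫ g) c).trans h0
  have hk := GenSite.exists_kernel_lift (V := Over.mk (k ≫ g)) P.generators.π _ hz
  obtain ⟨m, hm⟩ := hk
  haveI hepi : Epi P.relations.π := P.relations.epi
  have hh : ∃ T ∈ (etTop X).over U (Over.mk (k ≫ g)), ∀ ⦃V' : Over U⦄ (f : V' ⟶ Over.mk (k ≫ g)), T.arrows f →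
      ∃ y : (Fr U P.relations.I).val.obj (op V'),
        P.relations.π.val.app (op V') y = (kernel P.generators.π).val.map f.op m :=
    GenSite.epi_locally (V := Over.mk (k ≫ g)) P.relations.π m
  obtain ⟨T, hT, hlift⟩ := hh
  have hw := @exists_affine_of_mem_over _ _ U V (k ≫ g) T hT x
  obtain ⟨V₁, hV₁, h, hx, ht⟩ := hw
  have hl := hlift _ ht
  obtain ⟨y, hy⟩ := hl
  have hb := free_sections_eq_span (h ≫ k ≫ g) y
  obtain ⟨b, rfl⟩ := hb
  let ρ := P.relations.π ≫ kernel.ι P.generators.π
  have hd : ∀ l, ∃ d : P.generators.I →₀ R W,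
      ρ.val.app (op (Over.mk g)) (bas l (Over.mk g)) = combo (Over.mk g) d := fun l =>
    free_sections_eq_span g _
  choose d hd using hd
  refine ⟨V₁, hV₁, h, hx, b, d, fun l => ?_, fun i => ?_⟩
  · refine (pi_combination P g (d l)).symm.trans ?_
    rw [← hd]
    have e : ρ ≫ P.generators.π = 0 := by simp only [ρ, Category.assoc, kernel.condition, comp_zero]
    exact congrArg (fun q : Fr U P.relations.I ⟶ M.over U => q.val.app (op (Over.mk g)) (bas l (Over.mk g))) e
  · have hmc := hm
    let f : Over.mk (h ≫ k ≫ g) ⟶ Over.mk (k ≫ g) := Over.homMk h rfl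
    let f' : Over.mk (h ≫ k ≫ g) ⟶ Over.mk g := Over.homMk (h ≫ k) (Category.assoc _ _ _)
    have e2 := coord_app_combo ρ (Over.mk (h ≫ k ≫ g)) b (fun l => (d l).mapRange (res (h ≫ k)) (map_zero _))
      (fun l => app_bas_map ρ f' l (d l) (hd l)) i
    refine Eq.trans ?_ e2
    refine Eq.trans (coord_combo i (V := Over.mk (h ≫ k ≫ g)) (c.mapRange (res h) (map_zero _))).symm ?_
    refine congrArg ((GenSite.coord (R := (OEtRing X).over U) i).val.app (op (Over.mk (h ≫ k ≫ g)))) ?_
    refine (map_combo f c).symm.trans ?_
    refine (congrArg ((Fr U P.generators.I).val.map f.op) hmc.symm).trans ?_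
    refine (PresheafOfModules.naturality_apply (kernel.ι P.generators.π).val f.op m).symm.trans ?_
    exact congrArg ((kernel.ι P.generators.π).val.app (op (Over.mk (h ≫ k ≫ g)))) hy.symm

theorem sum_relations_eq_zero {A B N : Type (u + 1)} [CommRing A] [CommRing B] [Algebra A B] [AddCommGroup N]
    [Module A N] {I J : Type (u + 1)} (L : (I →₀ A) →ₗ[A] N) (c : I →₀ B) (b : J →₀ B) (d : J → I →₀ A)
    (hd : ∀ l, L (d l) = 0) (σ : B →+ B)
    (hc : ∀ i, σ (c i) = ∑ l ∈ b.support, b l * algebraMap A B (d l i)) :
    (c.sum fun i a => σ a ⊗ₜ[A] L (Finsupp.single i 1)) = 0 := by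
  classical
  let F₂ : Finset I := c.support ∪ b.support.biUnion fun l => (d l).support
  calc
    (c.sum fun i a => σ a ⊗ₜ[A] L (Finsupp.single i 1))
      = ∑ i ∈ F₂, (∑ l ∈ b.support, b l * algebraMap A B (d l i)) ⊗ₜ[A] L (Finsupp.single i 1) := by
        rw [Finsupp.sum]
        refine (Finset.sum_subset (s₂ := F₂) Finset.subset_union_left fun i _ hi => by
          rw [Finsupp.notMem_support_iff.mp hi, map_zero, zero_tmul]).trans ?_
        exact Finset.sum_congr rfl fun i _ => congrArg (· ⊗ₜ[A] _) (hc i)
    _ = ∑ l ∈ b.support, b l ⊗ₜ[A] L (∑ i ∈ F₂, Finsupp.single i (d l i)) := by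
        simp only [TensorProduct.sum_tmul, map_sum, TensorProduct.tmul_sum]
        rw [Finset.sum_comm]
        refine Finset.sum_congr rfl fun l _ => Finset.sum_congr rfl fun i _ => ?_
        rw [mul_comm, ← Algebra.smul_def, TensorProduct.smul_tmul, ← map_smul, Finsupp.smul_single_one]
    _ = 0 := Finset.sum_eq_zero fun l hl => by
        have e : ∑ i ∈ F₂, Finsupp.single i (d l i) = d l := by
          conv_rhs => rw [← Finsupp.sum_single (d l), Finsupp.sum]
          refine (Finset.sum_subset (fun i hi => ?_) fun i _ hi => ?_).symm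
          · exact Finset.mem_union_right _ (Finset.mem_biUnion.mpr ⟨l, hl, hi⟩)
          · rw [Finsupp.notMem_support_iff.mp hi, Finsupp.single_zero]
        rw [e, hd, tmul_zero]

theorem locInj_gensp {W : EtOver X} [IsAffine W.obj.left.left] (g : W ⟶ U) : LocInj (gensp P g).subtype := by
  classical
  intro V hV k z hz x
  let L := (Finsupp.linearCombination (R W) (gen P g)).rangeRestrict
  obtain ⟨z', rfl⟩ := LinearMap.lTensor_surjective (Rg k)
    ((Finsupp.linearCombination (R W) (gen P g)).surjective_rangeRestrict) z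
  obtain ⟨c, rfl⟩ := (TensorProduct.finsuppScalarRight (R W) (R W) (Rg k) P.generators.I).symm.surjective z'
  have h0 : Finsupp.linearCombination (R V) (gen P (k ≫ g)) c = 0 := by
    refine Eq.trans ?_ hz
    rw [lTensor_finsuppScalarRight_symm]
    refine (Finsupp.linearCombination_apply _ _).trans ?_
    refine Eq.trans ?_ (map_finsuppSum (theta (gensp P g).subtype k) c _).symm
    refine Finset.sum_congr rfl fun i _ => ?_
    refine Eq.trans ?_ (theta_tmul _ k (c i) (L (Finsupp.single i 1))).symm
    refine congrArg ((c i : R V) • ·) ?_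
    refine (resM_gen P g k i).symm.trans ?_
    refine congrArg (resM M k) ?_
    exact ((Finsupp.linearCombination_single _ _ _).trans (one_smul _ _)).symm
  obtain ⟨V₁, hV₁, h, hx, b, d, hd, hcoef⟩ := exists_coeffs P g k c h0 x
  refine ⟨V₁, hV₁, h, hx, ?_⟩
  rw [lTensor_finsuppScalarRight_symm]
  refine (map_finsuppSum (tmap (gensp P g) h rfl) c _).trans ?_
  have key := sum_relations_eq_zero (A := R W) (B := Rg (h ≫ k)) L
    (c.mapRange (resR h rfl) (map_zero _)) b d (fun l => Subtype.ext (hd l)) (AddMonoidHom.id _)
    (fun i => (congrArg _ (Finsupp.mapRange_apply (hf := map_zero (resR h rfl)))).trans (hcoef i))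
  rw [Finsupp.sum_mapRange_index (fun i => by rw [map_zero, zero_tmul])] at key
  exact key

theorem isBaseChange_of_presentation {W V : EtOver X} [IsAffine W.obj.left.left] [IsAffine V.obj.left.left]
    (g : W ⟶ U) (P : (M.over U).Presentation) (k : V ⟶ W) : IsBaseChange (Rg k) (resL M k) := by
  have hW := theta_bijective (gensp P g).subtype (locSurj_gensp P g) (locInj_gensp P g) (𝟙 W)
  have hV := theta_bijective (gensp P g).subtype (locSurj_gensp P g) (locInj_gensp P g) k
  have htop : Function.Bijective (gensp P g).subtype := by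
    refine ⟨(gensp P g).injective_subtype, fun m => ?_⟩
    obtain ⟨z, hz⟩ := hW.2 m
    refine ⟨⟨m, ?_⟩, rfl⟩
    rw [← hz]
    induction z using TensorProduct.induction_on generalizing m with
    | zero => rw [map_zero]; exact Submodule.zero_mem _
    | tmul b n =>
      rw [theta_tmul]
      show (b : R W) • resM M (𝟙 W) (n : sectModEt M W) ∈ _
      rw [resM_id]
      exact Submodule.smul_mem _ _ n.2
    | add a b ha hb =>
      rw [map_add]
      exact Submodule.add_mem _ (ha _ rfl) (hb _ rfl)
  refine IsBaseChange.of_equiv ((AlgebraTensorModule.congr (LinearEquiv.refl (Rg k) (Rg k))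
    (LinearEquiv.ofBijective _ htop).symm).trans (LinearEquiv.ofBijective (theta (gensp P g).subtype k) hV))
    fun m => ?_
  show theta (gensp P g).subtype k ((1 : Rg k) ⊗ₜ (LinearEquiv.ofBijective _ htop).symm m) = resL M k m
  rw [theta_tmul, one_smul]
  exact congrArg (resL M k) ((LinearEquiv.ofBijective _ htop).apply_symm_apply m)

end Groth.Agent.EtQC
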