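import Groth.Agent.EtQC.NearEq
import Groth.Agent.EtQC.Coherent
import Groth.Agent.EtQC.Crit
import Groth.Agent.ElemSq.Step
import Groth.Prelude.Def_W4SpPerfMV

/-!
The Mayer-Vietoris sequence of direct images for an elementary distinguished square of objects of the etale site.
-/

set_option autoImplicit false
set_option linter.style.haveILetI false
set_option backward.isDefEq.respectTransparency false

universe u

noncomputable section

open CategoryTheory CategoryTheory.Limits AlgebraicGeometry Opposite AlgSp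

namespace Groth.Agent.EtQC

variable {S : Scheme.{u}} {X : Sp S}

theorem epi_of_locally_sect {A B : ModEt X} (p : A ⟶ B)
    (h : ∀ (W : EtOver X) (m : sectModEt B W) (x : W.obj.left.left), ∃ (V : EtOver X) (k : V ⟶ W),
      x ∈ Set.range k.hom.left.left ∧ ∃ a, appM p V a = resM B k m) : Epi p := by
  haveI : Sheaf.IsLocallySurjective ((SheafOfModules.toSheaf _).map p) := by
    refine ⟨fun {Z} m => ?_⟩
    refine Groth.Agent.AlgSpLib.StalkPoint.mem_etTop_of_jointly_surjective _ fun x => ?_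
    obtain ⟨V, k, hx, a, ha⟩ := h Z m x
    exact ⟨V, k, ⟨a, ha⟩, hx⟩
  haveI : Epi ((SheafOfModules.toSheaf _).map p) := (Sheaf.isLocallySurjective_iff_epi' _ _).mp inferInstance
  exact (SheafOfModules.toSheaf _).epi_of_epi_map ‹_›

theorem mono_of_injective_all {A B : ModEt X} (f : A ⟶ B) (h : ∀ W, Function.Injective (appM f W)) : Mono f := by
  haveI : Mono f.val := PresheafOfModules.mono_of_injective fun U => h U.unop
  exact (SheafOfModules.forget _).mono_of_mono_map ‹_›

theorem shortExact_of_sections (T : ShortComplex (ModEt X)) (hf : ∀ W, Function.Injective (appM T.f W))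
    (hmid : ∀ W (y : sectModEt T.X₂ W), appM T.g W y = 0 → ∃ a, appM T.f W a = y)
    (hepi : Epi T.g) : T.ShortExact := by
  let l : T.X₁ ⟶ kernel T.g := kernel.lift T.g T.f T.zero
  have hl : l ≫ kernel.ι T.g = T.f := kernel.lift_ι _ _ _
  have hbij : ∀ W, Function.Bijective (appM l W) := by
    refine fun W => ⟨fun a a' e => hf W ?_, fun k => ?_⟩
    · exact ((congrArg (fun q : T.X₁ ⟶ T.X₂ => appM q W a) hl).symm.trans (congrArg (appM (kernel.ι T.g) W) e)).trans
        (congrArg (fun q : T.X₁ ⟶ T.X₂ => appM q W a') hl)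
    · have h0 : appM T.g W (appM (kernel.ι T.g) W k) = 0 :=
        (congrArg (fun q : kernel T.g ⟶ T.X₃ => appM q W k) (kernel.condition T.g)).trans rfl
      obtain ⟨a, ha⟩ := hmid W _ h0
      haveI : Mono (kernel.ι T.g).val :=
        inferInstanceAs (Mono ((SheafOfModules.forget _).map (kernel.ι T.g)))
      exact ⟨a, app_injective_of_mono (kernel.ι T.g) W
        ((congrArg (fun q : T.X₁ ⟶ T.X₂ => appM q W a) hl).trans ha)⟩
  haveI : IsIso l := by
    haveI : IsIso l.val := by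
      haveI : IsIso ((PresheafOfModules.toPresheaf _).map l.val) := by
        rw [NatTrans.isIso_iff_isIso_app]
        exact fun W => (ConcreteCategory.isIso_iff_bijective _).2 (hbij W.unop)
      exact isIso_of_reflects_iso _ (PresheafOfModules.toPresheaf _)
    haveI : IsIso ((SheafOfModules.forget _).map l) := ‹_›
    exact isIso_of_reflects_iso _ (SheafOfModules.forget _)
  haveI := mono_of_injective_all T.f hf
  exact ShortComplex.ShortExact.mk' (ShortComplex.exact_of_f_is_kernel _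
    (IsLimit.ofIsoLimit (kernelIsKernel T.g) (Fork.ext (asIso l) hl).symm)) inferInstance hepi

theorem exists_prod_lift (U V : EtOver X) {Z : EtOver X} (a : Z ⟶ U) (b : Z ⟶ V) :
    ∃ e : Z ⟶ EtOver.prodObj U V, e ≫ EtOver.prodFst U V = a ∧ e ≫ EtOver.prodSnd U V = b := by
  obtain ⟨e, h₁, h₂⟩ := BinaryFan.IsLimit.lift' (EtOver.prodIsLimit U V) a b
  exact ⟨e, h₁, h₂⟩

theorem prodObj_hom_ext (U V : EtOver X) {Z : EtOver X} (e e' : Z ⟶ EtOver.prodObj U V)
    (h₁ : e ≫ EtOver.prodFst U V = e' ≫ EtOver.prodFst U V) (h₂ : e ≫ EtOver.prodSnd U V = e' ≫ EtOver.prodSnd U V) :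
    e = e' :=
  BinaryFan.IsLimit.hom_ext (EtOver.prodIsLimit U V) h₁ h₂

/-- the hypotheses of a square in terms of the site -/
structure SqData (U V : EtOver X) (A : Set (Points X)) : Prop where
  uniq : ∀ {W : EtOver X} (a b : W ⟶ U), a = b
  nearU : ∀ (W : EtOver X) (x : W.obj.left.left), Points.ofPt W.obj.hom x ∈ A →
    ∃ (W' : EtOver X) (j : W' ⟶ W), x ∈ Set.range j.hom.left.left ∧ Nonempty (W' ⟶ U)
  nearV : ∀ (W : EtOver X) (x : W.obj.left.left), Points.ofPt W.obj.hom x ∉ A →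
    ∃ (W' : EtOver X) (j : W' ⟶ W), x ∈ Set.range j.hom.left.left ∧ Nonempty (W' ⟶ V)
  nearEq : NearEq V A

variable {U V : EtOver X} {A : Set (Points X)} (F : ModEt X)

theorem mv_injective (D : SqData U V A) (W : EtOver X) (s s' : sectModEt F W)
    (hU : resM F (prod.snd : U ⨯ W ⟶ W) s = resM F (prod.snd : U ⨯ W ⟶ W) s')
    (hV : resM F (prod.snd : V ⨯ W ⟶ W) s = resM F (prod.snd : V ⨯ W ⟶ W) s') : s = s' := by
  have key : ∀ x : W.obj.left.left, ∃ (W' : EtOver X) (j : W' ⟶ W),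
      x ∈ Set.range j.hom.left.left ∧ resM F j s = resM F j s' := fun x => by
    by_cases hx : Points.ofPt W.obj.hom x ∈ A
    · obtain ⟨W', j, hj, ⟨a⟩⟩ := D.nearU W x hx
      refine ⟨W', j, hj, ?_⟩
      rw [← prod.lift_snd a j, resM_comp, resM_comp, hU]
    · obtain ⟨W', j, hj, ⟨a⟩⟩ := D.nearV W x hx
      refine ⟨W', j, hj, ?_⟩
      rw [← prod.lift_snd a j, resM_comp, resM_comp, hV]
  choose W' j hx h using key
  exact eq_of_cover j (fun x => ⟨x, hx x⟩) h

theorem mv_glue (D : SqData U V A) (W : EtOver X) (p : sectModEt F (U ⨯ W)) (q : sectModEt F (V ⨯ W))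
    (h : resM F (prod.map (EtOver.prodFst U V) (𝟙 W)) p = resM F (prod.map (EtOver.prodSnd U V) (𝟙 W)) q) :
    ∃ s : sectModEt F W, resM F (prod.snd : U ⨯ W ⟶ W) s = p ∧ resM F (prod.snd : V ⨯ W ⟶ W) s = q := by
  have mixed : ∀ {Z : EtOver X} (c : Z ⟶ U ⨯ W) (d : Z ⟶ V ⨯ W), c ≫ prod.snd = d ≫ prod.snd →
      resM F c p = resM F d q := fun {Z} c d e => by
    obtain ⟨l, hl₁, hl₂⟩ := exists_prod_lift U V (c ≫ prod.fst) (d ≫ prod.fst)
    let z : Z ⟶ EtOver.prodObj U V ⨯ W := prod.lift l (c ≫ prod.snd)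
    have hc : z ≫ prod.map (EtOver.prodFst U V) (𝟙 W) = c := by
      refine Limits.prod.hom_ext ?_ ?_ <;> simp [z, hl₁]
    have hd : z ≫ prod.map (EtOver.prodSnd U V) (𝟙 W) = d := by
      refine Limits.prod.hom_ext ?_ ?_ <;> simp [z, hl₂, e]
    rw [← hc, ← hd, resM_comp, resM_comp, h]
  have uu : ∀ {Z : EtOver X} (c c' : Z ⟶ U ⨯ W), c ≫ prod.snd = c' ≫ prod.snd → c = c' := fun c c' e =>
    Limits.prod.hom_ext (D.uniq _ _) e
  have vv : ∀ {Z : EtOver X} (c c' : Z ⟶ V ⨯ W), c ≫ prod.snd = c' ≫ prod.snd → resM F c q = resM F c' q :=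
    fun {Z} c c' e => by
      have key : ∀ x : Z.obj.left.left, ∃ (Z' : EtOver X) (j : Z' ⟶ Z),
          x ∈ Set.range j.hom.left.left ∧ resM F j (resM F c q) = resM F j (resM F c' q) := fun x => by
        by_cases hx : Points.ofPt Z.obj.hom x ∈ A
        · obtain ⟨Z', j, hj, ⟨a⟩⟩ := D.nearU Z x hx
          refine ⟨Z', j, hj, ?_⟩
          rw [← resM_comp, ← resM_comp, ← mixed (prod.lift a (j ≫ c ≫ prod.snd)) (j ≫ c) (by simp),
            ← mixed (prod.lift a (j ≫ c ≫ prod.snd)) (j ≫ c') (by simp [e])]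
        · obtain ⟨Z', j, -, hj, hjj⟩ := D.nearEq Z (c ≫ prod.fst) (c' ≫ prod.fst) x hx
          refine ⟨Z', j, hj, ?_⟩
          rw [← resM_comp, ← resM_comp, show j ≫ c = j ≫ c' from Limits.prod.hom_ext
            (by simpa using hjj) (by simp [e])]
      choose Z' j hx hh using key
      exact eq_of_cover j (fun x => ⟨x, hx x⟩) hh
  classical
  let piece : Bool → EtOver X := fun b => bif b then U ⨯ W else V ⨯ W
  let proj : ∀ b, piece b ⟶ W := fun b => match b with | true => prod.snd | false => prod.snd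
  let val : ∀ b, sectModEt F (piece b) := fun b => match b with | true => p | false => q
  have hcov : ∀ x : W.obj.left.left, ∃ b, x ∈ Set.range (proj b).hom.left.left := fun x => by
    by_cases hx : Points.ofPt W.obj.hom x ∈ A
    · obtain ⟨W', j, ⟨w, hw⟩, ⟨a⟩⟩ := D.nearU W x hx
      refine ⟨true, (prod.lift a j).hom.left.left w, ?_⟩
      rw [← hw]
      exact congrArg (fun k : W' ⟶ W => k.hom.left.left w) (prod.lift_snd a j)
    · obtain ⟨W', j, ⟨w, hw⟩, ⟨a⟩⟩ := D.nearV W x hx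
      refine ⟨false, (prod.lift a j).hom.left.left w, ?_⟩
      rw [← hw]
      exact congrArg (fun k : W' ⟶ W => k.hom.left.left w) (prod.lift_snd a j)
  obtain ⟨s, hs⟩ := exists_glue proj hcov val fun b b' => by
    have e := pb_condition (proj b) (proj b')
    cases b <;> cases b'
    · exact vv _ _ e
    · exact (mixed _ _ e.symm).symm
    · exact mixed _ _ e
    · rw [uu (pbFst (proj true) (proj true)) (pbSnd (proj true) (proj true)) e]
  exact ⟨s, hs true, hs false⟩

theorem mv_lift (D : SqData U V A) (W : EtOver X) (t : sectModEt F (EtOver.prodObj U V ⨯ W))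
    (x : W.obj.left.left) :
    ∃ (W' : EtOver X) (j : W' ⟶ W), x ∈ Set.range j.hom.left.left ∧
      ∃ (p : sectModEt F (U ⨯ W')) (q : sectModEt F (V ⨯ W')),
        resM F (prod.map (EtOver.prodFst U V) (𝟙 W')) p - resM F (prod.map (EtOver.prodSnd U V) (𝟙 W')) q =
          resM F (prod.map (𝟙 (EtOver.prodObj U V)) j) t := by
  by_cases hx : Points.ofPt W.obj.hom x ∈ A
  · obtain ⟨W', j, hj, ⟨a⟩⟩ := D.nearU W x hx
    obtain ⟨l, hl₁, hl₂⟩ := exists_prod_lift U V ((prod.snd : V ⨯ W' ⟶ W') ≫ a) prod.fst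
    let z : V ⨯ W' ⟶ EtOver.prodObj U V ⨯ W := prod.lift l (prod.snd ≫ j)
    refine ⟨W', j, hj, 0, -resM F z t, ?_⟩
    rw [map_zero, map_neg, zero_sub, neg_neg, ← resM_comp]
    refine congrArg (fun k => resM F k t) (Limits.prod.hom_ext (prodObj_hom_ext U V _ _ (D.uniq _ _) ?_) ?_)
    · simp [z, hl₂]
    · simp [z]
  obtain ⟨W', j, hj, ⟨b⟩⟩ := D.nearV W x hx
  obtain ⟨l, hl₁, hl₂⟩ := exists_prod_lift U V (prod.fst : U ⨯ W' ⟶ U) (prod.snd ≫ b)
  let z : U ⨯ W' ⟶ EtOver.prodObj U V ⨯ W := prod.lift l (prod.snd ≫ j)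
  let p := resM F z t
  let σ := resM F (prod.map (EtOver.prodFst U V) (𝟙 W')) p - resM F (prod.map (𝟙 (EtOver.prodObj U V)) j) t
  let κ : EtOver.prodObj U V ⨯ W' ⟶ V ⨯ W' := prod.map (EtOver.prodSnd U V) (𝟙 W')
  let Δ : W' ⟶ V ⨯ W' := prod.lift b (𝟙 W')
  have hκ : ∀ {Z : EtOver X} (e e' : Z ⟶ EtOver.prodObj U V ⨯ W'), e ≫ κ = e' ≫ κ → e = e' := fun e e' h => by
    refine Limits.prod.hom_ext (prodObj_hom_ext U V _ _ (D.uniq _ _) ?_) ?_
    · simpa [κ] using congrArg (· ≫ prod.fst) h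
    · simpa [κ] using congrArg (· ≫ prod.snd) h
  have hzero : ∀ {Z : EtOver X} (e : Z ⟶ EtOver.prodObj U V ⨯ W') (d : Z ⟶ W'), e ≫ κ = d ≫ Δ → resM F e σ = 0 := by
    intro Z e d h
    rw [map_sub, sub_eq_zero, ← resM_comp, ← resM_comp, ← resM_comp]
    have h1 : e ≫ prod.fst ≫ EtOver.prodSnd U V = d ≫ b := by simpa [κ, Δ] using congrArg (· ≫ prod.fst) h
    have h2 : e ≫ prod.snd = d := by simpa [κ, Δ] using congrArg (· ≫ prod.snd) h
    refine congrArg (fun k => resM F k t) (Limits.prod.hom_ext (prodObj_hom_ext U V _ _ (D.uniq _ _) ?_) ?_)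
    · simp [z, hl₂, h1, ← h2]
    · simp [z]
  classical
  let piece : Bool → EtOver X := fun c => bif c then EtOver.prodObj U V ⨯ W' else W'
  let proj : ∀ c, piece c ⟶ V ⨯ W' := fun c => match c with | true => κ | false => Δ
  let val : ∀ c, sectModEt F (piece c) := fun c => match c with | true => σ | false => 0
  have hcov : ∀ y : (V ⨯ W').obj.left.left, ∃ c, y ∈ Set.range (proj c).hom.left.left := fun y => by
    by_cases hy : Points.ofPt (V ⨯ W').obj.hom y ∈ A
    · obtain ⟨Z, h, ⟨w, hw⟩, ⟨a⟩⟩ := D.nearU _ y hy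
      obtain ⟨m, hm₁, hm₂⟩ := exists_prod_lift U V a (h ≫ prod.fst)
      refine ⟨true, (prod.lift m (h ≫ prod.snd)).hom.left.left w, ?_⟩
      rw [← hw]
      exact congrArg (fun k : Z ⟶ V ⨯ W' => k.hom.left.left w)
        (show prod.lift m (h ≫ prod.snd) ≫ κ = h by refine Limits.prod.hom_ext ?_ ?_ <;> simp [κ, hm₂])
    · obtain ⟨Z, h, -, ⟨w, hw⟩, hh⟩ := D.nearEq _ prod.fst (prod.snd ≫ b) y hy
      refine ⟨false, (h ≫ prod.snd).hom.left.left w, ?_⟩
      rw [← hw]
      exact congrArg (fun k : Z ⟶ V ⨯ W' => k.hom.left.left w)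
        (show (h ≫ prod.snd) ≫ Δ = h by refine Limits.prod.hom_ext ?_ ?_ <;> simp [Δ, hh])
  obtain ⟨q, hq⟩ := exists_glue proj hcov val fun c c' => by
    have e := pb_condition (proj c) (proj c')
    cases c <;> cases c'
    · exact (map_zero _).trans (map_zero _).symm
    · exact (map_zero _).trans (hzero _ _ e.symm).symm
    · exact (hzero _ _ e).trans (map_zero _).symm
    · rw [hκ (pbFst (proj true) (proj true)) (pbSnd (proj true) (proj true)) e]
  refine ⟨W', j, hj, p, q, ?_⟩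
  rw [show resM F (prod.map (EtOver.prodSnd U V) (𝟙 W')) q = σ from hq true]
  exact sub_sub_cancel _ _

theorem mv_shortExact (D : SqData U V A)
    (h : biprod.lift ((resPushAdjEt U).unit.app F) ((resPushAdjEt V).unit.app F) ≫
        biprod.desc ((pushResNatTrans (EtOver.prodFst U V)).app F)
          (-((pushResNatTrans (EtOver.prodSnd U V)).app F)) = 0) :
    (ShortComplex.mk _ _ h).ShortExact := by
  let A₁ := (pushOnModEt U).obj ((resModEt U).obj F)
  let A₂ := (pushOnModEt V).obj ((resModEt V).obj F)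
  have hid : ∀ (W : EtOver X) (y : sectModEt (A₁ ⊞ A₂) W),
      appM biprod.inl W (appM biprod.fst W y) + appM biprod.inr W (appM biprod.snd W y) = y := fun W y =>
    congrArg (fun k : A₁ ⊞ A₂ ⟶ _ => appM k W y) biprod.total
  let gd := biprod.desc ((pushResNatTrans (EtOver.prodFst U V)).app F) (-((pushResNatTrans (EtOver.prodSnd U V)).app F))
  have hdesc : ∀ (W : EtOver X) (y : sectModEt (A₁ ⊞ A₂) W), appM gd W y =
      appM ((pushResNatTrans (EtOver.prodFst U V)).app F) W (appM biprod.fst W y) -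
        appM ((pushResNatTrans (EtOver.prodSnd U V)).app F) W (appM biprod.snd W y) := fun W y => by
    conv_lhs => rw [← hid W y]
    rw [map_add, sub_eq_add_neg]
    exact congrArg₂ (· + ·) (congrArg (fun k : A₁ ⟶ _ => appM k W (appM biprod.fst W y)) (biprod.inl_desc _ _))
      (congrArg (fun k : A₂ ⟶ _ => appM k W (appM biprod.snd W y)) (biprod.inr_desc _ _))
  let fl := biprod.lift ((resPushAdjEt U).unit.app F) ((resPushAdjEt V).unit.app F)
  have hfst : ∀ (W : EtOver X) (s : sectModEt F W), appM biprod.fst W (appM fl W s) =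
      resM F (prod.snd : U ⨯ W ⟶ W) s := fun W s =>
    congrArg (fun k : F ⟶ A₁ => appM k W s) (biprod.lift_fst _ _)
  have hsnd : ∀ (W : EtOver X) (s : sectModEt F W), appM biprod.snd W (appM fl W s) =
      resM F (prod.snd : V ⨯ W ⟶ W) s := fun W s =>
    congrArg (fun k : F ⟶ A₂ => appM k W s) (biprod.lift_snd _ _)
  refine shortExact_of_sections _ (fun W s s' e => mv_injective F D W s s' ?_ ?_) (fun W y hy => ?_) ?_
  · exact ((hfst W s).symm.trans (congrArg (appM biprod.fst W) e)).trans (hfst W s')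
  · exact ((hsnd W s).symm.trans (congrArg (appM biprod.snd W) e)).trans (hsnd W s')
  · obtain ⟨s, hs₁, hs₂⟩ := mv_glue F D W (appM biprod.fst W y) (appM biprod.snd W y)
      (sub_eq_zero.1 ((hdesc W y).symm.trans hy))
    refine ⟨s, (hid W _).symm.trans (Eq.trans ?_ (hid W y))⟩
    exact congrArg₂ (· + ·) (congrArg (appM biprod.inl W) ((hfst W s).trans hs₁))
      (congrArg (appM biprod.inr W) ((hsnd W s).trans hs₂))
  · refine epi_of_locally_sect gd fun W t x => ?_
    obtain ⟨W', j, hj, p, q, hpq⟩ := mv_lift F D W t x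
    refine ⟨W', j, hj, appM biprod.inl W' p + appM biprod.inr W' q, ?_⟩
    rw [map_add]
    refine ((congrArg₂ (· + ·) (congrArg (fun k : A₁ ⟶ _ => appM k W' p) (biprod.inl_desc _ _))
      (congrArg (fun k : A₂ ⟶ _ => appM k W' q) (biprod.inr_desc _ _))).trans
      (sub_eq_add_neg _ _).symm).trans hpq

theorem mv_comp_eq_zero :
    biprod.lift ((resPushAdjEt U).unit.app F) ((resPushAdjEt V).unit.app F) ≫
      biprod.desc ((pushResNatTrans (EtOver.prodFst U V)).app F)
        (-((pushResNatTrans (EtOver.prodSnd U V)).app F)) = 0 := by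
  rw [biprod.lift_desc, Preadditive.comp_neg, ← sub_eq_add_neg, sub_eq_zero]
  refine SheafOfModules.hom_ext (PresheafOfModules.hom_ext fun W => ModuleCat.hom_ext (LinearMap.ext fun s => ?_))
  show resM F (prod.map (EtOver.prodFst U V) (𝟙 W.unop)) (resM F (prod.snd : U ⨯ W.unop ⟶ W.unop) s) =
    resM F (prod.map (EtOver.prodSnd U V) (𝟙 W.unop)) (resM F (prod.snd : V ⨯ W.unop ⟶ W.unop) s)
  rw [← resM_comp, ← resM_comp, prod.map_snd, prod.map_snd]

theorem sqData_of_elemDistSq {X : Space S} {U V : EtOver X.obj} (hsq : IsElemDistSq U.obj.hom V.obj.hom) :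
    SqData U V (Set.range (Points.map U.obj.hom)) := by
  haveI : Mono U.obj.hom := Groth.Agent.ElemSq.mono_of_open hsq.1
  have hUp : ∀ z, ∃ u, Points.ofPt U.obj.hom u = Points.map U.obj.hom z := fun z => by
    obtain ⟨u, rfl⟩ := (Points.schemeHomeo U.obj.left).surjective z
    exact ⟨u, by
      show _ = Points.map U.obj.hom (Points.ofPt (𝟙 _) u)
      rw [Points.map_ofPt, Category.id_comp]⟩
  refine ⟨fun a b => EtOver.hom_ext _ _ ((yon S).map_injective
      ((cancel_mono U.obj.hom).1 ((EtOver.w a).trans (EtOver.w b).symm))),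
    fun W x hx => ?_, fun W x hx => ?_, ?_⟩
  · obtain ⟨z, hz⟩ := hx
    obtain ⟨u, hu⟩ := hUp z
    obtain ⟨W', -, g₁, g₂, w, hw, -⟩ := exists_common W U x u (hz.symm.trans hu.symm)
    exact ⟨W', g₁, ⟨w, hw⟩, ⟨g₂⟩⟩
  · obtain ⟨-, -, T, P, i, p₁, p₂, hi, sq, hp₁⟩ := hsq
    haveI := hp₁
    obtain ⟨z, hz⟩ : Points.ofPt W.obj.hom x ∈ Set.range (Points.map V.obj.hom) := by
      obtain ⟨y, hy⟩ : Points.ofPt W.obj.hom x ∈ Set.range (Points.map i) := hi.2.1.symm ▸ hx
      refine ⟨Points.map p₂ (Points.map (inv p₁) y), ?_⟩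
      rw [← Points.map_comp, ← Points.map_comp, ← hy, ← sq.w, IsIso.inv_hom_id_assoc]
    obtain ⟨v, rfl⟩ := (Points.schemeHomeo V.obj.left).surjective z
    have hv : Points.ofPt V.obj.hom v = Points.ofPt W.obj.hom x := by
      rw [← hz]
      show _ = Points.map V.obj.hom (Points.ofPt (𝟙 _) v)
      rw [Points.map_ofPt, Category.id_comp]
    obtain ⟨W', -, g₁, g₂, w, hw, -⟩ := exists_common W V x v hv.symm
    exact ⟨W', g₁, ⟨w, hw⟩, ⟨g₂⟩⟩
  · let W₁ : Space S := ⟨(yon S).obj U.obj.left, IsAlgSpace.yon_obj U.obj.left⟩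
    let k : W₁ ⟶ X := ObjectProperty.homMk U.obj.hom
    have h := nearEq_of_elemDistSq (W₁ := W₁) (W₂ := X) k (𝟙 X) ((repWith_isMultiplicative (S := S) @IsOpenImmersion).id_mem _) (V := V.obj.left) V.obj.hom hsq V rfl
      (by
        simp only [eqToHom_refl, CategoryTheory.Functor.map_id, Category.id_comp]
        exact (Category.comp_id _).symm)
    have e : (k ≫ 𝟙 X).hom = U.obj.hom := congrArg InducedCategory.Hom.hom (Category.comp_id k)
    rwa [e] at h

end Groth.Agent.EtQC
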