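import Mathlib.CategoryTheory.Adjunction.Mates
import Mathlib.CategoryTheory.Adjunction.Additive
import Mathlib.CategoryTheory.Adjunction.Limits
import Mathlib.CategoryTheory.Preadditive.AdditiveFunctor
import Mathlib.CategoryTheory.Abelian.Exact
import Mathlib.CategoryTheory.Preadditive.Injective.Basic
import Mathlib.Algebra.Homology.ShortComplex.ExactFunctor

/-!
Short exact sequences of left adjoints from short exact sequences of right adjoints.
-/

set_option autoImplicit false

set_option linter.style.haveILetI false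

universe v u

open CategoryTheory CategoryTheory.Limits

namespace Groth.Agent.EtQC

variable {C : Type u} [Category.{v} C] [Abelian C] [EnoughInjectives C]

theorem mates_homEquiv {L R L' R' : C ⥤ C} (adj : L ⊣ R) (adj' : L' ⊣ R') (β : R ⟶ R') {F G : C}
    (k : L.obj F ⟶ G) :
    adj'.homEquiv F G (((conjugateEquiv adj adj').symm β).app F ≫ k) = adj.homEquiv F G k ≫ β.app G := by
  have h := unit_conjugateEquiv adj adj' ((conjugateEquiv adj adj').symm β) F
  rw [Equiv.apply_symm_apply] at h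
  rw [adj'.homEquiv_unit, adj.homEquiv_unit, Functor.map_comp, ← Category.assoc, ← h, Category.assoc,
    Category.assoc]
  congr 1
  exact (β.naturality k).symm

theorem counit_homEquiv {L R : C ⥤ C} (adj : L ⊣ R) (η : 𝟭 C ⟶ R) {F G : C} (ε : L.obj F ⟶ F)
    (hε : adj.homEquiv F F ε = η.app F) (h : F ⟶ G) : adj.homEquiv F G (ε ≫ h) = h ≫ η.app G := by
  rw [adj.homEquiv_naturality_right, hε]
  exact (η.naturality h).symm

theorem additive_right {L R : C ⥤ C} (adj : L ⊣ R) : R.Additive :=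
  haveI := adj.rightAdjoint_preservesLimits
  Functor.additive_of_preserves_binary_products R

theorem shortExact_adjoint {L₁ L₂ L₃ R₁ R₂ R₃ : C ⥤ C} (a₁ : L₁ ⊣ R₁) (a₂ : L₂ ⊣ R₂) (a₃ : L₃ ⊣ R₃)
    (η₁ : 𝟭 C ⟶ R₁) (η₂ : 𝟭 C ⟶ R₂) (β₁ : R₁ ⟶ R₃) (β₂ : R₂ ⟶ R₃) (w : ∀ G, biprod.lift (η₁.app G) (η₂.app G) ≫
      biprod.desc (β₁.app G) (-(β₂.app G)) = 0)
    (hR : ∀ G, (ShortComplex.mk _ _ (w G)).ShortExact) (F : C) (ε₁ : L₁.obj F ⟶ F) (ε₂ : L₂.obj F ⟶ F)
    (h₁ : a₁.homEquiv F F ε₁ = η₁.app F) (h₂ : a₂.homEquiv F F ε₂ = η₂.app F) :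
    ∃ h : biprod.lift (((conjugateEquiv a₁ a₃).symm β₁).app F) (-(((conjugateEquiv a₂ a₃).symm β₂).app F)) ≫
        biprod.desc ε₁ ε₂ = 0, (ShortComplex.mk _ _ h).ShortExact := by
  let α₁ := ((conjugateEquiv a₁ a₃).symm β₁).app F
  let α₂ := ((conjugateEquiv a₂ a₃).symm β₂).app F
  have hc : ∀ G, η₁.app G ≫ β₁.app G = η₂.app G ≫ β₂.app G := fun G => by
    have := w G
    rwa [biprod.lift_desc, Preadditive.comp_neg, ← sub_eq_add_neg, sub_eq_zero] at this
  have h : biprod.lift α₁ (-α₂) ≫ biprod.desc ε₁ ε₂ = 0 := by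
    rw [biprod.lift_desc, Preadditive.neg_comp, ← sub_eq_add_neg, sub_eq_zero]
    exact (a₃.homEquiv F F).injective (by rw [mates_homEquiv, mates_homEquiv, h₁, h₂, hc])
  have hsplit : ∀ {G : C} (k : L₁.obj F ⊞ L₂.obj F ⟶ G), k = biprod.desc (biprod.inl ≫ k) (biprod.inr ≫ k) := fun k => by
    ext <;> simp
  haveI := additive_right a₁
  haveI := additive_right a₂
  haveI hepi : Epi (biprod.desc ε₁ ε₂) := by
    refine Preadditive.epi_of_cancel_zero _ fun {G} g hg => ?_
    have e₁ : ε₁ ≫ g = 0 := by simpa using congrArg (biprod.inl ≫ ·) hg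
    have e₂ : ε₂ ≫ g = 0 := by simpa using congrArg (biprod.inr ≫ ·) hg
    haveI := (hR G).mono_f
    refine zero_of_comp_mono (biprod.lift (η₁.app G) (η₂.app G)) ?_
    ext
    · simp only [Category.assoc, biprod.lift_fst, zero_comp]
      rw [← counit_homEquiv a₁ η₁ ε₁ h₁ g, e₁, a₁.homEquiv_unit, Functor.map_zero (F := R₁), comp_zero]
    · simp only [Category.assoc, biprod.lift_snd, zero_comp]
      rw [← counit_homEquiv a₂ η₂ ε₂ h₂ g, e₂, a₂.homEquiv_unit, Functor.map_zero (F := R₂), comp_zero]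
  have hexact : (ShortComplex.mk _ _ h).Exact := by
    let c : cokernel (biprod.lift α₁ (-α₂)) ⟶ F := cokernel.desc _ _ h
    let q := cokernel.π (biprod.lift α₁ (-α₂))
    let k₁ := biprod.inl ≫ q
    let k₂ := biprod.inr ≫ q
    have hk : a₁.homEquiv F _ k₁ ≫ β₁.app _ = a₂.homEquiv F _ k₂ ≫ β₂.app _ := by
      rw [← mates_homEquiv a₁ a₃ β₁, ← mates_homEquiv a₂ a₃ β₂]
      refine congrArg (a₃.homEquiv F _) ?_
      have := cokernel.condition (biprod.lift α₁ (-α₂))
      rw [hsplit (cokernel.π _), biprod.lift_desc, Preadditive.neg_comp, ← sub_eq_add_neg, sub_eq_zero] at this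
      exact this
    let G := cokernel (biprod.lift α₁ (-α₂))
    haveI := (hR G).mono_f
    obtain ⟨g, hg⟩ : ∃ g : F ⟶ G, g ≫ biprod.lift (η₁.app G) (η₂.app G) =
        biprod.lift (a₁.homEquiv F _ k₁) (a₂.homEquiv F _ k₂) :=
      ⟨(hR G).exact.lift _ (by rw [biprod.lift_desc, Preadditive.comp_neg, ← sub_eq_add_neg, sub_eq_zero]; exact hk),
        (hR G).exact.lift_f _ _⟩
    have g₁ : ε₁ ≫ g = k₁ := (a₁.homEquiv F G).injective (by
      rw [counit_homEquiv a₁ η₁ ε₁ h₁]
      have := congrArg (· ≫ biprod.fst) hg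
      simp only [Category.assoc, biprod.lift_fst] at this
      exact this.trans (biprod.lift_fst _ _))
    have g₂ : ε₂ ≫ g = k₂ := (a₂.homEquiv F G).injective (by
      rw [counit_homEquiv a₂ η₂ ε₂ h₂]
      have := congrArg (· ≫ biprod.snd) hg
      simp only [Category.assoc, biprod.lift_snd] at this
      exact this.trans (biprod.lift_snd _ _))
    have hg' : biprod.desc ε₁ ε₂ ≫ g = q := by
      refine biprod.hom_ext' _ _ ?_ ?_
      · rw [biprod.inl_desc_assoc]; exact g₁
      · rw [biprod.inr_desc_assoc]; exact g₂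
    have hqc : q ≫ c = biprod.desc ε₁ ε₂ := cokernel.π_desc _ _ _
    haveI : IsIso c := ⟨g, by rw [← cancel_epi q, ← Category.assoc, hqc, hg', Category.comp_id],
      by rw [← cancel_epi (biprod.desc ε₁ ε₂), ← Category.assoc, hg', hqc, Category.comp_id]⟩
    exact ShortComplex.exact_of_g_is_cokernel _
      (IsColimit.ofIsoColimit (cokernelIsCokernel _) (Cofork.ext (asIso c) hqc))
  haveI hmono : Mono (biprod.lift α₁ (-α₂)) := by
    let e := Injective.ι (L₃.obj F)
    let G := Injective.under (L₃.obj F)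
    haveI : Injective (ShortComplex.mk _ _ (w G)).X₁ := inferInstanceAs (Injective (Injective.under _))
    let σ := (hR G).splittingOfInjective
    let m : F ⟶ R₁.obj G ⊞ R₂.obj G := a₃.homEquiv F G e ≫ σ.s
    have hm : m ≫ biprod.desc (β₁.app G) (-(β₂.app G)) = a₃.homEquiv F G e := by
      rw [Category.assoc]
      exact (congrArg (a₃.homEquiv F G e ≫ ·) σ.s_g).trans (Category.comp_id _)
    let k := biprod.desc ((a₁.homEquiv F G).symm (m ≫ biprod.fst)) ((a₂.homEquiv F G).symm (m ≫ biprod.snd))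
    have hk : biprod.lift α₁ (-α₂) ≫ k = e := by
      rw [biprod.lift_desc, Preadditive.neg_comp, ← sub_eq_add_neg]
      refine (a₃.homEquiv F G).injective ?_
      have hadd : ∀ x y : L₃.obj F ⟶ G, a₃.homEquiv F G (x - y) = a₃.homEquiv F G x - a₃.homEquiv F G y :=
        fun x y => by
          haveI := additive_right a₃
          rw [a₃.homEquiv_unit, a₃.homEquiv_unit, a₃.homEquiv_unit, Functor.map_sub, Preadditive.comp_sub]
      rw [hadd, mates_homEquiv, mates_homEquiv, Equiv.apply_symm_apply, Equiv.apply_symm_apply,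
        ← hm, biprod.desc_eq, Preadditive.comp_add, Preadditive.comp_neg, Preadditive.comp_neg, Category.assoc,
        Category.assoc, sub_eq_add_neg]
      simp [m, Category.assoc]
    haveI : Mono (biprod.lift α₁ (-α₂) ≫ k) := hk.symm ▸ (inferInstance : Mono e)
    exact mono_of_mono _ k
  exact ⟨h, ShortComplex.ShortExact.mk' hexact hmono hepi⟩

end Groth.Agent.EtQC
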