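import Mathlib.Algebra.Category.ModuleCat.Presheaf.Generator
import Mathlib.Algebra.Category.ModuleCat.Presheaf.Sheafification
import Mathlib.Algebra.Category.ModuleCat.Sheaf.Abelian
import Mathlib.Algebra.Category.ModuleCat.Sheaf.Colimits
import Mathlib.Algebra.Category.Grp.AB
import Mathlib.CategoryTheory.Sites.Abelian
import Mathlib.CategoryTheory.Abelian.GrothendieckCategory.EnoughInjectives
import Mathlib.CategoryTheory.Abelian.GrothendieckAxioms.FunctorCategory
import Groth.Agent.EtQC.Main

/-!
Modules on the small etale site of an algebraic space form a Grothendieck abelian category.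
-/

set_option autoImplicit false

universe u

open CategoryTheory Limits AlgSp AlgebraicGeometry

namespace Groth.Agent.EtQC

section General

variable {C : Type (u + 1)} [Category.{u} C] {J : GrothendieckTopology C} (R : Sheaf J RingCat.{u + 1})
  [HasSheafify J AddCommGrpCat.{u + 1}] [J.WEqualsLocallyBijective AddCommGrpCat.{u + 1}]

theorem ab5_presheaf (R₀ : Cᵒᵖ ⥤ RingCat.{u + 1}) :
    AB5OfSize.{u + 1, u + 1} (PresheafOfModules.{u + 1} R₀) where
  ofShape K _ _ := by
    have : (PresheafOfModules.toPresheaf R₀).ReflectsIsomorphisms := inferInstance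
    have : ReflectsFiniteLimits (PresheafOfModules.toPresheaf R₀) :=
      ⟨fun _ _ _ => reflectsLimitsOfShape_of_reflectsIsomorphisms⟩
    exact HasExactColimitsOfShape.domain_of_functor K (PresheafOfModules.toPresheaf R₀)

theorem isGrothendieckAbelian_mod : IsGrothendieckAbelian.{u + 1} (SheafOfModules.{u + 1} R) where
  hasFilteredColimitsOfSize := ⟨fun _ _ _ => inferInstance⟩
  ab5OfSize := ⟨fun K _ _ => by
    haveI := ab5_presheaf R.obj
    exact (PresheafOfModules.sheafificationAdjunction (𝟙 R.obj)).hasExactColimitsOfShape K⟩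
  hasSeparator := by
    let adj := PresheafOfModules.sheafificationAdjunction (R := R) (𝟙 R.obj)
    let g : C → SheafOfModules.{u + 1} R := fun X =>
      (PresheafOfModules.sheafification (R := R) (𝟙 R.obj)).obj
        ((PresheafOfModules.free R.obj).obj (uliftYoneda.{u + 1}.obj X))
    refine ⟨∐ g, (isSeparator_sigma g).2 ?_⟩
    intro M N f₁ f₂ h
    apply (SheafOfModules.forget R ⋙ PresheafOfModules.restrictScalars (𝟙 R.obj)).map_injective
    ext ⟨X⟩ m
    let e := (PresheafOfModules.freeHomEquiv (F := uliftYoneda.{u + 1}.obj X)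
      (G := (SheafOfModules.forget R ⋙ PresheafOfModules.restrictScalars (𝟙 R.obj)).obj M)).trans uliftYonedaEquiv
    obtain ⟨a, rfl⟩ := e.surjective m
    obtain ⟨b, rfl⟩ := (adj.homEquiv _ M).surjective a
    have hb := h (g X) (ObjectProperty.ofObj_apply _ X) b
    have hb' := congrArg (adj.homEquiv _ N) hb
    rw [adj.homEquiv_naturality_right, adj.homEquiv_naturality_right] at hb'
    exact congrArg ((PresheafOfModules.freeHomEquiv (F := uliftYoneda.{u + 1}.obj X)
      (G := (SheafOfModules.forget R ⋙ PresheafOfModules.restrictScalars (𝟙 R.obj)).obj N)).trans uliftYonedaEquiv) hb'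

end General

theorem enoughInjectives_modEt {S : Scheme.{u}} (X : Sp S) : EnoughInjectives (ModEt X) := by
  haveI : IsGrothendieckAbelian.{u + 1} (ModEt X) := isGrothendieckAbelian_mod (OEtRing X)
  exact IsGrothendieckAbelian.enoughInjectives.{u + 1}

end Groth.Agent.EtQC
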