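import Groth.Agent.EtQC.Crit
import Groth.Agent.EtQC.Main

/-!
Presheaves of modules whose sections on affine objects satisfy base change: their sheafification has the same
sections on affine objects, and is quasi-coherent.
-/

set_option autoImplicit false
set_option linter.style.haveILetI false
set_option backward.isDefEq.respectTransparency false

universe u

noncomputable section

open CategoryTheory CategoryTheory.Limits AlgebraicGeometry Opposite AlgSp TensorProduct

namespace Groth.Agent.EtQC

variable {S : Scheme.{u}} {X : Sp S}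

variable (P : PresheafOfModules.{u + 1} (OEtRing X).obj)

/-- sections of a presheaf of modules -/
def Pg {E V : EtOver X} (_g : V ⟶ E) : Type (u + 1) := P.obj (op V)

/-- sections of a presheaf of modules on an object -/
def Ps (E : EtOver X) : Type (u + 1) := P.obj (op E)

instance (E : EtOver X) : AddCommGroup (Ps P E) := inferInstanceAs (AddCommGroup (P.obj (op E)))
instance (E : EtOver X) : Module (R E) (Ps P E) :=
  inferInstanceAs (Module ((OEtRing X).obj.obj (op E)) (P.obj (op E)))

/-- restriction -/
def resP {E V : EtOver X} (g : V ⟶ E) : Ps P E →+ Ps P V where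
  toFun m := P.map g.op m
  map_zero' := map_zero (P.map g.op).hom
  map_add' := map_add (P.map g.op).hom

variable {P}

theorem resP_smul {E V : EtOver X} (g : V ⟶ E) (a : R E) (m : Ps P E) :
    resP P g (a • m) = res g a • resP P g m :=
  PresheafOfModules.map_smul P g.op a m

theorem resP_comp {E E' E'' : EtOver X} (g : E' ⟶ E) (h : E'' ⟶ E') (m : Ps P E) :
    resP P (h ≫ g) m = resP P h (resP P g m) :=
  PresheafOfModules.map_comp_apply P g.op h.op m

variable {E V : EtOver X}

instance (g : V ⟶ E) : AddCommGroup (Pg P g) := inferInstanceAs (AddCommGroup (Ps P V))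
instance instModRgPg (g : V ⟶ E) : Module (Rg g) (Pg P g) := inferInstanceAs (Module (R V) (Ps P V))
instance instModPg (g : V ⟶ E) : Module (R E) (Pg P g) := Module.compHom _ (algebraMap (R E) (Rg g))
instance (g : V ⟶ E) : IsScalarTower (R E) (Rg g) (Pg P g) :=
  IsScalarTower.of_algebraMap_smul fun _ _ => rfl

variable (P) in
/-- restriction, linearly -/
def resPL (g : V ⟶ E) : Ps P E →ₗ[R E] Pg P g where
  toFun m := resP P g m
  map_add' := map_add (resP P g)
  map_smul' := resP_smul g

theorem resPL_apply (g : V ⟶ E) (m : Ps P E) : resPL P g m = resP P g m := rfl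

variable (P) in
/-- base change on affine objects -/
def IsBC : Prop :=
  ∀ {E V : EtOver X} [IsAffine E.obj.left.left] [IsAffine V.obj.left.left] (g : V ⟶ E),
    IsBaseChange (Rg g) (resPL P g)

theorem isBC_of_isQuasicoherent (M : ModEt X) [M.IsQuasicoherent] : IsBC M.val := fun g =>
  isBaseChange_res (M := M) g

variable {M : ModEt X} (ψ : P ⟶ M.val)

/-- a map from a presheaf on sections -/
def appPs (E : EtOver X) : Ps P E →ₗ[R E] sectModEt M E where
  toFun m := ψ.app (op E) m
  map_add' := map_add (ψ.app (op E)).hom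
  map_smul' := map_smul (ψ.app (op E)).hom

theorem resM_appPs (g : V ⟶ E) (m : Ps P E) : resM M g (appPs ψ E m) = appPs ψ V (resP P g m) :=
  (PresheafOfModules.naturality_apply ψ g.op m).symm

variable (hP : IsBC P)

include hP in
theorem exists_tensor [IsAffine E.obj.left.left] [IsAffine V.obj.left.left] (g : V ⟶ E) :
    ∃ e : Rg g ⊗[R E] Ps P E ≃+ Ps P V, (∀ b n, e (b ⊗ₜ n) = (show R V from b) • resP P g n) ∧
      ∀ z, theta (appPs ψ E) g z = appPs ψ V (e z) := by
  let e0 : Rg g ⊗[R E] Ps P E ≃ₗ[Rg g] Pg P g := (hP g).equiv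
  let e : Rg g ⊗[R E] Ps P E ≃+ Ps P V := e0.toAddEquiv
  have he : ∀ b n, e (b ⊗ₜ n) = (show R V from b) • resP P g n := fun b n => (hP g).equiv_tmul b n
  refine ⟨e, he, fun z => ?_⟩
  induction z using TensorProduct.induction_on with
  | zero => rw [map_zero, map_zero, map_zero]
  | tmul b n =>
    rw [theta_tmul, he, map_smul, ← resM_appPs]
    rfl
  | add a b ha hb => rw [map_add, map_add, map_add, ha, hb]

theorem exists_affine_of_mem {W : EtOver X} {T : Sieve W} (hT : T ∈ etTop X W) (x : W.obj.left.left) :
    ∃ (V : EtOver X) (h : V ⟶ W), IsAffine V.obj.left.left ∧ x ∈ Set.range h.hom.left.left ∧ T h := by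
  have hs := Groth.Agent.AlgSpLib.StalkPoint.surjective_of_mem_etTop hT x
  obtain ⟨V₀, h₀, hh₀, y, hy⟩ := hs
  have hn := exists_affine_nhd V₀ y
  obtain ⟨V, hV, h, z, hz⟩ := hn
  refine ⟨V, h ≫ h₀, hV, ⟨z, ?_⟩, T.downward_closed hh₀ h⟩
  rw [← hy, ← hz]
  rfl

variable [Presheaf.IsLocallyInjective (etTop X) ((PresheafOfModules.toPresheaf _).map ψ)]
  [Presheaf.IsLocallySurjective (etTop X) ((PresheafOfModules.toPresheaf _).map ψ)]

include hP in
theorem theta_appPs_bijective [IsAffine E.obj.left.left] [IsAffine V.obj.left.left] (g : V ⟶ E) :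
    Function.Bijective (theta (appPs ψ E) g) := by
  refine theta_bijective (appPs ψ E) ?_ ?_ g
  · intro W k s x
    have hT : Presheaf.imageSieve ((PresheafOfModules.toPresheaf _).map ψ) (U := W) s ∈ etTop X W :=
      Presheaf.imageSieve_mem _ _ _
    have hex := exists_affine_of_mem hT x
    obtain ⟨W', h, hW', hx, p, hp⟩ := hex
    have ht := exists_tensor ψ hP (h ≫ k)
    obtain ⟨e, -, he⟩ := ht
    refine ⟨W', hW', h, hx, e.symm p, ?_⟩
    rw [he, AddEquiv.apply_symm_apply]
    exact hp
  · intro W _ k z hz x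
    have ht := exists_tensor ψ hP k
    obtain ⟨e, he0, he⟩ := ht
    rw [he] at hz
    have hT : Presheaf.equalizerSieve (F := (PresheafOfModules.toPresheaf _).obj P) (X := op W) (e z) 0 ∈
        etTop X W :=
      Presheaf.equalizerSieve_mem (etTop X) ((PresheafOfModules.toPresheaf _).map ψ) (X := op W) (e z) 0
        (hz.trans (map_zero (ψ.app (op W)).hom).symm)
    have hex := exists_affine_of_mem hT x
    obtain ⟨W', h, hW', hx, hp⟩ := hex
    have hp0 : resP P h (e z) = 0 := Eq.trans hp (map_zero (P.map h.op).hom)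
    have ht' := exists_tensor ψ hP (h ≫ k)
    obtain ⟨e', he0', -⟩ := ht'
    refine ⟨W', hW', h, hx, e'.injective ?_⟩
    rw [map_zero]
    refine Eq.trans ?_ hp0
    clear hz hT hp hp0 hx
    induction z using TensorProduct.induction_on with
    | zero => rw [map_zero, map_zero, map_zero, map_zero]
    | tmul b n =>
      rw [tmap_tmul, he0', he0, resP_smul, resP_comp]
      rfl
    | add a b ha hb => rw [map_add, map_add, map_add, map_add, ha, hb]

include hP in
/-- a locally bijective map from a presheaf with base change is bijective on affine objects -/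
theorem appPs_bijective (E : EtOver X) [IsAffine E.obj.left.left] : Function.Bijective (appPs ψ E) := by
  have hb := theta_appPs_bijective ψ hP (𝟙 E)
  have ht := exists_tensor ψ hP (𝟙 E)
  obtain ⟨e, -, he⟩ := ht
  have : (appPs ψ E : Ps P E → sectModEt M E) = theta (appPs ψ E) (𝟙 E) ∘ e.symm := funext fun p => by
    rw [Function.comp_apply, he, AddEquiv.apply_symm_apply]
  rw [this]
  exact hb.comp e.symm.bijective

include hP ψ in
theorem isBaseChange_of_locBij [IsAffine E.obj.left.left] [IsAffine V.obj.left.left] (g : V ⟶ E) :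
    IsBaseChange (Rg g) (resL M g) := by
  let eE : Ps P E ≃ₗ[R E] sectModEt M E := LinearEquiv.ofBijective (appPs ψ E) (appPs_bijective ψ hP E)
  let t : Rg g ⊗[R E] sectModEt M E ≃ₗ[Rg g] Rg g ⊗[R E] Ps P E := eE.symm.baseChange (R E) (Rg g) _ _
  let eT : Rg g ⊗[R E] sectModEt M E ≃ₗ[Rg g] Mg M g :=
    t.trans (LinearEquiv.ofBijective (theta (appPs ψ E) g) (theta_appPs_bijective ψ hP g))
  refine IsBaseChange.of_equiv eT fun m => ?_
  show theta (appPs ψ E) g ((1 : Rg g) ⊗ₜ eE.symm m) = _
  rw [theta_tmul, one_smul]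
  exact congrArg (resL M g) (eE.apply_symm_apply m)

include hP ψ in
theorem isQuasicoherent_of_locBij : M.IsQuasicoherent :=
  isQuasicoherent_of_isBaseChange fun g => isBaseChange_of_locBij ψ hP g

end Groth.Agent.EtQC
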