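import Groth.Agent.EtQC.ProjLocal
import Groth.Agent.EtQC.PullQC
import Groth.Prelude.Def_AlgSpModX

/-!
Local projectivity on charts.
-/

set_option autoImplicit false
set_option linter.style.haveILetI false
set_option backward.isDefEq.respectTransparency false

universe u

noncomputable section

open CategoryTheory CategoryTheory.Limits AlgebraicGeometry Opposite AlgSp TensorProduct

namespace Groth.Agent.EtQC

variable {S : Scheme.{u}} {X : Sp S}

/-- an open of a scheme etale over a space as an object of the site -/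
def openOfChart {V : Over S} (q : (yon S).obj V ⟶ X) (hq : RepWith @Etale q) (W : V.left.Opens) : EtOver X :=
  (EtOver.postcomp q (isEtaleMor_of_repWith q hq)).obj ((EtOver.ofScheme V).obj (etaleOfOpen V.left W))

theorem isAffine_openOfChart {V : Over S} (q : (yon S).obj V ⟶ X) (hq : RepWith @Etale q) {W : V.left.Opens}
    (hW : IsAffineOpen W) : IsAffine (openOfChart q hq W).obj.left.left := hW

theorem projective_iff_projAt {V : Over S} (q : (yon S).obj V ⟶ X) (hrep : Representable q) (hq : RepWith @Etale q)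
    [(SheafOfModules.pushforward.{u + 1} (bcRingHom hrep)).IsRightAdjoint] (F : ModEt X) (G : V.left.Modules)
    (c : ZarCompanion V.left G ((resSchModEt V).obj ((pullModEt hrep).obj F))) (W : V.left.Opens) :
    Module.Projective (V.left.ringCatSheaf.obj.obj (op W)) (G.val.obj (op W)) ↔ ProjAt F (openOfChart q hq W) := by
  let he := isEtaleMor_of_repWith q hq
  let i : (pullModEt hrep).obj F ≅ (SheafOfModules.pushforward.{u + 1} (postRingHom he)).obj F :=
    ((pullPushAdjModEt hrep).leftAdjointUniq (restrPushAdj hrep he)).app F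
  let W' : EtOver ((yon S).obj V) := (EtOver.ofScheme V).obj (etaleOfOpen V.left W)
  let σ : Γ(V.left, W) ≃+* R (openOfChart q hq W) :=
    W.topIso.commRingCatIsoToRingEquiv.symm.trans ULift.ringEquiv.symm
  let e : sectModEt F (openOfChart q hq W) ≃+ (G.val.obj (op W) : Type u) :=
    ((AddMonoidHom.toAddEquiv (appM i.inv W') (appM i.hom W')
      (AddMonoidHom.ext fun x => congrArg (fun k : ((SheafOfModules.pushforward.{u + 1} (postRingHom he)).obj F) ⟶ _ => appM k W' x) i.inv_hom_id)
      (AddMonoidHom.ext fun x => congrArg (fun k : ((pullModEt hrep).obj F) ⟶ _ => appM k W' x) i.hom_inv_id)).trans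
        (c.iso W)).trans AddEquiv.ulift
  have he' : ∀ (a : Γ(V.left, W)) (x : G.val.obj (op W)), e.symm (a • x) = σ a • e.symm x := fun a x => by
    apply e.injective
    rw [AddEquiv.apply_symm_apply]
    show a • x = ((c.iso W) (appM i.inv W' (σ a • e.symm x))).down
    rw [map_smul (appM i.inv W')]
    refine Eq.trans ?_ (congrArg ULift.down (c.map_smul W a (appM i.inv W' (e.symm x)))).symm
    exact congrArg (a • ·) (e.apply_symm_apply x).symm
  letI : RingHomInvPair (σ : Γ(V.left, W) →+* R (openOfChart q hq W)) (σ.symm : R (openOfChart q hq W) →+* Γ(V.left, W)) :=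
    RingHomInvPair.of_ringEquiv σ
  letI : RingHomInvPair (σ.symm : R (openOfChart q hq W) →+* Γ(V.left, W)) (σ : Γ(V.left, W) →+* R (openOfChart q hq W)) :=
    RingHomInvPair.of_ringEquiv σ.symm
  let l : (G.val.obj (op W) : Type u) ≃ₛₗ[(σ : Γ(V.left, W) →+* R (openOfChart q hq W))]
      sectModEt F (openOfChart q hq W) := { e.symm with map_smul' := he' }
  constructor
  · intro h
    haveI : Module.Projective Γ(V.left, W) (G.val.obj (op W) : Type u) := h
    exact Module.Projective.of_equiv l
  · intro h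
    haveI : Module.Projective (R (openOfChart q hq W)) (sectModEt F (openOfChart q hq W)) := h
    exact (Module.Projective.of_equiv l.symm : Module.Projective Γ(V.left, W) (G.val.obj (op W) : Type u))

theorem projAt_of_atlas (F : ModEt X) [F.IsQuasicoherent] {U : Over S} (p : (yon S).obj U ⟶ X)
    (hp : RepWith @Etale p) (hs : RepWith @Surjective p)
    (h : ∀ W : U.left.Opens, IsAffineOpen W → ProjAt F (openOfChart p hp W)) (E : EtOver X)
    [IsAffine E.obj.left.left] : ProjAt F E := by
  refine projAt_of_cover fun x => ?_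
  obtain ⟨P, sndE, fstU, sq⟩ := hp.1 E.obj.hom
  have hse : Etale sndE.left := hp.2 E.obj.hom fstU sndE sq
  haveI : Surjective sndE.left := hs.2 E.obj.hom fstU sndE sq
  obtain ⟨t, rfl⟩ := (yon S).map_surjective fstU
  obtain ⟨w, hw⟩ := sndE.left.surjective x
  let P₀ : EtOver X := EtOver.mk ((yon S).map sndE ≫ E.obj.hom)
    (Groth.Agent.AlgSpLib.repWith_comp ((Groth.Agent.AlgSpLib.repWith_yon_iff _).2 hse) E.property)
  obtain ⟨W, hW, htw, -⟩ := exists_isAffineOpen_mem_and_subset (U := (⊤ : U.left.Opens)) (x := t.left w) trivial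
  obtain ⟨A, hA, hwA, hAW⟩ := exists_isAffineOpen_mem_and_subset (U := t.left ⁻¹ᵁ W) (x := w) htw
  let V := openObj P₀ A
  haveI : IsAffine V.obj.left.left := hA
  let j : V ⟶ P₀ := openHom P₀ A
  let a : P₀ ⟶ E := EtOver.homMk (E := P₀) (E' := E) sndE rfl
  have hr : Set.range (j.hom.left.left ≫ t.left) ⊆ Set.range W.ι := by
    rintro _ ⟨z, rfl⟩
    rw [Scheme.Opens.range_ι]
    exact hAW z.2
  haveI := isAffine_openOfChart p hp hW
  let m₀ : V.obj.left ⟶ (openOfChart p hp W).obj.left := Over.homMk (IsOpenImmersion.lift W.ι (j.hom.left.left ≫ t.left) hr) (by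
    show _ ≫ W.ι ≫ U.hom = V.obj.left.hom
    rw [IsOpenImmersion.lift_fac_assoc, Category.assoc, Over.w t]
    exact Over.w j.hom.left)
  let m : V ⟶ openOfChart p hp W := EtOver.homMk m₀ (by
    show (yon S).map m₀ ≫ ((yon S).map (EtOver.homOfEtale (etaleOfOpen U.left W)) ≫ 𝟙 _) ≫ p = _
    rw [Category.comp_id, ← Category.assoc, ← Functor.map_comp,
      show m₀ ≫ EtOver.homOfEtale (etaleOfOpen U.left W) = j.hom.left ≫ t from
        Over.OverMorphism.ext (IsOpenImmersion.lift_fac W.ι (j.hom.left.left ≫ t.left) hr),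
      Functor.map_comp, Category.assoc, sq.w]
    exact EtOver.w j)
  exact ⟨V, j ≫ a, hA, ⟨⟨w, hwA⟩, hw⟩, (h W hW).res m⟩

end Groth.Agent.EtQC
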