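import Groth.Agent.EtQC.PullBC
import Groth.Agent.S0585

/-!
Local projectivity of quasi-coherent modules on the small etale site.
-/

set_option autoImplicit false
set_option linter.style.haveILetI false
set_option backward.isDefEq.respectTransparency false

universe u w

noncomputable section

open CategoryTheory CategoryTheory.Limits AlgebraicGeometry Opposite AlgSp TensorProduct

namespace Groth.Agent.EtQC

theorem faithfullyFlat_pi_jointlyFF {A : Type w} [CommRing A] {ι : Type} [Finite ι] (B : ι → Type w)
    [∀ i, CommRing (B i)] [∀ i, Algebra A (B i)] [∀ i, Module.Flat A (B i)] (hB : JointlyFF (A := A) B) :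
    Module.FaithfullyFlat A (∀ i, B i) := by
  classical
  haveI := Fintype.ofFinite ι
  haveI : Module.Flat A (∀ i, B i) := Module.Flat.of_linearEquiv (DFinsupp.linearEquivFunOnFintype (R := A)).symm
  refine ⟨fun m hm h => ?_⟩
  obtain ⟨i, q, hq, hmq⟩ := hB m hm
  have h1 : (1 : ∀ i, B i) ∈ m • (⊤ : Submodule A (∀ i, B i)) := by rw [h]; trivial
  have h2 : ∀ y ∈ m • (⊤ : Submodule A (∀ i, B i)), y i ∈ q := fun y hy => by
    refine Submodule.smul_induction_on hy (fun a ha y _ => ?_) fun a b ha hb => Ideal.add_mem _ ha hb
    show a • y i ∈ q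
    rw [Algebra.smul_def]
    exact Ideal.mul_mem_right _ _ (hmq ha)
  exact hq.ne_top ((Ideal.eq_top_iff_one q).2 (h2 1 h1))

theorem projective_pi {ι : Type} [Finite ι] (B : ι → Type w) [∀ i, CommRing (B i)] (P : ι → Type w)
    [∀ i, AddCommGroup (P i)] [∀ i, Module (B i) (P i)] [∀ i, Module.Projective (B i) (P i)] :
    Module.Projective (∀ i, B i) (∀ i, P i) := by
  classical
  haveI := Fintype.ofFinite ι
  choose s hs using fun i => Module.projective_def'.1 (‹∀ i, Module.Projective (B i) (P i)› i)
  let T := Σ i, P i
  let inc : ∀ i, (P i →₀ B i) →+ (T →₀ ∀ j, B j) := fun i =>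
    (Finsupp.mapDomain.addMonoidHom (fun y => (⟨i, y⟩ : T))).comp
      (Finsupp.mapRange.addMonoidHom (AddMonoidHom.single B i))
  have inc_single : ∀ (i : ι) (y : P i) (b : B i),
      inc i (Finsupp.single y b) = Finsupp.single (⟨i, y⟩ : T) (Pi.single i b) := fun i y b => by
    show Finsupp.mapDomain _ (Finsupp.mapRange (AddMonoidHom.single B i) (map_zero (AddMonoidHom.single B i))
      (Finsupp.single y b)) = _
    rw [Finsupp.mapRange_single, Finsupp.mapDomain_single]
    rfl
  let sec : (∀ i, P i) →ₗ[∀ i, B i] T →₀ ∀ j, B j :=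
    { toFun := fun x => ∑ i, inc i (s i (x i))
      map_add' := fun x y => by simp only [Pi.add_apply, map_add, Finset.sum_add_distrib]
      map_smul' := fun r x => by
        rw [RingHom.id_apply, Finset.smul_sum]
        refine Finset.sum_congr rfl fun i _ => ?_
        rw [Pi.smul_apply', map_smul]
        induction s i (x i) using Finsupp.induction_linear with
        | zero => rw [smul_zero, map_zero, smul_zero]
        | add a b ha hb => rw [smul_add, map_add, map_add, smul_add, ha, hb]
        | single y b =>
          rw [Finsupp.smul_single, inc_single, inc_single, Finsupp.smul_single]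
          congr 1
          funext j
          by_cases hj : j = i
          · subst hj; simp
          · simp [Pi.single_eq_of_ne hj] }
  let ret : (T →₀ ∀ j, B j) →ₗ[∀ i, B i] ∀ i, P i := Finsupp.linearCombination _ fun t => Pi.single t.1 t.2
  refine Module.Projective.of_split sec ret (LinearMap.ext fun x => ?_)
  show ret (∑ i, inc i (s i (x i))) = x
  rw [map_sum]
  refine (Finset.sum_congr rfl fun i _ => ?_).trans (Finset.univ_sum_single x)
  have key : ∀ c : P i →₀ B i, ret (inc i c) = Pi.single i (Finsupp.linearCombination (B i) id c) := fun c => by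
    induction c using Finsupp.induction_linear with
    | zero => rw [map_zero, map_zero, map_zero, Pi.single_zero]
    | add a b ha hb => rw [map_add, map_add, map_add, Pi.single_add, ha, hb]
    | single y b =>
      rw [inc_single, Finsupp.linearCombination_single, Finsupp.linearCombination_single, id_eq]
      funext j
      by_cases hj : j = i
      · subst hj; simp
      · simp [Pi.single_eq_of_ne hj]
  rw [key]
  exact congrArg (Pi.single i) (LinearMap.congr_fun (hs i) (x i))

theorem projective_of_jointlyFF {A : Type w} [CommRing A] {ι : Type} [Finite ι] (B : ι → Type w)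
    [∀ i, CommRing (B i)] [∀ i, Algebra A (B i)] [∀ i, Module.Flat A (B i)] (hB : JointlyFF (A := A) B)
    (M : Type w) [AddCommGroup M] [Module A M] [∀ i, Module.Projective (B i) (B i ⊗[A] M)] :
    Module.Projective A M := by
  classical
  haveI := Fintype.ofFinite ι
  haveI := faithfullyFlat_pi_jointlyFF B hB
  haveI := projective_pi B fun i => B i ⊗[A] M
  let e := TensorProduct.piLeft A M B
  have he : ∀ (r : ∀ i, B i) (z : (∀ i, B i) ⊗[A] M), e (r • z) = r • e z := fun r z => by
    induction z using TensorProduct.induction_on with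
    | zero => rw [smul_zero, map_zero, smul_zero]
    | add a b ha hb => rw [smul_add, map_add, map_add, smul_add, ha, hb]
    | tmul b m =>
      funext i
      simp [e, TensorProduct.smul_tmul']
  let e' : ((∀ i, B i) ⊗[A] M) ≃ₗ[∀ i, B i] ∀ i, B i ⊗[A] M := { e with map_smul' := he }
  haveI : Module.Projective (∀ i, B i) ((∀ i, B i) ⊗[A] M) := Module.Projective.of_equiv' e'.symm
  exact Groth.Agent.S0585.result A (∀ i, B i) M

variable {S : Scheme.{u}} {X : Sp S}

/-- sections are projective -/
def ProjAt (M : ModEt X) (E : EtOver X) : Prop := Module.Projective (R E) (sectModEt M E)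

theorem ProjAt.res {M : ModEt X} [M.IsQuasicoherent] {E V : EtOver X} [IsAffine E.obj.left.left]
    [IsAffine V.obj.left.left] (g : V ⟶ E) (h : ProjAt M E) : ProjAt M V := by
  haveI : Module.Projective (R E) (sectModEt M E) := h
  have h' : Module.Projective (Rg g) (Mg M g) :=
    Module.Projective.of_equiv' (isBaseChange_res (M := M) g).equiv
  exact h'

theorem projAt_of_cover {M : ModEt X} [M.IsQuasicoherent] {E : EtOver X} [IsAffine E.obj.left.left]
    (h : ∀ x : E.obj.left.left, ∃ (V : EtOver X) (g : V ⟶ E), IsAffine V.obj.left.left ∧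
      x ∈ Set.range g.hom.left.left ∧ ProjAt M V) : ProjAt M E := by
  obtain ⟨n, V, g, hV, hcov, hP⟩ := exists_finite_cover (W := E) (fun V _ => ProjAt M V) h
  have hB : JointlyFF (A := R E) (fun i => Rg (g i)) := by
    letI : ∀ i, Algebra (R E) (R (V i)) := fun i => (res (g i)).toAlgebra
    exact jointlyFF_res g hcov fun i a => rfl
  haveI : ∀ i, Module.Flat (R E) (Rg (g i)) := fun i => by have := hV i; exact flat_res (g i)
  haveI : ∀ i, Module.Projective (Rg (g i)) (Rg (g i) ⊗[R E] sectModEt M E) := fun i => by
    have := hV i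
    haveI : Module.Projective (Rg (g i)) (Mg M (g i)) := hP i
    exact Module.Projective.of_equiv' (isBaseChange_res (M := M) (g i)).equiv.symm
  exact projective_of_jointlyFF (fun i => Rg (g i)) hB _

end Groth.Agent.EtQC
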