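import Groth.Agent.EtQC.PullTransp

/-!
Sections of the inverse image of a quasi-coherent module over affine objects mapping to the base change of an
affine object.
-/

set_option autoImplicit false
set_option linter.style.haveILetI false
set_option backward.isDefEq.respectTransparency false

universe u

noncomputable section

open CategoryTheory CategoryTheory.Limits AlgebraicGeometry Opposite AlgSp TensorProduct

namespace Groth.Agent.EtQC

variable {S : Scheme.{u}} {X Y : Sp S} {f : X ⟶ Y}

variable (hf : Representable f) [(SheafOfModules.pushforward.{u + 1} (bcRingHom hf)).IsRightAdjoint]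
  (G : ModEt Y) {V : EtOver X} {E : EtOver Y} (c : V ⟶ (EtOver.bc hf).obj E)

/-- a section of the base change of the point -/
def secT : topObj V ⟶ (EtOver.bc (representable_yon_map (gSch hf c))).obj (topObj E) :=
  EtOver.homMk ((representable_yon_map (gSch hf c)).lift (𝟙 _) (gSch hf c)
    ((Category.id_comp _).trans (Category.comp_id _).symm)) ((representable_yon_map (gSch hf c)).lift_fst _ _ _)

theorem hom_ext_phiV [G.IsQuasicoherent] [IsAffine E.obj.left.left] {M : ModEt ((yon S).obj V.obj.left)}
    (h h' : restrTo V ((pullModEt hf).obj G) ⟶ M)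
    (e : ∀ n, appM h (topObj V) (phiV hf G c n) = appM h' (topObj V) (phiV hf G c n)) : h = h' := by
  refine (transp_bijective hf G c).1 ?_
  haveI : IsIso ((ptE E).lift (phiE G (E := E))) := isIso_liftE G
  refine (cancel_epi ((ptE E).lift (phiE G (E := E)))).1 ((ptE E).sheaf_hom_ext _ _ fun n => ?_)
  show appM (transp hf G c h) (topObj E) (appM ((ptE E).lift (phiE G)) (ptE E).t ((ptE E).gen n)) =
    appM (transp hf G c h') (topObj E) (appM ((ptE E).lift (phiE G)) (ptE E).t ((ptE E).gen n))
  rw [(ptE E).lift_gen]
  refine (transp_phiE hf G c h n).trans (Eq.trans ?_ (transp_phiE hf G c h' n).symm)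
  rw [e n]

theorem exists_hom_phiV [G.IsQuasicoherent] [IsAffine E.obj.left.left] {M : ModEt ((yon S).obj V.obj.left)}
    (φ : sectModEt G E →ₗ[R E] (ptV hf c).Mt M (ptV hf c).t) :
    ∃ h : restrTo V ((pullModEt hf).obj G) ⟶ M, ∀ n, appM h (topObj V) (phiV hf G c n) = φ n := by
  let hg := representable_yon_map (gSch hf c)
  let t' := (EtOver.bc hg).obj (topObj E)
  let γ := topHom V t'
  let φ' : sectModEt G E →ₗ[R E] (ptE E).Mt ((pushModEt hg).obj M) (ptE E).t :=
    { toFun := fun n => resM M γ (φ n)
      map_add' := fun n n' => by rw [map_add]; exact map_add (resM M γ) _ _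
      map_smul' := fun a n => by
        rw [map_smul]
        refine (resM_smul γ (res (topHom V (topObj V)) (res (eps V ≫ c) (bcR hf E a))) (φ n)).trans ?_
        refine congrArg (fun r : R t' => r • resM M γ (φ n)) ?_
        show res γ (res (topHom V (topObj V)) (res (eps V ≫ c) (bcR hf E a))) =
          bcR hg (topObj E) (res (topHom E (topObj E)) (res (eps E) a))
        rw [show topHom V (topObj V) = 𝟙 _ from (topHom_uniq V (𝟙 _)).symm,
          show topHom E (topObj E) = 𝟙 _ from (topHom_uniq E (𝟙 _)).symm, res_id, res_id]
        show ULift.up _ = ULift.up _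
        congr 1
        show ((hf.snd E.obj.hom).left.appTop ≫ ((eps V ≫ c).hom.left).left.appTop ≫
            γ.hom.left.left.appTop).hom a.down =
          ((eps E).hom.left.left.appTop ≫ (hg.snd (topObj E).obj.hom).left.appTop).hom a.down
        rw [← Scheme.Hom.comp_appTop, ← Scheme.Hom.comp_appTop, ← Scheme.Hom.comp_appTop, ← Over.comp_left,
          ← Over.comp_left, ← Over.comp_left]
        refine congrArg (fun q : _ ⟶ E.obj.left => (Scheme.Hom.appTop q.left).hom a.down) ?_
        refine Eq.trans ?_ (Category.comp_id _).symm
        refine Eq.trans ?_ (topHom_snd hf c)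
        show (γ.hom.left ≫ 𝟙 _ ≫ c.hom.left) ≫ hf.snd E.obj.hom = _
        rw [Category.id_comp, Category.assoc] }
  haveI : IsIso ((ptE E).lift (phiE G (E := E))) := isIso_liftE G
  obtain ⟨h, hh⟩ := (transp_bijective hf G c).2 (inv ((ptE E).lift (phiE G (E := E))) ≫ (ptE E).lift φ')
  refine ⟨h, fun n => ?_⟩
  have h1 : resM M γ (appM h (topObj V) (phiV hf G c n)) = resM M γ (φ n) := by
    refine (transp_phiE hf G c h n).symm.trans ?_
    rw [hh, ← (ptE E).lift_gen (phiE G (E := E)) n]
    refine Eq.trans ?_ ((ptE E).lift_gen φ' n)
    exact congrArg (fun q : (ptE E).sheaf (sectModEt G E) ⟶ (pushModEt hg).obj M => appM q (ptE E).t ((ptE E).gen n))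
      (IsIso.hom_inv_id_assoc ((ptE E).lift (phiE G (E := E))) ((ptE E).lift φ'))
  have h2 := congrArg (resM M (secT hf c)) h1
  rwa [← resM_comp, ← resM_comp, show secT hf c ≫ γ = 𝟙 _ from
    (topHom_uniq V _).trans (topHom_uniq V (𝟙 _)).symm, resM_id, resM_id] at h2

theorem descW_phiV_bijective [G.IsQuasicoherent] [IsAffine E.obj.left.left] [IsAffine V.obj.left.left] :
    Function.Bijective ((ptV hf c).descW (phiV hf G c) (ptV hf c).t) := by
  haveI : IsAffine (ptV hf c).t.obj.left.left := isAffine_topObj V
  let p := ptV hf c
  let φQ : sectModEt G E →ₗ[R E] p.Mt (p.sheaf (sectModEt G E)) p.t :=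
    { toFun := fun n => p.gen n
      map_add' := fun n n' => by
        show (p.eta _).app (op p.t) (p.mkP _ _) = _
        rw [TensorProduct.tmul_add]
        exact map_add ((p.eta (sectModEt G E)).app (op p.t)).hom _ _
      map_smul' := fun a n => by
        show (p.eta _).app (op p.t) (p.mkP _ _) = _
        rw [TensorProduct.tmul_smul, ← IsScalarTower.algebraMap_smul (p.Rt p.t) a ((1 : p.Rt p.t) ⊗ₜ[R E] n)]
        exact map_smul ((p.eta (sectModEt G E)).app (op p.t)).hom (show R p.t from algebraMap (R E) (p.Rt p.t) a)
          (p.mkP (sectModEt G E) ((1 : p.Rt p.t) ⊗ₜ n)) }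
  obtain ⟨v, hv⟩ := exists_hom_phiV hf G c φQ
  let u := p.lift (phiV hf G c)
  have hvu : u ≫ v = 𝟙 _ := p.sheaf_hom_ext _ _ fun n => by
    show appM v p.t (appM u p.t (p.gen n)) = p.gen n
    rw [p.lift_gen]
    exact hv n
  have huv : v ≫ u = 𝟙 _ := hom_ext_phiV hf G c _ _ fun n => by
    show appM u p.t (appM v (topObj V) (phiV hf G c n)) = phiV hf G c n
    rw [hv n]
    exact p.lift_gen _ n
  have hb : Function.Bijective (appM u p.t) :=
    ⟨Function.LeftInverse.injective (g := appM v p.t) fun s =>
      congrArg (fun q : p.sheaf (sectModEt G E) ⟶ p.sheaf (sectModEt G E) => appM q p.t s) hvu,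
     Function.RightInverse.surjective (g := appM v p.t) fun s =>
      congrArg (fun q : restrTo V ((pullModEt hf).obj G) ⟶ restrTo V ((pullModEt hf).obj G) => appM q p.t s) huv⟩
  rw [show ((ptV hf c).descW (phiV hf G c) (ptV hf c).t : _ → _) = (appM u p.t : _ → _) ∘
    (fun z : p.TN (sectModEt G E) p.t => (p.eta (sectModEt G E)).app (op p.t) (p.mkP _ z)) from
    funext fun z => (p.lift_apply _ p.t z).symm]
  exact hb.comp (p.eta_bijective (sectModEt G E) p.t)

/-- the functions on the source as an algebra over those on the target -/
def Rc (_hf : Representable f) (_c : V ⟶ (EtOver.bc _hf).obj E) : Type (u + 1) := R V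

instance : CommRing (Rc hf c) := inferInstanceAs (CommRing (R V))
instance instAlgRc : Algebra (R E) (Rc hf c) := RingHom.toAlgebra ((res c).comp (bcR hf E))

/-- the sections on the source as a module over the functions on the target -/
def Mc (_hf : Representable f) (_c : V ⟶ (EtOver.bc _hf).obj E) (M : ModEt X) : Type (u + 1) := sectModEt M V

instance (M : ModEt X) : AddCommGroup (Mc hf c M) := inferInstanceAs (AddCommGroup (sectModEt M V))
instance instModRcMc (M : ModEt X) : Module (Rc hf c) (Mc hf c M) := inferInstanceAs (Module (R V) (sectModEt M V))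
instance instModMc (M : ModEt X) : Module (R E) (Mc hf c M) := Module.compHom _ (algebraMap (R E) (Rc hf c))
instance (M : ModEt X) : IsScalarTower (R E) (Rc hf c) (Mc hf c M) :=
  IsScalarTower.of_algebraMap_smul fun _ _ => rfl

/-- pullback of sections -/
def resC : sectModEt G E →ₗ[R E] Mc hf c ((pullModEt hf).obj G) where
  toFun n := resM ((pullModEt hf).obj G) c (appM ((pullPushAdjModEt hf).unit.app G) E n)
  map_add' n n' := by rw [map_add]; exact map_add (resM _ _) _ _
  map_smul' a n := by
    rw [map_smul]
    exact resM_smul c (bcR hf E a) (show sectModEt _ ((EtOver.bc hf).obj E) from _)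

theorem resC_apply (n : sectModEt G E) :
    resC hf G c n = resM ((pullModEt hf).obj G) c (appM ((pullPushAdjModEt hf).unit.app G) E n) := rfl

/-- the inverse image is computed by base change of sections -/
theorem isBaseChange_pull [G.IsQuasicoherent] [IsAffine E.obj.left.left] [IsAffine V.obj.left.left] :
    IsBaseChange (Rc hf c) (resC hf G c) := by
  let P := (pullModEt hf).obj G
  let p := ptV hf c
  let L := LinearMap.liftBaseChange (Rc hf c) (resC hf G c)
  let χ : Rc hf c ≃ₗ[R E] p.Rt p.t :=
    { toFun := fun r => res (eps V) (show R V from r)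
      invFun := fun r => res (epsInv V) (show R _ from r)
      left_inv := fun r => by
        show res (epsInv V) (res (eps V) (show R V from r)) = r
        rw [← res_comp, epsInv_eps]
        exact res_id V r
      right_inv := fun r => by
        show res (eps V) (res (epsInv V) (show R _ from r)) = r
        rw [← res_comp, eps_epsInv]
        exact res_id _ r
      map_add' := map_add (res (eps V))
      map_smul' := fun a r => by
        show res (eps V) (res c (bcR hf E a) * (show R V from r)) =
          (show R ((EtOver.postcomp V.obj.hom (isEtaleMor_hom V)).obj (topObj V)) from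
            res (topHom V (topObj V)) (res (eps V ≫ c) (bcR hf E a))) * res (eps V) (show R V from r)
        rw [map_mul, show topHom V (topObj V) = 𝟙 _ from (topHom_uniq V (𝟙 _)).symm, res_comp c (eps V)]
        exact congrArg (· * res (eps V) (show R V from r)) (res_id (topObj V) _).symm }
  have hsq : ∀ z, resM P (eps V) (L z) =
      p.descW (phiV hf G c) p.t (TensorProduct.congr χ (LinearEquiv.refl (R E) (sectModEt G E)) z) := fun z => by
    induction z using TensorProduct.induction_on with
    | zero =>
      exact ((congrArg (resM P (eps V)) (map_zero L)).trans (map_zero _)).trans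
        (((congrArg (p.descW (phiV hf G c) p.t) (map_zero _))).trans (map_zero _)).symm
    | tmul b n =>
      rw [TensorProduct.congr_tmul]
      refine Eq.trans ?_ (p.descW_tmul (phiV hf G c) p.t (χ b) n).symm
      rw [show L (b ⊗ₜ[R E] n) = b • resC hf G c n from LinearMap.liftBaseChange_tmul _ _ _ _]
      refine (resM_smul (eps V) (show R V from b) (show sectModEt P V from resC hf G c n)).trans ?_
      refine congrArg (fun x : sectModEt P ((EtOver.postcomp V.obj.hom (isEtaleMor_hom V)).obj (topObj V)) =>
        res (eps V) (show R V from b) • x) ?_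
      show resM P (eps V) (resM P c _) =
        resM P ((EtOver.postcomp V.obj.hom (isEtaleMor_hom V)).map (topHom V (topObj V))) (resM P (eps V ≫ c) _)
      rw [show topHom V (topObj V) = 𝟙 _ from (topHom_uniq V (𝟙 _)).symm, CategoryTheory.Functor.map_id, resM_id, resM_comp]
    | add z z' h h' =>
      refine (congrArg (resM P (eps V)) (map_add L z z')).trans ((map_add (resM P (eps V)) _ _).trans ?_)
      refine Eq.trans ?_ ((congrArg (p.descW (phiV hf G c) p.t) (map_add _ z z')).trans (map_add _ _ _)).symm
      exact congrArg₂ (· + ·) h h'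
  have hb : Function.Bijective L := by
    have hr : Function.Bijective (resM P (eps V)) :=
      ⟨Function.LeftInverse.injective (g := resM P (epsInv V)) fun s => by
          rw [← resM_comp, epsInv_eps, resM_id],
        Function.RightInverse.surjective (g := resM P (epsInv V)) fun s => by
          rw [← resM_comp, eps_epsInv, resM_id]⟩
    refine (Function.Bijective.of_comp_iff' hr L).1 ?_
    rw [show (resM P (eps V) : _ → _) ∘ L = (p.descW (phiV hf G c) p.t : _ → _) ∘
      (TensorProduct.congr χ (LinearEquiv.refl (R E) (sectModEt G E))) from funext hsq]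
    exact (descW_phiV_bijective hf G c).comp (LinearEquiv.bijective _)
  refine IsBaseChange.of_equiv (LinearEquiv.ofBijective L hb) fun n => ?_
  exact (LinearMap.liftBaseChange_tmul _ _ _ _).trans (one_smul _ _)

end Groth.Agent.EtQC
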