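import Groth.Agent.EtQC.Tilde
import Groth.Agent.EtQC.EtPullExact
import Groth.Agent.EtQC.Closure
import Groth.Agent.EtQC.PullExist

/-!
The inverse image of a quasi-coherent module along a representable morphism: sections on affine objects.
-/

set_option autoImplicit false
set_option linter.style.haveILetI false
set_option backward.isDefEq.respectTransparency false

universe u

noncomputable section

open CategoryTheory CategoryTheory.Limits AlgebraicGeometry Opposite AlgSp TensorProduct

namespace Groth.Agent.EtQC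

variable {S : Scheme.{u}}

/-- pullback of functions to the base change of an object -/
abbrev bcR {X Y : Sp S} {f : X ⟶ Y} (hf : Representable f) (W : EtOver Y) : R W →+* R ((EtOver.bc hf).obj W) :=
  ((bcRingHom hf).hom.app (op W)).hom

theorem bcR_apply {X Y : Sp S} {f : X ⟶ Y} (hf : Representable f) (W : EtOver Y) (a : R W) :
    bcR hf W a = ULift.up ((hf.snd W.obj.hom).left.appTop.hom a.down) := rfl

/-! ### base change along a commutative square -/

section Square

variable {A B B' C : Sp S} {a : A ⟶ B} {b : B ⟶ C} {a' : A ⟶ B'} {b' : B' ⟶ C} (ha : Representable a)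
  (hb : Representable b) (ha' : Representable a') (hb' : Representable b') (w : a ≫ b = a' ≫ b')

/-- the comparison of iterated base changes -/
def kappa (W : EtOver C) :
    (EtOver.bc ha').obj ((EtOver.bc hb').obj W) ⟶ (EtOver.bc ha).obj ((EtOver.bc hb).obj W) :=
  EtOver.homMk (ha.lift (ha'.fst ((EtOver.bc hb').obj W).obj.hom)
      (hb.lift (ha'.fst ((EtOver.bc hb').obj W).obj.hom ≫ a)
        (ha'.snd ((EtOver.bc hb').obj W).obj.hom ≫ hb'.snd W.obj.hom) (by
          rw [Category.assoc, w, ← Category.assoc, ha'.w, Functor.map_comp, Category.assoc]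
          exact (congrArg ((yon S).map (ha'.snd _) ≫ ·) (hb'.w W.obj.hom)).trans (Category.assoc _ _ _).symm))
      (hb.lift_fst _ _ _).symm) (ha.lift_fst _ _ _)

theorem kappa_snd (W : EtOver C) :
    (kappa ha hb ha' hb' w W).hom.left ≫ ha.snd ((EtOver.bc hb).obj W).obj.hom ≫ hb.snd W.obj.hom =
      ha'.snd ((EtOver.bc hb').obj W).obj.hom ≫ hb'.snd W.obj.hom := by
  refine (Category.assoc _ _ _).symm.trans ?_
  refine (congrArg (· ≫ hb.snd W.obj.hom) (ha.lift_snd _ _ _)).trans ?_
  exact hb.lift_snd _ _ _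

theorem bc_bc_hom_ext {Z : EtOver A} {W : EtOver C} (p q : Z ⟶ (EtOver.bc ha).obj ((EtOver.bc hb).obj W))
    (h : p.hom.left ≫ ha.snd ((EtOver.bc hb).obj W).obj.hom ≫ hb.snd W.obj.hom =
      q.hom.left ≫ ha.snd ((EtOver.bc hb).obj W).obj.hom ≫ hb.snd W.obj.hom) : p = q := by
  have h1 : (yon S).map p.hom.left ≫ ha.fst ((EtOver.bc hb).obj W).obj.hom =
      (yon S).map q.hom.left ≫ ha.fst ((EtOver.bc hb).obj W).obj.hom := (EtOver.w p).trans (EtOver.w q).symm
  refine EtOver.hom_ext _ _ (ha.hom_ext h1 (hb.hom_ext ?_ ?_))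
  · rw [Functor.map_comp, Functor.map_comp, Category.assoc, Category.assoc]
    refine (congrArg ((yon S).map p.hom.left ≫ ·) (ha.w _).symm).trans
      (Eq.trans ?_ (congrArg ((yon S).map q.hom.left ≫ ·) (ha.w _)))
    rw [← Category.assoc, ← Category.assoc, h1]
  · rw [Category.assoc, Category.assoc]
    exact h

theorem kappa_naturality {W W' : EtOver C} (g : W ⟶ W') :
    kappa ha hb ha' hb' w W ≫ (EtOver.bc ha).map ((EtOver.bc hb).map g) =
      (EtOver.bc ha').map ((EtOver.bc hb').map g) ≫ kappa ha hb ha' hb' w W' := by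
  refine bc_bc_hom_ext ha hb _ _ ?_
  have e1 : ∀ {V V' : EtOver C} (g : V ⟶ V'),
      (EtOver.bcMap ha (EtOver.bcMap hb g)).hom.left ≫ ha.snd ((EtOver.bc hb).obj V').obj.hom ≫ hb.snd V'.obj.hom =
        (ha.snd ((EtOver.bc hb).obj V).obj.hom ≫ hb.snd V.obj.hom) ≫ g.hom.left := fun {V V'} g =>
    (Category.assoc _ _ _).symm.trans ((congrArg (· ≫ hb.snd V'.obj.hom) (EtOver.bcMap_snd ha _)).trans
      ((Category.assoc _ _ _).trans ((congrArg (ha.snd _ ≫ ·) (EtOver.bcMap_snd hb g)).trans
        (Category.assoc _ _ _).symm)))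
  have e2 : ∀ {V V' : EtOver C} (g : V ⟶ V'),
      (EtOver.bcMap ha' (EtOver.bcMap hb' g)).hom.left ≫ ha'.snd ((EtOver.bc hb').obj V').obj.hom ≫ hb'.snd V'.obj.hom =
        (ha'.snd ((EtOver.bc hb').obj V).obj.hom ≫ hb'.snd V.obj.hom) ≫ g.hom.left := fun {V V'} g =>
    (Category.assoc _ _ _).symm.trans ((congrArg (· ≫ hb'.snd V'.obj.hom) (EtOver.bcMap_snd ha' _)).trans
      ((Category.assoc _ _ _).trans ((congrArg (ha'.snd _ ≫ ·) (EtOver.bcMap_snd hb' g)).trans
        (Category.assoc _ _ _).symm)))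
  refine (Category.assoc _ _ _).trans (Eq.trans ?_ (Category.assoc _ _ _).symm)
  refine (congrArg ((kappa ha hb ha' hb' w W).hom.left ≫ ·) (e1 g)).trans ?_
  refine Eq.trans ?_ (congrArg ((EtOver.bcMap ha' (EtOver.bcMap hb' g)).hom.left ≫ ·) (kappa_snd ha hb ha' hb' w W')).symm
  exact ((Category.assoc _ _ _).symm.trans
    (congrArg (· ≫ g.hom.left) (kappa_snd ha hb ha' hb' w W))).trans (e2 g).symm

theorem kappa_kappa (W : EtOver C) :
    kappa ha hb ha' hb' w W ≫ kappa ha' hb' ha hb w.symm W = 𝟙 _ := by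
  refine bc_bc_hom_ext ha' hb' _ _ ?_
  show ((kappa ha hb ha' hb' w W).hom.left ≫ (kappa ha' hb' ha hb w.symm W).hom.left) ≫ _ = 𝟙 _ ≫ _
  rw [Category.assoc, kappa_snd, kappa_snd]
  exact (Category.id_comp _).symm

theorem res_kappa (W : EtOver C) (r : R W) :
    res (kappa ha hb ha' hb' w W) (bcR ha _ (bcR hb W r)) = bcR ha' _ (bcR hb' W r) := by
  show ULift.up _ = ULift.up _
  congr 1
  show ((hb.snd W.obj.hom).left.appTop ≫ (ha.snd ((EtOver.bc hb).obj W).obj.hom).left.appTop ≫
      (kappa ha hb ha' hb' w W).hom.left.left.appTop).hom r.down =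
    ((hb'.snd W.obj.hom).left.appTop ≫ (ha'.snd ((EtOver.bc hb').obj W).obj.hom).left.appTop).hom r.down
  rw [← Scheme.Hom.comp_appTop, ← Scheme.Hom.comp_appTop, ← Scheme.Hom.comp_appTop, ← Over.comp_left,
    ← Over.comp_left, ← Over.comp_left]
  exact congrArg (fun q : _ ⟶ W.obj.left => (Scheme.Hom.appTop q.left).hom r.down)
    ((Category.assoc _ _ _).trans (kappa_snd ha hb ha' hb' w W))

variable (M : ModEt A)

/-- comparison of iterated direct images -/
def squareMap : (pushModEt hb).obj ((pushModEt ha).obj M) ⟶ (pushModEt hb').obj ((pushModEt ha').obj M) :=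
  ⟨PresheafOfModules.homMk
    { app := fun W => AddCommGrpCat.ofHom (resM M (kappa ha hb ha' hb' w W.unop))
      naturality := fun {W W'} g => AddCommGrpCat.ext fun s => by
        show resM M (kappa ha hb ha' hb' w W'.unop) (resM M ((EtOver.bc ha).map ((EtOver.bc hb).map g.unop)) s) =
          resM M ((EtOver.bc ha').map ((EtOver.bc hb').map g.unop)) (resM M (kappa ha hb ha' hb' w W.unop) s)
        rw [← resM_comp, ← resM_comp, kappa_naturality] }
    fun W r s => by
      show resM M (kappa ha hb ha' hb' w W.unop) (bcR ha _ (bcR hb W.unop r) • (show sectModEt M _ from s)) = _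
      rw [resM_smul, res_kappa]
      rfl⟩

theorem squareMap_squareMap :
    squareMap ha hb ha' hb' w M ≫ squareMap ha' hb' ha hb w.symm M = 𝟙 _ := by
  refine SheafOfModules.hom_ext (PresheafOfModules.hom_ext fun W => ModuleCat.hom_ext (LinearMap.ext fun s => ?_))
  show resM M (kappa ha' hb' ha hb w.symm W.unop) (resM M (kappa ha hb ha' hb' w W.unop) s) = s
  rw [← resM_comp, kappa_kappa, resM_id]

/-- the iterated direct images agree -/
def squareIso : (pushModEt hb).obj ((pushModEt ha).obj M) ≅ (pushModEt hb').obj ((pushModEt ha').obj M) where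
  hom := squareMap ha hb ha' hb' w M
  inv := squareMap ha' hb' ha hb w.symm M
  hom_inv_id := squareMap_squareMap ha hb ha' hb' w M
  inv_hom_id := squareMap_squareMap ha' hb' ha hb w.symm M

end Square

/-! ### transposition formulas -/

section Formulas

variable {X Y : Sp S} {f : X ⟶ Y} (hf : Representable f) (he : IsEtaleMor f)

theorem restr_homEquiv {G : ModEt Y} {M : ModEt X}
    (h : (SheafOfModules.pushforward.{u + 1} (postRingHom he)).obj G ⟶ M) (W : EtOver Y) (s : sectModEt G W) :
    appM ((restrPushAdj hf he).homEquiv G M h) W s =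
      (h.val.app (op ((EtOver.bc hf).obj W))).hom (resM G ((postBcAdj hf he).counit.app W) s) := rfl

theorem restr_homEquiv_symm {G : ModEt Y} {M : ModEt X} (h : G ⟶ (pushModEt hf).obj M) (Z : EtOver X)
    (s : sectModEt G ((EtOver.postcomp f he).obj Z)) :
    (((restrPushAdj hf he).homEquiv G M).symm h).val.app (op Z) s =
      resM M ((postBcAdj hf he).unit.app Z) (h.val.app (op ((EtOver.postcomp f he).obj Z)) s) := rfl

theorem pull_homEquiv [(SheafOfModules.pushforward.{u + 1} (bcRingHom hf)).IsRightAdjoint] {G : ModEt Y}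
    {M : ModEt X} (h : (pullModEt hf).obj G ⟶ M) (W : EtOver Y) (s : sectModEt G W) :
    appM ((pullPushAdjModEt hf).homEquiv G M h) W s =
      h.val.app (op ((EtOver.bc hf).obj W)) (appM ((pullPushAdjModEt hf).unit.app G) W s) := by
  rw [Adjunction.homEquiv_unit]
  rfl

end Formulas

/-! ### the point of an object -/

section Point

variable {X : Sp S} (E : EtOver X)

theorem isEtaleMor_hom : IsEtaleMor E.obj.hom := AlgSp.isEtaleMor_of_repWith _ E.property

/-- the terminal object over the scheme of an object -/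
def topObj : EtOver ((yon S).obj E.obj.left) :=
  EtOver.mk (𝟙 ((yon S).obj E.obj.left)) ((repWith_isMultiplicative (S := S) @Etale).id_mem _)

instance isAffine_topObj [h : IsAffine E.obj.left.left] : IsAffine (topObj E).obj.left.left := h

/-- the map to the terminal object -/
def topHom (W : EtOver ((yon S).obj E.obj.left)) : W ⟶ topObj E :=
  EtOver.homMk ((yon S).preimage W.obj.hom) (by
    show (yon S).map _ ≫ 𝟙 _ = _
    rw [Category.comp_id, Functor.map_preimage])

theorem topHom_uniq {W : EtOver ((yon S).obj E.obj.left)} (a : W ⟶ topObj E) : a = topHom E W :=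
  EtOver.hom_ext _ _ ((yon S).map_injective (by
    rw [show (topHom E W).hom.left = (yon S).preimage W.obj.hom from rfl, Functor.map_preimage]
    exact ((Category.comp_id _).symm.trans (EtOver.w a) :)))

/-- restriction to an object -/
abbrev restrTo (G : ModEt X) : ModEt ((yon S).obj E.obj.left) :=
  (SheafOfModules.pushforward.{u + 1} (postRingHom (isEtaleMor_hom E))).obj G

/-- the object seen from itself -/
def eps : (EtOver.postcomp E.obj.hom (isEtaleMor_hom E)).obj (topObj E) ⟶ E :=
  EtOver.homMk (𝟙 _) (by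
    show (yon S).map (𝟙 _) ≫ E.obj.hom = 𝟙 _ ≫ E.obj.hom
    rw [(yon S).map_id])

/-- the inverse of `eps` -/
def epsInv : E ⟶ (EtOver.postcomp E.obj.hom (isEtaleMor_hom E)).obj (topObj E) :=
  EtOver.homMk (𝟙 _) (by
    show (yon S).map (𝟙 _) ≫ 𝟙 _ ≫ E.obj.hom = E.obj.hom
    rw [(yon S).map_id, Category.id_comp]
    exact Category.id_comp _)

theorem eps_epsInv : eps E ≫ epsInv E = 𝟙 _ := EtOver.hom_ext _ _ (Category.id_comp _)

theorem epsInv_eps : epsInv E ≫ eps E = 𝟙 _ := EtOver.hom_ext _ _ (Category.id_comp _)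

end Point

end Groth.Agent.EtQC
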