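import Groth.Agent.EtQC.PullPts

/-!
Sections of the inverse image of a quasi-coherent module over affine objects mapping to the base change of an
affine object.
-/

set_option autoImplicit false
set_option linter.style.haveILetI false
set_option backward.isDefEq.respectTransparency false

universe u

noncomputable section

open CategoryTheory CategoryTheory.Limits AlgebraicGeometry Opposite AlgSp TensorProduct

namespace Groth.Agent.EtQC

variable {S : Scheme.{u}} {X Y : Sp S} {f : X ⟶ Y}

variable (hf : Representable f) [(SheafOfModules.pushforward.{u + 1} (bcRingHom hf)).IsRightAdjoint]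
  (G : ModEt Y) {V : EtOver X} {E : EtOver Y} (c : V ⟶ (EtOver.bc hf).obj E)

variable {M : ModEt ((yon S).obj V.obj.left)}

section GenDef

variable {A B' : Sp S} {j : A ⟶ X} {g : A ⟶ B'} {e : B' ⟶ Y} (hj : Representable j) (hje : IsEtaleMor j)
  (hg : Representable g) (he : Representable e) (hee : IsEtaleMor e) (w : j ≫ f = g ≫ e) {N : ModEt A}

/-- transposition along a square -/
def transpGen (h : (SheafOfModules.pushforward.{u + 1} (postRingHom hje)).obj ((pullModEt hf).obj G) ⟶ N) :
    (SheafOfModules.pushforward.{u + 1} (postRingHom hee)).obj G ⟶ (pushModEt hg).obj N :=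
  ((restrPushAdj he hee).homEquiv G ((pushModEt hg).obj N)).symm
    ((pullPushAdjModEt hf).homEquiv G ((pushModEt hj).obj N)
      ((restrPushAdj hj hje).homEquiv ((pullModEt hf).obj G) N h) ≫ (squareIso hj hf hg he w N).hom)

theorem transpGen_bijective : Function.Bijective (transpGen hf G hj hje hg he hee w (N := N)) := by
  have h1 := ((restrPushAdj hj hje).homEquiv ((pullModEt hf).obj G) N).bijective
  have h2 := ((pullPushAdjModEt hf).homEquiv G ((pushModEt hj).obj N)).bijective
  have h3 : Function.Bijective (fun q : G ⟶ (pushModEt hf).obj ((pushModEt hj).obj N) =>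
      q ≫ (squareIso hj hf hg he w N).hom) :=
    ⟨fun a b hab => (cancel_mono (squareIso hj hf hg he w N).hom).1 hab,
     fun r => ⟨r ≫ (squareIso hj hf hg he w N).inv, by
      simp only [Category.assoc, Iso.inv_hom_id, Category.comp_id]⟩⟩
  have h4 := ((restrPushAdj he hee).homEquiv G ((pushModEt hg).obj N)).symm.bijective
  exact ((h4.comp h3).comp h2).comp h1

end GenDef

/-- transposition to the target -/
def transp (h : restrTo V ((pullModEt hf).obj G) ⟶ M) :
    restrTo E G ⟶ (pushModEt (representable_yon_map (gSch hf c))).obj M :=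
  transpGen hf G V.property.1 (isEtaleMor_hom V) (representable_yon_map (gSch hf c)) E.property.1 (isEtaleMor_hom E)
    (square hf c) h

theorem transp_bijective : Function.Bijective (transp hf G c (M := M)) :=
  transpGen_bijective hf G V.property.1 (isEtaleMor_hom V) (representable_yon_map (gSch hf c)) E.property.1
    (isEtaleMor_hom E) (square hf c)

omit [(SheafOfModules.pushforward.{u + 1} (bcRingHom hf)).IsRightAdjoint] in
theorem topHom_snd :
    (topHom V ((EtOver.bc (representable_yon_map (gSch hf c))).obj (topObj E))).hom.left ≫ gSch hf c =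
      (representable_yon_map (gSch hf c)).snd (topObj E).obj.hom := by
  refine (yon S).map_injective ?_
  refine ((yon S).map_comp _ _).trans ?_
  refine (congrArg (· ≫ (yon S).map (gSch hf c)) ((congrArg (yon S).map (show (topHom V ((EtOver.bc (representable_yon_map (gSch hf c))).obj (topObj E))).hom.left =
    (yon S).preimage ((representable_yon_map (gSch hf c)).fst (topObj E).obj.hom) from rfl)).trans
      (Functor.map_preimage _ _))).trans ?_
  exact ((representable_yon_map (gSch hf c)).w (topObj E).obj.hom).trans (Category.comp_id _)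

omit [(SheafOfModules.pushforward.{u + 1} (bcRingHom hf)).IsRightAdjoint] in
theorem appM_comp' {Z : Sp S} {P Q T : ModEt Z} (φ : P ⟶ Q) (ψ : Q ⟶ T) (W : EtOver Z) (s : sectModEt P W) :
    appM (φ ≫ ψ) W s = appM ψ W (appM φ W s) := rfl

omit [(SheafOfModules.pushforward.{u + 1} (bcRingHom hf)).IsRightAdjoint] in
theorem appM_squareIso {A B B' C : Sp S} {a : A ⟶ B} {b : B ⟶ C} {a' : A ⟶ B'} {b' : B' ⟶ C} (ha : Representable a)
    (hb : Representable b) (ha' : Representable a') (hb' : Representable b') (w : a ≫ b = a' ≫ b') (P : ModEt A)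
    (W : EtOver C) (s : sectModEt ((pushModEt hb).obj ((pushModEt ha).obj P)) W) :
    appM (squareIso ha hb ha' hb' w P).hom W s =
      resM P (kappa ha hb ha' hb' w W) (show sectModEt P ((EtOver.bc ha).obj ((EtOver.bc hb).obj W)) from s) := rfl

omit [(SheafOfModules.pushforward.{u + 1} (bcRingHom hf)).IsRightAdjoint] in
theorem transp_hom_eq :
    (EtOver.postcomp V.obj.hom (isEtaleMor_hom V)).map
        ((EtOver.bc (representable_yon_map (gSch hf c))).map ((postBcAdj E.property.1 (isEtaleMor_hom E)).unit.app (topObj E)) ≫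
          kappa V.property.1 hf (representable_yon_map (gSch hf c)) E.property.1 (square hf c)
            ((EtOver.postcomp E.obj.hom (isEtaleMor_hom E)).obj (topObj E))) ≫
      (postBcAdj V.property.1 (isEtaleMor_hom V)).counit.app
        ((EtOver.bc hf).obj ((EtOver.postcomp E.obj.hom (isEtaleMor_hom E)).obj (topObj E))) ≫
        (EtOver.bc hf).map (eps E) =
      (EtOver.postcomp V.obj.hom (isEtaleMor_hom V)).map
        (topHom V ((EtOver.bc (representable_yon_map (gSch hf c))).obj (topObj E))) ≫ eps V ≫ c := by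
  refine EtOver.hom_ext _ _ (hf.hom_ext ((EtOver.w _).trans (EtOver.w _).symm) ?_)
  refine (Category.assoc _ _ _).trans ?_
  refine (congrArg (_ ≫ ·) ((Category.assoc _ _ _).trans
    (congrArg (_ ≫ ·) (EtOver.bcMap_snd hf (eps E))))).trans ?_
  refine Eq.trans ?_ ((topHom_snd hf c).symm.trans
    ((congrArg (_ ≫ ·) (congrArg (· ≫ hf.snd E.obj.hom) (Category.id_comp c.hom.left).symm)).trans
      (Category.assoc _ _ _).symm))
  refine (congrArg (_ ≫ ·) (congrArg₂ (· ≫ ·)
    (postBcAdj_counit V.property.1 (isEtaleMor_hom V) _) (Category.comp_id _))).trans ?_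
  refine (Category.assoc _ _ _).trans ?_
  refine (congrArg (_ ≫ ·) (kappa_snd V.property.1 hf (representable_yon_map (gSch hf c)) E.property.1 (square hf c)
    ((EtOver.postcomp E.obj.hom (isEtaleMor_hom E)).obj (topObj E)))).trans ?_
  refine (Category.assoc _ _ _).symm.trans ?_
  refine (congrArg (· ≫ _) (EtOver.bcMap_snd (representable_yon_map (gSch hf c)) _)).trans ?_
  exact (Category.assoc _ _ _).trans ((congrArg (_ ≫ ·)
      (postBcAdj_unit E.property.1 (isEtaleMor_hom E) (topObj E))).trans (Category.comp_id _))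

section Gen

variable {A B' : Sp S} {j : A ⟶ X} {g : A ⟶ B'} {e : B' ⟶ Y} (hj : Representable j) (hje : IsEtaleMor j)
  (hg : Representable g) (he : Representable e) (hee : IsEtaleMor e) (w : j ≫ f = g ≫ e) {N : ModEt A}

omit [(SheafOfModules.pushforward.{u + 1} (bcRingHom hf)).IsRightAdjoint] in
theorem appM_symm {G₀ : ModEt Y} {e' : B' ⟶ Y} (he' : Representable e') (hee' : IsEtaleMor e') {P : ModEt B'}
    (h₀ : G₀ ⟶ (pushModEt he').obj P) (Z : EtOver B') (s : sectModEt G₀ ((EtOver.postcomp e' hee').obj Z)) :
    appM (((restrPushAdj he' hee').homEquiv G₀ P).symm h₀) Z s =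
      resM P ((postBcAdj he' hee').unit.app Z) (appM h₀ ((EtOver.postcomp e' hee').obj Z) s) :=
  restr_homEquiv_symm he' hee' h₀ Z s

theorem appM_pull {G₀ : ModEt Y} {P : ModEt X} (h₀ : (pullModEt hf).obj G₀ ⟶ P) (W : EtOver Y) (s : sectModEt G₀ W) :
    appM ((pullPushAdjModEt hf).homEquiv G₀ P h₀) W s =
      appM h₀ ((EtOver.bc hf).obj W) (appM ((pullPushAdjModEt hf).unit.app G₀) W s) :=
  pull_homEquiv hf h₀ W s

omit [(SheafOfModules.pushforward.{u + 1} (bcRingHom hf)).IsRightAdjoint] in
/-- sections of a module seen in a restriction -/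
def toRestr {A₀ : Sp S} {j₀ : A₀ ⟶ X} (hje₀ : IsEtaleMor j₀) (P : ModEt X) (Z : EtOver A₀) :
    sectModEt P ((EtOver.postcomp j₀ hje₀).obj Z) →+
      sectModEt ((SheafOfModules.pushforward.{u + 1} (postRingHom hje₀)).obj P) Z where
  toFun s := s
  map_zero' := rfl
  map_add' _ _ := rfl

omit [(SheafOfModules.pushforward.{u + 1} (bcRingHom hf)).IsRightAdjoint] in
theorem appM_restr {P : ModEt X} (h₀ : (SheafOfModules.pushforward.{u + 1} (postRingHom hje)).obj P ⟶ N)
    (W : EtOver X) (s : sectModEt P W) :
    appM ((restrPushAdj hj hje).homEquiv P N h₀) W s =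
      appM h₀ ((EtOver.bc hj).obj W) (toRestr hje P _ (resM P ((postBcAdj hj hje).counit.app W) s)) :=
  restr_homEquiv hj hje h₀ W s

theorem transpGen_apply (h : (SheafOfModules.pushforward.{u + 1} (postRingHom hje)).obj ((pullModEt hf).obj G) ⟶ N)
    (Z : EtOver B') (s : sectModEt G ((EtOver.postcomp e hee).obj Z)) :
    appM (transpGen hf G hj hje hg he hee w h) Z s =
      resM N ((EtOver.bc hg).map ((postBcAdj he hee).unit.app Z))
        (resM N (kappa hj hf hg he w ((EtOver.postcomp e hee).obj Z))
          (appM h ((EtOver.bc hj).obj ((EtOver.bc hf).obj ((EtOver.postcomp e hee).obj Z)))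
            (toRestr hje ((pullModEt hf).obj G) _ (resM ((pullModEt hf).obj G) ((postBcAdj hj hje).counit.app
                ((EtOver.bc hf).obj ((EtOver.postcomp e hee).obj Z)))
              (appM ((pullPushAdjModEt hf).unit.app G) ((EtOver.postcomp e hee).obj Z) s))))) := by
  let H := (pullPushAdjModEt hf).homEquiv G _ ((restrPushAdj hj hje).homEquiv _ N h)
  refine (appM_symm (G₀ := G) (P := (pushModEt hg).obj N) he hee (H ≫ (squareIso hj hf hg he w N).hom) Z s).trans ?_
  refine congrArg (resM N ((EtOver.bc hg).map ((postBcAdj he hee).unit.app Z))) ?_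
  refine (appM_comp' H (squareIso hj hf hg he w N).hom ((EtOver.postcomp e hee).obj Z) s).trans ?_
  refine (appM_squareIso hj hf hg he w N ((EtOver.postcomp e hee).obj Z) (appM H ((EtOver.postcomp e hee).obj Z) s)).trans ?_
  refine congrArg (resM N (kappa hj hf hg he w ((EtOver.postcomp e hee).obj Z))) ?_
  refine (appM_pull hf (G₀ := G) (P := (pushModEt hj).obj N) ((restrPushAdj hj hje).homEquiv _ N h) ((EtOver.postcomp e hee).obj Z) s).trans ?_
  exact appM_restr hj hje h ((EtOver.bc hf).obj ((EtOver.postcomp e hee).obj Z)) (appM ((pullPushAdjModEt hf).unit.app G) ((EtOver.postcomp e hee).obj Z) s)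

theorem resM_toRestr {P : ModEt X} {Z₁ Z₂ : EtOver A} (k : Z₂ ⟶ Z₁)
    (s : sectModEt P ((EtOver.postcomp j hje).obj Z₁)) :
    resM ((SheafOfModules.pushforward.{u + 1} (postRingHom hje)).obj P) k (toRestr hje P Z₁ s) =
      toRestr hje P Z₂ (resM P ((EtOver.postcomp j hje).map k) s) := rfl

theorem transpGen_point (h : (SheafOfModules.pushforward.{u + 1} (postRingHom hje)).obj ((pullModEt hf).obj G) ⟶ N)
    {t : EtOver A} {Z : EtOver B'} (γ : (EtOver.bc hg).obj Z ⟶ t) {E₀ : EtOver Y}
    (εE : (EtOver.postcomp e hee).obj Z ⟶ E₀) (c₀ : (EtOver.postcomp j hje).obj t ⟶ (EtOver.bc hf).obj E₀)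
    (heq : (EtOver.postcomp j hje).map ((EtOver.bc hg).map ((postBcAdj he hee).unit.app Z) ≫
        kappa hj hf hg he w ((EtOver.postcomp e hee).obj Z)) ≫
      (postBcAdj hj hje).counit.app ((EtOver.bc hf).obj ((EtOver.postcomp e hee).obj Z)) ≫ (EtOver.bc hf).map εE =
        (EtOver.postcomp j hje).map γ ≫ c₀)
    (n : sectModEt G E₀) :
    appM (transpGen hf G hj hje hg he hee w h) Z (resM G εE n) =
      resM N γ (appM h t (toRestr hje _ t
        (resM ((pullModEt hf).obj G) c₀ (appM ((pullPushAdjModEt hf).unit.app G) E₀ n)))) := by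
  refine (transpGen_apply hf G hj hje hg he hee w h Z (resM G εE n)).trans ?_
  have hη : resM ((pullModEt hf).obj G) ((EtOver.bc hf).map εE) (appM ((pullPushAdjModEt hf).unit.app G) E₀ n) =
      appM ((pullPushAdjModEt hf).unit.app G) ((EtOver.postcomp e hee).obj Z) (resM G εE n) :=
    resM_appM ((pullPushAdjModEt hf).unit.app G) εE n
  refine (resM_comp (M := N) (kappa hj hf hg he w ((EtOver.postcomp e hee).obj Z))
    ((EtOver.bc hg).map ((postBcAdj he hee).unit.app Z)) _).symm.trans ?_
  refine (resM_appM h _ _).trans ((congrArg (appM h _) ?_).trans (resM_appM h γ _).symm)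
  refine (resM_toRestr (hje := hje) _ _).trans ((congrArg (toRestr hje _ _) ?_).trans (resM_toRestr (hje := hje) γ _).symm)
  let P := (pullModEt hf).obj G
  let K := (EtOver.postcomp j hje).map ((EtOver.bc hg).map ((postBcAdj he hee).unit.app Z) ≫
    kappa hj hf hg he w ((EtOver.postcomp e hee).obj Z))
  let q := (postBcAdj hj hje).counit.app ((EtOver.bc hf).obj ((EtOver.postcomp e hee).obj Z))
  let m := appM ((pullPushAdjModEt hf).unit.app G) E₀ n
  refine (congrArg (resM P K) (congrArg (resM P q) hη.symm)).trans ?_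
  refine (congrArg (resM P K) (resM_comp (M := P) ((EtOver.bc hf).map εE) q m).symm).trans ?_
  refine (resM_comp (M := P) (q ≫ (EtOver.bc hf).map εE) K m).symm.trans ?_
  exact (congrArg (fun k => resM P k m) heq).trans (resM_comp (M := P) c₀ ((EtOver.postcomp j hje).map γ) m)

end Gen

theorem transp_phiE (h : restrTo V ((pullModEt hf).obj G) ⟶ M) (n : sectModEt G E) :
    appM (transp hf G c h) (topObj E) (phiE G (E := E) n) =
      resM M (topHom V ((EtOver.bc (representable_yon_map (gSch hf c))).obj (topObj E)))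
        (appM h (topObj V) (phiV hf G c n)) :=
  transpGen_point hf G V.property.1 (isEtaleMor_hom V) (representable_yon_map (gSch hf c)) E.property.1
    (isEtaleMor_hom E) (square hf c) h (topHom V _) (eps E) (eps V ≫ c) (transp_hom_eq hf c) n

end Groth.Agent.EtQC
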