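import Groth.Agent.EtQC.Main
import Groth.Agent.WeakAssFlat.Basic
import Groth.Agent.WeakAssBC.Flat
import Groth.Agent.AlgSpLib.QCompact

/-!
Weakly associated points of quasi-coherent modules on the etale site: charts, independence of the chart.
-/

set_option autoImplicit false
set_option linter.style.haveILetI false
set_option backward.isDefEq.respectTransparency false

universe u

noncomputable section

open CategoryTheory CategoryTheory.Limits AlgebraicGeometry Opposite AlgSp TensorProduct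
open Groth.Agent.WeakAssAlg

namespace Groth.Agent.EtQC

variable {S : Scheme.{u}} {X : Sp S}

/-- the lifted functions back to the functions -/
def downHom (E : EtOver X) : R E →+* Γ(E.obj.left.left, ⊤) := ULift.ringEquiv.toRingHom

theorem downHom_apply (E : EtOver X) (a : R E) : downHom E a = a.down := rfl

theorem downHom_surjective (E : EtOver X) : Function.Surjective (downHom E) := fun a => ⟨ULift.up a, rfl⟩

/-- the prime of a point, in the lifted ring -/
def ptIdeal (E : EtOver X) (u : E.obj.left.left) : Ideal (R E) := (primeAtPt E.obj.left.left u).comap (downHom E)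

instance (E : EtOver X) (u : E.obj.left.left) : (ptIdeal E u).IsPrime :=
  Ideal.IsPrime.comap (downHom E)

theorem mem_ptIdeal (E : EtOver X) (u : E.obj.left.left) (a : R E) :
    a ∈ ptIdeal E u ↔ a.down ∈ primeAtPt E.obj.left.left u := Iff.rfl

theorem ptIdeal_comap {E E' : EtOver X} (g : E' ⟶ E) (u : E'.obj.left.left) :
    (ptIdeal E' u).comap (res g) = ptIdeal E (g.hom.left.left u) := by
  ext a
  rw [Ideal.mem_comap, mem_ptIdeal, mem_ptIdeal, ← primeAtPt_comap, Ideal.mem_comap]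
  rfl

theorem exists_ptIdeal_eq (E : EtOver X) [IsAffine E.obj.left.left] (p : Ideal (R E)) [hp : p.IsPrime] :
    ∃ u, ptIdeal E u = p := by
  obtain ⟨u, hu⟩ := exists_primeAtPt_eq (p.comap (ULift.ringEquiv.symm.toRingHom :
    Γ(E.obj.left.left, ⊤) →+* R E))
  refine ⟨u, ?_⟩
  rw [ptIdeal, hu, Ideal.comap_comap]
  exact Ideal.comap_id p

variable {M : ModEt X}

theorem annihilator_eq_comap {E : EtOver X} (s : sectModEt M E) :
    (Submodule.span (R E) {s}).annihilator = (annSect s).comap (downHom E) := by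
  ext a
  rw [Submodule.mem_annihilator_span_singleton, Ideal.mem_comap, mem_annSect_iff]
  rfl

theorem isWeakAssOn_iff (E : EtOver X) [IsAffine E.obj.left.left] (u : E.obj.left.left) :
    IsWeakAssOn M E u ↔ ptIdeal E u ∈ FlatCA.weakAss (R E) (sectModEt M E) := by
  refine exists_congr fun s => ?_
  show _ ↔ ptIdeal E u ∈ (Submodule.span (R E) {s}).annihilator.minimalPrimes
  rw [annihilator_eq_comap, Ideal.comap_minimalPrimes_eq_of_surjective (downHom_surjective E)]
  exact ((Ideal.comap_injective_of_surjective _ (downHom_surjective E)).mem_set_image).symm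

theorem etale_res {E E' : EtOver X} (g : E' ⟶ E) [IsAffine E.obj.left.left] [IsAffine E'.obj.left.left] :
    Algebra.Etale (R E) (Rg g) := by
  have : Etale g.hom.left.left := EtOver.etale_left g
  have h : g.hom.left.left.appTop.hom.Etale := HasRingHomProperty.appTop (P := @Etale) _ this
  letI : Algebra Γ(E.obj.left.left, ⊤) Γ(E'.obj.left.left, ⊤) := g.hom.left.left.appTop.hom.toAlgebra
  haveI : Algebra.Etale Γ(E.obj.left.left, ⊤) Γ(E'.obj.left.left, ⊤) := h
  letI : Algebra Γ(E.obj.left.left, ⊤) (R E) := (ULift.ringEquiv.symm.toRingHom : Γ(E.obj.left.left, ⊤) →+* R E).toAlgebra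
  letI : Algebra Γ(E.obj.left.left, ⊤) (Rg g) :=
    ((algebraMap (R E) (Rg g)).comp (algebraMap Γ(E.obj.left.left, ⊤) (R E))).toAlgebra
  haveI : IsScalarTower Γ(E.obj.left.left, ⊤) (R E) (Rg g) := IsScalarTower.of_algebraMap_eq' rfl
  haveI : Algebra.Etale Γ(E.obj.left.left, ⊤) (R E) :=
    Algebra.Etale.of_equiv (AlgEquiv.ofRingEquiv (R := Γ(E.obj.left.left, ⊤))
      (f := (ULift.ringEquiv.symm : Γ(E.obj.left.left, ⊤) ≃+* R E)) fun _ => rfl)
  haveI : Algebra.Etale Γ(E.obj.left.left, ⊤) (Rg g) :=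
    Algebra.Etale.of_equiv (AlgEquiv.ofRingEquiv (R := Γ(E.obj.left.left, ⊤))
      (f := (ULift.ringEquiv.symm : Γ(E'.obj.left.left, ⊤) ≃+* Rg g)) fun _ => rfl)
  exact Algebra.Etale.of_restrictScalars Γ(E.obj.left.left, ⊤) (R E) (Rg g)

theorem isWeakAssOn_map_iff [M.IsQuasicoherent] {E E' : EtOver X} [IsAffine E.obj.left.left]
    [IsAffine E'.obj.left.left] (g : E' ⟶ E) (u : E'.obj.left.left) :
    IsWeakAssOn M E' u ↔ IsWeakAssOn M E (g.hom.left.left u) := by
  rw [isWeakAssOn_iff, isWeakAssOn_iff, ← ptIdeal_comap g u]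
  haveI := etale_res g
  haveI : Module.Flat (R E) (Rg g) := flat_res g
  let q : Ideal (Rg g) := ptIdeal E' u
  haveI : q.IsPrime := inferInstanceAs (ptIdeal E' u).IsPrime
  have hq : q.under (R E) = (ptIdeal E' u).comap (res g) := rfl
  haveI : (q.under (R E)).IsPrime := inferInstance
  have he := Groth.Agent.WeakAssFlat.iff_of_equiv (R := Rg g) (isBaseChange_res (M := M) g).equiv q
  refine Iff.trans (Iff.trans (Iff.of_eq ?_) he.symm) ⟨fun h => ?_, fun h => ?_⟩
  · rfl
  · rw [← hq]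
    exact Groth.Agent.WeakAssFlat.down_etale q rfl h
  · rw [← hq] at h
    refine Groth.Agent.WeakAssFlat.up q rfl (fun Q hQ hle hQp => ?_) h
    haveI := hQ
    exact Algebra.QuasiFinite.eq_of_le_of_under_eq (R := R E) Q q hle hQp

theorem exists_common (E₁ E₂ : EtOver X) (u₁ : E₁.obj.left.left) (u₂ : E₂.obj.left.left)
    (h : Points.ofPt E₁.obj.hom u₁ = Points.ofPt E₂.obj.hom u₂) :
    ∃ (W : EtOver X) (_ : IsAffine W.obj.left.left) (g₁ : W ⟶ E₁) (g₂ : W ⟶ E₂) (w : W.obj.left.left),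
      g₁.hom.left.left w = u₁ ∧ g₂.hom.left.left w = u₂ := by
  obtain ⟨P, snd, fst, sq⟩ := E₁.property.1 E₂.obj.hom
  have hsnd : Etale snd.left := E₁.property.2 E₂.obj.hom fst snd sq
  obtain ⟨fst', hfst'⟩ := (yon S).map_surjective fst
  subst hfst'
  obtain ⟨w, hw₁, hw₂⟩ := (Groth.Agent.AlgSpLib.ofPt_eq_iff sq u₁ u₂).1 h
  let W₀ : EtOver X := EtOver.mk ((yon S).map snd ≫ E₂.obj.hom)
    (Groth.Agent.AlgSpLib.repWith_comp ((Groth.Agent.AlgSpLib.repWith_yon_iff _).2 hsnd) E₂.property)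
  let a₁ : W₀ ⟶ E₁ := EtOver.homMk (E := W₀) (E' := E₁) fst' sq.w
  let a₂ : W₀ ⟶ E₂ := EtOver.homMk (E := W₀) (E' := E₂) snd rfl
  obtain ⟨W, hW, e, w', hw'⟩ := exists_affine_nhd W₀ w
  refine ⟨W, hW, e ≫ a₁, e ≫ a₂, w', ?_, ?_⟩
  · exact (congrArg (fun z => fst'.left z) hw').trans hw₁
  · exact (congrArg (fun z => snd.left z) hw').trans hw₂

theorem isWeakAssOn_iff_of_eq [M.IsQuasicoherent] {E₁ E₂ : EtOver X} [IsAffine E₁.obj.left.left]
    [IsAffine E₂.obj.left.left] {u₁ : E₁.obj.left.left} {u₂ : E₂.obj.left.left}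
    (h : Points.ofPt E₁.obj.hom u₁ = Points.ofPt E₂.obj.hom u₂) :
    IsWeakAssOn M E₁ u₁ ↔ IsWeakAssOn M E₂ u₂ := by
  obtain ⟨W, hW, g₁, g₂, w, rfl, rfl⟩ := exists_common E₁ E₂ u₁ u₂ h
  exact (isWeakAssOn_map_iff g₁ w).symm.trans (isWeakAssOn_map_iff g₂ w)

theorem exists_affine_chart_at (hX : IsAlgSpace X) (x : Points X) :
    ∃ (E : EtOver X) (_ : IsAffine E.obj.left.left) (u : E.obj.left.left), Points.ofPt E.obj.hom u = x := by
  obtain ⟨U, p, he, hs⟩ := hX.atlas
  obtain ⟨y, hy⟩ := (Groth.Agent.AlgSpLib.isQuotientMap_ofPt he hs).surjective x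
  obtain ⟨W, hW, e, w, hw⟩ := exists_affine_nhd (EtOver.mk p he) y
  refine ⟨W, hW, w, ?_⟩
  rw [← hy, ← hw, ← EtOver.w e, Groth.Agent.AlgSpLib.ofPt_comp]
  rfl

theorem mem_weakAssEt_iff_forall (hX : IsAlgSpace X) [M.IsQuasicoherent] (x : Points X) :
    x ∈ WeakAssEt M ↔ ∀ (E : EtOver X) [IsAffine E.obj.left.left] (u : E.obj.left.left),
      Points.ofPt E.obj.hom u = x → IsWeakAssOn M E u := by
  constructor
  · rintro ⟨E₀, hE₀, u₀, rfl, h⟩ E _ u hu
    exact (isWeakAssOn_iff_of_eq hu).mpr h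
  · intro h
    obtain ⟨E, hE, u, hu⟩ := exists_affine_chart_at hX x
    exact ⟨E, hE, u, hu, @h E hE u hu⟩

theorem mem_weakAssEt_iff_at [M.IsQuasicoherent] (E : EtOver X) [IsAffine E.obj.left.left] (u : E.obj.left.left) :
    Points.ofPt E.obj.hom u ∈ WeakAssEt M ↔ IsWeakAssOn M E u :=
  ⟨fun ⟨E₀, hE₀, u₀, h₀, h⟩ => (isWeakAssOn_iff_of_eq h₀).mp h, fun h => ⟨E, inferInstance, u, rfl, h⟩⟩

end Groth.Agent.EtQC
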