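import Groth.Agent.EtQC.PullQC
import Groth.Agent.EtQC.PushAff
import Groth.Agent.EtQC.WeakAss

/-!
Weakly associated points of the inverse image along a finite flat morphism.
-/

set_option autoImplicit false
set_option linter.style.haveILetI false
set_option backward.isDefEq.respectTransparency false

universe u

noncomputable section

open CategoryTheory CategoryTheory.Limits AlgebraicGeometry Opposite AlgSp TensorProduct

namespace Groth.Agent.EtQC

variable {S : Scheme.{u}} {X Y : Sp S} {f : X ⟶ Y} (hf : Representable f)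

theorem flat_bcR (hflat : LocP @Flat f) (E : EtOver Y) [IsAffine E.obj.left.left]
    [IsAffine ((EtOver.bc hf).obj E).obj.left.left] : (bcR hf E).Flat := by
  haveI : IsAffine (hf.pullback E.obj.hom).left := ‹IsAffine ((EtOver.bc hf).obj E).obj.left.left›
  have : Flat (hf.snd E.obj.hom).left :=
    hflat (hf.fst E.obj.hom) E.obj.hom (hf.snd E.obj.hom) ((EtOver.bc hf).obj E).property E.property (hf.w _)
  have h : (hf.snd E.obj.hom).left.appTop.hom.Flat := (hf.snd E.obj.hom).left.flat_appTop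
  exact RingHom.Flat.comp (RingHom.Flat.comp (RingHom.Flat.of_bijective
    (f := (ULift.ringEquiv.{u, u + 1} : ULift.{u + 1} Γ(E.obj.left.left, ⊤) ≃+* _).toRingHom)
    (ULift.ringEquiv.bijective)) h) (RingHom.Flat.of_bijective
    (f := (ULift.ringEquiv.{u, u + 1} : ULift.{u + 1} Γ((hf.pullback E.obj.hom).left, ⊤) ≃+* _).symm.toRingHom)
    (ULift.ringEquiv.symm.bijective))

theorem ptIdeal_comap_bcR (E : EtOver Y) (z : ((EtOver.bc hf).obj E).obj.left.left) :
    (ptIdeal ((EtOver.bc hf).obj E) z).comap (bcR hf E) = ptIdeal E ((hf.snd E.obj.hom).left z) := by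
  ext a
  rw [Ideal.mem_comap, mem_ptIdeal, mem_ptIdeal, ← primeAtPt_comap, Ideal.mem_comap]
  rfl

variable [(SheafOfModules.pushforward.{u + 1} (bcRingHom hf)).IsRightAdjoint] (G : ModEt Y) [G.IsQuasicoherent]

theorem isWeakAssOn_pull_iff (hfin : IsFiniteMor f) (hflat : LocP @Flat f) (E : EtOver Y)
    [IsAffine E.obj.left.left] [IsAffine ((EtOver.bc hf).obj E).obj.left.left]
    (z : ((EtOver.bc hf).obj E).obj.left.left) :
    IsWeakAssOn ((pullModEt hf).obj G) ((EtOver.bc hf).obj E) z ↔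
      IsWeakAssOn G E ((hf.snd E.obj.hom).left z) := by
  let W := (EtOver.bc hf).obj E
  let c : W ⟶ (EtOver.bc hf).obj E := 𝟙 _
  have hfl : ∀ a : R E, (algebraMap (R E) (Rc hf c) a : Rc hf c) = (bcR hf E a : R W) := fun a => res_id W _
  haveI hFlat : Module.Flat (R E) (Rc hf c) := by
    have : (algebraMap (R E) (Rc hf c)) = (bcR hf E : R E →+* Rc hf c) := RingHom.ext hfl
    exact RingHom.flat_algebraMap_iff.1 (this ▸ (flat_bcR hf hflat E : RingHom.Flat (bcR hf E : R E →+* Rc hf c)))
  haveI hFin : Module.Finite (R E) (Rc hf c) := by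
    have h := finite_pushRes hf hfin E
    have : (algebraMap (R E) (Rc hf c)) = (pushRes hf E : R E →+* Rc hf c) := RingHom.ext hfl
    exact RingHom.finite_algebraMap.1 (this ▸ (h : RingHom.Finite (pushRes hf E : R E →+* Rc hf c)))
  let t : Ideal (Rc hf c) := ptIdeal W z
  haveI : t.IsPrime := inferInstanceAs (ptIdeal W z).IsPrime
  have ht : t.under (R E) = ptIdeal E ((hf.snd E.obj.hom).left z) := by
    rw [← ptIdeal_comap_bcR hf E z, Ideal.under]
    exact congrArg (fun q : R E →+* Rc hf c => t.comap q) (RingHom.ext hfl)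
  rw [isWeakAssOn_iff, isWeakAssOn_iff]
  have he := Groth.Agent.WeakAssFlat.iff_of_equiv (R := Rc hf c) (isBaseChange_pull hf G c).equiv t
  refine Iff.trans (Iff.trans (Iff.of_eq rfl) he.symm) ⟨fun h => ?_, fun h => ?_⟩
  · exact Groth.Agent.WeakAssFlat.down_finite t ht h
  · refine Groth.Agent.WeakAssFlat.up t ht (fun Q hQ hle hQp => ?_) h
    haveI := hQ
    exact Algebra.QuasiFinite.eq_of_le_of_under_eq (R := R E) Q t hle (hQp.trans ht.symm)

theorem mem_weakAssEt_pull_iff (hX : IsAlgSpace X) (hY : IsAlgSpace Y) (hfin : IsFiniteMor f)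
    (hflat : LocP @Flat f) [((pullModEt hf).obj G).IsQuasicoherent] (x : Points X) :
    x ∈ WeakAssEt ((pullModEt hf).obj G) ↔ Points.map f x ∈ WeakAssEt G := by
  obtain ⟨W, hW, u, rfl⟩ := exists_affine_chart_at hX x
  obtain ⟨E, hE, V, hV, a, c, v, hv⟩ := exists_pull_chart hY hf W u
  haveI : IsAffine ((EtOver.bc hf).obj E).obj.left.left := isAffine_bc hf (isAffineMor_of_isFiniteMor hfin) E
  let z := c.hom.left.left v
  have hz : Points.ofPt ((EtOver.bc hf).obj E).obj.hom z = Points.ofPt W.obj.hom u := by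
    refine (Groth.Agent.AlgSpLib.ofPt_comp _ _ _).symm.trans ?_
    rw [EtOver.w c, ← EtOver.w a, Groth.Agent.AlgSpLib.ofPt_comp, hv]
  rw [← hz, mem_weakAssEt_iff_at]
  have hy : Points.map f (Points.ofPt ((EtOver.bc hf).obj E).obj.hom z) =
      Points.ofPt E.obj.hom ((hf.snd E.obj.hom).left z) := by
    rw [Points.map_ofPt]
    show Points.ofPt (hf.fst E.obj.hom ≫ f) z = _
    rw [hf.w, Groth.Agent.AlgSpLib.ofPt_comp]
  rw [hy, mem_weakAssEt_iff_at]
  exact isWeakAssOn_pull_iff hf G hfin hflat E z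

end Groth.Agent.EtQC
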