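import Groth.Agent.EtQC.SuppStalk
import Groth.Agent.EtQC.Coherent
import Groth.Agent.SchImg.Range
import Groth.Agent.SchImg.IdealEtBridge
import Groth.Agent.SchImg.ClosedSub
import Groth.Agent.AlgSpLib.QCompact

/-!
Coherent modules: annihilation by powers of ideals and splitting along the support.
-/

set_option autoImplicit false
set_option linter.style.haveILetI false
set_option backward.isDefEq.respectTransparency false

universe u

noncomputable section

open CategoryTheory CategoryTheory.Limits AlgebraicGeometry Opposite AlgSp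

namespace Groth.Agent.EtQC

variable {S : Scheme.{u}} {X Z : Sp S}

theorem zeroLocus_eq_preT_of_isCutOutBy {I : IdealEt X} {i : Z ⟶ X} (hZ : IsCutOutBy I i) (E : EtOver X)
    (hE : IsAffine E.obj.left.left) :
    E.obj.left.left.zeroLocus (U := ⊤) ((I.ideal E hE : Ideal Γ(E.obj.left.left, ⊤)) : Set Γ(E.obj.left.left, ⊤)) =
      preT (Set.range (Points.map i)) E := by
  obtain ⟨hi, rfl⟩ := hZ
  obtain ⟨J, hJ⟩ := Groth.Agent.SchImg.exists_pullIdeal hi E.obj.hom
  rw [Groth.Agent.SchImg.idealOfRep_eq hi E hE hJ]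
  ext w
  refine Iff.trans ?_ (hJ.mem_range_iff w).symm
  constructor
  · intro h
    exact ((J.coe_support_inter ⟨⊤, isAffineOpen_top _⟩).ge ⟨h, trivial⟩).1
  · intro h
    exact ((J.coe_support_inter ⟨⊤, isAffineOpen_top _⟩).le ⟨h, trivial⟩).1

theorem isNoetherianRing_Γ (hX : IsAlgSpace X) (hn : IsLocNoethSp X) (E : EtOver X) [IsAffine E.obj.left.left] :
    IsNoetherianRing Γ(E.obj.left.left, ⊤) := by
  haveI : IsLocallyNoetherian E.obj.left.left :=
    Groth.Agent.AlgSpLib.isLocallyNoetherian_chart hX hn E.property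
  exact IsLocallyNoetherian.component_noetherian ⟨⊤, isAffineOpen_top _⟩

theorem exists_fg_preT_of_isClosed (hX : IsAlgSpace X) (hn : IsLocNoethSp X) {T : Set (Points X)} (hT : IsClosed T)
    (W : EtOver X) (hW : IsAffine W.obj.left.left) :
    ∃ I : Ideal Γ(W.obj.left.left, ⊤), I.FG ∧
      W.obj.left.left.zeroLocus (U := ⊤) (I : Set Γ(W.obj.left.left, ⊤)) = preT T W := by
  haveI : IsLocallyNoetherian W.obj.left.left :=
    Groth.Agent.AlgSpLib.isLocallyNoetherian_chart hX hn W.property
  haveI : IsNoetherian W.obj.left.left := { }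
  have hc : IsClosed (preT T W) := hT.preimage (Points.continuous_ofPt W.obj.hom)
  obtain ⟨I, hI, hz⟩ := exists_fg_zeroLocus_eq hc.isOpen_compl (TopologicalSpace.NoetherianSpace.isCompact _)
  exact ⟨I, hI, by rw [hz, compl_compl]⟩

theorem annihilated_iff_stalk_isZero (hX : IsAlgSpace X) (hqc : IsQuasiCompactSp X) (hn : IsLocNoethSp X)
    (M : ModEt X) [M.IsFinitePresentation] (I : IdealEt X) (hI : I.IsQCoh) {i : Z ⟶ X} (hZ : IsCutOutBy I i) :
    (∃ n : ℕ, ∀ (E : EtOver X) (hE : IsAffine E.obj.left.left) (s : sectModEt M E),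
        (I ^ n).ideal E hE ≤ annSect s) ↔
      ∀ x : FieldPt X, x.IsGeometric → Points.mk x ∉ Set.range (Points.map i) →
        IsZero (stalkEt x ((toAbEt X).obj M)) := by
  rw [isZero_stalk_iff hX]
  constructor
  · rintro ⟨n, hn'⟩ E hE s
    rw [← zeroLocus_eq_preT_of_isCutOutBy hZ E hE]
    exact zeroLocus_subset_of_le_radical fun a ha => ⟨n, hn' E hE s (Ideal.pow_mem_pow ha n)⟩
  · intro h
    haveI := Groth.Agent.AlgSpLib.compactSpace_of_isQuasiCompactSp hqc
    obtain ⟨U, p, hU, he, hs⟩ := Groth.Agent.AlgSpLib.exists_affine_chart_of_compact hX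
    let E₀ : EtOver X := EtOver.mk p he
    haveI : IsAffine E₀.obj.left.left := hU
    haveI := isNoetherianRing_Γ hX hn E₀
    have hfg : (I.ideal E₀ hU).FG := IsNoetherian.noetherian _
    have hloc : ∀ s : sectModEt M E₀, ∃ n : ℕ, I.ideal E₀ hU ^ n ≤ annSect s := fun s => by
      refine Ideal.exists_pow_le_of_le_radical_of_fg (le_radical_of_zeroLocus_subset ?_) hfg
      rw [zeroLocus_eq_preT_of_isCutOutBy hZ E₀ hU]
      exact h E₀ hU s
    choose k hk using hloc
    haveI := finite_sections_of_isFiniteType (M := M) E₀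
    obtain ⟨g, hg⟩ := Module.Finite.fg_top (R := R E₀) (M := sectModEt M E₀)
    have hall : ∀ s : sectModEt M E₀, ∀ a ∈ I.ideal E₀ hU ^ g.sup k, upR E₀ a • s = 0 := fun s a ha => by
      have hs' : s ∈ Submodule.span (R E₀) (g : Set (sectModEt M E₀)) := by rw [hg]; trivial
      induction hs' using Submodule.span_induction with
      | mem x hx => exact (mem_annSect_iff x a).1 (hk x (Ideal.pow_le_pow_right (Finset.le_sup (f := k) hx) ha))
      | zero => exact smul_zero _
      | add x y _ _ hx hy => rw [smul_add, hx, hy, add_zero]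
      | smul r x _ hx => rw [smul_comm, hx, smul_zero]
    refine ⟨g.sup k, fun E hE s a ha => (mem_annSect_iff s a).2 ?_⟩
    have hex : ∀ x : E.obj.left.left, ∃ (W : EtOver X) (_ : IsAffine W.obj.left.left) (a : W ⟶ E) (_ : W ⟶ E₀),
        x ∈ Set.range a.hom.left.left := fun x => by
      obtain ⟨v, hv⟩ := Groth.Agent.AlgSpLib.ofPt_surjective hs (Points.ofPt E.obj.hom x)
      obtain ⟨W, hW, g₁, g₂, w, hw, -⟩ := exists_common E E₀ x v hv.symm
      exact ⟨W, hW, g₁, g₂, w, hw⟩
    choose W hW c b hx using hex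
    refine eq_of_cover c (fun x => ⟨x, hx x⟩) fun x => ?_
    rw [map_zero]
    show resM M (c x) (upR E a • s) = 0
    have := hW x
    rw [resM_smul, res_upR]
    have ha' : (c x).hom.left.left.appTop.hom a ∈ (I.ideal E₀ hU ^ g.sup k).map (b x).hom.left.left.appTop.hom := by
      rw [Ideal.map_pow]
      refine Ideal.pow_right_mono (hI (b x) hU (hW x)) _ ?_
      have := Ideal.mem_map_of_mem (c x).hom.left.left.appTop.hom ha
      rw [show (I ^ g.sup k).ideal E hE = I.ideal E hE ^ g.sup k from rfl, Ideal.map_pow] at this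
      exact Ideal.pow_right_mono (I.map_le (c x) hE (hW x)) _ this
    induction (resM M (c x) s) using (isBaseChange_res (M := M) (b x)).inductionOn with
    | zero => exact smul_zero _
    | tmul y =>
      exact resM_mem_killed (F := M) (b x) (I.ideal E₀ hU ^ g.sup k) (s := y) (hall y) le_rfl _ ha'
    | smul r y hy =>
      show upR (W x) _ • ((show R (W x) from r) • (show sectModEt M (W x) from y)) = 0
      exact (smul_comm _ _ _).trans ((congrArg ((show R (W x) from r) • ·) hy).trans (smul_zero _))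
    | add y y' hy hy' =>
      show upR (W x) _ • ((show sectModEt M (W x) from y) + (show sectModEt M (W x) from y')) = 0
      exact (smul_add _ _ _).trans ((congrArg₂ (· + ·) hy hy').trans (add_zero _))

theorem exists_support_split (hX : IsAlgSpace X) (hn : IsLocNoethSp X) (F : ModEt X) [F.IsFinitePresentation]
    (Z Z' : Set (Points X)) (hZ : IsClosed Z) (hZ' : IsClosed Z')
    (hsupp : ∀ x : FieldPt X, x.IsGeometric →
      (Points.mk x ∈ Z ∪ Z' ↔ ¬ IsZero (stalkEt x ((toAbEt X).obj F)))) :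
    ∃ (G' : ModEt X) (a : G' ⟶ F), Mono a ∧ G'.IsFinitePresentation ∧
      (cokernel a).IsFinitePresentation ∧
        (∀ x : FieldPt X, x.IsGeometric → Points.mk x ∉ Z' →
          IsZero (stalkEt x ((toAbEt X).obj G'))) ∧
        (∀ x : FieldPt X, x.IsGeometric → Points.mk x ∉ Z →
          IsZero (stalkEt x ((toAbEt X).obj (cokernel a)))) := by
  have hT := fun W hW => exists_fg_preT_of_isClosed hX hn hZ' W hW
  let σ := suppFam hT F
  haveI := σ.isQuasicoherent_toMod
  haveI := isQuasicoherent_cokernel σ.ι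
  refine ⟨σ.toMod, σ.ι, inferInstance, isFinitePresentation_of_mono hX hn σ.ι,
    isFinitePresentation_of_epi hX hn (cokernel.π σ.ι), (isZero_stalk_iff hX σ.toMod Z').2 fun E hE s => ?_,
    (isZero_stalk_iff hX (cokernel σ.ι) Z).2 fun E hE q => ?_⟩
  · rw [← annSect_eq_of_injective σ.ι (σ.ι_injective E) s]
    exact (mem_suppFam hT E hE _).1 ((σ.range_ι E hE).le ⟨s, rfl⟩)
  · obtain ⟨s, rfl⟩ := appM_surjective_of_epi (cokernel.π σ.ι) E q
    intro w hw
    by_contra hwZ
    have hF : ∀ p : FieldPt X, p.IsGeometric → Points.mk p ∉ Z ∪ Z' → IsZero (stalkEt p ((toAbEt X).obj F)) :=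
      fun p hp hpT => by
        by_contra hne
        exact hpT ((hsupp p hp).2 hne)
    have hs := (isZero_stalk_iff hX F (Z ∪ Z')).1 hF E hE s
    obtain ⟨J, hJ, hzJ⟩ := exists_fg_preT_of_isClosed hX hn hZ E hE
    obtain ⟨K, hK, hzK⟩ := hT E hE
    have hle : J * K ≤ (annSect s).radical := by
      refine le_radical_of_zeroLocus_subset (hs.trans fun v hv => ?_)
      rw [mem_zeroLocus_ideal]
      rcases hv with hv | hv
      · exact Ideal.mul_le_left.trans ((mem_zeroLocus_ideal J v).1 (hzJ.ge hv))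
      · exact Ideal.mul_le_right.trans ((mem_zeroLocus_ideal K v).1 (hzK.ge hv))
    obtain ⟨n, hn'⟩ := Ideal.exists_pow_le_of_le_radical_of_fg hle (hJ.mul hK)
    have hwJ : ¬ J ≤ primeAtPt E.obj.left.left w := fun h' => hwZ (hzJ.le ((mem_zeroLocus_ideal J w).2 h'))
    obtain ⟨a, ha, hna⟩ := SetLike.not_le_iff_exists.1 hwJ
    have hmem : upR E (a ^ n) • s ∈ σ.sub E hE := by
      refine (mem_suppFam hT E hE _).2 ((zeroLocus_subset_of_le_radical (I := K) fun b hb => ⟨n, ?_⟩).trans hzK.le)
      refine (mem_annSect_iff _ _).2 ?_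
      show upR E (b ^ n) • upR E (a ^ n) • s = 0
      rw [smul_smul]
      have := (mem_annSect_iff s _).1 (hn' (show b ^ n * a ^ n ∈ (J * K) ^ n from by
        rw [mul_pow, mul_comm (b ^ n)]
        exact Ideal.mul_mem_mul (Ideal.pow_mem_pow ha n) (Ideal.pow_mem_pow hb n)))
      exact this
    obtain ⟨t, ht⟩ := (σ.range_ι E hE).ge hmem
    have hzero : a ^ n ∈ annSect (appM (cokernel.π σ.ι) E s) := by
      refine (mem_annSect_iff _ _).2 ?_
      show upR E (a ^ n) • appM (cokernel.π σ.ι) E s = 0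
      rw [← map_smul, ← show appM σ.ι E t = upR E (a ^ n) • s from ht]
      exact congrArg (fun φ : σ.toMod ⟶ cokernel σ.ι => φ.val.app (op E) t) (cokernel.condition σ.ι)
    exact hna ((isPrime_primeAtPt E.obj.left.left w).mem_of_pow_mem n ((mem_zeroLocus_ideal _ w).1 hw hzero))

end Groth.Agent.EtQC
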