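import Groth.Agent.EtQC.FTUnion
import Groth.Agent.EtQC.SuppSplit
import Groth.Agent.SchImg.CutOutExists
import Groth.Agent.SchImg.IdealRepQcoh
import Groth.Agent.SpQS.RedInduced

/-!
Quasi-coherent ideals as families of submodules of the structure sheaf.
-/

set_option autoImplicit false
set_option linter.style.haveILetI false
set_option backward.isDefEq.respectTransparency false

universe u

noncomputable section

open CategoryTheory CategoryTheory.Limits AlgebraicGeometry Opposite AlgSp TensorProduct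

namespace Groth.Agent.EtQC

variable {S : Scheme.{u}} {X : Sp S}

theorem isQuasicoherent_unitModEt : (unitModEt X).IsQuasicoherent :=
  isQuasicoherent_of_isBaseChange fun {U W} _ _ g => by
    exact IsBaseChange.linearMap (R U) (Rg g)

/-- global functions as sections of the structure sheaf -/
def upS (E : EtOver X) (a : Γ(E.obj.left.left, ⊤)) : sectModEt (unitModEt X) E := upR E a

theorem resM_upS {E V : EtOver X} (g : V ⟶ E) (a : Γ(E.obj.left.left, ⊤)) :
    resM (unitModEt X) g (upS E a) = upS V (g.hom.left.left.appTop.hom a) := rfl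

/-- the family of submodules of a quasi-coherent ideal -/
def idealFam (I : IdealEt X) (hI : I.IsQCoh) : SubFam (unitModEt X) where
  sub E hE :=
    { carrier := {s | (show R E from s).down ∈ I.ideal E hE}
      add_mem' := fun ha hb => Ideal.add_mem _ ha hb
      zero_mem' := Ideal.zero_mem _
      smul_mem' := fun r s hs => Ideal.mul_mem_left _ (show R E from r).down hs }
  res_mem {E V} g hE hV s hs := I.map_le g hE hV (Ideal.mem_map_of_mem _ hs)
  le_span {E V} g hE hV s hs := by
    have h := hI g hE hV hs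
    have key : ∀ b ∈ (I.ideal E hE).map g.hom.left.left.appTop.hom, upS V b ∈
        Submodule.span (R V) (resM (unitModEt X) g ''
          {t : sectModEt (unitModEt X) E | (show R E from t).down ∈ I.ideal E hE}) := by
      intro b hb
      rw [Ideal.map] at hb
      induction hb using Submodule.span_induction with
      | mem x hx =>
        obtain ⟨a, ha, rfl⟩ := hx
        exact Submodule.subset_span ⟨upS E a, ha, resM_upS g a⟩
      | zero => exact Submodule.zero_mem _
      | add x y _ _ hx hy => exact Submodule.add_mem _ hx hy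
      | smul r x _ hx => exact Submodule.smul_mem _ (upR V r) hx
    exact key _ h

/-- the ideal of a family of submodules -/
def SubFam.toIdeal (σ : SubFam (unitModEt X)) : IdealEt X where
  ideal E hE :=
    { carrier := {a | upS E a ∈ σ.sub E hE}
      add_mem' := fun ha hb => (σ.sub E hE).add_mem ha hb
      zero_mem' := (σ.sub E hE).zero_mem
      smul_mem' := fun r a ha => (σ.sub E hE).smul_mem (upR E r) ha }
  map_le {E V} g hE hV := by
    rw [Ideal.map_le_iff_le_comap]
    exact fun a ha => σ.res_mem g hE hV _ ha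

theorem SubFam.isQCoh_toIdeal (σ : SubFam (unitModEt X)) : σ.toIdeal.IsQCoh := fun E V g hE hV b hb => by
  have h := σ.le_span g hE hV hb
  have key : ∀ s ∈ Submodule.span (R V) (resM (unitModEt X) g '' (σ.sub E hE : Set (sectModEt (unitModEt X) E))),
      (show R V from s).down ∈ (σ.toIdeal.ideal E hE).map g.hom.left.left.appTop.hom := by
    intro s hs
    induction hs using Submodule.span_induction with
    | mem x hx =>
      obtain ⟨t, ht, rfl⟩ := hx
      exact Ideal.mem_map_of_mem _ (show (show R E from t).down ∈ σ.toIdeal.ideal E hE from ht)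
    | zero => exact Ideal.zero_mem _
    | add x y _ _ hx hy => exact Ideal.add_mem _ hx hy
    | smul r x _ hx => exact Ideal.mul_mem_left _ (show R V from r).down hx
  exact key _ h

theorem SubFam.fg_toIdeal (σ : SubFam (unitModEt X)) (E : EtOver X) (hE : IsAffine E.obj.left.left)
    (h : (σ.sub E hE).FG) : (σ.toIdeal.ideal E hE).FG := by
  classical
  obtain ⟨t, ht⟩ := h
  let T : Finset Γ(E.obj.left.left, ⊤) := t.image fun s => (show R E from s).down
  refine ⟨T, le_antisymm (Submodule.span_le.mpr fun x hx => ?_) fun a ha => ?_⟩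
  · obtain ⟨s, hs, rfl⟩ := Finset.mem_image.mp hx
    exact (ht ▸ Submodule.subset_span hs : s ∈ σ.sub E hE)
  · have ha' : upS E a ∈ Submodule.span (R E) (t : Set (sectModEt (unitModEt X) E)) := ht.symm ▸ ha
    have key : ∀ s ∈ Submodule.span (R E) (t : Set (sectModEt (unitModEt X) E)),
        (show R E from s).down ∈ Ideal.span (T : Set Γ(E.obj.left.left, ⊤)) := by
      intro s hs
      induction hs using Submodule.span_induction with
      | mem x hx => exact Ideal.subset_span (Finset.mem_image_of_mem _ hx)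
      | zero => exact Ideal.zero_mem _
      | add x y _ _ hx hy => exact Ideal.add_mem _ hx hy
      | smul r x _ hx => exact Ideal.mul_mem_left _ (show R E from r).down hx
    exact key _ ha'

/-- finitely many functions cut out a closed set with quasi-compact complement -/
theorem exists_finset_zeroLocus {A : Scheme.{u}} (J : Ideal Γ(A, ⊤))
    (hc : IsCompact (A.zeroLocus (U := ⊤) (J : Set Γ(A, ⊤)))ᶜ) :
    ∃ t : Finset Γ(A, ⊤), (t : Set Γ(A, ⊤)) ⊆ J ∧
      A.zeroLocus (U := ⊤) (t : Set Γ(A, ⊤)) = A.zeroLocus (U := ⊤) (J : Set Γ(A, ⊤)) := by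
  classical
  obtain ⟨t, ht⟩ := hc.elim_finite_subcover (fun f : J => (A.basicOpen f.1 : Set A)) (fun f => (A.basicOpen f.1).2)
    (fun x hx => by
      simp only [Set.mem_compl_iff, Scheme.mem_zeroLocus_iff, not_forall, not_not] at hx
      obtain ⟨f, hf, hxf⟩ := hx
      exact Set.mem_iUnion.mpr ⟨⟨f, hf⟩, hxf⟩)
  refine ⟨t.image Subtype.val, fun f hf => ?_, Set.Subset.antisymm (fun x hx => ?_)
    (Scheme.zeroLocus_mono _ fun f hf => ?_)⟩
  · obtain ⟨g, -, rfl⟩ := Finset.mem_image.mp hf
    exact g.2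
  · by_contra h
    obtain ⟨g, hg, hxg⟩ := Set.mem_iUnion₂.mp (ht h)
    exact (Scheme.mem_zeroLocus_iff _ _ _).mp hx g.1 (Finset.mem_image_of_mem _ hg) hxg
  · obtain ⟨g, -, rfl⟩ := Finset.mem_image.mp hf
    exact g.2

end Groth.Agent.EtQC

namespace Groth.Agent.EtQC

open Groth.Agent.AlgSpLib

variable {S : Scheme.{u}}

theorem isCompact_preimage_ofPt [QuasiSeparatedSpace ↥S] {X U : Space S} (hqs : IsQuasiSeparatedSp X.obj) (hU : IsQuasiCompactSp U.obj)
    (j : U.obj ⟶ X.obj) (E : EtOver X.obj) [IsAffine E.obj.left.left] :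
    IsCompact (Points.ofPt E.obj.hom ⁻¹' Set.range (Points.map j)) := by
  haveI := compactSpace_of_isQuasiCompactSp hU
  obtain ⟨T, p, hT, he, hs⟩ := exists_affine_chart_of_compact U.property
  haveI := hT
  obtain ⟨P, a, b, sq⟩ := exists_pullback X.property.diag (p ≫ j) E.obj.hom
  haveI := compact_pullback_of_isQuasiSeparatedSp hqs sq
  convert isCompact_range b.left.continuous using 1
  ext y
  constructor
  · rintro ⟨z, hz⟩
    obtain ⟨t, rfl⟩ := ofPt_surjective hs z
    rw [Points.map_ofPt] at hz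
    obtain ⟨w, -, hw⟩ := (ofPt_eq_iff sq t y).1 hz
    exact ⟨w, hw⟩
  · rintro ⟨w, rfl⟩
    refine ⟨Points.ofPt p (a.left w), ?_⟩
    rw [Points.map_ofPt]
    exact (ofPt_eq_iff sq _ _).2 ⟨w, rfl, rfl⟩

/-- a quasi-compact open is the complement of the zero locus of an ideal of finite type -/
theorem exists_ftIdeal_compl [QuasiSeparatedSpace ↥S] (X U : Space S) (hqc : IsQuasiCompactSp X.obj)
    (hqs : IsQuasiSeparatedSp X.obj) (j : U.obj ⟶ X.obj) (hj : RepWith @IsOpenImmersion j)
    (hU : IsQuasiCompactSp U.obj) :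
    ∃ (I : IdealEt X.obj), I.IsQCoh ∧
      (∀ (E : EtOver X.obj) (hE : IsAffine E.obj.left.left), (I.ideal E hE).FG) ∧
      ∃ (Z : Space S) (i : Z ⟶ X), IsCutOutBy I i.hom ∧
        Set.range (Points.map i.hom) = (Set.range (Points.map j))ᶜ := by
  classical
  haveI := compactSpace_of_isQuasiCompactSp hqc
  obtain ⟨T₀, p, hT₀, hpe, hps⟩ := exists_affine_chart_of_compact X.property
  let E₀ : EtOver X.obj := EtOver.mk p hpe
  haveI : IsAffine E₀.obj.left.left := hT₀
  let T : Set (Points X.obj) := (Set.range (Points.map j))ᶜ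
  have hT : IsClosed T := (Groth.Agent.ElemSq.isOpen_range_of_open U.property X.property hj).isClosed_compl
  obtain ⟨Z', i', hZ', hi', hr', -⟩ := Groth.Agent.SpQS.exists_redInduced X.property hT
  let J := idealOfRep hi'.1
  have hJ : J.IsQCoh := Groth.Agent.SchImg.idealOfRep_isQCoh hZ' X.property hi'.1
    ((isQuasiCompactMor_iff_repWith hZ' X.property hi'.1).2
      (repWith_mono (P := @IsClosedImmersion) (Q := @QuasiCompact)
        (fun _ _ g hg => have : IsClosedImmersion g := hg; inferInstance) hi'))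
  have hJz := zeroLocus_eq_preT_of_isCutOutBy (I := J) (i := i') ⟨hi', rfl⟩ E₀ inferInstance
  obtain ⟨t, htJ, htz⟩ := exists_finset_zeroLocus (J.ideal E₀ inferInstance) (by
    rw [hJz, hr']
    have e : (preT T E₀)ᶜ = Points.ofPt E₀.obj.hom ⁻¹' Set.range (Points.map j) := compl_compl _
    rw [e]
    exact isCompact_preimage_ofPt hqs hU j E₀)
  haveI := isQuasicoherent_unitModEt (X := X.obj)
  let σ := idealFam J hJ
  haveI := σ.isQuasicoherent_toMod
  have hlift : ∀ a : t, ∃ z, appM σ.ι E₀ z = upS E₀ a.1 := fun a => σ.exists_preimage inferInstance (htJ a.2)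
  choose z hz using hlift
  obtain ⟨A, α, -, hA, hA', hm⟩ := exists_ft_sub_mem X hqc hqs σ.toMod E₀ (t.attach.image z)
  haveI := hA
  haveI := hA'
  let τ := imFam (α ≫ σ.ι)
  let I := τ.toIdeal
  have hI : I.IsQCoh := τ.isQCoh_toIdeal
  obtain ⟨Z, i, hZ, hiZ⟩ := Groth.Agent.SchImg.exists_isCutOutBy X.property hI
  refine ⟨I, hI, fun E hE => τ.fg_toIdeal E hE ?_, ⟨Z, hZ⟩, ObjectProperty.homMk i, hiZ, ?_⟩
  · haveI := hE
    haveI := finite_sections_of_isFiniteType (M := A) E
    show (LinearMap.range (appM (α ≫ σ.ι) E)).FG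
    rw [LinearMap.range_eq_map]
    exact Module.Finite.fg_top.map _
  have hIz := zeroLocus_eq_preT_of_isCutOutBy hiZ E₀ inferInstance
  have e : preT (Set.range (Points.map i)) E₀ = preT T E₀ := by
    rw [← hIz]
    refine Set.Subset.antisymm ?_ ?_
    · rw [show preT T E₀ = preT (Set.range (Points.map i')) E₀ by rw [hr'], ← hJz, ← htz]
      refine Scheme.zeroLocus_mono _ fun a ha => ?_
      obtain ⟨b, hb⟩ := hm (z ⟨a, ha⟩) (Finset.mem_image.mpr ⟨⟨a, ha⟩, Finset.mem_attach t _, rfl⟩)
      exact ⟨b, (congrArg (appM σ.ι E₀) hb).trans (hz ⟨a, ha⟩)⟩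
    · rw [show preT T E₀ = preT (Set.range (Points.map i')) E₀ by rw [hr'], ← hJz]
      refine Scheme.zeroLocus_mono _ fun a ha => ?_
      obtain ⟨b, hb⟩ := ha
      have hmem : appM σ.ι E₀ (appM α E₀ b) ∈ σ.sub E₀ inferInstance := by
        rw [← SetLike.mem_coe, ← σ.range_ι E₀ inferInstance]
        exact ⟨_, rfl⟩
      exact (show upS E₀ a ∈ σ.sub E₀ inferInstance from hb ▸ hmem)
  ext x
  obtain ⟨w, rfl⟩ := ofPt_surjective hps x
  exact Set.ext_iff.mp e w

theorem isQuasiCompactSp_of_ftIdeal {X U Z : Space S} (hqc : IsQuasiCompactSp X.obj) (j : U.obj ⟶ X.obj)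
    (hj : RepWith @IsOpenImmersion j) (I : IdealEt X.obj)
    (hfg : ∀ (E : EtOver X.obj) (hE : IsAffine E.obj.left.left), (I.ideal E hE).FG) (i : Z.obj ⟶ X.obj)
    (hi : IsCutOutBy I i) (hr : Set.range (Points.map i) = (Set.range (Points.map j))ᶜ) :
    IsQuasiCompactSp U.obj := by
  haveI := compactSpace_of_isQuasiCompactSp hqc
  obtain ⟨T₀, p, hT₀, hpe, hps⟩ := exists_affine_chart_of_compact X.property
  let E₀ : EtOver X.obj := EtOver.mk p hpe
  haveI : IsAffine E₀.obj.left.left := hT₀
  rw [Groth.Agent.ElemSq.isQuasiCompactSp_iff_compact U.property X.property hj]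
  obtain ⟨t, ht⟩ := hfg E₀ inferInstance
  have hz := zeroLocus_eq_preT_of_isCutOutBy hi E₀ inferInstance
  rw [← ht, Scheme.zeroLocus_span, hr] at hz
  have hc : IsCompact (Points.ofPt E₀.obj.hom ⁻¹' Set.range (Points.map j)) := by
    have e : Points.ofPt E₀.obj.hom ⁻¹' Set.range (Points.map j) =
        ⋃ f ∈ t, (E₀.obj.left.left.basicOpen f : Set E₀.obj.left.left) := by
      rw [← compl_compl (Points.ofPt E₀.obj.hom ⁻¹' Set.range (Points.map j))]
      show (preT (Set.range (Points.map j))ᶜ E₀)ᶜ = _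
      rw [← hz]
      ext x
      simp [Scheme.mem_zeroLocus_iff]
    rw [e]
    exact t.isCompact_biUnion fun f _ => ((isAffineOpen_top E₀.obj.left.left).basicOpen f).isCompact
  have := hc.image (Points.continuous_ofPt E₀.obj.hom)
  rwa [Set.image_preimage_eq _ (show Function.Surjective (Points.ofPt E₀.obj.hom) from ofPt_surjective hps)] at this

end Groth.Agent.EtQC
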