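import Groth.Agent.EtQC.FPPush
import Groth.Agent.EtQC.UnitIdeal
import Groth.Agent.AlgSpLib.Criteria
import Mathlib.RingTheory.Flat.EquationalCriterion
import Mathlib.RingTheory.Localization.Free
import Mathlib.RingTheory.Finiteness.ModuleFinitePresentation

/-!
Finite locally free morphisms are the affine ones with finite locally free direct image of the structure sheaf.
-/

set_option autoImplicit false
set_option linter.style.haveILetI false
set_option backward.isDefEq.respectTransparency false

universe u

noncomputable section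

open CategoryTheory CategoryTheory.Limits AlgebraicGeometry Opposite AlgSp TensorProduct

namespace Groth.Agent.EtQC

variable {S : Scheme.{u}} {X Y : Sp S}

/-! ### free sections give local trivialisations -/

theorem exists_free_slice (M : ModEt X) [M.IsQuasicoherent] (E : EtOver X) [IsAffine E.obj.left.left]
    [Module.Free (R E) (sectModEt M E)] [Module.Finite (R E) (sectModEt M E)] :
    ∃ σ : (M.over E).GeneratingSections, σ.IsFiniteType ∧ IsIso σ.π := by
  classical
  obtain ⟨n, l, hl⟩ := Module.Finite.exists_fin' (R E) (sectModEt M E)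
  let b := Module.Free.chooseBasis (R E) (sectModEt M E)
  have hfin : Finite (Module.Free.ChooseBasisIndex (R E) (sectModEt M E)) := by
    rcases subsingleton_or_nontrivial (R E) with h | h
    · haveI : Subsingleton (sectModEt M E) := Module.subsingleton (R E) _
      exact Finite.of_fintype _
    · exact Finite.of_fintype _
  let s := fun i => b i
  have hs : Submodule.span (R E) (Set.range s) = ⊤ := b.span_eq
  let d : PEmpty.{u + 2} → Module.Free.ChooseBasisIndex (R E) (sectModEt M E) →₀ R E := PEmpty.elim
  have hd : Submodule.span (R E) (Set.range d) = LinearMap.ker (Finsupp.linearCombination (R E) s) := by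
    rw [Set.range_eq_empty, Submodule.span_empty]
    exact (LinearMap.ker_eq_bot.2 b.linearIndependent).symm
  have hbc : ∀ {V : EtOver X} [IsAffine V.obj.left.left] (g : V ⟶ E), IsBaseChange (Rg g) (resL M g) :=
    fun g => isBaseChange_res g
  haveI := epi_genHom hbc s hs
  haveI := epi_relHom hbc s d hd
  have h0 : relHom s d hd ≫ kernel.ι (genHom s) = 0 :=
    (Fr E (Module.Free.ChooseBasisIndex (R E) (sectModEt M E))).freeHomEquiv.injective (funext fun l => l.elim)
  haveI : Mono (genHom s) :=
    Preadditive.mono_of_kernel_zero ((cancel_epi (relHom s d hd)).1 (h0.trans (comp_zero).symm))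
  exact ⟨{ I := _, s := fun i => secTop (M.over E) (s i), epi := ‹Epi (genHom s)› }, ⟨hfin⟩,
    isIso_of_mono_of_epi (genHom s)⟩

/-- a ring on which `r` becomes a unit sees a module free near `r` as free -/
theorem free_of_isUnit {A B M N : Type (u + 1)} [CommRing A] [CommRing B] [Algebra A B] [AddCommGroup M] [Module A M]
    [AddCommGroup N] [Module A N] [Module B N] [IsScalarTower A B N] (f : M →ₗ[A] N) (hf : IsBaseChange B f) (r : A)
    (hr : IsUnit (algebraMap A B r)) [Module.Free (Localization (Submonoid.powers r)) (LocalizedModule.Away r M)] :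
    Module.Free B N := by
  letI : Algebra (Localization (Submonoid.powers r)) B :=
    (IsLocalization.Away.lift r hr : Localization.Away r →+* B).toAlgebra
  haveI : IsScalarTower A (Localization (Submonoid.powers r)) B :=
    IsScalarTower.of_algebraMap_eq fun a => (IsLocalization.Away.lift_eq r hr a).symm
  have hl := IsLocalizedModule.isBaseChange (Submonoid.powers r) (Localization (Submonoid.powers r))
    (LocalizedModule.mkLinearMap (Submonoid.powers r) M)
  exact Module.Free.of_equiv ((AlgebraTensorModule.congr (LinearEquiv.refl B B) hl.equiv).symm.trans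
    ((AlgebraTensorModule.cancelBaseChange A (Localization (Submonoid.powers r)) B B M).trans hf.equiv))

theorem exists_free_nhd (M : ModEt X) [M.IsQuasicoherent] (E : EtOver X) [IsAffine E.obj.left.left]
    [Module.FinitePresentation (R E) (sectModEt M E)] [Module.Flat (R E) (sectModEt M E)] (x : E.obj.left.left) :
    ∃ (V : EtOver X) (g : V ⟶ E), IsAffine V.obj.left.left ∧ x ∈ Set.range g.hom.left.left ∧
      Module.Free (R V) (sectModEt M V) := by
  let p : Ideal (R E) := (primeAtPt _ x).comap (ULift.ringEquiv.toRingHom : R E →+* Γ(E.obj.left.left, ⊤))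
  haveI : p.IsPrime := inferInstance
  haveI : Module.Free (Localization.AtPrime p) (LocalizedModule.AtPrime p (sectModEt M E)) := by
    haveI : Module.Projective (R E) (sectModEt M E) := Module.Flat.projective_of_finitePresentation
    exact Module.free_of_flat_of_isLocalRing
  obtain ⟨r, hr, hfree, -⟩ := Module.FinitePresentation.exists_free_localizedModule_powers p.primeCompl
    (LocalizedModule.mkLinearMap p.primeCompl (sectModEt M E)) (Localization.AtPrime p)
  haveI := hfree
  let r' : Γ(E.obj.left.left, ⊤) := r.down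
  have hx : x ∈ E.obj.left.left.basicOpen r' := by
    rw [Scheme.mem_basicOpen_top]
    exact not_not.mp fun h => hr ((IsLocalRing.mem_maximalIdeal _).2 h)
  let U := E.obj.left.left.basicOpen r'
  have hA : IsAffine (openObj E U).obj.left.left := (isAffineOpen_top E.obj.left.left).basicOpen r'
  refine ⟨openObj E U, openHom E U, hA, ⟨⟨x, hx⟩, rfl⟩, ?_⟩
  haveI := hA
  haveI : Module.Free (Rg (openHom E U)) (Mg M (openHom E U)) := by
    refine free_of_isUnit (resL M (openHom E U)) (isBaseChange_res (M := M) (openHom E U)) r ?_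
    show IsUnit (res (openHom E U) r)
    have h0 : IsUnit (U.ι.appTop.hom r') := by
      have h := RingedSpace.isUnit_res_basicOpen E.obj.left.left.toRingedSpace r'
      rw [Scheme.Opens.ι_appTop]
      rw [show (homOfLE (le_top : U.ι ''ᵁ ⊤ ≤ ⊤)).op = (homOfLE (le_top : U ≤ ⊤)).op ≫
        (homOfLE (le_of_eq U.ι_image_top)).op from rfl, Functor.map_comp]
      exact h.map (E.obj.left.left.presheaf.map (homOfLE (le_of_eq U.ι_image_top)).op).hom
    exact h0.map (ULift.ringEquiv.symm : _ ≃+* R (openObj E U)).toRingHom
  exact ‹Module.Free (Rg (openHom E U)) (Mg M (openHom E U))›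

theorem exists_locallyFreeData (M : ModEt X) [M.IsQuasicoherent]
    (h : ∀ (E : EtOver X) [IsAffine E.obj.left.left],
      Module.FinitePresentation (R E) (sectModEt M E) ∧ Module.Flat (R E) (sectModEt M E)) :
    ∃ q : SheafOfModules.LocalGeneratorsData.{u + 1} M, q.IsLocallyFreeData ∧ q.IsFiniteType := by
  let I := { E : EtOver X // IsAffine E.obj.left.left ∧ Module.Free (R E) (sectModEt M E) }
  have hσ : ∀ E : I, ∃ σ : (M.over E.1).GeneratingSections, σ.IsFiniteType ∧ IsIso σ.π := fun E => by
    haveI := E.2.1
    haveI := E.2.2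
    haveI := (h E.1).1
    exact exists_free_slice M E.1
  choose σ hσ₁ hσ₂ using hσ
  let q : SheafOfModules.LocalGeneratorsData.{u + 1} M :=
    { I := I, X := fun E => E.1, coversTop := fun W => ?_, generators := σ }
  · exact ⟨q, { isIso := hσ₂ }, { isFiniteType := hσ₁ }⟩
  refine Groth.Agent.AlgSpLib.StalkPoint.mem_etTop_of_jointly_surjective _ fun x => ?_
  obtain ⟨E, hE, a, y, hy⟩ := exists_affine_nhd W x
  haveI := hE
  haveI := (h E).1
  haveI := (h E).2
  obtain ⟨V, g, hV, ⟨z, hz⟩, hfree⟩ := exists_free_nhd M E y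
  refine ⟨V, g ≫ a, ⟨⟨V, hV, hfree⟩, ⟨𝟙 V⟩⟩, z, ?_⟩
  rw [← hy, ← hz]
  rfl

/-! ### sections of a locally free module -/

theorem flat_of_jointlyFF {A : Type (u + 1)} [CommRing A] {ι : Type*} [Finite ι] (B : ι → Type (u + 1))
    [∀ i, CommRing (B i)] [∀ i, Algebra A (B i)] [∀ i, Module.Flat A (B i)] (hB : JointlyFF (A := A) B)
    (M : Type (u + 1)) [AddCommGroup M] [Module A M]
    [∀ i, Module.Flat (B i) (B i ⊗[A] M)] : Module.Flat A M := by
  rw [Module.Flat.iff_lTensor_preserves_injective_linearMap]
  intro N N' _ _ _ _ f hf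
  rw [← LinearMap.ker_eq_bot, eq_bot_iff]
  intro z hz
  refine eq_zero_of_one_tmul B hB z fun i => ?_
  haveI : Module.Flat A (B i ⊗[A] M) := Module.Flat.trans A (B i) _
  apply (TensorProduct.assoc A (B i) M N).symm.injective
  apply Module.Flat.lTensor_preserves_injective_linearMap (M := B i ⊗[A] M) f hf
  rw [map_zero, map_zero]
  have e : ∀ w : M ⊗[A] N, f.lTensor (B i ⊗[A] M) ((TensorProduct.assoc A (B i) M N).symm ((1 : B i) ⊗ₜ w)) =
      (TensorProduct.assoc A (B i) M N').symm ((1 : B i) ⊗ₜ f.lTensor M w) := fun w => by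
    induction w using TensorProduct.induction_on with
    | zero => simp
    | tmul m n => rfl
    | add a b ha hb => simp only [TensorProduct.tmul_add, map_add, ha, hb]
  rw [e, (LinearMap.mem_ker.1 hz : f.lTensor M z = 0), TensorProduct.tmul_zero, map_zero]

theorem free_of_slice (M : ModEt X) [M.IsQuasicoherent] {U : EtOver X} {I : Type (u + 1)} [Finite I]
    (π : Fr U I ⟶ M.over U) [IsIso π] {W : EtOver X} [IsAffine W.obj.left.left] (g : W ⟶ U) :
    Module.Free (R W) (sectModEt M W) ∧ Module.Finite (R W) (sectModEt M W) := by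
  let L := Finsupp.linearCombination (R W) (secOf π g)
  have hsurj : Function.Surjective L := fun m => by
    have hm : m ∈ Submodule.span (R W) (Set.range (secOf π g)) :=
      mem_span_of_locally _ m fun x => locally_span π g m x
    rwa [← Finsupp.range_linearCombination] at hm
  have hinj : Function.Injective L := fun c c' e => by
    have e' : combo (Over.mk g) c = combo (Over.mk g) c' := by
      have e2 := congrArg ((inv π).val.app (op (Over.mk g)))
        ((app_combo π g c).trans (e.trans (app_combo π g c').symm))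
      have hi : ∀ y, (inv π).val.app (op (Over.mk g)) (π.val.app (op (Over.mk g)) y) = y := fun y =>
        congrArg (fun q : Fr U I ⟶ Fr U I => q.val.app (op (Over.mk g)) y) (IsIso.hom_inv_id π)
      rwa [hi, hi] at e2
    ext k
    exact (coord_combo (V := Over.mk g) k c).symm.trans ((congrArg _ e').trans (coord_combo (V := Over.mk g) k c'))
  let e := LinearEquiv.ofBijective L ⟨hinj, hsurj⟩
  exact ⟨Module.Free.of_equiv e, Module.Finite.equiv e⟩

theorem sections_of_locallyFreeData (M : ModEt X) [M.IsQuasicoherent]
    (q : SheafOfModules.LocalGeneratorsData.{u + 1} M) [q.IsLocallyFreeData] [q.IsFiniteType] (E : EtOver X)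
    [IsAffine E.obj.left.left] :
    Module.FinitePresentation (R E) (sectModEt M E) ∧ Module.Flat (R E) (sectModEt M E) := by
  have hP : ∀ x : E.obj.left.left, ∃ (V : EtOver X) (g : V ⟶ E), IsAffine V.obj.left.left ∧
      x ∈ Set.range g.hom.left.left ∧ Module.Free (R V) (sectModEt M V) ∧ Module.Finite (R V) (sectModEt M V) :=
    fun x => by
      obtain ⟨V₀, h₀, ⟨i, ⟨a⟩⟩, y, hy⟩ :=
        Groth.Agent.AlgSpLib.StalkPoint.surjective_of_mem_etTop (q.coversTop E) x
      obtain ⟨V, hV, h, z, hz⟩ := exists_affine_nhd V₀ y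
      haveI : Finite (q.generators i).I := (SheafOfModules.LocalGeneratorsData.IsFiniteType.isFiniteType i).finite
      haveI : IsIso (q.generators i).π := SheafOfModules.LocalGeneratorsData.IsLocallyFreeData.isIso i
      exact ⟨V, h ≫ h₀, hV, ⟨z, by rw [← hy, ← hz]; rfl⟩, free_of_slice M (q.generators i).π (h ≫ a)⟩
  refine ⟨finitePresentation_of_cover fun x => ?_, ?_⟩
  · obtain ⟨V, g, hV, hx, h1, h2⟩ := hP x
    haveI : Module.Projective (R V) (sectModEt M V) := Module.Projective.of_free
    exact ⟨V, g, hV, hx, Module.finitePresentation_of_projective _ _⟩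
  · obtain ⟨n, V, g, hV, hcov, hfree⟩ :=
      exists_finite_cover (W := E) (fun V _ => Module.Free (R V) (sectModEt M V)) fun x => by
        obtain ⟨V, g, hV, hx, h1, -⟩ := hP x
        exact ⟨V, g, hV, hx, h1⟩
    have hB : JointlyFF (A := R E) (fun i => Rg (g i)) := by
      letI : ∀ i, Algebra (R E) (R (V i)) := fun i => (res (g i)).toAlgebra
      exact jointlyFF_res g hcov fun i a => rfl
    haveI : ∀ i, Module.Flat (R E) (Rg (g i)) := fun i => by have := hV i; exact flat_res (g i)
    haveI : ∀ i, Module.Flat (Rg (g i)) (Rg (g i) ⊗[R E] sectModEt M E) := fun i => by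
      have := hV i
      haveI : Module.Free (Rg (g i)) (Mg M (g i)) := hfree i
      haveI : Module.Free (Rg (g i)) (Rg (g i) ⊗[R E] sectModEt M E) :=
        Module.Free.of_equiv (isBaseChange_res (M := M) (g i)).equiv.symm
      exact Module.Flat.of_free
    exact flat_of_jointlyFF (fun i => Rg (g i)) hB _

/-! ### the direct image of the structure sheaf -/

variable {f : X ⟶ Y} (hf : Representable f)

theorem sections_push_of_finLocFree (h : IsFiniteMor f) (hflat : LocP @Flat f)
    (hlfp : LocP @LocallyOfFinitePresentation f) (E : EtOver Y) [IsAffine E.obj.left.left] :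
    Module.FinitePresentation (R E) (sectModEt ((pushModEt hf).obj (unitModEt X)) E) ∧
      Module.Flat (R E) (sectModEt ((pushModEt hf).obj (unitModEt X)) E) := by
  letI : Algebra (R E) (R ((EtOver.bc hf).obj E)) := (pushRes hf E).toAlgebra
  have haff := isAffineMor_of_isFiniteMor h
  haveI := isAffine_bc hf haff E
  haveI : IsAffine (hf.pullback E.obj.hom).left := isAffine_bc hf haff E
  haveI : Flat (hf.snd E.obj.hom).left :=
    hflat ((EtOver.bc hf).obj E).obj.hom E.obj.hom (hf.snd E.obj.hom) ((EtOver.bc hf).obj E).property E.property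
      (hf.isPullback E.obj.hom).w
  have e : (pushRes hf E).Flat := RingHom.Flat.comp (RingHom.Flat.comp (RingHom.Flat.of_bijective
    (f := (ULift.ringEquiv.{u, u + 1} : ULift.{u + 1} Γ(E.obj.left.left, ⊤) ≃+* _).toRingHom)
    (ULift.ringEquiv.bijective)) (hf.snd E.obj.hom).left.flat_appTop) (RingHom.Flat.of_bijective
    (f := (ULift.ringEquiv.{u, u + 1} : ULift.{u + 1} Γ((hf.pullback E.obj.hom).left, ⊤) ≃+* _).symm.toRingHom)
    (ULift.ringEquiv.symm.bijective))
  let i : R ((EtOver.bc hf).obj E) ≃ₗ[R E] sectModEt ((pushModEt hf).obj (unitModEt X)) E :=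
    { toFun := fun a => a
      map_add' := fun _ _ => rfl
      map_smul' := fun _ _ => rfl
      invFun := fun a => a
      left_inv := fun _ => rfl
      right_inv := fun _ => rfl }
  haveI : Module.Flat (R E) (R ((EtOver.bc hf).obj E)) := e
  haveI := finitePresentation_pushRes hf h hlfp E
  exact ⟨Module.FinitePresentation.of_equiv i, Module.Flat.of_linearEquiv i.symm⟩

theorem finLocFree_bcπ (haff : IsAffineMor f) (E : EtOver Y) [IsAffine E.obj.left.left]
    (h : Module.FinitePresentation (R E) (sectModEt ((pushModEt hf).obj (unitModEt X)) E) ∧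
      Module.Flat (R E) (sectModEt ((pushModEt hf).obj (unitModEt X)) E)) :
    finLocFree (hf.snd E.obj.hom).left := by
  letI : Algebra (R E) (R ((EtOver.bc hf).obj E)) := (pushRes hf E).toAlgebra
  haveI := isAffine_bc hf haff E
  haveI : IsAffine (hf.pullback E.obj.hom).left := isAffine_bc hf haff E
  let i : R ((EtOver.bc hf).obj E) ≃ₗ[R E] sectModEt ((pushModEt hf).obj (unitModEt X)) E :=
    { toFun := fun a => a
      map_add' := fun _ _ => rfl
      map_smul' := fun _ _ => rfl
      invFun := fun a => a
      left_inv := fun _ => rfl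
      right_inv := fun _ => rfl }
  haveI := h.1
  haveI := h.2
  haveI h1 : Module.FinitePresentation (R E) (R ((EtOver.bc hf).obj E)) := Module.FinitePresentation.of_equiv i.symm
  haveI h2 : Module.Flat (R E) (R ((EtOver.bc hf).obj E)) := Module.Flat.of_linearEquiv i
  have hfl : (pushRes hf E).Flat := h2
  have hfi : (pushRes hf E).Finite := (inferInstance : Module.Finite (R E) (R ((EtOver.bc hf).obj E)))
  have hfp : (pushRes hf E).FinitePresentation :=
    (inferInstance : Algebra.FinitePresentation (R E) (R ((EtOver.bc hf).obj E)))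
  let eE : Γ(E.obj.left.left, ⊤) →+* R E := ULift.ringEquiv.symm.toRingHom
  let eB : R ((EtOver.bc hf).obj E) →+* Γ((hf.pullback E.obj.hom).left, ⊤) := ULift.ringEquiv.toRingHom
  have hE : Function.Bijective eE := ULift.ringEquiv.symm.bijective
  have hB : Function.Bijective eB := ULift.ringEquiv.bijective
  refine ⟨HasAffineProperty.iff_of_isAffine (P := @IsFinite) |>.mpr ⟨‹_›, ?_⟩,
    (HasRingHomProperty.iff_of_isAffine (P := @Flat)).mpr ?_,
    (HasRingHomProperty.iff_of_isAffine (P := @LocallyOfFinitePresentation)).mpr ?_⟩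
  · exact RingHom.Finite.comp (RingHom.Finite.of_surjective eB hB.2) (RingHom.Finite.comp hfi (RingHom.Finite.of_surjective eE hE.2))
  · exact RingHom.Flat.comp (RingHom.Flat.comp (RingHom.Flat.of_bijective hE) hfl) (RingHom.Flat.of_bijective hB)
  · exact RingHom.FinitePresentation.comp (RingHom.FinitePresentation.of_bijective hB)
      (RingHom.FinitePresentation.comp hfp (RingHom.FinitePresentation.of_bijective hE))

theorem isFinLocFreeMor_of_sections (hX : IsAlgSpace X) (hY : IsAlgSpace Y) (haff : IsAffineMor f)
    (h : ∀ (E : EtOver Y) [IsAffine E.obj.left.left],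
      Module.FinitePresentation (R E) (sectModEt ((pushModEt hf).obj (unitModEt X)) E) ∧
        Module.Flat (R E) (sectModEt ((pushModEt hf).obj (unitModEt X)) E)) :
    IsFinLocFreeMor f := by
  obtain ⟨V, p, hp, hps⟩ := hY.atlas
  let V₀ : EtOver Y := EtOver.mk p hp
  have hV : finLocFree (hf.snd V₀.obj.hom).left := by
    have key : ∀ j, finLocFree (pullback.snd (hf.snd V₀.obj.hom).left (V.left.affineCover.f j)) := fun j => by
      let c : Over.mk (V.left.affineCover.f j ≫ V.hom) ⟶ V := Over.homMk (V.left.affineCover.f j) rfl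
      haveI : Etale c.left := inferInstanceAs (Etale (V.left.affineCover.f j))
      let E : EtOver Y := EtOver.mk ((yon S).map c ≫ p)
        (Groth.Agent.AlgSpLib.repWith_comp ((Groth.Agent.AlgSpLib.repWith_yon_iff c).2 ‹_›) hp)
      haveI : IsAffine E.obj.left.left := inferInstanceAs (IsAffine (V.left.affineCover.X j))
      let g : E ⟶ V₀ := EtOver.homMk c rfl
      have sq := isPullback_bc hf g
      let θ := (IsPullback.of_hasPullback (hf.snd V₀.obj.hom).left (V.left.affineCover.f j)).isoIsPullback _ _ sq
      have hθ : θ.inv ≫ pullback.snd (hf.snd V₀.obj.hom).left (V.left.affineCover.f j) = (hf.snd E.obj.hom).left :=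
        (IsPullback.of_hasPullback (hf.snd V₀.obj.hom).left (V.left.affineCover.f j)).isoIsPullback_inv_snd _ _ sq
      refine MorphismProperty.of_isPullback (P := finLocFree) (IsPullback.of_horiz_isIso ⟨?_⟩ : IsPullback θ.hom
        (pullback.snd (hf.snd V₀.obj.hom).left (V.left.affineCover.f j)) (hf.snd E.obj.hom).left (𝟙 _))
        (finLocFree_bcπ hf haff E (h E))
      rw [← hθ, Iso.hom_inv_id_assoc, Category.comp_id]
    exact ⟨IsZariskiLocalAtTarget.of_openCover (P := @IsFinite) V.left.affineCover fun j => (key j).1,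
      IsZariskiLocalAtTarget.of_openCover (P := @Flat) V.left.affineCover fun j => (key j).2.1,
      IsZariskiLocalAtTarget.of_openCover (P := @LocallyOfFinitePresentation) V.left.affineCover fun j => (key j).2.2⟩
  exact Groth.Agent.AlgSpLib.of_chart (Groth.Agent.AlgSpLib.isLocalOnBase_repWith finLocFree fun _ _ r hr => by
    have : IsFinite r := hr.1
    exact Groth.Agent.AlgSpLib.indQA_of_isAffineHom r) hX hY f hp hps (hf.isPullback p)
    ((Groth.Agent.AlgSpLib.repWith_yon_iff (hf.snd p)).2 hV)

theorem isFinLocFreeMor_iff (hX : IsAlgSpace X) (hY : IsAlgSpace Y) :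
    IsFinLocFreeMor f ↔ IsAffineMor f ∧
      ∃ q : SheafOfModules.LocalGeneratorsData.{u + 1} ((pushModEt hf).obj (unitModEt X)),
        q.IsLocallyFreeData ∧ q.IsFiniteType := by
  constructor
  · intro h
    have h' : IsFiniteMor f ∧ LocP @Flat f ∧ LocP @LocallyOfFinitePresentation f := by
      have h1 : RepWith @IsFinite f := Groth.Agent.AlgSpLib.repWith_mono (P := finLocFree) (Q := @IsFinite)
        (fun _ _ _ hq => hq.1) h
      exact ⟨(Groth.Agent.AlgSpLib.isFiniteMor_iff_repWith f).2 h1,
        (Groth.Agent.AlgSpLib.locP_iff_repWith Groth.Agent.AlgSpLib.etST_flat hY h1.1).2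
          (Groth.Agent.AlgSpLib.repWith_mono (P := finLocFree) (Q := @Flat) (fun _ _ _ hq => hq.2.1) h),
        (Groth.Agent.AlgSpLib.locP_iff_repWith Groth.Agent.AlgSpLib.etST_lfp hY h1.1).2
          (Groth.Agent.AlgSpLib.repWith_mono (P := finLocFree) (Q := @LocallyOfFinitePresentation)
            (fun _ _ _ hq => hq.2.2) h)⟩
    have haff := isAffineMor_of_isFiniteMor h'.1
    haveI := isQuasicoherent_unitModEt (X := X)
    haveI := isQuasicoherent_push_affine hf haff (unitModEt X)
    exact ⟨haff, exists_locallyFreeData _ fun E _ => sections_push_of_finLocFree hf h'.1 h'.2.1 h'.2.2 E⟩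
  · rintro ⟨haff, q, hq₁, hq₂⟩
    haveI := isQuasicoherent_unitModEt (X := X)
    haveI := isQuasicoherent_push_affine hf haff (unitModEt X)
    exact isFinLocFreeMor_of_sections hf hX hY haff fun E _ => sections_of_locallyFreeData _ q E

end Groth.Agent.EtQC
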