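import Mathlib.RingTheory.IsTensorProduct
import Mathlib.RingTheory.TensorProduct.Maps
import Mathlib.Algebra.Category.Ring.Constructions

/-!
A pushout square of commutative rings stays a pushout square after replacing the four rings by isomorphic ones,
possibly in a larger universe.
-/

set_option autoImplicit false
set_option linter.style.haveILetI false

universe u w

open TensorProduct CategoryTheory CategoryTheory.Limits

namespace Groth.Agent.EtQC

theorem isPushout_of_ringEquiv {A B A' B' : CommRingCat.{u}} (f : A ⟶ B) (g : A ⟶ A') (g' : B ⟶ B') (f' : A' ⟶ B')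
    (h : IsPushout f g g' f')
    {A₁ B₁ A₂ B₂ : Type w} [CommRing A₁] [CommRing B₁] [CommRing A₂] [CommRing B₂]
    [Algebra A₁ B₁] [Algebra A₁ A₂] [Algebra B₁ B₂] [Algebra A₂ B₂] [Algebra A₁ B₂]
    [IsScalarTower A₁ B₁ B₂] [IsScalarTower A₁ A₂ B₂]
    (eA : A ≃+* A₁) (eB : B ≃+* B₁) (eA' : A' ≃+* A₂) (eB' : B' ≃+* B₂)
    (hf : ∀ a, algebraMap A₁ B₁ (eA a) = eB (f.hom a)) (hg : ∀ a, algebraMap A₁ A₂ (eA a) = eA' (g.hom a))
    (hg' : ∀ b, algebraMap B₁ B₂ (eB b) = eB' (g'.hom b)) (hf' : ∀ a, algebraMap A₂ B₂ (eA' a) = eB' (f'.hom a)) :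
    Algebra.IsPushout A₁ B₁ A₂ B₂ := by
  letI : Algebra A B := f.hom.toAlgebra
  letI : Algebra A A' := g.hom.toAlgebra
  letI : Algebra B B' := g'.hom.toAlgebra
  letI : Algebra A' B' := f'.hom.toAlgebra
  letI : Algebra A B' := (f'.hom.comp g.hom).toAlgebra
  haveI : IsScalarTower A A' B' := IsScalarTower.of_algebraMap_eq' rfl
  haveI : IsScalarTower A B B' := IsScalarTower.of_algebraMap_eq' (by
    have := congrArg CommRingCat.Hom.hom h.w
    simp only [CommRingCat.hom_comp] at this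
    exact this.symm)
  haveI hpo : Algebra.IsPushout A B A' B' := CommRingCat.isPushout_iff_isPushout.mp h
  letI : Algebra A (B₁ ⊗[A₁] A₂) := ((algebraMap A₁ (B₁ ⊗[A₁] A₂)).comp eA.toRingHom).toAlgebra
  let φ : B →ₐ[A] B₁ ⊗[A₁] A₂ :=
    { (Algebra.TensorProduct.includeLeft (R := A₁) (S := A₁) (A := B₁) (B := A₂)).toRingHom.comp eB.toRingHom with
      commutes' := fun a => by
        show (Algebra.TensorProduct.includeLeft (R := A₁) (S := A₁) (A := B₁) (B := A₂)) (eB (f.hom a)) = _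
        rw [← hf]
        exact AlgHom.commutes _ (eA a) }
  let ψ : A' →ₐ[A] B₁ ⊗[A₁] A₂ :=
    { (Algebra.TensorProduct.includeRight (R := A₁) (A := B₁) (B := A₂)).toRingHom.comp eA'.toRingHom with
      commutes' := fun a => by
        show (Algebra.TensorProduct.includeRight (R := A₁) (A := B₁) (B := A₂)) (eA' (g.hom a)) = _
        rw [← hg]
        exact AlgHom.commutes _ (eA a) }
  let Δ : B' →ₐ[A] B₁ ⊗[A₁] A₂ := Algebra.pushoutDesc B' φ ψ fun x y => mul_comm _ _
  let F : B₁ ⊗[A₁] A₂ →ₐ[B₁] B₂ := Algebra.TensorProduct.lift (Algebra.ofId _ _)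
    (IsScalarTower.toAlgHom A₁ A₂ B₂) fun x y => Commute.all _ _
  have hF : ∀ (b : B₁) (a : A₂),
      F (b ⊗ₜ a) = algebraMap B₁ B₂ b * algebraMap A₂ B₂ a := fun b a => rfl
  have hF' : ∀ (b : B) (a : A'),
      F (eB b ⊗ₜ eA' a) = eB' (algebraMap B B' b * algebraMap A' B' a) := fun b a => by
    rw [hF, hg', hf', map_mul]
    rfl
  have hleft : ∀ t, Δ (eB'.symm (F t)) = t := by
    intro t
    induction t using TensorProduct.induction_on with
    | zero => rw [map_zero, map_zero, map_zero]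
    | tmul b a =>
      obtain ⟨b, rfl⟩ := eB.surjective b
      obtain ⟨a, rfl⟩ := eA'.surjective a
      rw [hF', RingEquiv.symm_apply_apply, map_mul, Algebra.pushoutDesc_left, Algebra.pushoutDesc_right]
      show (eB b ⊗ₜ[A₁] (1 : A₂)) * ((1 : B₁) ⊗ₜ[A₁] eA' a) = _
      rw [Algebra.TensorProduct.tmul_mul_tmul, one_mul, mul_one]
    | add x y hx hy => rw [map_add, map_add, map_add, hx, hy]
  have hsurj : Function.Surjective F := by
    intro b'
    obtain ⟨b', rfl⟩ := eB'.surjective b'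
    obtain ⟨t, rfl⟩ := (Algebra.IsPushout.equiv A B A' B').surjective b'
    induction t using TensorProduct.induction_on with
    | zero => exact ⟨0, by rw [map_zero, map_zero, map_zero]⟩
    | tmul b a => exact ⟨eB b ⊗ₜ eA' a, by rw [hF', Algebra.IsPushout.equiv_tmul]⟩
    | add x y hx hy =>
      obtain ⟨p, hp⟩ := hx
      obtain ⟨q, hq⟩ := hy
      exact ⟨p + q, by rw [map_add, map_add, map_add, hp, hq]⟩
  rw [Algebra.isPushout_iff]
  refine IsBaseChange.of_equiv (LinearEquiv.ofBijective F.toLinearMap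
    ⟨fun x y hxy => by rw [← hleft x, ← hleft y]; exact congrArg (fun z => Δ (eB'.symm z)) hxy, hsurj⟩)
    fun a => ?_
  show F (1 ⊗ₜ a) = _
  rw [hF, map_one, one_mul]
  rfl

end Groth.Agent.EtQC
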