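import Groth.Agent.EtQC.PushoutLift
import Groth.Agent.EtQC.Alg
import Groth.Agent.AlgSpLib.StalkPoint
import Groth.Prelude.Def_AlgSpOX
import Groth.Prelude.Def_AlgSpModX
import Mathlib.AlgebraicGeometry.Morphisms.Flat

/-!
The affine objects of the small etale site of a sheaf on schemes: rings, restrictions, fibre products,
finite coverings, and the sheaf axioms of a module in elementwise form.
-/

set_option autoImplicit false
set_option linter.style.haveILetI false
set_option backward.isDefEq.respectTransparency false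

universe u

noncomputable section

open CategoryTheory CategoryTheory.Limits AlgebraicGeometry Opposite AlgSp

namespace Groth.Agent.EtQC

variable {S : Scheme.{u}} {X : Sp S}

/-- the ring of an object -/
abbrev R (E : EtOver X) : Type (u + 1) := (OEt X).obj.obj (op E)

/-- restriction of functions -/
abbrev res {E E' : EtOver X} (g : E' ⟶ E) : R E →+* R E' := ((OEt X).obj.map g.op).hom

theorem res_apply {E E' : EtOver X} (g : E' ⟶ E) (a : R E) :
    res g a = ULift.up (g.hom.left.left.appTop.hom a.down) := rfl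

theorem res_id (E : EtOver X) (a : R E) : res (𝟙 E) a = a := by
  show ((OEt X).obj.map (𝟙 (op E))).hom a = a
  rw [CategoryTheory.Functor.map_id]
  rfl

theorem res_comp {E E' E'' : EtOver X} (g : E' ⟶ E) (h : E'' ⟶ E') (a : R E) :
    res (h ≫ g) a = res h (res g a) := by
  show ((OEt X).obj.map (g.op ≫ h.op)).hom a = _
  rw [CategoryTheory.Functor.map_comp]
  rfl

variable (M : ModEt X)

instance instModuleSect (E : EtOver X) : Module (R E) (sectModEt M E) :=
  inferInstanceAs (Module ((OEtRing X).obj.obj (op E)) (M.val.obj (op E)))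

/-- restriction of sections -/
def resM {E E' : EtOver X} (g : E' ⟶ E) : sectModEt M E →+ sectModEt M E' where
  toFun m := M.val.map g.op m
  map_zero' := map_zero (M.val.map g.op).hom
  map_add' := map_add (M.val.map g.op).hom

variable {M}

theorem resM_apply {E E' : EtOver X} (g : E' ⟶ E) (m : sectModEt M E) : resM M g m = M.val.map g.op m := rfl

theorem resM_smul {E E' : EtOver X} (g : E' ⟶ E) (a : R E) (m : sectModEt M E) :
    resM M g (a • m) = res g a • resM M g m :=
  PresheafOfModules.map_smul M.val g.op a m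

theorem resM_id (E : EtOver X) (m : sectModEt M E) : resM M (𝟙 E) m = m :=
  congrArg (fun f => f m) (PresheafOfModules.map_id M.val (op E))

theorem resM_comp {E E' E'' : EtOver X} (g : E' ⟶ E) (h : E'' ⟶ E') (m : sectModEt M E) :
    resM M (h ≫ g) m = resM M h (resM M g m) :=
  PresheafOfModules.map_comp_apply M.val g.op h.op m

/-! ### fibre products -/

section Pullback

variable {W V V' : EtOver X} (g : V ⟶ W) (h : V' ⟶ W)

/-- the fibre product in the site -/
def pb : EtOver X :=
  EtOver.mk (U := Over.mk (pullback.fst g.hom.left.left h.hom.left.left ≫ V.obj.left.hom))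
    ((yon S).map (Over.homMk (pullback.fst g.hom.left.left h.hom.left.left) rfl :
      Over.mk (pullback.fst g.hom.left.left h.hom.left.left ≫ V.obj.left.hom) ⟶ V.obj.left) ≫ V.obj.hom)
    (by
      have : Etale h.hom.left.left := EtOver.etale_left h
      exact Groth.Agent.AlgSpLib.repWith_comp ((Groth.Agent.AlgSpLib.repWith_yon_iff _).2
        (show Etale (pullback.fst g.hom.left.left h.hom.left.left) by infer_instance)) V.property)

/-- first projection -/
def pbFst : pb g h ⟶ V := EtOver.homMk (Over.homMk (pullback.fst g.hom.left.left h.hom.left.left) rfl) rfl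

/-- second projection -/
def pbSnd : pb g h ⟶ V' := EtOver.homMk (Over.homMk (pullback.snd g.hom.left.left h.hom.left.left) (by
    show pullback.snd _ _ ≫ V'.obj.left.hom = pullback.fst _ _ ≫ V.obj.left.hom
    rw [← Over.w h.hom.left, ← Over.w g.hom.left]
    exact (Category.assoc _ _ _).symm.trans ((congrArg (· ≫ W.obj.left.hom) pullback.condition.symm).trans
      (Category.assoc _ _ _)))) (by
    show (yon S).map _ ≫ V'.obj.hom = (yon S).map _ ≫ V.obj.hom
    rw [← EtOver.w h, ← EtOver.w g, ← (yon S).map_comp_assoc, ← (yon S).map_comp_assoc]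
    congr 2
    ext1
    exact pullback.condition.symm)

theorem pb_condition : pbFst g h ≫ g = pbSnd g h ≫ h :=
  EtOver.hom_ext _ _ (by ext1; exact pullback.condition)

/-- maps into the fibre product -/
def pbLift {Z : EtOver X} (a : Z ⟶ V) (b : Z ⟶ V') (w : a ≫ g = b ≫ h) : Z ⟶ pb g h :=
  EtOver.homMk (Over.homMk (pullback.lift a.hom.left.left b.hom.left.left
      (congrArg (fun k => k.hom.left.left) w)) (by
    show pullback.lift _ _ _ ≫ pullback.fst _ _ ≫ V.obj.left.hom = Z.obj.left.hom
    rw [pullback.lift_fst_assoc]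
    exact Over.w a.hom.left)) (by
    show (yon S).map _ ≫ (yon S).map _ ≫ V.obj.hom = Z.obj.hom
    rw [← EtOver.w a, ← (yon S).map_comp_assoc]
    congr 2
    ext1
    exact pullback.lift_fst _ _ _)

theorem pbLift_fst {Z : EtOver X} (a : Z ⟶ V) (b : Z ⟶ V') (w : a ≫ g = b ≫ h) :
    pbLift g h a b w ≫ pbFst g h = a :=
  EtOver.hom_ext _ _ (by ext1; exact pullback.lift_fst _ _ _)

theorem pbLift_snd {Z : EtOver X} (a : Z ⟶ V) (b : Z ⟶ V') (w : a ≫ g = b ≫ h) :
    pbLift g h a b w ≫ pbSnd g h = b :=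
  EtOver.hom_ext _ _ (by ext1; exact pullback.lift_snd _ _ _)

theorem exists_pb_point (y : V.obj.left.left) (y' : V'.obj.left.left)
    (hy : g.hom.left.left y = h.hom.left.left y') :
    ∃ z : (pb g h).obj.left.left, (pbFst g h).hom.left.left z = y ∧ (pbSnd g h).hom.left.left z = y' :=
  Scheme.Pullback.exists_preimage_pullback y y' hy

instance isAffine_pb [IsAffine W.obj.left.left] [IsAffine V.obj.left.left] [IsAffine V'.obj.left.left] :
    IsAffine (pb g h).obj.left.left :=
  inferInstanceAs (IsAffine (pullback g.hom.left.left h.hom.left.left))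

/-- functions on a fibre product of affine objects form the tensor product -/
theorem isPushout_pb [IsAffine W.obj.left.left] [IsAffine V.obj.left.left] [IsAffine V'.obj.left.left]
    [Algebra (R W) (R V)] [Algebra (R W) (R V')] [Algebra (R V) (R (pb g h))] [Algebra (R V') (R (pb g h))]
    [Algebra (R W) (R (pb g h))] [IsScalarTower (R W) (R V) (R (pb g h))]
    [IsScalarTower (R W) (R V') (R (pb g h))]
    (hg : ∀ a, algebraMap (R W) (R V) a = res g a) (hh : ∀ a, algebraMap (R W) (R V') a = res h a)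
    (h₁ : ∀ a, algebraMap (R V) (R (pb g h)) a = res (pbFst g h) a)
    (h₂ : ∀ a, algebraMap (R V') (R (pb g h)) a = res (pbSnd g h) a) :
    Algebra.IsPushout (R W) (R V) (R V') (R (pb g h)) := by
  have hp := isPushout_appTop_of_isPullback
    (IsPullback.of_hasPullback g.hom.left.left h.hom.left.left)
  refine isPushout_of_ringEquiv _ _ _ _ hp ULift.ringEquiv.symm ULift.ringEquiv.symm ULift.ringEquiv.symm
    ULift.ringEquiv.symm (fun a => ?_) (fun a => ?_) (fun a => ?_) (fun a => ?_)
  · exact hg _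
  · exact hh _
  · exact h₁ _
  · exact h₂ _

end Pullback

/-! ### flatness and coverings -/

theorem flat_res {E E' : EtOver X} (g : E' ⟶ E) [IsAffine E.obj.left.left] [IsAffine E'.obj.left.left] :
    (res g).Flat := by
  have : Etale g.hom.left.left := EtOver.etale_left g
  have h : g.hom.left.left.appTop.hom.Flat := g.hom.left.left.flat_appTop
  exact RingHom.Flat.comp (RingHom.Flat.comp (RingHom.Flat.of_bijective
    (f := (ULift.ringEquiv.{u, u + 1} : ULift.{u + 1} Γ(E.obj.left.left, ⊤) ≃+* _).toRingHom)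
    (ULift.ringEquiv.bijective)) h) (RingHom.Flat.of_bijective
    (f := (ULift.ringEquiv.{u, u + 1} : ULift.{u + 1} Γ(E'.obj.left.left, ⊤) ≃+* _).symm.toRingHom)
    (ULift.ringEquiv.symm.bijective))

/-- an open subscheme of an object, as an object -/
def openObj (V : EtOver X) (U : V.obj.left.left.Opens) : EtOver X :=
  EtOver.mk (U := Over.mk (U.ι ≫ V.obj.left.hom))
    ((yon S).map (Over.homMk U.ι rfl : Over.mk (U.ι ≫ V.obj.left.hom) ⟶ V.obj.left) ≫ V.obj.hom)
    (Groth.Agent.AlgSpLib.repWith_comp ((Groth.Agent.AlgSpLib.repWith_yon_iff _).2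
        (show Etale U.ι by infer_instance)) V.property)

/-- its inclusion -/
def openHom (V : EtOver X) (U : V.obj.left.left.Opens) : openObj V U ⟶ V :=
  EtOver.homMk (Over.homMk U.ι rfl) rfl

theorem exists_affine_nhd (V : EtOver X) (x : V.obj.left.left) :
    ∃ (V' : EtOver X) (_ : IsAffine V'.obj.left.left) (h : V' ⟶ V), x ∈ Set.range h.hom.left.left := by
  obtain ⟨U, hU, hxU, -⟩ := exists_isAffineOpen_mem_and_subset (X := V.obj.left.left) (x := x) (U := ⊤) trivial
  exact ⟨openObj V U, hU, openHom V U, ⟨⟨x, hxU⟩, rfl⟩⟩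

/-- a finite covering family by affine objects, extracted from a pointwise one -/
theorem exists_finite_cover {W : EtOver X} [IsAffine W.obj.left.left]
    (P : ∀ V : EtOver X, (V ⟶ W) → Prop)
    (hP : ∀ x : W.obj.left.left, ∃ (V : EtOver X) (h : V ⟶ W),
      IsAffine V.obj.left.left ∧ x ∈ Set.range h.hom.left.left ∧ P V h) :
    ∃ (n : ℕ) (V : Fin n → EtOver X) (h : ∀ i, V i ⟶ W), (∀ i, IsAffine (V i).obj.left.left) ∧
      (∀ x : W.obj.left.left, ∃ i, x ∈ Set.range (h i).hom.left.left) ∧ ∀ i, P (V i) (h i) := by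
  choose V h hV hx hPV using hP
  have ho : ∀ x, IsOpen (Set.range (h x).hom.left.left) := fun x => by
    have : Etale (h x).hom.left.left := EtOver.etale_left (h x)
    exact (h x).hom.left.left.isOpenMap.isOpen_range
  obtain ⟨t, ht⟩ := isCompact_univ.elim_finite_subcover _ ho (fun x _ => Set.mem_iUnion.mpr ⟨x, hx x⟩)
  obtain ⟨n, ⟨e⟩⟩ := Finite.exists_equiv_fin t
  refine ⟨n, fun i => V (e.symm i).1, fun i => h _, fun i => hV _, fun x => ?_, fun i => hPV _⟩
  obtain ⟨y, hy, hxy⟩ := Set.mem_iUnion₂.mp (ht (Set.mem_univ x))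
  refine ⟨e ⟨y, hy⟩, ?_⟩
  have he := e.symm_apply_apply ⟨y, hy⟩
  show x ∈ Set.range (h (e.symm (e ⟨y, hy⟩)).1).hom.left.left
  exact (congrArg (fun k : t => Set.range (h k.1).hom.left.left) he).symm ▸ hxy

theorem primeAtPt_comap {U V : Scheme.{u}} (f : V ⟶ U) (y : V) :
    (primeAtPt V y).comap f.appTop.hom = primeAtPt U (f y) := by
  have h := congrArg (fun k : V ⟶ _ => k y) (Scheme.toSpecΓ_naturality f)
  exact (congrArg PrimeSpectrum.asIdeal h).symm

theorem exists_primeAtPt_eq {U : Scheme.{u}} [IsAffine U] (m : Ideal Γ(U, ⊤)) [hm : m.IsPrime] :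
    ∃ x : U, primeAtPt U x = m := by
  obtain ⟨x, hx⟩ := U.isoSpec.hom.surjective ⟨m, hm⟩
  exact ⟨x, congrArg PrimeSpectrum.asIdeal hx⟩

theorem jointlyFF_res {W : EtOver X} [IsAffine W.obj.left.left] {ι : Type*} {V : ι → EtOver X}
    (h : ∀ i, V i ⟶ W) (hc : ∀ x : W.obj.left.left, ∃ i, x ∈ Set.range (h i).hom.left.left)
    [∀ i, Algebra (R W) (R (V i))] (ha : ∀ i a, algebraMap (R W) (R (V i)) a = res (h i) a) :
    JointlyFF (A := R W) (fun i => R (V i)) := by
  intro m hm
  have := hm.isPrime
  let eW : Γ(W.obj.left.left, ⊤) →+* R W := ULift.ringEquiv.symm.toRingHom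
  obtain ⟨x, hx⟩ := exists_primeAtPt_eq (m.comap eW)
  obtain ⟨i, y, rfl⟩ := hc x
  refine ⟨i, (primeAtPt _ y).comap (ULift.ringEquiv.toRingHom : R (V i) →+* Γ((V i).obj.left.left, ⊤)),
    inferInstance, fun a ha' => ?_⟩
  rw [Ideal.mem_comap, ha, res_apply, Ideal.mem_comap]
  show (h i).hom.left.left.appTop.hom a.down ∈ primeAtPt _ y
  have : a.down ∈ (primeAtPt _ y).comap (h i).hom.left.left.appTop.hom := by
    rw [primeAtPt_comap, hx]
    exact ha'
  exact this

/-! ### sheaf axioms -/

theorem isSheafFor_sections (M : ModEt X) {W : EtOver X} {R' : Sieve W} (hR : R' ∈ etTop X W) :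
    Presieve.IsSheafFor (M.val.presheaf ⋙ CategoryTheory.forget AddCommGrpCat.{u + 1}) R'.arrows :=
  (isSheaf_iff_isSheaf_of_type _ _).1
    ((Presheaf.isSheaf_iff_isSheaf_forget (etTop X) M.val.presheaf (CategoryTheory.forget AddCommGrpCat.{u + 1})).1 M.isSheaf)
    R' hR

theorem eq_of_cover {W : EtOver X} {ι : Type*} {V : ι → EtOver X} (h : ∀ i, V i ⟶ W)
    (hc : ∀ x : W.obj.left.left, ∃ i, x ∈ Set.range (h i).hom.left.left) {s t : sectModEt M W}
    (hst : ∀ i, resM M (h i) s = resM M (h i) t) : s = t := by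
  refine (isSheafFor_sections M (ofArrows_mem_etTop V h hc)).isSeparatedFor.ext ?_
  rintro Z k ⟨Z', a, b, ⟨i⟩, rfl⟩
  show resM M (a ≫ h i) s = resM M (a ≫ h i) t
  rw [resM_comp, resM_comp, hst]

theorem exists_glue {W : EtOver X} {ι : Type*} {V : ι → EtOver X} (h : ∀ i, V i ⟶ W)
    (hc : ∀ x : W.obj.left.left, ∃ i, x ∈ Set.range (h i).hom.left.left) (s : ∀ i, sectModEt M (V i))
    (hs : ∀ i j, resM M (pbFst (h i) (h j)) (s i) = resM M (pbSnd (h i) (h j)) (s j)) :
    ∃ t, ∀ i, resM M (h i) t = s i := by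
  have hS := (Presieve.isSheafFor_iff_generate _).mpr
    ((isSheafFor_sections M (ofArrows_mem_etTop V h hc)))
  obtain ⟨t, ht, -⟩ := (Presieve.isSheafFor_arrows_iff _ h).mp hS s fun i j Z a b w => by
    have e := congrArg (resM M (pbLift (h i) (h j) a b w)) (hs i j)
    rw [← resM_comp, ← resM_comp, pbLift_fst, pbLift_snd] at e
    exact e
  exact ⟨t, ht⟩

end Groth.Agent.EtQC
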