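import Groth.Agent.EtQC.WeakAssApps

/-!
Membership in a span of sections over an affine object is local; finitely generated modules of finite type modules.
-/

set_option autoImplicit false
set_option linter.style.haveILetI false
set_option backward.isDefEq.respectTransparency false

universe u

noncomputable section

open CategoryTheory CategoryTheory.Limits AlgebraicGeometry Opposite AlgSp TensorProduct

namespace Groth.Agent.EtQC

variable {S : Scheme.{u}} {X : Sp S} {M : ModEt X}

theorem mem_span_of_locally [M.IsQuasicoherent] {W : EtOver X} [IsAffine W.obj.left.left] (T : Set (sectModEt M W))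
    (m : sectModEt M W)
    (h : ∀ x : W.obj.left.left, ∃ (V : EtOver X) (g : V ⟶ W), IsAffine V.obj.left.left ∧
      x ∈ Set.range g.hom.left.left ∧ resM M g m ∈ Submodule.span (R V) (resM M g '' T)) :
    m ∈ Submodule.span (R W) T := by
  have hc := exists_finite_cover (W := W)
    (fun V g => resM M g m ∈ Submodule.span (R V) (resM M g '' T)) h
  obtain ⟨n, V, g, hV, hcov, hP⟩ := hc
  let N := Submodule.span (R W) T
  have hB : JointlyFF (A := R W) (fun i => Rg (g i)) := by
    letI : ∀ i, Algebra (R W) (R (V i)) := fun i => (res (g i)).toAlgebra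
    exact jointlyFF_res g hcov fun i a => rfl
  haveI : ∀ i, Module.Flat (R W) (Rg (g i)) := fun i => by have := hV i; exact flat_res (g i)
  rw [← Submodule.Quotient.mk_eq_zero (p := N)]
  refine eq_zero_of_one_tmul (fun i => Rg (g i)) hB _ fun i => ?_
  have := hV i
  let e := (isBaseChange_res (M := M) (g i)).equiv
  have he : ∀ y : Mg M (g i), y ∈ Submodule.span (Rg (g i)) (resM M (g i) '' T) →
      N.mkQ.lTensor (Rg (g i)) (e.symm y) = 0 := by
    intro y hy
    induction hy using Submodule.span_induction with
    | mem z hz =>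
      obtain ⟨t, ht, rfl⟩ := hz
      rw [show resM M (g i) t = resL M (g i) t from rfl, IsBaseChange.equiv_symm_apply, LinearMap.lTensor_tmul,
        Submodule.mkQ_apply, (Submodule.Quotient.mk_eq_zero N).mpr (Submodule.subset_span ht), tmul_zero]
    | zero => rw [map_zero, map_zero]
    | add a b _ _ ha hb => rw [map_add, map_add, ha, hb, add_zero]
    | smul a z _ hz =>
      rw [map_smul]
      show N.mkQ.baseChange (Rg (g i)) (a • e.symm z) = 0
      rw [map_smul, show N.mkQ.baseChange (Rg (g i)) (e.symm z) = 0 from hz, smul_zero]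
  have h1 := he (resL M (g i) m) (hP i)
  rw [IsBaseChange.equiv_symm_apply, LinearMap.lTensor_tmul] at h1
  exact h1

theorem finite_sections [M.IsQuasicoherent] {W : EtOver X} [IsAffine W.obj.left.left]
    (h : ∀ x : W.obj.left.left, ∃ (V : EtOver X) (g : V ⟶ W), IsAffine V.obj.left.left ∧
      x ∈ Set.range g.hom.left.left ∧ Module.Finite (R V) (sectModEt M V)) :
    Module.Finite (R W) (sectModEt M W) := by
  classical
  have hc := exists_finite_cover (W := W) (fun V _ => Module.Finite (R V) (sectModEt M V)) h
  obtain ⟨n, V, g, hV, hcov, hP⟩ := hc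
  have hex : ∀ i, ∃ t : Finset (sectModEt M W),
      Submodule.span (R (V i)) (resM M (g i) '' (t : Set (sectModEt M W))) = ⊤ := by
    intro i
    have := hV i
    obtain ⟨s, hs⟩ := (hP i).fg_top
    have hgen : ∀ y : sectModEt M (V i), ∃ t : Finset (sectModEt M W),
        y ∈ Submodule.span (R (V i)) (resM M (g i) '' (t : Set (sectModEt M W))) := by
      intro y
      induction y using (isBaseChange_res (M := M) (g i)).inductionOn with
      | zero => exact ⟨∅, Submodule.zero_mem _⟩
      | tmul m => exact ⟨{m}, Submodule.subset_span ⟨m, by simp, rfl⟩⟩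
      | smul a y hy =>
        obtain ⟨t, ht⟩ := hy
        exact ⟨t, Submodule.smul_mem _ (a : R (V i)) ht⟩
      | add y z hy hz =>
        obtain ⟨t, ht⟩ := hy
        obtain ⟨t', ht'⟩ := hz
        exact ⟨t ∪ t', Submodule.add_mem _
          (Submodule.span_mono (Set.image_mono (Finset.coe_subset.mpr Finset.subset_union_left)) ht)
          (Submodule.span_mono (Set.image_mono (Finset.coe_subset.mpr Finset.subset_union_right)) ht')⟩
    choose tt htt using hgen
    refine ⟨s.biUnion tt, eq_top_iff.mpr ?_⟩
    rw [← hs, Submodule.span_le]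
    intro y hy
    exact Submodule.span_mono (Set.image_mono (Finset.coe_subset.mpr (Finset.subset_biUnion_of_mem tt hy))) (htt y)
  choose t ht using hex
  refine ⟨⟨Finset.univ.biUnion t, eq_top_iff.mpr fun m _ => mem_span_of_locally _ m fun x => ?_⟩⟩
  obtain ⟨i, hi⟩ := hcov x
  refine ⟨V i, g i, hV i, hi, ?_⟩
  refine Submodule.span_mono (Set.image_mono (Finset.coe_subset.mpr
    (Finset.subset_biUnion_of_mem t (Finset.mem_univ i)))) ?_
  rw [ht i]
  trivial

end Groth.Agent.EtQC
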