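import Groth.Agent.EtQC.Site
import Groth.Agent.AlgSpLib.StalkApps

/-!
The largest open set on which a section of an abelian sheaf on the small etale site vanishes.
-/

set_option autoImplicit false
set_option linter.style.haveILetI false
set_option backward.isDefEq.respectTransparency false

universe u

noncomputable section

open CategoryTheory CategoryTheory.Limits AlgebraicGeometry Opposite AlgSp IsLocalRing

namespace Groth.Agent.EtQC

variable {S : Scheme.{u}} {X : Sp S}

/-- the points at which a section vanishes locally -/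
def zeroSet (F : AbEt X) (U : EtOver X) (σ : ↥(F.obj.obj (op U))) : Set ↥U.obj.left.left :=
  {x | ∃ (V : EtOver X) (φ : V ⟶ U), (F.obj.map φ.op).hom σ = 0 ∧ x ∈ Set.range φ.hom.left.left}

theorem isOpen_zeroSet (F : AbEt X) (U : EtOver X) (σ : ↥(F.obj.obj (op U))) : IsOpen (zeroSet F U σ) := by
  rw [isOpen_iff_forall_mem_open]
  rintro x ⟨V, φ, h0, hx⟩
  have : Etale φ.hom.left.left := EtOver.etale_left φ
  exact ⟨_, fun y hy => ⟨V, φ, h0, hy⟩, φ.hom.left.left.isOpenMap.isOpen_range, hx⟩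

theorem map_comp_zero (F : AbEt X) {U V W : EtOver X} (φ : V ⟶ U) (g : W ⟶ V) (σ : ↥(F.obj.obj (op U))) :
    (F.obj.map (g ≫ φ).op).hom σ = (F.obj.map g.op).hom ((F.obj.map φ.op).hom σ) := by
  rw [op_comp, Functor.map_comp]
  rfl

theorem map_eq_zero_iff_range (F : AbEt X) {U : EtOver X} (σ : ↥(F.obj.obj (op U))) {V : EtOver X} (φ : V ⟶ U) :
    (F.obj.map φ.op).hom σ = 0 ↔ Set.range (fun v => φ.hom.left.left v) ⊆ zeroSet F U σ := by
  refine ⟨fun h => fun x hx => ⟨V, φ, h, hx⟩, fun h => ?_⟩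
  have hch := fun v : V.obj.left.left => h ⟨v, rfl⟩
  choose W ψ hψ z hz using hch
  have hsheaf := (isSheaf_iff_isSheaf_of_type _ _).1
    ((Presheaf.isSheaf_iff_isSheaf_forget (etTop X) F.obj (CategoryTheory.forget AddCommGrpCat.{u + 1})).1 F.property)
  refine (hsheaf _ (ofArrows_mem_etTop (fun v => pb φ (ψ v)) (fun v => pbFst φ (ψ v)) fun v => ?_)).isSeparatedFor.ext ?_
  · have hp := exists_pb_point φ (ψ v) v (z v) (hz v).symm
    obtain ⟨w, hw, -⟩ := hp
    exact ⟨v, w, hw⟩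
  · rintro Z k ⟨Z', a, b, ⟨v⟩, rfl⟩
    show (F.obj.map (a ≫ pbFst φ (ψ v)).op).hom ((F.obj.map φ.op).hom σ) = (F.obj.map (a ≫ pbFst φ (ψ v)).op).hom 0
    rw [map_zero, ← map_comp_zero, Category.assoc, pb_condition, ← Category.assoc, map_comp_zero, hψ, map_zero]

theorem stalk_eq_zero_iff (hX : IsAlgSpace X) (F : AbEt X) {U : EtOver X} (σ : ↥(F.obj.obj (op U)))
    (p : FieldPt X) (hp : p.IsGeometric) (l : (FieldPt.liftsTo p).obj U) :
    (stalkEtι p F ⟨U, l⟩).hom σ = 0 ↔ l.1.left (closedPoint p.K) ∈ zeroSet F U σ := by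
  let P := Groth.Agent.AlgSpLib.StalkPoint.point hX p hp
  change (P.toPresheafFiber U l F.obj).hom σ = 0 ↔ _
  constructor
  · intro h
    obtain ⟨Y, g, y, hy, e⟩ := (P.toPresheafFiber_eq_iff' U l σ 0).1
      (h.trans (map_zero (P.toPresheafFiber U l F.obj).hom).symm)
    rw [map_zero] at e
    refine ⟨Y, g, e, (y.1.left : Spec (CommRingCat.of p.K) ⟶ _) (closedPoint p.K), ?_⟩
    exact congrArg (fun z : (FieldPt.liftsTo p).obj U => (z.1.left : Spec (CommRingCat.of p.K) ⟶ _) (closedPoint p.K)) hy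
  · rintro ⟨V, φ, h0, v, hv⟩
    have : IsAlgClosed p.K := hp
    have : Etale φ.hom.left.left := EtOver.etale_left φ
    obtain ⟨k, hk⟩ := SpQS.exists_lift_of_etale φ.hom.left.left (l.1.left : Spec (CommRingCat.of p.K) ⟶ _) hv
    let m : p.pt ⟶ V.obj.left := Over.homMk k (by
      show k ≫ V.obj.left.hom = p.str
      rw [← Over.w φ.hom.left, ← Category.assoc, hk]
      exact Over.w l.1)
    have hm : m ≫ φ.hom.left = l.1 := Over.OverMorphism.ext hk
    have hml : (FieldPt.liftsTo p).map φ ⟨m, by rw [← EtOver.w φ, ← Functor.map_comp_assoc, hm]; exact l.2⟩ = l :=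
      Subtype.ext hm
    rw [← map_zero (P.toPresheafFiber U l F.obj).hom]
    exact (P.toPresheafFiber_eq_iff' U l σ 0).2 ⟨V, φ, _, hml, by rw [map_zero]; exact h0⟩

end Groth.Agent.EtQC
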