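import Groth.Agent.EtQC.Coherent
import Groth.Agent.EtQC.Support
import Groth.Agent.AlgSpLib.Zar

/-!
Stalks of quasi-coherent modules of finite type at geometric points and open subsets around them.
-/

set_option autoImplicit false
set_option linter.style.haveILetI false
set_option backward.isDefEq.respectTransparency false

universe u

noncomputable section

open CategoryTheory CategoryTheory.Limits AlgebraicGeometry Opposite AlgSp IsLocalRing TensorProduct

namespace Groth.Agent.EtQC

variable {S : Scheme.{u}} {X : Sp S} (hX : IsAlgSpace X)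

/-- the image of a section in a stalk -/
def germM (M : ModEt X) (p : FieldPt X) {E : EtOver X} (l : (FieldPt.liftsTo p).obj E) (m : sectModEt M E) :
    ↥(stalkEt p ((toAbEt X).obj M)) := (stalkEtι p ((toAbEt X).obj M) ⟨E, l⟩).hom m

include hX in
theorem stalk_map_germM {M N : ModEt X} (φ : M ⟶ N) (p : FieldPt X) (hp : p.IsGeometric) {E : EtOver X}
    (l : (FieldPt.liftsTo p).obj E) (m : sectModEt M E) :
    ((stalkEtFunctor AddCommGrpCat.{u + 1} p).map ((toAbEt X).map φ)).hom (germM M p l m) =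
      germM N p l (appM φ E m) :=
  (Groth.Agent.AlgSpLib.StalkPoint.point hX p hp).toPresheafFiber_naturality_apply ((toAbEt X).map φ).hom E l m

include hX in
theorem germM_eq_zero_iff (M : ModEt X) (p : FieldPt X) (hp : p.IsGeometric) {E : EtOver X}
    (l : (FieldPt.liftsTo p).obj E) (m : sectModEt M E) :
    germM M p l m = 0 ↔ l.1.left (closedPoint p.K) ∈ zeroSet ((toAbEt X).obj M) E m :=
  @stalk_eq_zero_iff S X hX ((toAbEt X).obj M) E (show ↥(((toAbEt X).obj M).obj.obj (op E)) from m) p hp l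

theorem eq_zero_of_range_subset_zeroSet (M : ModEt X) {E V : EtOver X} (g : V ⟶ E) (m : sectModEt M E)
    (h : Set.range (fun v => g.hom.left.left v) ⊆ zeroSet ((toAbEt X).obj M) E m) : resM M g m = 0 :=
  (map_eq_zero_iff_range ((toAbEt X).obj M) m g).2 h

theorem exists_affine_in (E' E : EtOver X) (W : E.obj.left.left.Opens) (x : E'.obj.left.left)
    (h : Points.ofPt E'.obj.hom x ∈ Points.ofPt E.obj.hom '' (W : Set _)) :
    ∃ (V : EtOver X) (a : V ⟶ E') (b : V ⟶ E), IsAffine V.obj.left.left ∧ x ∈ Set.range a.hom.left.left ∧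
      Set.range (fun v => b.hom.left.left v) ⊆ (W : Set _) := by
  obtain ⟨w, hw, hwx⟩ := h
  have hc := exists_common E' E x w hwx.symm
  obtain ⟨V₀, hV₀, g₁, g₂, v₀, h1, h2⟩ := hc
  let U : V₀.obj.left.left.Opens := g₂.hom.left.left ⁻¹ᵁ W
  have hv : v₀ ∈ U := show g₂.hom.left.left v₀ ∈ W from h2 ▸ hw
  have hn := exists_affine_nhd (openObj V₀ U) ⟨v₀, hv⟩
  obtain ⟨V, hV, e, z, hz⟩ := hn
  refine ⟨V, e ≫ openHom V₀ U ≫ g₁, e ≫ openHom V₀ U ≫ g₂, hV, ⟨z, ?_⟩, ?_⟩
  · show g₁.hom.left.left (U.ι (e.hom.left.left z)) = x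
    rw [hz]
    exact h1
  · rintro _ ⟨y, rfl⟩
    exact (e.hom.left.left y).2

/-- lifting a geometric point through an etale map -/
theorem exists_lift_through (p : FieldPt X) (hp : p.IsGeometric) {U V : EtOver X} (φ : V ⟶ U)
    (l : (FieldPt.liftsTo p).obj U)
    (hl : (l.1.left : Spec (CommRingCat.of p.K) ⟶ _) (closedPoint p.K) ∈ Set.range φ.hom.left.left) :
    ∃ y, (FieldPt.liftsTo p).map φ y = l := by
  obtain ⟨v, hv⟩ := hl
  have : IsAlgClosed p.K := hp
  have : Etale φ.hom.left.left := EtOver.etale_left φ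
  obtain ⟨k, hk⟩ := SpQS.exists_lift_of_etale φ.hom.left.left (l.1.left : Spec (CommRingCat.of p.K) ⟶ _) hv
  let m : p.pt ⟶ V.obj.left := Over.homMk k (by
    show k ≫ V.obj.left.hom = p.str
    rw [← Over.w φ.hom.left, ← Category.assoc, hk]
    exact Over.w l.1)
  have hm : m ≫ φ.hom.left = l.1 := Over.OverMorphism.ext hk
  exact ⟨⟨m, by rw [← EtOver.w φ, ← Functor.map_comp_assoc, hm]; exact l.2⟩, Subtype.ext hm⟩

include hX in
/-- a module of finite type with vanishing stalk at a geometric point vanishes near it -/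
theorem exists_open_vanish (K : ModEt X) [K.IsQuasicoherent] [K.IsFiniteType] (p : FieldPt X) (hp : p.IsGeometric)
    (h : ∀ (E : EtOver X) [IsAffine E.obj.left.left] (l : (FieldPt.liftsTo p).obj E) (m : sectModEt K E),
      germM K p l m = 0) :
    ∃ T : Set (Points X), IsOpen T ∧ Points.mk p ∈ T ∧
      ∀ E' : EtOver X, Set.range (Points.ofPt E'.obj.hom) ⊆ T → ∀ m : sectModEt K E', m = 0 := by
  classical
  haveI := Groth.Agent.AlgSpLib.isCofiltered_etNbhd hX p hp
  obtain ⟨N⟩ : Nonempty (EtNbhd p) := IsCofiltered.nonempty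
  obtain ⟨⟨E, l⟩, -, hE⟩ := Groth.Agent.AlgSpLib.StalkPoint.exists_affine_restrict p N
  haveI := finite_sections_of_isFiniteType (M := K) E
  obtain ⟨s, hs⟩ := Module.Finite.fg_top (R := R E) (M := sectModEt K E)
  let W : E.obj.left.left.Opens := ⟨⋂ m ∈ s, zeroSet ((toAbEt X).obj K) E m,
    isOpen_biInter_finset fun m _ => isOpen_zeroSet ((toAbEt X).obj K) E (show ↥(((toAbEt X).obj K).obj.obj (op E)) from m)⟩
  let u₀ := (l.1.left : Spec (CommRingCat.of p.K) ⟶ _) (closedPoint p.K)
  refine ⟨Points.ofPt E.obj.hom '' (W : Set _),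
    Groth.Agent.AlgSpLib.isOpenMap_ofPt (Groth.Agent.AlgSpLib.repWith_universallyOpen_of_etale E.property) _ W.2,
    ⟨u₀, Set.mem_iInter₂.mpr fun m _ => (germM_eq_zero_iff hX K p hp l m).1 (h E l m), ?_⟩, fun E' hE' m => ?_⟩
  · rw [Groth.Agent.AlgSpLib.mk_eq_ofPt, show Groth.Agent.AlgSpLib.fieldHom p = (yon S).map l.1 ≫ E.obj.hom from l.2.symm,
      Groth.Agent.AlgSpLib.ofPt_comp]
  · have hex := fun x : E'.obj.left.left => exists_affine_in E' E W x (hE' ⟨x, rfl⟩)
    choose V a b hV hx hW using hex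
    refine eq_of_cover a (fun x => ⟨x, hx x⟩) fun x => ?_
    rw [map_zero]
    have := hV x
    induction (resM K (a x) m) using (isBaseChange_res (M := K) (b x)).inductionOn with
    | zero => rfl
    | tmul y =>
      have hy : y ∈ Submodule.span (R E) (s : Set (sectModEt K E)) := by rw [hs]; trivial
      induction hy using Submodule.span_induction with
      | mem z hz =>
        exact eq_zero_of_range_subset_zeroSet K (b x) z ((hW x).trans fun w hw => Set.mem_iInter₂.mp hw z hz)
      | zero => exact map_zero (resM K (b x))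
      | add c d _ _ hc hd => exact (map_add (resM K (b x)) c d).trans (by rw [show resM K (b x) c = 0 from hc, show resM K (b x) d = 0 from hd, add_zero])
      | smul r z _ hz => exact (resM_smul (b x) r z).trans (by rw [show resM K (b x) z = 0 from hz, smul_zero])
    | smul r y hy =>
      show r • y = 0
      rw [show y = 0 from hy, smul_zero]
    | add c d hc hd =>
      show c + d = 0
      rw [show c = 0 from hc, show d = 0 from hd, add_zero]

include hX in
theorem exists_open_kernel_vanish {G F : ModEt X} (hn : IsLocNoethSp X) [G.IsFinitePresentation]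
    [F.IsFinitePresentation] (φ : G ⟶ F) (p : FieldPt X) (hp : p.IsGeometric)
    (hinj : Mono ((stalkEtFunctor AddCommGrpCat.{u + 1} p).map ((toAbEt X).map φ))) :
    ∃ T : Set (Points X), IsOpen T ∧ Points.mk p ∈ T ∧
      ∀ E' : EtOver X, Set.range (Points.ofPt E'.obj.hom) ⊆ T → Function.Injective (appM φ E') := by
  haveI := isQuasicoherent_kernel φ
  haveI := isFinitePresentation_of_mono hX hn (kernel.ι φ)
  have hv := exists_open_vanish hX (kernel φ) p hp fun E _ l k => by
    rw [germM_eq_zero_iff hX _ p hp]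
    have h0 : germM G p l (appM (kernel.ι φ) E k) = 0 := by
      apply (AddCommGrpCat.mono_iff_injective _).mp hinj
      rw [stalk_map_germM hX φ p hp, map_zero,
        show appM φ E (appM (kernel.ι φ) E k) = 0 from
          congrArg (fun q : kernel φ ⟶ F => q.val.app (op E) k) (kernel.condition φ)]
      exact map_zero (stalkEtι p ((toAbEt X).obj F) ⟨E, l⟩).hom
    obtain ⟨V, ψ, h0', hz⟩ := (germM_eq_zero_iff hX _ p hp l _).1 h0
    refine ⟨V, ψ, app_injective_of_mono (kernel.ι φ) V ?_, hz⟩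
    exact ((resM_appM (kernel.ι φ) ψ k).symm.trans h0').trans (map_zero (appM (kernel.ι φ) V)).symm
  obtain ⟨T, hT, hpT, hK⟩ := hv
  refine ⟨T, hT, hpT, fun E' hE' => (injective_iff_map_eq_zero (appM φ E')).mpr fun m hm => ?_⟩
  obtain ⟨k, rfl⟩ := GenSite.exists_kernel_lift φ m hm
  rw [hK E' hE' k]
  exact map_zero (appM (kernel.ι φ) E')

include hX in
theorem exists_open_locally_image {G F : ModEt X} (hn : IsLocNoethSp X) [G.IsFinitePresentation]
    [F.IsFinitePresentation] (φ : G ⟶ F) (p : FieldPt X) (hp : p.IsGeometric)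
    (hsurj : Epi ((stalkEtFunctor AddCommGrpCat.{u + 1} p).map ((toAbEt X).map φ))) :
    ∃ T : Set (Points X), IsOpen T ∧ Points.mk p ∈ T ∧
      ∀ V : EtOver X, IsAffine V.obj.left.left → Set.range (Points.ofPt V.obj.hom) ⊆ T →
        Function.Surjective (appM φ V) := by
  haveI := isQuasicoherent_cokernel φ
  haveI := isFinitePresentation_of_epi hX hn (cokernel.π φ)
  have hv := exists_open_vanish hX (cokernel φ) p hp fun E _ l c => by
    obtain ⟨f, rfl⟩ := appM_surjective_of_epi (cokernel.π φ) E c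
    rw [← stalk_map_germM hX (cokernel.π φ) p hp]
    obtain ⟨t, ht⟩ := (AddCommGrpCat.epi_iff_surjective _).mp hsurj (germM F p l f)
    obtain ⟨U', v', a, rfl⟩ :=
      (Groth.Agent.AlgSpLib.StalkPoint.point hX p hp).toPresheafFiber_jointly_surjective (P := ((toAbEt X).obj G).obj) t
    have ht' : germM F p v' (appM φ U' a) = germM F p l f := (stalk_map_germM hX φ p hp v' a).symm.trans ht
    rw [← ht', stalk_map_germM hX (cokernel.π φ) p hp,
      show appM (cokernel.π φ) U' (appM φ U' a) = 0 from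
        congrArg (fun q : G ⟶ cokernel φ => q.val.app (op U') a) (cokernel.condition φ)]
    exact map_zero (stalkEtι p ((toAbEt X).obj (cokernel φ)) ⟨U', v'⟩).hom
  obtain ⟨T, hT, hpT, hC⟩ := hv
  refine ⟨T, hT, hpT, fun V hV hVT n => ?_⟩
  obtain ⟨k, hk⟩ := GenSite.exists_kernel_lift (cokernel.π φ) n (hC V hVT _)
  let φ' : G ⟶ kernel (cokernel.π φ) := kernel.lift (cokernel.π φ) φ (cokernel.condition φ)
  haveI : Epi φ' := inferInstanceAs (Epi (Abelian.factorThruImage φ))
  haveI := isQuasicoherent_kernel (cokernel.π φ)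
  obtain ⟨g, hg⟩ := appM_surjective_of_epi φ' V k
  refine ⟨g, ?_⟩
  rw [← hk, ← hg]
  exact (congrArg (fun q : G ⟶ F => q.val.app (op V) g) (kernel.lift_ι (cokernel.π φ) φ (cokernel.condition φ))).symm

include hX in
theorem stalk_epi_of_surjective {G F : ModEt X} (φ : G ⟶ F) {T : Set (Points X)} (hT : IsOpen T)
    (h : ∀ V : EtOver X, IsAffine V.obj.left.left → Set.range (Points.ofPt V.obj.hom) ⊆ T →
        Function.Surjective (appM φ V)) (q : FieldPt X) (hq : q.IsGeometric) (hqT : Points.mk q ∈ T) :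
    Epi ((stalkEtFunctor AddCommGrpCat.{u + 1} q).map ((toAbEt X).map φ)) := by
  refine (AddCommGrpCat.epi_iff_surjective _).mpr fun t => ?_
  obtain ⟨U, v, n, hn'⟩ := (Groth.Agent.AlgSpLib.StalkPoint.point hX q hq).toPresheafFiber_jointly_surjective (P := ((toAbEt X).obj F).obj) t
  let W : U.obj.left.left.Opens := ⟨Points.ofPt U.obj.hom ⁻¹' T, hT.preimage (Points.continuous_ofPt _)⟩
  have hvW : (v.1.left : Spec (CommRingCat.of q.K) ⟶ _) (closedPoint q.K) ∈ W := by
    show Points.ofPt U.obj.hom _ ∈ T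
    rw [Groth.Agent.AlgSpLib.mk_eq_ofPt, show Groth.Agent.AlgSpLib.fieldHom q = (yon S).map v.1 ≫ U.obj.hom from v.2.symm,
      Groth.Agent.AlgSpLib.ofPt_comp] at hqT
    exact hqT
  have hn := exists_affine_nhd (openObj U W) ⟨_, hvW⟩
  obtain ⟨V, hV, e, z, hz⟩ := hn
  have hl := exists_lift_through q hq (e ≫ openHom U W) v ⟨z, congrArg W.ι hz⟩
  obtain ⟨l, hl⟩ := hl
  obtain ⟨g, hg⟩ := h V hV (by
    rintro _ ⟨y, rfl⟩
    rw [← EtOver.w (e ≫ openHom U W), Groth.Agent.AlgSpLib.ofPt_comp]
    exact (e.hom.left.left y).2) (resM F (e ≫ openHom U W) n)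
  refine ⟨germM G q l g, ?_⟩
  rw [stalk_map_germM hX φ q hq, hg, ← hn']
  subst hl
  exact (Groth.Agent.AlgSpLib.StalkPoint.point hX q hq).toPresheafFiber_w_apply (e ≫ openHom U W) l
    (P := ((toAbEt X).obj F).obj) n

theorem surjective_of_injective_of_affine {G F : ModEt X} (φ : G ⟶ F) {T : Set (Points X)}
    (hi : ∀ E' : EtOver X, Set.range (Points.ofPt E'.obj.hom) ⊆ T → Function.Injective (appM φ E'))
    (hs : ∀ V : EtOver X, IsAffine V.obj.left.left → Set.range (Points.ofPt V.obj.hom) ⊆ T →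
        Function.Surjective (appM φ V))
    (E : EtOver X) (hE : Set.range (Points.ofPt E.obj.hom) ⊆ T) : Function.Surjective (appM φ E) := by
  intro n
  have hch := fun x : E.obj.left.left => exists_affine_nhd E x
  choose V hV a ha using hch
  have hsub : ∀ {W : EtOver X} (g : W ⟶ E), Set.range (Points.ofPt W.obj.hom) ⊆ T := by
    rintro W g _ ⟨y, rfl⟩
    rw [← EtOver.w g, Groth.Agent.AlgSpLib.ofPt_comp]
    exact hE ⟨_, rfl⟩
  have hex := fun x => hs (V x) (hV x) (hsub (a x)) (resM F (a x) n)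
  choose g hg using hex
  obtain ⟨t, ht⟩ := exists_glue (M := G) a (fun x => ⟨x, ha x⟩) g fun x y => by
    apply hi _ (hsub (pbFst (a x) (a y) ≫ a x))
    rw [← resM_appM, ← resM_appM, hg, hg, ← resM_comp, ← resM_comp, pb_condition]
  refine ⟨t, eq_of_cover a (fun x => ⟨x, ha x⟩) fun x => ?_⟩
  rw [resM_appM, ht, hg]

end Groth.Agent.EtQC
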