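import Groth.Agent.EtQC.Coherent
import Mathlib.Algebra.Category.ModuleCat.Presheaf.Submodule

/-!
Quasi-coherent submodules given by their sections on affine objects.
-/

set_option autoImplicit false
set_option linter.style.haveILetI false
set_option backward.isDefEq.respectTransparency false

universe u

noncomputable section

open CategoryTheory CategoryTheory.Limits AlgebraicGeometry Opposite AlgSp TensorProduct

namespace Groth.Agent.EtQC

variable {S : Scheme.{u}} {X : Sp S}

/-- a family of submodules of sections on affine objects compatible with base change -/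
structure SubFam (F : ModEt X) where
  /-- the submodules -/
  sub : ∀ (E : EtOver X), IsAffine E.obj.left.left → Submodule (R E) (sectModEt F E)
  res_mem : ∀ {E V : EtOver X} (g : V ⟶ E) (hE : IsAffine E.obj.left.left) (hV : IsAffine V.obj.left.left)
    (s : sectModEt F E), s ∈ sub E hE → resM F g s ∈ sub V hV
  le_span : ∀ {E V : EtOver X} (g : V ⟶ E) (hE : IsAffine E.obj.left.left) (hV : IsAffine V.obj.left.left),
    sub V hV ≤ Submodule.span (R V) (resM F g '' (sub E hE : Set (sectModEt F E)))

namespace SubFam

variable {F : ModEt X} (σ : SubFam F)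

/-- the sections lying in the family on every affine object -/
def objSub (E : EtOver X) : Submodule (R E) (sectModEt F E) where
  carrier := {s | ∀ (V : EtOver X) (hV : IsAffine V.obj.left.left) (g : V ⟶ E), resM F g s ∈ σ.sub V hV}
  add_mem' ha hb V hV g := by rw [map_add]; exact Submodule.add_mem _ (ha V hV g) (hb V hV g)
  zero_mem' V hV g := by rw [map_zero]; exact Submodule.zero_mem _
  smul_mem' r s hs V hV g := by rw [resM_smul]; exact Submodule.smul_mem _ _ (hs V hV g)

theorem objSub_affine (E : EtOver X) (hE : IsAffine E.obj.left.left) : σ.objSub E = σ.sub E hE := by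
  ext s
  refine ⟨fun h => ?_, fun h V hV g => σ.res_mem g hE hV s h⟩
  have := h E hE (𝟙 E)
  rwa [resM_id] at this

/-- the presheaf submodule -/
def toPSub : F.val.Submodule where
  obj E := σ.objSub E.unop
  map {E E'} f := fun s hs => by
    intro V hV g
    show resM F g (resM F f.unop s) ∈ _
    rw [← resM_comp]
    exact hs V hV _

variable [F.IsQuasicoherent]

theorem mem_of_cover {E : EtOver X} {R' : Sieve E} (hR : R' ∈ etTop X E) (s : sectModEt F E)
    (h : ∀ ⦃V : EtOver X⦄ (g : V ⟶ E), R' g → resM F g s ∈ σ.objSub V) : s ∈ σ.objSub E := by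
  intro W hW g
  rw [← (Submodule.span_eq (σ.sub W hW))]
  refine mem_span_of_locally _ _ fun x => ?_
  have hex := exists_affine_of_mem ((etTop X).pullback_stable g hR) x
  obtain ⟨V, k, hV, hx, hk⟩ := hex
  refine ⟨V, k, hV, hx, σ.le_span k hW hV ?_⟩
  rw [← resM_comp]
  have := h (k ≫ g) hk V hV (𝟙 V)
  rwa [resM_id] at this

/-- the submodule as a sheaf -/
def toMod : ModEt X where
  val := σ.toPSub.toPresheafOfModules
  isSheaf := by
    refine (Presheaf.isSheaf_iff_isSheaf_forget (etTop X) _ (CategoryTheory.forget AddCommGrpCat.{u + 1})).2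
      ((isSheaf_iff_isSheaf_of_type _ _).2 fun E R' hR x hx => ?_)
    let x' : Presieve.FamilyOfElements (F.val.presheaf ⋙ CategoryTheory.forget AddCommGrpCat.{u + 1}) R'.arrows :=
      fun V g hg => (show ↥(σ.objSub V) from x g hg).1
    have hx' : x'.Compatible := fun V₁ V₂ Z g₁ g₂ f₁ f₂ h₁ h₂ w => congrArg Subtype.val (hx g₁ g₂ h₁ h₂ w)
    obtain ⟨t, ht, hu⟩ := isSheafFor_sections F hR x' hx'
    have htm : t ∈ σ.objSub E := σ.mem_of_cover hR t fun V g hg =>
      (show resM F g t = (show ↥(σ.objSub V) from x g hg).1 from ht g hg) ▸ (show ↥(σ.objSub V) from x g hg).2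
    exact ⟨(show ↥(σ.objSub E) from ⟨t, htm⟩), fun V g hg => Subtype.ext (p := fun s => s ∈ σ.objSub V) (ht g hg),
      fun b hb => Subtype.ext (p := fun s => s ∈ σ.objSub E) (hu _ fun V g hg => congrArg Subtype.val (hb g hg))⟩

/-- the inclusion -/
def ι : σ.toMod ⟶ F := ⟨σ.toPSub.ι⟩

theorem ι_injective (E : EtOver X) : Function.Injective (appM σ.ι E) :=
  fun _ _ h => Subtype.ext (p := fun s => s ∈ σ.objSub E) h

instance : Mono σ.ι :=
  (SheafOfModules.forget _).mono_of_mono_map (inferInstanceAs (Mono σ.toPSub.ι))

theorem range_ι (E : EtOver X) (hE : IsAffine E.obj.left.left) :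
    Set.range (σ.ι.val.app (op E)).hom = (σ.sub E hE : Set (sectModEt F E)) := by
  rw [← σ.objSub_affine E hE]
  ext s
  exact ⟨fun ⟨a, ha⟩ => ha ▸ (show ↥(σ.objSub E) from a).2, fun h => ⟨(show ↥(σ.objSub E) from ⟨s, h⟩), rfl⟩⟩

theorem isQuasicoherent_toMod : σ.toMod.IsQuasicoherent := by
  refine isQuasicoherent_of_isBaseChange fun {E V} _ _ g => ?_
  haveI : Module.Flat (R E) (Rg g) := flat_res g
  let θ := LinearMap.liftBaseChange (Rg g) (resL σ.toMod g)
  let eF := (isBaseChange_res (M := F) g).equiv
  let i : sectModEt σ.toMod E →ₗ[R E] sectModEt F E := appM σ.ι E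
  have hnat : ∀ z, appM σ.ι V (θ z) = eF (i.lTensor (Rg g) z) := fun z => by
    induction z using TensorProduct.induction_on with
    | zero => simp only [map_zero]
    | tmul b n =>
      rw [LinearMap.lTensor_tmul, LinearMap.liftBaseChange_tmul, IsBaseChange.equiv_tmul]
      refine (map_smul (appM σ.ι V) (show R V from b) _).trans ?_
      exact congrArg (fun y : sectModEt F V => (show R V from b) • y) (resM_appM σ.ι g n).symm
    | add a b ha hb => simp only [map_add, ha, hb]
  have hb : Function.Bijective θ := by
    refine ⟨fun a b hab => ?_, fun m => ?_⟩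
    · apply Module.Flat.lTensor_preserves_injective_linearMap (M := Rg g) i (σ.ι_injective E)
      apply eF.injective
      rw [← hnat, ← hnat, hab]
    · have hm : (appM σ.ι V m) ∈ Submodule.span (R V) (resM F g '' (σ.sub E inferInstance : Set (sectModEt F E))) := by
        refine σ.le_span g inferInstance inferInstance ?_
        rw [← SetLike.mem_coe, ← σ.range_ι V inferInstance]
        exact ⟨m, rfl⟩
      have hex : ∃ z, appM σ.ι V (θ z) = appM σ.ι V m := by
        refine Submodule.span_induction (p := fun y _ => ∃ z, appM σ.ι V (θ z) = y) ?_ ?_ ?_ ?_ hm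
        · rintro _ ⟨s, hs, rfl⟩
          have hs' : s ∈ Set.range (σ.ι.val.app (op E)).hom := by rw [σ.range_ι E inferInstance]; exact hs
          obtain ⟨a, rfl⟩ := hs'
          refine ⟨(1 : Rg g) ⊗ₜ a, ?_⟩
          rw [LinearMap.liftBaseChange_tmul, one_smul]
          exact (resM_appM σ.ι g a).symm
        · exact ⟨0, by rw [map_zero, map_zero]⟩
        · rintro a b _ _ ⟨za, rfl⟩ ⟨zb, rfl⟩
          exact ⟨za + zb, by rw [map_add, map_add]⟩
        · rintro r y _ ⟨z, rfl⟩
          exact ⟨(show Rg g from r) • z, by rw [map_smul]; exact map_smul (appM σ.ι V) r _⟩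
      obtain ⟨z, hz⟩ := hex
      exact ⟨z, σ.ι_injective V hz⟩
  exact IsBaseChange.of_equiv (LinearEquiv.ofBijective θ hb) fun m => by
    show θ ((1 : Rg g) ⊗ₜ m) = _
    rw [LinearMap.liftBaseChange_tmul, one_smul]

end SubFam

/-- annihilated sections commute with flat base change -/
theorem mem_span_of_annihilated {F : ModEt X} [F.IsQuasicoherent] {E V : EtOver X} [IsAffine E.obj.left.left]
    [IsAffine V.obj.left.left] (g : V ⟶ E) (t : Finset (R E)) (y : sectModEt F V)
    (hy : ∀ a ∈ t, res g a • y = 0) :
    y ∈ Submodule.span (R V) (resM F g '' {s | ∀ a ∈ t, a • s = 0}) := by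
  classical
  haveI : Module.Flat (R E) (Rg g) := flat_res g
  let eF := (isBaseChange_res (M := F) g).equiv
  let L : sectModEt F E →ₗ[R E] (t → sectModEt F E) := LinearMap.pi fun a => a.1 • LinearMap.id
  have hL : ∀ z : Rg g ⊗[R E] sectModEt F E,
      TensorProduct.piRight (R E) (R E) (Rg g) (fun _ : t => sectModEt F E) (L.lTensor (Rg g) z) =
        fun a => algebraMap (R E) (Rg g) a.1 • z := fun z => by
    induction z using TensorProduct.induction_on with
    | zero => ext a; simp
    | tmul b n =>
      ext a
      rw [LinearMap.lTensor_tmul, TensorProduct.piRight_apply, TensorProduct.piRightHom_tmul, algebraMap_smul]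
      exact TensorProduct.tmul_smul a.1 b n
    | add c d hc hd =>
      ext a
      simp only [map_add, hc, hd, Pi.add_apply, smul_add]
  let z := eF.symm y
  have hz : L.lTensor (Rg g) z = 0 := by
    apply (TensorProduct.piRight (R E) (R E) (Rg g) (fun _ : t => sectModEt F E)).injective
    rw [map_zero, hL]
    funext a
    rw [← map_smul]
    exact (congrArg eF.symm (hy a.1 a.2)).trans (map_zero eF.symm)
  obtain ⟨w, hw⟩ := (Module.Flat.lTensor_exact (Rg g) (LinearMap.exact_subtype_ker_map L) z).mp hz
  have hyw : y = eF ((LinearMap.ker L).subtype.lTensor (Rg g) w) := by rw [hw, LinearEquiv.apply_symm_apply]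
  rw [hyw]
  clear hw hyw
  induction w using TensorProduct.induction_on with
  | zero => rw [map_zero, map_zero]; exact Submodule.zero_mem _
  | tmul b n =>
    rw [LinearMap.lTensor_tmul, IsBaseChange.equiv_tmul]
    exact Submodule.smul_mem _ (show R V from b) (Submodule.subset_span
      ⟨n.1, fun a ha => congrFun n.2 ⟨a, ha⟩, rfl⟩)
  | add a b ha hb => rw [map_add, map_add]; exact Submodule.add_mem _ ha hb

end Groth.Agent.EtQC
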