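import Groth.Agent.EtQC.WeakAss

/-!
Consequences for weakly associated points: vanishing, short exact sequences, injectivity of restriction.
-/

set_option autoImplicit false
set_option linter.style.haveILetI false
set_option backward.isDefEq.respectTransparency false

universe u

noncomputable section

open CategoryTheory CategoryTheory.Limits AlgebraicGeometry Opposite AlgSp TensorProduct
open Groth.Agent.WeakAssAlg

namespace Groth.Agent.EtQC

variable {S : Scheme.{u}} {X : Sp S} {M : ModEt X}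

theorem exists_isWeakAssOn_of_ne_zero {E : EtOver X} [IsAffine E.obj.left.left] {s : sectModEt M E} (hs : s ≠ 0) :
    ∃ u, IsWeakAssOn M E u ∧ ∀ r : R E, r • s = 0 → r ∈ ptIdeal E u := by
  obtain ⟨p, hp, -, hw⟩ := exists_witness (R := R E) hs (f := 0) (zero_smul _ _)
  obtain ⟨u, rfl⟩ := exists_ptIdeal_eq E p
  exact ⟨u, (isWeakAssOn_iff E u).mpr (mem_weakAss_iff.mpr ⟨inferInstance, s, hw⟩), hw.1⟩

theorem eq_of_affine {E : EtOver X} {s t : sectModEt M E}
    (h : ∀ (V : EtOver X) [IsAffine V.obj.left.left] (g : V ⟶ E), resM M g s = resM M g t) : s = t := by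
  choose V hV g hg using fun x => exists_affine_nhd E x
  exact eq_of_cover (ι := E.obj.left.left) g (fun x => ⟨x, hg x⟩) fun x => @h (V x) (hV x) (g x)

theorem isZero_of_affine (h : ∀ (V : EtOver X) [IsAffine V.obj.left.left] (s : sectModEt M V), s = 0) : IsZero M := by
  rw [IsZero.iff_id_eq_zero]
  apply (SheafOfModules.forget _).map_injective
  ext U s
  show (s : sectModEt M U.unop) = 0
  exact eq_of_affine fun V _ g => by rw [map_zero]; exact h V _

theorem isZero_iff_weakAssEt_eq_empty [M.IsQuasicoherent] : IsZero M ↔ WeakAssEt M = ∅ := by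
  constructor
  · intro hM
    refine Set.eq_empty_of_forall_notMem ?_
    rintro x ⟨E, hE, u, -, s, hs⟩
    have h0 : s = 0 := by
      have := congrArg (fun q : M ⟶ M => q.val.app (op E) s) (IsZero.eq_of_src hM (𝟙 M) 0)
      exact this
    have htop : annSect s = ⊤ := by
      rw [Ideal.eq_top_iff_one, mem_annSect_iff, h0]
      exact smul_zero _
    rw [htop] at hs
    exact hs.1.1.ne_top (top_le_iff.mp hs.1.2)
  · intro h
    refine isZero_of_affine fun V _ s => ?_
    by_contra hs
    obtain ⟨u, hu, -⟩ := exists_isWeakAssOn_of_ne_zero hs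
    exact (Set.eq_empty_iff_forall_notMem.mp h _) ⟨V, inferInstance, u, rfl, hu⟩

section Exact

variable {C : ShortComplex (ModEt X)} (hC : C.ShortExact)

/-- a map of modules on sections -/
def appL {M N : ModEt X} (f : M ⟶ N) (E : EtOver X) : sectModEt M E →ₗ[R E] sectModEt N E :=
  (f.val.app (op E)).hom

include hC in
theorem injective_app (E : EtOver X) : Function.Injective (appL C.f E) := by
  haveI := hC.mono_f
  exact (ModuleCat.mono_iff_injective ((SheafOfModules.evaluation (OEtRing X) (op E)).map C.f)).mp inferInstance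

include hC in
theorem exists_app_eq (E : EtOver X) (m : sectModEt C.X₂ E) (hm : appL C.g E m = 0) :
    ∃ n, appL C.f E n = m := by
  let G := SheafOfModules.evaluation (OEtRing X) (op E)
  haveI : G.PreservesZeroMorphisms := ⟨fun _ _ => rfl⟩
  have hS : (ShortComplex.mk (G.map C.f) (G.map C.g)
      (by rw [← G.map_comp, C.zero, Functor.map_zero])).Exact :=
    ShortComplex.exact_of_f_is_kernel _ (KernelFork.mapIsLimit _ hC.fIsKernel G)
  exact (ShortComplex.moduleCat_exact_iff _).mp hS m hm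

theorem weakAss_sub {A N₁ N₂ : Type (u + 1)} [CommRing A] [AddCommGroup N₁] [Module A N₁] [AddCommGroup N₂]
    [Module A N₂] (f : N₁ →ₗ[A] N₂) (hf : Function.Injective f) {p : Ideal A}
    (h : p ∈ FlatCA.weakAss A N₁) : p ∈ FlatCA.weakAss A N₂ := by
  obtain ⟨hp, m, h1, h2⟩ := mem_weakAss_iff.mp h
  refine mem_weakAss_iff.mpr ⟨hp, f m, fun r hr => h1 r (hf (by rw [map_smul, hr, map_zero])), fun x hx => ?_⟩
  obtain ⟨s, hs, n, hn⟩ := h2 x hx
  exact ⟨s, hs, n, by rw [← map_smul, hn, map_zero]⟩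

theorem weakAss_ext {A N₁ N₂ N₃ : Type (u + 1)} [CommRing A] [AddCommGroup N₁] [Module A N₁] [AddCommGroup N₂]
    [Module A N₂] [AddCommGroup N₃] [Module A N₃] (f : N₁ →ₗ[A] N₂) (g : N₂ →ₗ[A] N₃)
    (hf : Function.Injective f) (hfg : ∀ m, g m = 0 → ∃ n, f n = m) {p : Ideal A}
    (h : p ∈ FlatCA.weakAss A N₂) : p ∈ FlatCA.weakAss A N₁ ∨ p ∈ FlatCA.weakAss A N₃ := by
  obtain ⟨hp, m, h1, h2⟩ := mem_weakAss_iff.mp h
  by_cases hg : ∀ r, r • g m = 0 → r ∈ p
  · refine Or.inr (mem_weakAss_iff.mpr ⟨hp, g m, hg, fun x hx => ?_⟩)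
    obtain ⟨s, hs, n, hn⟩ := h2 x hx
    exact ⟨s, hs, n, by rw [← map_smul, hn, map_zero]⟩
  · simp only [not_forall] at hg
    obtain ⟨r, hr, hrp⟩ := hg
    obtain ⟨k, hk⟩ := hfg (r • m) (by rw [map_smul, hr])
    refine Or.inl (mem_weakAss_iff.mpr ⟨hp, k, fun t ht => ?_, fun x hx => ?_⟩)
    · have : (t * r) • m = 0 := by rw [mul_smul, ← hk, ← map_smul, ht, map_zero]
      exact (hp.mem_or_mem (h1 _ this)).resolve_right hrp
    · obtain ⟨s, hs, n, hn⟩ := h2 x hx
      refine ⟨s, hs, n, hf ?_⟩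
      rw [map_smul, hk, map_zero, smul_comm, hn, smul_zero]

include hC in
theorem weakAssEt_shortExact [C.X₁.IsQuasicoherent] [C.X₂.IsQuasicoherent] [C.X₃.IsQuasicoherent] :
    WeakAssEt C.X₂ ⊆ WeakAssEt C.X₁ ∪ WeakAssEt C.X₃ ∧ WeakAssEt C.X₁ ⊆ WeakAssEt C.X₂ := by
  constructor
  · rintro x ⟨E, hE, u, rfl, h⟩
    rw [isWeakAssOn_iff] at h
    rcases weakAss_ext (appL C.f E) (appL C.g E) (injective_app hC E) (exists_app_eq hC E) h with h1 | h3
    · exact Or.inl ⟨E, hE, u, rfl, (isWeakAssOn_iff E u).mpr h1⟩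
    · exact Or.inr ⟨E, hE, u, rfl, (isWeakAssOn_iff E u).mpr h3⟩
  · rintro x ⟨E, hE, u, rfl, h⟩
    rw [isWeakAssOn_iff] at h
    exact ⟨E, hE, u, rfl, (isWeakAssOn_iff E u).mpr (weakAss_sub (appL C.f E) (injective_app hC E) h)⟩

end Exact

theorem sections_eval_injective [M.IsQuasicoherent] (E : EtOver X)
    (hE : WeakAssEt M ⊆ Set.range (Points.ofPt E.obj.hom)) :
    Function.Injective (fun s : M.sections => PresheafOfModules.sections.eval s (op E)) := by
  intro s t hst
  apply Subtype.ext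
  funext U
  refine eq_of_affine (E := U.unop) fun V _ g => ?_
  have e1 : resM M g (s.val U) = s.val (op V) := s.property g.op
  have e2 : resM M g (t.val U) = t.val (op V) := t.property g.op
  rw [e1, e2]
  by_contra hne
  let d : sectModEt M V := s.val (op V) - t.val (op V)
  obtain ⟨v, hv, hann⟩ := exists_isWeakAssOn_of_ne_zero (E := V) (s := d) (sub_ne_zero.mpr hne)
  obtain ⟨y, hy⟩ := hE ⟨V, inferInstance, v, rfl, hv⟩
  obtain ⟨W, hW, g₁, g₂, w, hw₁, hw₂⟩ := exists_common E V y v hy
  have hz : resM M g₂ d = 0 := by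
    show resM M g₂ (s.val (op V) - t.val (op V)) = 0
    rw [map_sub]
    have a1 : resM M g₂ (s.val (op V)) = s.val (op W) := s.property g₂.op
    have a2 : resM M g₂ (t.val (op V)) = t.val (op W) := t.property g₂.op
    have b1 : resM M g₁ (s.val (op E)) = s.val (op W) := s.property g₁.op
    have b2 : resM M g₁ (t.val (op E)) = t.val (op W) := t.property g₁.op
    have hst' : s.val (op E) = t.val (op E) := hst
    rw [a1, a2, ← b1, ← b2, hst', sub_self]
  haveI : Module.Flat (R V) (Rg g₂) := flat_res g₂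
  have h1 : (1 : Rg g₂) ∈ ((Submodule.span (R V) {d}).annihilator).map (algebraMap (R V) (Rg g₂)) := by
    refine Groth.Agent.WeakAssBC.annihilator_le_map (isBaseChange_res (M := M) g₂) d ?_
    rw [Submodule.mem_annihilator_span_singleton, one_smul]
    exact hz
  have h2 : ((Submodule.span (R V) {d}).annihilator).map (algebraMap (R V) (Rg g₂)) ≤
      (ptIdeal W w : Ideal (Rg g₂)) := by
    refine Ideal.map_le_iff_le_comap.mpr fun r hr => ?_
    show r ∈ (ptIdeal W w).comap (res g₂)
    rw [ptIdeal_comap, hw₂]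
    exact hann r ((Submodule.mem_annihilator_span_singleton _ _).mp hr)
  exact (inferInstance : (ptIdeal W w).IsPrime).ne_top ((Ideal.eq_top_iff_one _).mpr (h2 h1))

end Groth.Agent.EtQC
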