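import Groth.Agent.EtQC.SuppT
import Groth.Agent.EtQC.StalkOpen
import Groth.Agent.EtQC.WeakAssApps
import Groth.Agent.EtQC.Closure

/-!
Support of quasi-coherent modules on the etale site: stalks at geometric points and annihilators.
-/

set_option autoImplicit false
set_option linter.style.haveILetI false
set_option backward.isDefEq.respectTransparency false

universe u

noncomputable section

open CategoryTheory CategoryTheory.Limits AlgebraicGeometry Opposite AlgSp TensorProduct IsLocalRing

namespace Groth.Agent.EtQC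

/-- a ring map with flat target killing an element makes the annihilator generate the unit ideal -/
theorem annihilator_map_eq_top {A B M : Type*} [CommRing A] [CommRing B] [Algebra A B] [Module.Flat A B]
    [AddCommGroup M] [Module A M] (s : M) (h : (1 : B) ⊗ₜ[A] s = 0) :
    ((Submodule.span A {s}).annihilator).map (algebraMap A B) = ⊤ := by
  let a := (Submodule.span A {s}).annihilator
  have hker : a = LinearMap.ker (LinearMap.toSpanSingleton A M s) := by
    ext r
    rw [Submodule.mem_annihilator_span_singleton, LinearMap.mem_ker, LinearMap.toSpanSingleton_apply]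
  let q : (A ⧸ a) →ₗ[A] M := a.liftQ (LinearMap.toSpanSingleton A M s) hker.le
  have hq : Function.Injective q := LinearMap.ker_eq_bot.1
    (Submodule.ker_liftQ_eq_bot _ _ _ hker.ge)
  have h1 : (1 : B) ⊗ₜ[A] (Ideal.Quotient.mk a 1) = 0 := by
    refine Module.Flat.lTensor_preserves_injective_linearMap (M := B) q hq ?_
    rw [map_zero, LinearMap.lTensor_tmul, show q (Ideal.Quotient.mk a 1) = s from one_smul A s]
    exact h
  have h2 := congrArg (TensorProduct.tensorQuotEquivQuotSMul B a) h1
  rw [TensorProduct.tensorQuotEquivQuotSMul_tmul_mk, map_zero, one_smul, Submodule.Quotient.mk_eq_zero,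
    Ideal.smul_top_eq_map] at h2
  exact (Ideal.eq_top_iff_one _).2 h2

variable {S : Scheme.{u}} {X : Sp S}

/-- on an affine object a section of a quasi-coherent module vanishes near a point iff some function
invertible there kills it -/
theorem mem_zeroSet_iff {M : ModEt X} [M.IsQuasicoherent] {E : EtOver X} [IsAffine E.obj.left.left]
    (s : sectModEt M E) (w : E.obj.left.left) :
    w ∈ zeroSet ((toAbEt X).obj M) E s ↔
      w ∉ E.obj.left.left.zeroLocus (U := ⊤) ((annSect s : Ideal Γ(E.obj.left.left, ⊤)) : Set Γ(E.obj.left.left, ⊤)) := by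
  rw [mem_zeroLocus_ideal]
  constructor
  · rintro ⟨V₀, φ, h0, v₀, hv₀⟩ hle
    obtain ⟨V, hV, e, v, hv⟩ := exists_affine_nhd V₀ v₀
    let g := e ≫ φ
    have hwv : g.hom.left.left v = w := (congrArg (fun z => φ.hom.left.left z) hv).trans hv₀
    have hs : resM M g s = 0 := by
      rw [resM_comp, show resM M φ s = 0 from h0, map_zero]
    haveI := etale_res g
    haveI : Module.Flat (R E) (Rg g) := flat_res g
    have ht : (1 : Rg g) ⊗ₜ[R E] s = 0 := by
      refine (isBaseChange_res (M := M) g).equiv.injective ?_
      rw [map_zero, IsBaseChange.equiv_tmul, one_smul]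
      exact hs
    have htop := annihilator_map_eq_top s ht
    refine (inferInstance : (ptIdeal V v).IsPrime).ne_top ((Ideal.eq_top_iff_one _).2 ?_)
    have hle' : (Submodule.span (R E) {s}).annihilator ≤ (ptIdeal V v).comap (res g) := by
      rw [ptIdeal_comap, hwv, annihilator_eq_comap]
      exact Ideal.comap_mono hle
    have h3 : (Submodule.span (R E) {s}).annihilator.map (algebraMap (R E) (Rg g)) ≤ (ptIdeal V v : Ideal (Rg g)) :=
      Ideal.map_le_iff_le_comap.2 hle'
    rw [htop] at h3
    exact h3 Submodule.mem_top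
  · intro hnle
    obtain ⟨a, ha, hna⟩ := SetLike.not_le_iff_exists.1 hnle
    have hb : w ∈ E.obj.left.left.basicOpen a := not_not.1 fun hn => hna ((mem_primeAtPt_iff w a).2 hn)
    let U : E.obj.left.left.Opens := E.obj.left.left.basicOpen a
    refine ⟨openObj E U, openHom E U, ?_, ⟨w, hb⟩, rfl⟩
    have hu : IsUnit (res (openHom E U) (upR E a)) := by
      rw [res_upR]
      refine IsUnit.map (ULift.ringEquiv.symm.toRingHom : Γ((openObj E U).obj.left.left, ⊤) →+* R (openObj E U)) ?_
      refine (openObj E U).obj.left.left.toRingedSpace.isUnit_of_isUnit_germ ⊤ _ fun y _ => ?_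
      refine (Scheme.mem_basicOpen _ _ y (show y ∈ (⊤ : (openObj E U).obj.left.left.Opens) from trivial)).1 ?_
      show y ∈ U.toScheme.basicOpen (U.ι.appTop.hom a)
      rw [← Scheme.preimage_basicOpen_top]
      exact y.2
    have h1 : res (openHom E U) (upR E a) • resM M (openHom E U) s = 0 := by
      rw [← resM_smul, show upR E a • s = 0 from (mem_annSect_iff s a).1 ha, map_zero]
    show resM M (openHom E U) s = 0
    exact (hu.smul_eq_zero).1 h1

/-- vanishing of the stalks outside a set of points, through annihilators -/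
theorem isZero_stalk_iff (hX : IsAlgSpace X) (M : ModEt X) [M.IsQuasicoherent] (T : Set (Points X)) :
    (∀ p : FieldPt X, p.IsGeometric → Points.mk p ∉ T → IsZero (stalkEt p ((toAbEt X).obj M))) ↔
      ∀ (E : EtOver X) (_ : IsAffine E.obj.left.left) (s : sectModEt M E),
        E.obj.left.left.zeroLocus (U := ⊤) ((annSect s : Ideal Γ(E.obj.left.left, ⊤)) : Set Γ(E.obj.left.left, ⊤)) ⊆
          preT T E := by
  constructor
  · intro h E hE s w hw
    by_contra hT
    obtain ⟨q, hq, v, rfl⟩ := Groth.Agent.AlgSpLib.StalkPoint.exists_geometric_through E w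
    have hmk : Points.mk q ∉ T := by
      rw [Groth.Agent.AlgSpLib.mk_eq_ofPt, show Groth.Agent.AlgSpLib.fieldHom q = (yon S).map v.1 ≫ E.obj.hom from v.2.symm,
        Groth.Agent.AlgSpLib.ofPt_comp]
      exact hT
    have h0 : germM M q v s = 0 := @Subsingleton.elim _ (AddCommGrpCat.subsingleton_of_isZero (h q hq hmk)) _ _
    exact (mem_zeroSet_iff s _).1 ((germM_eq_zero_iff hX M q hq v s).1 h0) hw
  · intro h p hp hpT
    have hall : ∀ t : ↥(stalkEt p ((toAbEt X).obj M)), t = 0 := fun t => by
      obtain ⟨E₀, v₀, σ, rfl⟩ :=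
        (Groth.Agent.AlgSpLib.StalkPoint.point hX p hp).toPresheafFiber_jointly_surjective
          (P := ((toAbEt X).obj M).obj) t
      obtain ⟨E, hE, e, z, hz⟩ := exists_affine_nhd E₀ ((v₀.1.left : Spec (CommRingCat.of p.K) ⟶ _) (closedPoint p.K))
      obtain ⟨l, hl⟩ := exists_lift_through p hp e v₀ ⟨z, hz⟩
      have hw : germM M p l (resM M e σ) = 0 := by
        refine (germM_eq_zero_iff hX M p hp l _).2 ((mem_zeroSet_iff _ _).2 fun hmem => hpT ?_)
        rw [Groth.Agent.AlgSpLib.mk_eq_ofPt, show Groth.Agent.AlgSpLib.fieldHom p = (yon S).map l.1 ≫ E.obj.hom from l.2.symm,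
          Groth.Agent.AlgSpLib.ofPt_comp]
        exact h E hE _ hmem
      refine Eq.trans ?_ hw
      subst hl
      exact ((Groth.Agent.AlgSpLib.StalkPoint.point hX p hp).toPresheafFiber_w_apply e l ((toAbEt X).obj M).obj σ).symm
    haveI : Subsingleton ↥(stalkEt p ((toAbEt X).obj M)) := ⟨fun a b => (hall a).trans (hall b).symm⟩
    exact AddCommGrpCat.isZero_of_subsingleton _

theorem annSect_eq_of_injective {M N : ModEt X} (φ : M ⟶ N) {E : EtOver X}
    (hφ : Function.Injective (appM φ E)) (s : sectModEt M E) : annSect (appM φ E s) = annSect s := by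
  ext a
  rw [mem_annSect_iff, mem_annSect_iff]
  show upR E a • appM φ E s = 0 ↔ upR E a • s = 0
  rw [← map_smul, map_eq_zero_iff _ hφ]

end Groth.Agent.EtQC
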