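import Groth.Agent.EtQC.Site

/-!
Zero loci of ideals of global functions on affine schemes.
-/

set_option autoImplicit false
set_option backward.isDefEq.respectTransparency false

universe u

noncomputable section

open CategoryTheory CategoryTheory.Limits AlgebraicGeometry Opposite AlgSp

namespace Groth.Agent.EtQC

variable {U V : Scheme.{u}}

theorem mem_primeAtPt_iff (u : U) (a : Γ(U, ⊤)) : a ∈ primeAtPt U u ↔ u ∉ U.basicOpen a := by
  rw [Scheme.mem_basicOpen _ _ _ (show u ∈ (⊤ : U.Opens) from trivial)]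
  exact Iff.rfl

theorem mem_zeroLocus_ideal (I : Ideal Γ(U, ⊤)) (u : U) :
    u ∈ U.zeroLocus (U := ⊤) (I : Set Γ(U, ⊤)) ↔ I ≤ primeAtPt U u := by
  rw [Scheme.mem_zeroLocus_iff]
  exact forall_congr' fun a => imp_congr_right fun _ => (mem_primeAtPt_iff u a).symm

theorem le_radical_of_zeroLocus_subset [IsAffine U] {I J : Ideal Γ(U, ⊤)}
    (h : U.zeroLocus (U := ⊤) (J : Set Γ(U, ⊤)) ⊆ U.zeroLocus (U := ⊤) (I : Set Γ(U, ⊤))) : I ≤ J.radical := by
  rw [Ideal.radical_eq_sInf]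
  refine le_sInf fun q hq => ?_
  obtain ⟨hJq, hp⟩ := hq
  obtain ⟨u, rfl⟩ := exists_primeAtPt_eq q
  exact (mem_zeroLocus_ideal I u).1 (h ((mem_zeroLocus_ideal J u).2 hJq))

theorem zeroLocus_subset_of_le_radical {I J : Ideal Γ(U, ⊤)} (h : I ≤ J.radical) :
    U.zeroLocus (U := ⊤) (J : Set Γ(U, ⊤)) ⊆ U.zeroLocus (U := ⊤) (I : Set Γ(U, ⊤)) := fun u hu =>
  (mem_zeroLocus_ideal I u).2 (h.trans ((isPrime_primeAtPt U u).radical_le_iff.2 ((mem_zeroLocus_ideal J u).1 hu)))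

theorem zeroLocus_map_appTop (f : V ⟶ U) (I : Ideal Γ(U, ⊤)) :
    V.zeroLocus (U := ⊤) ((I.map f.appTop.hom : Ideal Γ(V, ⊤)) : Set Γ(V, ⊤)) =
      f ⁻¹' U.zeroLocus (U := ⊤) (I : Set Γ(U, ⊤)) := by
  ext v
  rw [Set.mem_preimage, mem_zeroLocus_ideal, mem_zeroLocus_ideal, Ideal.map_le_iff_le_comap, primeAtPt_comap]

theorem exists_fg_zeroLocus_eq [IsAffine U] {O : Set U} (hO : IsOpen O) (hc : IsCompact O) :
    ∃ I : Ideal Γ(U, ⊤), I.FG ∧ U.zeroLocus (U := ⊤) (I : Set Γ(U, ⊤)) = Oᶜ := by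
  classical
  have hb := fun x : O => (isAffineOpen_top U).exists_basicOpen_le (V := ⟨O, hO⟩) x (show x.1 ∈ (⊤ : U.Opens) from trivial)
  choose f hf hxf using hb
  obtain ⟨t, ht⟩ := hc.elim_finite_subcover (fun x : O => (U.basicOpen (f x) : Set U))
    (fun x => (U.basicOpen (f x)).2) (fun x hx => Set.mem_iUnion.2 ⟨⟨x, hx⟩, hxf ⟨x, hx⟩⟩)
  refine ⟨Ideal.span (t.image f), ⟨t.image f, rfl⟩, ?_⟩
  rw [Scheme.zeroLocus_span]
  ext u
  rw [Scheme.mem_zeroLocus_iff]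
  constructor
  · intro h hu
    obtain ⟨x, hx, hux⟩ := Set.mem_iUnion₂.1 (ht hu)
    exact h _ (Finset.mem_image_of_mem f hx) hux
  · intro h a ha hua
    obtain ⟨x, -, rfl⟩ := Finset.mem_image.1 ha
    exact h (hf x hua)

end Groth.Agent.EtQC
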