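import Groth.Agent.EtQC.Killed
import Groth.Agent.EtQC.Zero
import Groth.Agent.AlgSpLib.Criteria

/-!
Sections supported on the complement of a quasi-compact open subspace.
-/

set_option autoImplicit false
set_option linter.style.haveILetI false
set_option backward.isDefEq.respectTransparency false

universe u

noncomputable section

open CategoryTheory CategoryTheory.Limits AlgebraicGeometry Opposite AlgSp TensorProduct

namespace Groth.Agent.EtQC

variable {S : Scheme.{u}} {X U : Sp S}

/-- the inverse image of a set of points in an object -/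
def preT (T : Set (Points X)) (W : EtOver X) : Set W.obj.left.left := {w | Points.ofPt W.obj.hom w ∈ T}

theorem preimage_preT (T : Set (Points X)) {W V : EtOver X} (g : V ⟶ W) :
    g.hom.left.left ⁻¹' preT T W = preT T V := by
  ext v
  show Points.ofPt W.obj.hom (g.hom.left.left v) ∈ T ↔ Points.ofPt V.obj.hom v ∈ T
  rw [← EtOver.w g, Groth.Agent.AlgSpLib.ofPt_comp]

theorem exists_fg_preT (j : U ⟶ X) (hji : RepWith @IsOpenImmersion j)
    (hjqc : IsQuasiCompactMor j) {T : Set (Points X)} (hT : T = (Set.range (Points.map j))ᶜ) (W : EtOver X)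
    [IsAffine W.obj.left.left] :
    ∃ I : Ideal Γ(W.obj.left.left, ⊤), I.FG ∧
      W.obj.left.left.zeroLocus (U := ⊤) (I : Set Γ(W.obj.left.left, ⊤)) = preT T W := by
  obtain ⟨P, p, q, sq⟩ := hji.1 W.obj.hom
  have hp : IsOpenImmersion p.left := hji.2 W.obj.hom q p sq
  haveI : CompactSpace ↥W.obj.left.left := inferInstance
  have hqc := hjqc (IsAlgSpace.yon_obj W.obj.left) (Groth.Agent.AlgSpLib.isQuasiCompactSp_yon W.obj.left)
    W.obj.hom q ((yon S).map p) sq
  haveI := Groth.Agent.AlgSpLib.compactSpace_of_isQuasiCompactSp hqc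
  haveI : CompactSpace ↥P.left := (Points.schemeHomeo P).symm.compactSpace
  have hrange : Set.range p.left = (preT T W)ᶜ := by
    ext w
    constructor
    · rintro ⟨z, rfl⟩ h
      subst hT
      refine h ⟨Points.ofPt q z, ?_⟩
      rw [Points.map_ofPt, sq.w, Groth.Agent.AlgSpLib.ofPt_comp]
    · intro h
      subst hT
      obtain ⟨y, hy⟩ := Classical.not_not.1 h
      obtain ⟨z, -, hz⟩ := Groth.Agent.AlgSpLib.exists_point_of_isPullback sq y (Points.ofScheme W.obj.left w)
        (hy.trans (by rw [Points.map_ofPt, Category.id_comp]))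
      obtain ⟨z', rfl⟩ := (Points.schemeHomeo P).surjective z
      refine ⟨z', (Points.schemeHomeo W.obj.left).injective ?_⟩
      refine Eq.trans ?_ hz
      show Points.ofScheme W.obj.left (p.left z') = Points.map ((yon S).map p) (Points.ofScheme P z')
      rw [Points.map_ofPt, Category.id_comp, Groth.Agent.AlgSpLib.ofScheme_map]
  obtain ⟨I, hI, hz⟩ := exists_fg_zeroLocus_eq (U := W.obj.left.left) (O := Set.range p.left)
    p.left.isOpenEmbedding.isOpen_range (isCompact_range p.left.continuous)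
  exact ⟨I, hI, by rw [hz, hrange, compl_compl]⟩

/-- the sections supported on the inverse image of a set of points -/
theorem mem_supp_iff {F : ModEt X} {W : EtOver X} [IsAffine W.obj.left.left] {T : Set (Points X)}
    {I : Ideal Γ(W.obj.left.left, ⊤)} (hI : I.FG)
    (hz : W.obj.left.left.zeroLocus (U := ⊤) (I : Set Γ(W.obj.left.left, ⊤)) = preT T W) (x : sectModEt F W) :
    W.obj.left.left.zeroLocus (U := ⊤) ((annSect x : Ideal Γ(W.obj.left.left, ⊤)) : Set Γ(W.obj.left.left, ⊤)) ⊆ preT T W ↔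
      ∃ n : ℕ, ∀ a ∈ I ^ n, upR W a • x = 0 := by
  rw [← hz]
  constructor
  · intro h
    obtain ⟨n, hn⟩ := Ideal.exists_pow_le_of_le_radical_of_fg (le_radical_of_zeroLocus_subset h) hI
    exact ⟨n, fun a ha => (mem_annSect_iff x a).1 (hn ha)⟩
  · rintro ⟨n, hn⟩
    refine zeroLocus_subset_of_le_radical fun a ha => ⟨n, (mem_annSect_iff x _).2 (hn _ (Ideal.pow_mem_pow ha n))⟩

theorem killed_pow_directed {F : ModEt X} {E : EtOver X} (I : Ideal Γ(E.obj.left.left, ⊤)) :
    Directed (· ≤ ·) fun n : ℕ => killed F E (I ^ n) :=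
  Monotone.directed_le fun _ _ hab _ hx c hc => hx c (Ideal.pow_le_pow_right hab hc)

variable {T : Set (Points X)}
  (hT : ∀ (W : EtOver X), IsAffine W.obj.left.left → ∃ I : Ideal Γ(W.obj.left.left, ⊤), I.FG ∧
    W.obj.left.left.zeroLocus (U := ⊤) (I : Set Γ(W.obj.left.left, ⊤)) = preT T W)

/-- the sections supported on `T` -/
def suppFam (F : ModEt X) [F.IsQuasicoherent] : SubFam F where
  sub E hE := ⨆ n : ℕ, killed F E ((hT E hE).choose ^ n)
  res_mem {E V} g hE hV s hs := by
    rw [Submodule.mem_iSup_of_directed _ (killed_pow_directed _)] at hs ⊢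
    obtain ⟨n, hn⟩ := hs
    have hm := resM_mem_killed g _ hn (J := ((hT E hE).choose ^ n).map g.hom.left.left.appTop.hom) le_rfl
    rw [Ideal.map_pow] at hm
    have hz : V.obj.left.left.zeroLocus (U := ⊤)
        (((hT E hE).choose.map g.hom.left.left.appTop.hom : Ideal Γ(V.obj.left.left, ⊤)) : Set Γ(V.obj.left.left, ⊤)) = preT T V := by
      rw [zeroLocus_map_appTop, (hT E hE).choose_spec.2, preimage_preT]
    obtain ⟨m, hm'⟩ := (mem_supp_iff (hT V hV).choose_spec.1 (hT V hV).choose_spec.2 _).1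
      ((mem_supp_iff ((hT E hE).choose_spec.1.map _) hz (resM F g s)).2 ⟨n, hm⟩)
    exact ⟨m, hm'⟩
  le_span {E V} g hE hV y hy := by
    rw [Submodule.mem_iSup_of_directed _ (killed_pow_directed _)] at hy
    obtain ⟨n, hn⟩ := hy
    have hz : V.obj.left.left.zeroLocus (U := ⊤)
        (((hT E hE).choose.map g.hom.left.left.appTop.hom : Ideal Γ(V.obj.left.left, ⊤)) : Set Γ(V.obj.left.left, ⊤)) = preT T V := by
      rw [zeroLocus_map_appTop, (hT E hE).choose_spec.2, preimage_preT]
    obtain ⟨m, hm⟩ := (mem_supp_iff ((hT E hE).choose_spec.1.map _) hz y).1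
      ((mem_supp_iff (hT V hV).choose_spec.1 (hT V hV).choose_spec.2 y).2 ⟨n, hn⟩)
    refine Submodule.span_mono (Set.image_mono (SetLike.coe_subset_coe.2
      (le_iSup (fun n : ℕ => killed F E ((hT E hE).choose ^ n)) m))) ?_
    exact killed_le_span g _ (Ideal.FG.pow (hT E hE).choose_spec.1) (J := ((hT E hE).choose.map g.hom.left.left.appTop.hom) ^ m)
      (Ideal.map_pow _ _ _).le hm

theorem mem_suppFam {F : ModEt X} [F.IsQuasicoherent] (W : EtOver X) (hW : IsAffine W.obj.left.left)
    (x : sectModEt F W) :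
    x ∈ (suppFam hT F).sub W hW ↔ W.obj.left.left.zeroLocus (U := ⊤)
        ((annSect x : Ideal Γ(W.obj.left.left, ⊤)) : Set Γ(W.obj.left.left, ⊤)) ⊆ preT T W := by
  show x ∈ (⨆ n : ℕ, killed F W ((hT W hW).choose ^ n)) ↔ _
  rw [Submodule.mem_iSup_of_directed _ (killed_pow_directed _), mem_supp_iff (hT W hW).choose_spec.1 (hT W hW).choose_spec.2]
  exact Iff.rfl

end Groth.Agent.EtQC
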