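import Groth.Agent.EtQC.PreQC
import Groth.Agent.EtQC.WeakAssApps
import Mathlib.LinearAlgebra.TensorProduct.Tower

/-!
The quasi-coherent module of a module over the functions of a terminal object of a small etale site.
-/

set_option autoImplicit false
set_option linter.style.haveILetI false
set_option backward.isDefEq.respectTransparency false

universe u

noncomputable section

open CategoryTheory CategoryTheory.Limits AlgebraicGeometry Opposite AlgSp TensorProduct

namespace Groth.Agent.EtQC

variable {S : Scheme.{u}}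

/-- a terminal object with a ring mapping to its functions -/
structure TopPt (X : Sp S) (A : Type (u + 1)) [CommRing A] where
  /-- the terminal object -/
  t : EtOver X
  /-- the structure maps -/
  τ : ∀ W : EtOver X, W ⟶ t
  uniq : ∀ {W : EtOver X} (a : W ⟶ t), a = τ W
  /-- the ring map -/
  ι : A →+* R t

variable {X : Sp S} {A : Type (u + 1)} [CommRing A] (p : TopPt X A)

namespace TopPt

/-- the functions on an object, over the ring -/
def Rt (_p : TopPt X A) (W : EtOver X) : Type (u + 1) := R W

instance (W : EtOver X) : CommRing (p.Rt W) := inferInstanceAs (CommRing (R W))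
instance instAlgRt (W : EtOver X) : Algebra A (p.Rt W) := RingHom.toAlgebra ((res (p.τ W)).comp p.ι)

theorem res_comp_τ {W W' : EtOver X} (g : W' ⟶ W) (a : A) :
    res g (algebraMap A (p.Rt W) a : p.Rt W) = algebraMap A (p.Rt W') a := by
  show res g (res (p.τ W) (p.ι a)) = res (p.τ W') (p.ι a)
  rw [← res_comp, p.uniq (g ≫ p.τ W)]

/-- restriction over the ring -/
def resA {W W' : EtOver X} (g : W' ⟶ W) : p.Rt W →ₐ[A] p.Rt W' :=
  { (res g : R W →+* R W') with commutes' := p.res_comp_τ g }

/-- the sections over the terminal object as a module over the ring -/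
def Mt (_p : TopPt X A) (M : ModEt X) (W : EtOver X) : Type (u + 1) := sectModEt M W

variable (M : ModEt X)

instance (W : EtOver X) : AddCommGroup (p.Mt M W) := inferInstanceAs (AddCommGroup (sectModEt M W))
instance instModRtMt (W : EtOver X) : Module (p.Rt W) (p.Mt M W) := inferInstanceAs (Module (R W) (sectModEt M W))
instance instModMt (W : EtOver X) : Module A (p.Mt M W) := Module.compHom _ (algebraMap A (p.Rt W))
instance (W : EtOver X) : IsScalarTower A (p.Rt W) (p.Mt M W) :=
  IsScalarTower.of_algebraMap_smul fun _ _ => rfl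

/-- restriction of sections over the ring -/
def resT {W W' : EtOver X} (g : W' ⟶ W) : p.Mt M W →ₗ[A] p.Mt M W' where
  toFun := resM M g
  map_add' := map_add (resM M g)
  map_smul' a m := by
    refine (resM_smul g (algebraMap A (p.Rt W) a : p.Rt W) m).trans ?_
    rw [p.res_comp_τ g a]
    rfl

variable (N : Type (u + 1)) [AddCommGroup N] [Module A N]

/-- the sections of the presheaf -/
abbrev TN (W : EtOver X) : Type (u + 1) := p.Rt W ⊗[A] N

/-- the presheaf of abelian groups of base changes -/
def preAb : (EtOver X)ᵒᵖ ⥤ Ab.{u + 1} where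
  obj W := AddCommGrpCat.of (p.TN N W.unop)
  map g := AddCommGrpCat.ofHom (LinearMap.rTensor N (p.resA g.unop).toLinearMap).toAddMonoidHom
  map_id W := AddCommGrpCat.ext fun z => by
    induction z using TensorProduct.induction_on with
    | zero => exact map_zero _
    | tmul b n => exact congrArg (· ⊗ₜ[A] n) (res_id W.unop b)
    | add a b ha hb => exact (map_add _ a b).trans (congrArg₂ (· + ·) ha hb)
  map_comp {W W' W''} g h := AddCommGrpCat.ext fun z => by
    induction z using TensorProduct.induction_on with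
    | zero => simp
    | tmul b n => exact congrArg (· ⊗ₜ[A] n) (res_comp g.unop h.unop b)
    | add a b ha hb => exact (map_add _ a b).trans ((congrArg₂ (· + ·) ha hb).trans (map_add _ a b).symm)

instance instModPre (W : (EtOver X)ᵒᵖ) : Module ((OEtRing X).obj.obj W) ((p.preAb N).obj W) :=
  inferInstanceAs (Module (p.Rt W.unop) (p.TN N W.unop))

/-- the presheaf of modules of base changes -/
def pre : PresheafOfModules.{u + 1} (OEtRing X).obj :=
  PresheafOfModules.ofPresheaf (p.preAb N) fun {W W'} g r z => by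
    show LinearMap.rTensor N (p.resA g.unop).toLinearMap ((show p.Rt W.unop from r) • (show p.TN N W.unop from z)) =
      p.resA g.unop (show p.Rt W.unop from r) • LinearMap.rTensor N (p.resA g.unop).toLinearMap (show p.TN N W.unop from z)
    generalize (show p.TN N W.unop from z) = y
    induction y using TensorProduct.induction_on with
    | zero => rw [smul_zero, map_zero, smul_zero]
    | tmul b n =>
      rw [TensorProduct.smul_tmul', LinearMap.rTensor_tmul, LinearMap.rTensor_tmul, TensorProduct.smul_tmul']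
      exact congrArg (· ⊗ₜ[A] n) (map_mul (p.resA g.unop) _ b)
    | add a b ha hb => rw [smul_add, map_add, ha, hb, map_add, smul_add]

/-- elements of the presheaf -/
def mkP {W : EtOver X} (z : p.TN N W) : Ps (p.pre N) W := z

theorem resP_mkP {W W' : EtOver X} (g : W' ⟶ W) (b : p.Rt W) (n : N) :
    resP (p.pre N) g (p.mkP N (b ⊗ₜ n)) = p.mkP N (p.resA g b ⊗ₜ n) := rfl

theorem isBC_pre : IsBC (p.pre N) := fun {E V} _ _ g => by
  letI : Algebra (p.Rt E) (Rg g) := inferInstanceAs (Algebra (R E) (Rg g))
  letI : Algebra A (Rg g) := inferInstanceAs (Algebra A (p.Rt V))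
  haveI : IsScalarTower A (p.Rt E) (Rg g) := IsScalarTower.of_algebraMap_eq fun a => (p.res_comp_τ g a).symm
  let e : Rg g ⊗[p.Rt E] p.TN N E ≃ₗ[Rg g] Rg g ⊗[A] N :=
    TensorProduct.AlgebraTensorModule.cancelBaseChange A (p.Rt E) (Rg g) (Rg g) N
  refine IsBaseChange.of_equiv (show Rg g ⊗[R E] Ps (p.pre N) E ≃ₗ[Rg g] Pg (p.pre N) g from e) fun m => ?_
  show e (1 ⊗ₜ (show p.TN N E from m)) = LinearMap.rTensor N (p.resA g).toLinearMap (show p.TN N E from m)
  generalize (show p.TN N E from m) = y
  induction y using TensorProduct.induction_on with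
  | zero => rw [TensorProduct.tmul_zero, map_zero, map_zero]
  | tmul b n =>
    refine (TensorProduct.AlgebraTensorModule.cancelBaseChange_tmul A (p.Rt E) (Rg g) (1 : Rg g) n b).trans ?_
    show ((algebraMap (p.Rt E) (Rg g) b) * 1 : Rg g) ⊗ₜ[A] n = _
    rw [mul_one]
    rfl
  | add a b ha hb => rw [TensorProduct.tmul_add, map_add, map_add, ha, hb]

variable {N}

/-- the values of a map from the presheaf -/
theorem app_mkP {P : PresheafOfModules.{u + 1} (OEtRing X).obj} (ψ : p.pre N ⟶ P) {W : EtOver X} (b : p.Rt W)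
    (n : N) : ψ.app (op W) (p.mkP N (b ⊗ₜ n)) =
      (show R W from b) • (show Ps P W from resP P (p.τ W) (ψ.app (op p.t) (p.mkP N ((1 : p.Rt p.t) ⊗ₜ n)))) := by
  rw [show resP P (p.τ W) (ψ.app (op p.t) (p.mkP N ((1 : p.Rt p.t) ⊗ₜ n))) =
      ψ.app (op W) (resP (p.pre N) (p.τ W) (p.mkP N ((1 : p.Rt p.t) ⊗ₜ n))) from
    (PresheafOfModules.naturality_apply ψ (p.τ W).op _).symm, resP_mkP, map_one]
  refine Eq.trans ?_ (map_smul (ψ.app (op W)).hom (show R W from b) (p.mkP N ((1 : p.Rt W) ⊗ₜ n)))
  refine congrArg (ψ.app (op W)).hom ?_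
  show p.mkP N (b ⊗ₜ n) = p.mkP N (b • ((1 : p.Rt W) ⊗ₜ[A] n))
  rw [TensorProduct.smul_tmul', smul_eq_mul, mul_one]

theorem hom_ext {M : ModEt X} (ψ ψ' : p.pre N ⟶ M.val)
    (h : ∀ n : N, ψ.app (op p.t) (p.mkP N ((1 : p.Rt p.t) ⊗ₜ n)) = ψ'.app (op p.t) (p.mkP N ((1 : p.Rt p.t) ⊗ₜ n))) :
    ψ = ψ' := by
  refine PresheafOfModules.hom_ext fun W => ModuleCat.hom_ext (LinearMap.ext fun z => ?_)
  show ψ.app W (p.mkP N (show p.TN N W.unop from z)) = ψ'.app W (p.mkP N (show p.TN N W.unop from z))
  generalize (show p.TN N W.unop from z) = y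
  induction y using TensorProduct.induction_on with
  | zero => exact (map_zero (ψ.app W).hom).trans (map_zero (ψ'.app W).hom).symm
  | tmul b n =>
    refine (app_mkP p ψ b n).trans (Eq.trans ?_ (app_mkP p ψ' b n).symm)
    rw [h n]
  | add a b ha hb =>
    exact ((map_add (ψ.app W).hom _ _).trans (congrArg₂ (· + ·) ha hb)).trans (map_add (ψ'.app W).hom _ _).symm

variable {M}

/-- the map on sections induced by a linear map -/
def descW (φ : N →ₗ[A] p.Mt M p.t) (W : EtOver X) : p.TN N W →ₗ[p.Rt W] p.Mt M W :=
  LinearMap.liftBaseChange (p.Rt W) (p.resT M (p.τ W) ∘ₗ φ)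

theorem descW_tmul (φ : N →ₗ[A] p.Mt M p.t) (W : EtOver X) (b : p.Rt W) (n : N) :
    p.descW φ W (b ⊗ₜ n) = b • p.resT M (p.τ W) (φ n) :=
  LinearMap.liftBaseChange_tmul _ _ _ _

/-- maps out of the presheaf -/
def desc (φ : N →ₗ[A] p.Mt M p.t) : p.pre N ⟶ M.val :=
  PresheafOfModules.homMk
    { app := fun W => AddCommGrpCat.ofHom (p.descW φ W.unop).toAddMonoidHom
      naturality := fun {W W'} g => AddCommGrpCat.ext fun z => by
        show p.descW φ W'.unop (LinearMap.rTensor N (p.resA g.unop).toLinearMap (show p.TN N W.unop from z)) =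
          resM M g.unop (p.descW φ W.unop (show p.TN N W.unop from z))
        generalize (show p.TN N W.unop from z) = y
        induction y using TensorProduct.induction_on with
        | zero =>
          exact ((congrArg (p.descW φ W'.unop) (map_zero _)).trans (map_zero _)).trans
            ((congrArg (resM M g.unop) (map_zero (p.descW φ W.unop))).trans (map_zero (resM M g.unop))).symm
        | tmul b n =>
          rw [LinearMap.rTensor_tmul, descW_tmul, descW_tmul]
          refine Eq.trans ?_ (resM_smul g.unop (show R W.unop from b) _).symm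
          refine congrArg (fun x : sectModEt M W'.unop => (show R W'.unop from res g.unop b) • x) ?_
          show resM M (p.τ W'.unop) (φ n) = resM M g.unop (resM M (p.τ W.unop) (φ n))
          rw [← resM_comp, p.uniq (g.unop ≫ p.τ W.unop)]
        | add a b ha hb => rw [map_add, map_add, ha, hb, map_add, map_add] }
    fun W r z => map_smul (p.descW φ W.unop) (show p.Rt W.unop from r) (show p.TN N W.unop from z)

theorem desc_one (φ : N →ₗ[A] p.Mt M p.t) (n : N) :
    (p.desc φ).app (op p.t) (p.mkP N ((1 : p.Rt p.t) ⊗ₜ n)) = φ n := by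
  refine (p.descW_tmul φ p.t 1 n).trans ((one_smul (p.Rt p.t) _).trans ?_)
  show resM M (p.τ p.t) (φ n) = φ n
  rw [← p.uniq (𝟙 p.t), resM_id]

theorem desc_apply (φ : N →ₗ[A] p.Mt M p.t) (W : EtOver X) (z : p.TN N W) :
    (p.desc φ).app (op W) (p.mkP N z) = p.descW φ W z := rfl

end TopPt

end Groth.Agent.EtQC
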