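import Groth.Agent.EtQC.WeakAssApps

/-!
Weakly associated points of the push forward along an affine morphism.
-/

set_option autoImplicit false
set_option linter.style.haveILetI false
set_option backward.isDefEq.respectTransparency false

universe u

noncomputable section

open CategoryTheory CategoryTheory.Limits AlgebraicGeometry Opposite AlgSp
open Groth.Agent.WeakAssAlg Groth.Agent.AlgSpLib

namespace Groth.Agent.EtQC

variable {S : Scheme.{u}} {X Y : Sp S} {f : X ⟶ Y} (hf : Representable f)

theorem isAffine_bc (haff : IsAffineMor f) (E : EtOver Y) [IsAffine E.obj.left.left] :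
    IsAffine ((EtOver.bc hf).obj E).obj.left.left := by
  obtain ⟨W, i, fst, sq, hW⟩ := haff (Z := E.obj.left) ‹_› E.obj.hom
  let e := (hf.isPullback E.obj.hom).isoIsPullback _ _ sq
  obtain ⟨e', he'⟩ := (yon S).map_surjective e.hom
  haveI : IsIso ((yon S).map e') := by rw [he']; infer_instance
  haveI : IsIso e' := isIso_of_fully_faithful (yon S) e'
  haveI : IsAffine ((Over.forget S).obj W) := hW
  exact IsAffine.of_isIso ((Over.forget S).map e')

/-- pull back of functions along the projection of the base change -/
def pushRes (E : EtOver Y) : R E →+* R ((EtOver.bc hf).obj E) := ((bcRingHom hf).hom.app (op E)).hom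

theorem pushRes_apply (E : EtOver Y) (a : R E) :
    (pushRes hf E a).down = (hf.snd E.obj.hom).left.appTop.hom a.down := rfl

/-- a section of a push forward as a section -/
def unpush {M : ModEt X} (E : EtOver Y) :
    sectModEt ((pushModEt hf).obj M) E →+ sectModEt M ((EtOver.bc hf).obj E) where
  toFun s := s
  map_zero' := rfl
  map_add' _ _ := rfl

theorem unpush_smul {M : ModEt X} (E : EtOver Y) (a : R E) (s : sectModEt ((pushModEt hf).obj M) E) :
    unpush hf E (a • s) = pushRes hf E a • unpush hf E s := rfl

theorem weakAssEt_push_subset (haff : IsAffineMor f) (M : ModEt X) :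
    WeakAssEt ((pushModEt hf).obj M) ⊆ Points.map f '' WeakAssEt M := by
  rintro x ⟨E, hE, v, rfl, h⟩
  haveI := isAffine_bc hf haff E
  obtain ⟨m, hm⟩ := (isWeakAssOn_iff E v).mp h
  let m' := unpush hf E m
  have hann : (Submodule.span (R E) {m}).annihilator =
      ((Submodule.span (R ((EtOver.bc hf).obj E)) {m'}).annihilator).comap (pushRes hf E) := by
    ext a
    rw [Submodule.mem_annihilator_span_singleton, Ideal.mem_comap, Submodule.mem_annihilator_span_singleton]
    exact Iff.rfl
  rw [hann] at hm
  obtain ⟨q, hq, hqv⟩ := Ideal.exists_minimalPrimes_comap_eq (pushRes hf E) (ptIdeal E v) hm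
  haveI := hq.1.1
  obtain ⟨w, rfl⟩ := exists_ptIdeal_eq ((EtOver.bc hf).obj E) q
  have hw : (hf.snd E.obj.hom).left w = v := by
    have e : (primeAtPt _ w).comap (hf.snd E.obj.hom).left.appTop.hom = primeAtPt E.obj.left.left v := by
      apply Ideal.comap_injective_of_surjective _ (downHom_surjective E)
      refine Eq.trans ?_ hqv
      rfl
    replace e := (primeAtPt_comap (hf.snd E.obj.hom).left w).symm.trans e
    exact E.obj.left.left.isoSpec.hom.homeomorph.injective (PrimeSpectrum.ext e)
  refine ⟨Points.ofPt ((EtOver.bc hf).obj E).obj.hom w, ⟨(EtOver.bc hf).obj E, inferInstance, w, rfl,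
    (isWeakAssOn_iff _ w).mpr ⟨m', hq⟩⟩, ?_⟩
  rw [Points.map_ofPt]
  show Points.ofPt (hf.fst E.obj.hom ≫ f) w = _
  rw [hf.w, Groth.Agent.AlgSpLib.ofPt_comp]
  exact congrArg (Points.ofPt E.obj.hom) hw

end Groth.Agent.EtQC
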