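import Groth.Agent.EtQC.WeakAssApps
import Groth.Agent.AlgSpLib.CodimZero
import Groth.Agent.AlgSpLib.StalkSupport

/-!
Weakly associated points of a reduced algebraic space are its points of codimension zero.
-/

set_option autoImplicit false
set_option linter.style.haveILetI false
set_option backward.isDefEq.respectTransparency false

universe u

noncomputable section

open CategoryTheory CategoryTheory.Limits AlgebraicGeometry Opposite AlgSp
open Groth.Agent.WeakAssAlg Groth.Agent.AlgSpLib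

namespace Groth.Agent.EtQC

variable {S : Scheme.{u}} {X : Sp S}

theorem weakAss_self_of_isReduced {A : Type (u + 1)} [CommRing A] [_root_.IsReduced A] (p : Ideal A) :
    p ∈ FlatCA.weakAss A A ↔ p ∈ minimalPrimes A := by
  constructor
  · intro h
    obtain ⟨hp, m, h1, h2⟩ := mem_weakAss_iff.mp h
    have hm : m ∉ p := fun hm => by
      obtain ⟨s, hs, n, hn⟩ := h2 m hm
      refine hs (h1 s ?_)
      rw [smul_eq_mul] at hn ⊢
      apply _root_.IsReduced.eq_zero
      refine ⟨n + 1, ?_⟩
      rw [mul_pow, show s ^ (n + 1) * m ^ (n + 1) = s ^ n * (s * m ^ n * m) by ring, hn, mul_zero]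
    refine ⟨⟨hp, bot_le⟩, fun q hq hqp x hx => ?_⟩
    obtain ⟨s, hs, n, hn⟩ := h2 x hx
    rw [smul_eq_mul] at hn
    have h0 : s * x ^ n * m ∈ q := by rw [hn]; exact q.zero_mem
    rcases hq.1.mem_or_mem h0 with h3 | h3
    · rcases hq.1.mem_or_mem h3 with h4 | h4
      · exact absurd (hqp h4) hs
      · exact hq.1.mem_of_pow_mem n h4
    · exact absurd (hqp h3) hm
  · intro h
    refine ⟨1, ?_⟩
    have e : (Submodule.span A {(1 : A)}).annihilator = ⊥ := by
      ext a
      rw [Submodule.mem_annihilator_span_singleton, smul_eq_mul, mul_one, Ideal.mem_bot]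
    rw [e]
    exact h

theorem isMaxPt_iff_minimal {U : Scheme.{u}} [IsAffine U] (u : U) :
    SpQS.IsMaxPt u ↔ primeAtPt U u ∈ minimalPrimes Γ(U, ⊤) := by
  have hle : ∀ y : U, y ⤳ u ↔ primeAtPt U y ≤ primeAtPt U u := fun y => by
    rw [← U.isoSpec.hom.homeomorph.isInducing.specializes_iff]
    exact (PrimeSpectrum.le_iff_specializes _ _).symm
  constructor
  · intro h
    refine ⟨⟨inferInstance, bot_le⟩, fun q hq hqu => ?_⟩
    haveI := hq.1
    obtain ⟨y, rfl⟩ := exists_primeAtPt_eq q
    rw [h y ((hle y).mpr hqu)]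
  · intro h y hy
    have e : primeAtPt U y = primeAtPt U u :=
      le_antisymm ((hle y).mp hy) (h.2 ⟨inferInstance, bot_le⟩ ((hle y).mp hy))
    exact U.isoSpec.hom.homeomorph.injective (PrimeSpectrum.ext e)

theorem mem_weakAssEt_unit_iff (hX : IsAlgSpace X) (hr : IsReducedSp X) [(unitModEt X).IsQuasicoherent]
    (x : Points X) :
    x ∈ WeakAssEt (unitModEt X) ↔ HasAt (fun U u => ringKrullDim ↥(U.presheaf.stalk u) = 0) X x := by
  have key : ∀ (E : EtOver X) [IsAffine E.obj.left.left] (u : E.obj.left.left),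
      IsWeakAssOn (unitModEt X) E u ↔ SpQS.IsMaxPt u := by
    intro E _ u
    haveI : IsReduced E.obj.left.left := StalkPoint.isReduced_chart hX hr E
    haveI : _root_.IsReduced (R E) :=
      @isReduced_of_injective _ _ _ _ _ _ _ (downHom E) (ULift.ringEquiv.injective)
        (inferInstanceAs (_root_.IsReduced Γ(E.obj.left.left, ⊤)))
    rw [isWeakAssOn_iff, isMaxPt_iff_minimal]
    refine (weakAss_self_of_isReduced (ptIdeal E u)).trans ?_
    have e : minimalPrimes (R E) = Ideal.comap (downHom E) '' minimalPrimes Γ(E.obj.left.left, ⊤) := by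
      have e0 : (⊥ : Ideal Γ(E.obj.left.left, ⊤)).comap (downHom E) = (⊥ : Ideal (R E)) :=
        (RingHom.injective_iff_ker_eq_bot _).mp ULift.ringEquiv.injective
      show (⊥ : Ideal (R E)).minimalPrimes = Ideal.comap (downHom E) '' (⊥ : Ideal Γ(E.obj.left.left, ⊤)).minimalPrimes
      rw [← Ideal.comap_minimalPrimes_eq_of_surjective (downHom_surjective E), e0]
    rw [e]
    exact (Ideal.comap_injective_of_surjective _ (downHom_surjective E)).mem_set_image
  have move : ∀ {E₁ E₂ : EtOver X} {u₁ : E₁.obj.left.left} {u₂ : E₂.obj.left.left},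
      Points.ofPt E₁.obj.hom u₁ = Points.ofPt E₂.obj.hom u₂ → SpQS.IsMaxPt u₁ → SpQS.IsMaxPt u₂ := by
    intro E₁ E₂ u₁ u₂ h h1
    obtain ⟨W, _, g₁, g₂, w, rfl, rfl⟩ := exists_common E₁ E₂ u₁ u₂ h
    have : Etale g₁.hom.left.left := EtOver.etale_left g₁
    have : Etale g₂.hom.left.left := EtOver.etale_left g₂
    have : LocallyQuasiFinite g₁.hom.left.left := FpqcDescent.locallyQuasiFinite_of_etale _
    exact isMaxPt_map_of_flat g₂.hom.left.left (isMaxPt_of_map_etale g₁.hom.left.left h1)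
  constructor
  · rintro ⟨E, hE, u, rfl, h⟩
    exact ⟨E.obj.left, E.obj.hom, u, E.property, rfl, (SpQS.stalk_dim_zero_iff u).2 ((key E u).mp h)⟩
  · rintro ⟨U, a, u₀, ha, rfl, hu₀⟩
    obtain ⟨E, hE, u, hu⟩ := exists_affine_chart_at hX (Points.ofPt a u₀)
    exact ⟨E, hE, u, hu, (key E u).mpr (move (E₁ := EtOver.mk a ha) (E₂ := E) hu.symm
      ((SpQS.stalk_dim_zero_iff u₀).1 hu₀))⟩

end Groth.Agent.EtQC
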